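import Groth.Agent.Props12.FlatOver
import Groth.Agent.Props12.Stalks
import Mathlib.AlgebraicGeometry.Morphisms.Flat

/-! Flatness of modules over a base is stable under base change and descends along flat surjective base change. -/

set_option autoImplicit false
set_option linter.style.haveILetI false
set_option backward.isDefEq.respectTransparency false
set_option backward.isDefEq.respectTransparency.types false

universe u

open CategoryTheory CategoryTheory.Limits AlgebraicGeometry TensorProduct

namespace Groth.Agent.Desc19b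

theorem flat_of_baseChange_module {R A R' T O : Type u} [CommRing R] [CommRing A] [CommRing R'] [CommRing T] [CommRing O]
    [Algebra R A] [Algebra R R'] [Algebra R' T] [Algebra A T] [Algebra R T] [IsScalarTower R R' T] [IsScalarTower R A T]
    [Algebra.IsPushout R R' A T] [Algebra T O] [Algebra R' O] [Algebra A O] [IsScalarTower R' T O] [IsScalarTower A T O]
    [Module.Flat T O] (M : Type u) [AddCommGroup M] [Module A M] [Module R M] [IsScalarTower R A M] [Module.Flat R M] :
    Module.Flat R' (O ⊗[A] M) := by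
  have e0 : T ⊗[A] M ≃ₗ[R'] R' ⊗[R] M := Algebra.IsPushout.cancelBaseChange R R' A T M
  haveI : Module.Flat R' (T ⊗[A] M) := Module.Flat.of_linearEquiv e0
  haveI : Module.Flat R' (O ⊗[T] (T ⊗[A] M)) := by
    rw [Module.Flat.iff_lTensor_preserves_injective_linearMap]
    intro P Q _ _ _ _ u hu
    have h1 := Module.Flat.lTensor_preserves_injective_linearMap (M := T ⊗[A] M) u hu
    have h2 := Module.Flat.lTensor_preserves_injective_linearMap (M := O) (AlgebraTensorModule.lTensor T (T ⊗[A] M) u) h1
    let eP := AlgebraTensorModule.assoc R' T T O (T ⊗[A] M) P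
    let eQ := AlgebraTensorModule.assoc R' T T O (T ⊗[A] M) Q
    have h3 : (AlgebraTensorModule.lTensor T (O ⊗[T] (T ⊗[A] M)) u) =
        eQ.symm.toLinearMap ∘ₗ ((AlgebraTensorModule.lTensor T (T ⊗[A] M) u).lTensor O) ∘ₗ eP.toLinearMap := by
      ext b n q; rfl
    have h4 : Function.Injective (AlgebraTensorModule.lTensor T (O ⊗[T] (T ⊗[A] M)) u) := by
      rw [h3]; exact eQ.symm.injective.comp (h2.comp eP.injective)
    exact h4
  exact Module.Flat.of_linearEquiv ((AlgebraTensorModule.cancelBaseChange A T O O M).symm.restrictScalars R')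

variable {X S X' S' : Scheme.{u}}

/-- `O_{x} ⊗_{O_s} O_{s'} → O_{x'}` is flat. -/
theorem exists_flat_stalk_tensor (f : X ⟶ S) (f' : X' ⟶ S') (g' : X' ⟶ X) (g : S' ⟶ S)
    (hc : IsPullback g' f' f g) (x' : X') {R : CommRingCat.{u}}
    (a : R ⟶ X.presheaf.stalk (g' x')) (b : R ⟶ S'.presheaf.stalk (f' x'))
    (w : a ≫ g'.stalkMap x' = b ≫ f'.stalkMap x') (j : Spec R ⟶ S) [Mono j]
    (ha : Spec.map a ≫ j = X.fromSpecStalk (g' x') ≫ f)
    (hb : Spec.map b ≫ j = S'.fromSpecStalk (f' x') ≫ g) :
    (pushout.desc (g'.stalkMap x') (f'.stalkMap x') w).hom.Flat := by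
  let θ := pushout.desc (g'.stalkMap x') (f'.stalkMap x') w
  have hp : IsPullback (Spec.map (pushout.inl a b)) (Spec.map (pushout.inr a b)) (Spec.map a) (Spec.map b) :=
    isPullback_SpecMap_pushout a b
  let m : Spec (pushout a b) ⟶ X' :=
    hc.lift (Spec.map (pushout.inl a b) ≫ X.fromSpecStalk _) (Spec.map (pushout.inr a b) ≫ S'.fromSpecStalk _) (by
      rw [Category.assoc, Category.assoc, ← ha, ← hb, ← Spec.map_comp_assoc, ← Spec.map_comp_assoc, pushout.condition])
  have hm : Spec.map θ ≫ m = X'.fromSpecStalk x' := by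
    apply hc.hom_ext
    · rw [Category.assoc, hc.lift_fst, ← Spec.map_comp_assoc, pushout.inl_desc]
      exact Scheme.SpecMap_stalkMap_fromSpecStalk _
    · rw [Category.assoc, hc.lift_snd, ← Spec.map_comp_assoc, pushout.inr_desc]
      exact Scheme.SpecMap_stalkMap_fromSpecStalk _
  haveI : Mono m := ⟨fun {W} u v huv => by
    apply hp.hom_ext
    · rw [← cancel_mono (X.fromSpecStalk (g' x'))]
      have := congrArg (· ≫ g') huv
      simpa [m] using this
    · rw [← cancel_mono (S'.fromSpecStalk (f' x'))]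
      have := congrArg (· ≫ f') huv
      simpa [m] using this⟩
  have hsq : IsPullback (Spec.map θ) (𝟙 _) m (X'.fromSpecStalk x') :=
    ⟨⟨by rw [Category.id_comp, hm]⟩, ⟨PullbackCone.IsLimit.mk _ (fun s => s.snd)
      (fun s => by
        rw [← cancel_mono m, Category.assoc, hm]
        exact s.condition.symm)
      (fun s => Category.comp_id _) (fun s l _ hl => by simpa using hl)⟩⟩
  haveI : Flat (Spec.map θ) := MorphismProperty.of_isPullback (P := @Flat) hsq.flip
    (Props12.flat_fromSpecStalk x')
  exact (HasRingHomProperty.Spec_iff (P := @Flat)).1 inferInstance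

theorem isFlatOverAt_baseChange (f : X ⟶ S) (f' : X' ⟶ S') (g' : X' ⟶ X) (g : S' ⟶ S) (hc : IsPullback g' f' f g)
    (F : X.Modules) (x' : X') (h : FlatMod.IsFlatOverAt f F (g' x')) :
    FlatMod.IsFlatOverAt f' ((Scheme.Modules.pullback g').obj F) x' := by
  have hpt : g (f' x') = f (g' x') := by
    show (f' ≫ g) x' = (g' ≫ f) x'
    rw [hc.w]
  let a : S.presheaf.stalk (f (g' x')) ⟶ X.presheaf.stalk (g' x') := f.stalkMap (g' x')
  let b : S.presheaf.stalk (f (g' x')) ⟶ S'.presheaf.stalk (f' x') :=
    S.presheaf.stalkSpecializes (specializes_of_eq hpt) ≫ g.stalkMap (f' x')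
  have ha : Spec.map a ≫ S.fromSpecStalk (f (g' x')) = X.fromSpecStalk (g' x') ≫ f :=
    Scheme.SpecMap_stalkMap_fromSpecStalk f
  have hb : Spec.map b ≫ S.fromSpecStalk (f (g' x')) = S'.fromSpecStalk (f' x') ≫ g := by
    simp only [b, Spec.map_comp, Category.assoc, Scheme.SpecMap_stalkSpecializes_fromSpecStalk,
      Scheme.SpecMap_stalkMap_fromSpecStalk]
  have w : a ≫ g'.stalkMap x' = b ≫ f'.stalkMap x' := by
    apply Spec.map_injective
    rw [← cancel_mono (S.fromSpecStalk (f (g' x'))), Spec.map_comp a, Spec.map_comp b, Category.assoc,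
      Category.assoc, ha, hb, ← Category.assoc, ← Category.assoc, Scheme.SpecMap_stalkMap_fromSpecStalk,
      Scheme.SpecMap_stalkMap_fromSpecStalk, Category.assoc, Category.assoc, hc.w]
  have hθ := exists_flat_stalk_tensor f f' g' g hc x' a b w _ ha hb
  letI : Algebra (S.presheaf.stalk (f (g' x'))) (X.presheaf.stalk (g' x')) := a.hom.toAlgebra
  letI : Algebra (S.presheaf.stalk (f (g' x'))) (S'.presheaf.stalk (f' x')) := b.hom.toAlgebra
  letI : Algebra (S'.presheaf.stalk (f' x')) ↑(pushout a b) := (pushout.inr a b).hom.toAlgebra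
  letI : Algebra (X.presheaf.stalk (g' x')) ↑(pushout a b) := (pushout.inl a b).hom.toAlgebra
  letI : Algebra (S.presheaf.stalk (f (g' x'))) ↑(pushout a b) := (a ≫ pushout.inl a b).hom.toAlgebra
  haveI : IsScalarTower (S.presheaf.stalk (f (g' x'))) (X.presheaf.stalk (g' x')) ↑(pushout a b) :=
    .of_algebraMap_eq fun _ => rfl
  haveI : IsScalarTower (S.presheaf.stalk (f (g' x'))) (S'.presheaf.stalk (f' x')) ↑(pushout a b) :=
    .of_algebraMap_eq fun r => RingHom.congr_fun (congrArg CommRingCat.Hom.hom (pushout.condition (f := a) (g := b))) r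
  haveI : Algebra.IsPushout (S.presheaf.stalk (f (g' x'))) (S'.presheaf.stalk (f' x'))
      (X.presheaf.stalk (g' x')) ↑(pushout a b) :=
    CommRingCat.isPushout_iff_isPushout.1 (IsPushout.of_hasPushout a b).flip
  letI : Algebra ↑(pushout a b) (X'.presheaf.stalk x') := (pushout.desc (g'.stalkMap x') (f'.stalkMap x') w).hom.toAlgebra
  letI : Algebra (S'.presheaf.stalk (f' x')) (X'.presheaf.stalk x') := (f'.stalkMap x').hom.toAlgebra
  letI : Algebra (X.presheaf.stalk (g' x')) (X'.presheaf.stalk x') := (g'.stalkMap x').hom.toAlgebra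
  haveI : IsScalarTower (S'.presheaf.stalk (f' x')) ↑(pushout a b) (X'.presheaf.stalk x') :=
    .of_algebraMap_eq fun r => (RingHom.congr_fun (congrArg CommRingCat.Hom.hom (pushout.inr_desc _ _ w)) r).symm
  haveI : IsScalarTower (X.presheaf.stalk (g' x')) ↑(pushout a b) (X'.presheaf.stalk x') :=
    .of_algebraMap_eq fun r => (RingHom.congr_fun (congrArg CommRingCat.Hom.hom (pushout.inl_desc _ _ w)) r).symm
  haveI : Module.Flat ↑(pushout a b) (X'.presheaf.stalk x') := hθ
  letI := FlatMod.moduleStalkOver f F (g' x')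
  letI := FlatMod.moduleStalkOver f' ((Scheme.Modules.pullback g').obj F) x'
  haveI : IsScalarTower (S.presheaf.stalk (f (g' x'))) (X.presheaf.stalk (g' x')) (F.presheaf.stalk (g' x')) :=
    .of_algebraMap_smul fun _ _ => rfl
  haveI : IsScalarTower (S'.presheaf.stalk (f' x')) (X'.presheaf.stalk x') (((Scheme.Modules.pullback g').obj F).presheaf.stalk x') :=
    .of_algebraMap_smul fun _ _ => rfl
  haveI : Module.Flat (S.presheaf.stalk (f (g' x'))) (F.presheaf.stalk (g' x')) := h
  haveI := flat_of_baseChange_module (R := S.presheaf.stalk (f (g' x'))) (A := X.presheaf.stalk (g' x'))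
    (R' := S'.presheaf.stalk (f' x')) (T := ↑(pushout a b)) (O := X'.presheaf.stalk x') (F.presheaf.stalk (g' x'))
  let e : ((Scheme.Modules.pullback g').obj F).presheaf.stalk x' ≃ₗ[X'.presheaf.stalk x']
      (X'.presheaf.stalk x') ⊗[X.presheaf.stalk (g' x')] (F.presheaf.stalk (g' x')) :=
    ((ModStalk.pullbackStalkIso g' x').app F).toLinearEquiv
  exact Module.Flat.of_linearEquiv (e.restrictScalars (S'.presheaf.stalk (f' x')))

theorem isFlatOver_iff_baseChange (f : X ⟶ S) (g : S' ⟶ S) [Flat g] [Surjective g] (M : X.Modules) :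
    FlatMod.IsFlatOver f M ↔
      FlatMod.IsFlatOver (pullback.snd f g) ((Scheme.Modules.pullback (pullback.fst f g)).obj M) := by
  refine ⟨fun h x' => isFlatOverAt_baseChange f _ _ g (IsPullback.of_hasPullback f g) M x' (h _), fun h x => ?_⟩
  haveI : Flat (pullback.fst f g) := MorphismProperty.pullback_fst (P := @Flat) _ _ inferInstance
  haveI : Surjective (pullback.fst f g) :=
    ⟨Set.range_eq_univ.1 (by rw [Scheme.Pullback.range_fst, g.surjective.range_eq, Set.preimage_univ])⟩
  obtain ⟨x', rfl⟩ := (pullback.fst f g).surjective x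
  refine (Props12.isFlatOverAt_pullback_iff (pullback.fst f g) f M x' (Flat.stalkMap _ x')).2 ?_
  have key : ∀ φ : pullback f g ⟶ S, φ = pullback.snd f g ≫ g →
      FlatMod.IsFlatOverAt φ ((Scheme.Modules.pullback (pullback.fst f g)).obj M) x' := by
    rintro φ rfl
    letI := ((pullback.snd f g ≫ g).stalkMap x').hom.toAlgebra
    let N := (Scheme.Modules.pullback (pullback.fst f g)).obj M
    letI : Algebra (S.presheaf.stalk (g (pullback.snd f g x'))) (S'.presheaf.stalk (pullback.snd f g x')) :=
      (g.stalkMap _).hom.toAlgebra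
    letI := FlatMod.moduleStalkOver (pullback.snd f g) N x'
    letI : Module (S.presheaf.stalk (g (pullback.snd f g x'))) (N.presheaf.stalk x') :=
      FlatMod.moduleStalkOver (pullback.snd f g ≫ g) N x'
    haveI : IsScalarTower (S.presheaf.stalk (g (pullback.snd f g x'))) (S'.presheaf.stalk (pullback.snd f g x'))
        (N.presheaf.stalk x') := IsScalarTower.of_algebraMap_smul fun r n => by
      show ((pullback.snd f g).stalkMap x').hom ((g.stalkMap _).hom r) • n = ((pullback.snd f g ≫ g).stalkMap x').hom r • n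
      rw [Scheme.Hom.stalkMap_comp]
      rfl
    haveI : Module.Flat (S'.presheaf.stalk (pullback.snd f g x')) (N.presheaf.stalk x') := h x'
    haveI : Module.Flat (S.presheaf.stalk (g (pullback.snd f g x'))) (S'.presheaf.stalk (pullback.snd f g x')) :=
      Flat.stalkMap g _
    exact Module.Flat.trans (S.presheaf.stalk (g (pullback.snd f g x'))) (S'.presheaf.stalk (pullback.snd f g x')) (N.presheaf.stalk x')
  exact key _ pullback.condition

theorem flat_stalkMap_baseChange (f : X ⟶ S) (f' : X' ⟶ S') (g' : X' ⟶ X) (g : S' ⟶ S) (hc : IsPullback g' f' f g)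
    (x' : X') (hg : (g.stalkMap (f' x')).hom.Flat) : (g'.stalkMap x').hom.Flat := by
  have hpt : g (f' x') = f (g' x') := by
    show (f' ≫ g) x' = (g' ≫ f) x'
    rw [hc.w]
  let a : S.presheaf.stalk (g (f' x')) ⟶ X.presheaf.stalk (g' x') :=
    S.presheaf.stalkSpecializes (specializes_of_eq hpt.symm) ≫ f.stalkMap (g' x')
  let b : S.presheaf.stalk (g (f' x')) ⟶ S'.presheaf.stalk (f' x') := g.stalkMap (f' x')
  have hb : Spec.map b ≫ S.fromSpecStalk (g (f' x')) = S'.fromSpecStalk (f' x') ≫ g :=
    Scheme.SpecMap_stalkMap_fromSpecStalk g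
  have ha : Spec.map a ≫ S.fromSpecStalk (g (f' x')) = X.fromSpecStalk (g' x') ≫ f := by
    simp only [a, Spec.map_comp, Category.assoc, Scheme.SpecMap_stalkSpecializes_fromSpecStalk,
      Scheme.SpecMap_stalkMap_fromSpecStalk]
  have w : a ≫ g'.stalkMap x' = b ≫ f'.stalkMap x' := by
    apply Spec.map_injective
    rw [← cancel_mono (S.fromSpecStalk (g (f' x'))), Spec.map_comp a, Spec.map_comp b, Category.assoc,
      Category.assoc, ha, hb, ← Category.assoc, ← Category.assoc, Scheme.SpecMap_stalkMap_fromSpecStalk,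
      Scheme.SpecMap_stalkMap_fromSpecStalk, Category.assoc, Category.assoc, hc.w]
  have hθ := exists_flat_stalk_tensor f f' g' g hc x' a b w _ ha hb
  letI := a.hom.toAlgebra
  letI := b.hom.toAlgebra
  letI : Algebra (S'.presheaf.stalk (f' x')) ↑(pushout a b) := (pushout.inr a b).hom.toAlgebra
  letI : Algebra (X.presheaf.stalk (g' x')) ↑(pushout a b) := (pushout.inl a b).hom.toAlgebra
  letI : Algebra (S.presheaf.stalk (g (f' x'))) ↑(pushout a b) := (a ≫ pushout.inl a b).hom.toAlgebra
  haveI : IsScalarTower (S.presheaf.stalk (g (f' x'))) (X.presheaf.stalk (g' x')) ↑(pushout a b) :=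
    .of_algebraMap_eq fun _ => rfl
  haveI : IsScalarTower (S.presheaf.stalk (g (f' x'))) (S'.presheaf.stalk (f' x')) ↑(pushout a b) :=
    .of_algebraMap_eq fun r => RingHom.congr_fun (congrArg CommRingCat.Hom.hom (pushout.condition (f := a) (g := b))) r
  haveI : Algebra.IsPushout (S.presheaf.stalk (g (f' x'))) (S'.presheaf.stalk (f' x'))
      (X.presheaf.stalk (g' x')) ↑(pushout a b) :=
    CommRingCat.isPushout_iff_isPushout.1 (IsPushout.of_hasPushout a b).flip
  have hl : (pushout.inl a b).hom.Flat :=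
    RingHom.Flat.isStableUnderBaseChange (S.presheaf.stalk (g (f' x'))) (S'.presheaf.stalk (f' x'))
      (X.presheaf.stalk (g' x')) ↑(pushout a b) (by simpa [RingHom.algebraMap_toAlgebra] using hg)
  have := hl.comp hθ
  rwa [← CommRingCat.hom_comp, pushout.inl_desc] at this

theorem isFlatOverAt_of_baseChange (f : X ⟶ S) (f' : X' ⟶ S') (g' : X' ⟶ X) (g : S' ⟶ S) (hc : IsPullback g' f' f g)
    (F : X.Modules) (x' : X') (hg : (g.stalkMap (f' x')).hom.Flat)
    (h : FlatMod.IsFlatOverAt f' ((Scheme.Modules.pullback g').obj F) x') : FlatMod.IsFlatOverAt f F (g' x') := by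
  refine (Props12.isFlatOverAt_pullback_iff g' f F x' (flat_stalkMap_baseChange f f' g' g hc x' hg)).2 ?_
  have key : ∀ φ : X' ⟶ S, φ = f' ≫ g → FlatMod.IsFlatOverAt φ ((Scheme.Modules.pullback g').obj F) x' := by
    rintro φ rfl
    letI := ((f' ≫ g).stalkMap x').hom.toAlgebra
    let N := (Scheme.Modules.pullback g').obj F
    letI : Algebra (S.presheaf.stalk (g (f' x'))) (S'.presheaf.stalk (f' x')) := (g.stalkMap _).hom.toAlgebra
    letI := FlatMod.moduleStalkOver f' N x'
    letI : Module (S.presheaf.stalk (g (f' x'))) (N.presheaf.stalk x') := FlatMod.moduleStalkOver (f' ≫ g) N x'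
    haveI : IsScalarTower (S.presheaf.stalk (g (f' x'))) (S'.presheaf.stalk (f' x')) (N.presheaf.stalk x') :=
      IsScalarTower.of_algebraMap_smul fun r n => by
        show (f'.stalkMap x').hom ((g.stalkMap _).hom r) • n = ((f' ≫ g).stalkMap x').hom r • n
        rw [Scheme.Hom.stalkMap_comp]
        rfl
    haveI : Module.Flat (S'.presheaf.stalk (f' x')) (N.presheaf.stalk x') := h
    haveI : Module.Flat (S.presheaf.stalk (g (f' x'))) (S'.presheaf.stalk (f' x')) := hg
    exact Module.Flat.trans (S.presheaf.stalk (g (f' x'))) (S'.presheaf.stalk (f' x')) (N.presheaf.stalk x')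
  exact key _ hc.w

end Groth.Agent.Desc19b

namespace Groth.Agent.Desc19b

/-- `M' ⊗_B N` is flat over `C` if `M'` is flat over `B` and `N` is flat over `C`. -/
theorem flat_tensor_of_flat_flat {C B : Type u} [CommRing C] [CommRing B] [Algebra C B] (M : Type u) [AddCommGroup M]
    [Module B M] [Module.Flat B M] [Module C M] [IsScalarTower C B M] (N : Type u) [AddCommGroup N] [Module B N] [Module C N]
    [IsScalarTower C B N] [Module.Flat C N] : Module.Flat C (M ⊗[B] N) := by
  rw [Module.Flat.iff_lTensor_preserves_injective_linearMap]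
  intro P Q _ _ _ _ v hv
  have h1 := Module.Flat.lTensor_preserves_injective_linearMap (M := N) v hv
  have h2 := Module.Flat.lTensor_preserves_injective_linearMap (M := M) (AlgebraTensorModule.lTensor B N v) h1
  let eP := AlgebraTensorModule.assoc C B B M N P
  let eQ := AlgebraTensorModule.assoc C B B M N Q
  have h3 : (AlgebraTensorModule.lTensor B (M ⊗[B] N) v) =
      eQ.symm.toLinearMap ∘ₗ ((AlgebraTensorModule.lTensor B N v).lTensor M) ∘ₗ eP.toLinearMap := by
    ext b n q; rfl
  have h4 : Function.Injective (AlgebraTensorModule.lTensor B (M ⊗[B] N) v) := by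
    rw [h3]; exact eQ.symm.injective.comp (h2.comp eP.injective)
  exact h4

end Groth.Agent.Desc19b
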