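import Groth.Prelude.Def_ModSt
import Groth.Agent.EGA43.FPKernel
import Groth.Agent.EGA43.InjFibre.Scheme
import Groth.Agent.FlatMorStrata.BaseChange

/-! The category of flat finitely presented modules over `(Sch/S)` is fibred in groupoids. -/

set_option autoImplicit false
set_option backward.isDefEq.respectTransparency false
set_option backward.isDefEq.respectTransparency.types false

universe u

open CategoryTheory CategoryTheory.Limits AlgebraicGeometry TopologicalSpace

namespace Groth.Agent.Desc19b.ModStFib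

/-- Pullbacks of finitely presented modules are finitely presented. -/
theorem isFP_pullback {X X' : Scheme.{u}} (f : X' ⟶ X) (M : X.Modules) (hM : CohB1.IsFP M) :
    CohB1.IsFP ((Scheme.Modules.pullback f).obj M) := by
  haveI : SheafOfModules.IsFinitePresentation.{u} (R := X.ringCatSheaf) M := hM
  haveI hq : Coh.IsQCoh M := inferInstanceAs (SheafOfModules.IsQuasicoherent.{u} (R := X.ringCatSheaf) M)
  haveI := EGA43.InjFibre.isQCoh_pullback f M
  refine EGA43.FPKernel.isFP_of_forall_exists_affine _ fun x => ?_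
  obtain ⟨V, hV, hfx, -⟩ := Opens.isBasis_iff_nbhd.mp X.isBasis_affineOpens (Opens.mem_top (f x))
  obtain ⟨U, hU, hxU, e⟩ := Opens.isBasis_iff_nbhd.mp X'.isBasis_affineOpens
    (show x ∈ f ⁻¹ᵁ V from hfx)
  refine ⟨U, hU, hxU, ?_⟩
  letI := (f.appLE V U e).hom.toAlgebra
  obtain ⟨l⟩ := Flatn12.nonempty_pullback_sections_equiv f M hV hU e
  haveI := EGA43.QcohFP.finitePresentation_sections M hM hV
  exact Module.FinitePresentation.of_equiv l

variable {X S : Scheme.{u}} {f : X ⟶ S}

/-- Every morphism of modules over `(Sch/S)` is strongly cartesian. -/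
theorem fac_unique {A B E : ModSt.Obj f} (φ : A ⟶ B) (g : E.base ⟶ A.base) (ψ : E ⟶ B)
    (h : g ≫ φ.base = ψ.base) : ∃! χ : E ⟶ A, χ.base = g ∧ χ ≫ φ = ψ := by
  obtain ⟨bψ, tψ, wpψ, wqψ, cψ, cartψ⟩ := ψ
  subst h
  obtain ⟨t, ht, htq⟩ : ∃ t : E.XT ⟶ A.XT, t ≫ φ.top = tψ ∧ t ≫ A.q = E.q ≫ g.left := by
    refine ⟨φ.isPullback_top.lift tψ (E.q ≫ g.left) ?_, φ.isPullback_top.lift_fst _ _ _,
      φ.isPullback_top.lift_snd _ _ _⟩
    rw [wqψ]; simp
  subst ht
  obtain ⟨v, hv⟩ : ∃ v : A.E ⟶ (Scheme.Modules.pushforward t).obj E.E,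
      φ.c ≫ (Scheme.Modules.pushforward φ.top).map v
        = cψ ≫ (Scheme.Modules.pushforwardComp t φ.top).inv.app E.E :=
    (φ.cart _).2 _
  have hc : cψ = φ.c ≫ (Scheme.Modules.pushforward φ.top).map v ≫
      (Scheme.Modules.pushforwardComp t φ.top).hom.app E.E := by
    rw [← Category.assoc, hv, Category.assoc, Iso.inv_hom_id_app, Category.comp_id]
  have hcart : ModSt.IsCart t v := by
    intro M'
    have heq : (fun w : E.E ⟶ M' => cψ ≫ (Scheme.Modules.pushforward (t ≫ φ.top)).map w) =
        (((Scheme.Modules.pushforwardComp t φ.top).app M').homToEquiv ∘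
          fun w : A.E ⟶ (Scheme.Modules.pushforward t).obj M' =>
            φ.c ≫ (Scheme.Modules.pushforward φ.top).map w) ∘
        (fun w : E.E ⟶ M' => v ≫ (Scheme.Modules.pushforward t).map w) := by
      funext w
      simp only [Function.comp_apply, Iso.homToEquiv_apply, Iso.app_hom, Category.assoc, Functor.map_comp]
      rw [hc, Category.assoc, Category.assoc, ← (Scheme.Modules.pushforwardComp t φ.top).hom.naturality w]
      rfl
    have := cartψ M'
    rw [heq] at this
    exact (Function.Bijective.of_comp_iff' ((Equiv.bijective _).comp (φ.cart _)) _).1 this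
  refine ⟨⟨g, t, by rw [← φ.w_p, ← Category.assoc]; exact wpψ, htq, v, hcart⟩, ⟨rfl, ?_⟩, ?_⟩
  · exact ModSt.Obj.Hom.ext' rfl rfl fun U x => by rw [ModSt.Obj.comp_c, ← hc]; exact HEq.rfl
  · rintro ⟨bπ, tπ, wpπ, wqπ, cπ, cartπ⟩ ⟨rfl, hπ⟩
    obtain rfl : tπ = t := φ.isPullback_top.hom_ext
      (congrArg ModSt.Obj.Hom.top hπ) (wqπ.trans htq.symm)
    obtain rfl : cπ = v := (φ.cart _).1 (by
      show φ.c ≫ _ = φ.c ≫ _
      rw [hv]
      have := hπ
      change ModSt.Obj.Hom.comp _ φ = _ at this
      simp only [ModSt.Obj.Hom.comp, ModSt.Obj.Hom.mk.injEq, heq_eq_eq, true_and] at this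
      rw [← this, Category.assoc, Category.assoc, Iso.hom_inv_id_app]; erw [Category.comp_id])
    rfl

theorem isFibGrpd_coh (f : X ⟶ S) : FibCat.IsFibGrpd (ModSt.Coh f).p where
  exists_lift := by
    intro A T b
    have hq : IsPullback (pullback.fst A.obj.q b.left ≫ A.obj.p) (pullback.snd A.obj.q b.left) f
        (b.left ≫ A.obj.base.hom) :=
      (IsPullback.of_hasPullback A.obj.q b.left).paste_horiz A.obj.isPullback
    let A' : ModSt.Obj f :=
      ⟨T, pullback A.obj.q b.left, pullback.fst A.obj.q b.left ≫ A.obj.p, pullback.snd A.obj.q b.left,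
        by rw [← Over.w b]; exact hq,
        (Scheme.Modules.pullback (pullback.fst A.obj.q b.left)).obj A.obj.E⟩
    have hA' : ModSt.IsCohObj A' := by
      refine ⟨fun x => ?_, isFP_pullback _ _ A.property.2⟩
      haveI : SheafOfModules.IsFinitePresentation.{u} (R := A.obj.XT.ringCatSheaf) A.obj.E := A.property.2
      haveI : Coh.IsQCoh A.obj.E :=
        inferInstanceAs (SheafOfModules.IsQuasicoherent.{u} (R := A.obj.XT.ringCatSheaf) A.obj.E)
      exact Groth.Agent.FlatMorStrata.isFlatOverAt_baseChange (IsPullback.of_hasPullback A.obj.q b.left)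
        A.obj.E x (A.property.1 _)
    let φ : A' ⟶ A.obj :=
      { base := b
        top := pullback.fst A.obj.q b.left
        w_p := rfl
        w_q := pullback.condition
        c := (Scheme.Modules.pullbackPushforwardAdjunction (pullback.fst A.obj.q b.left)).unit.app A.obj.E
        cart := fun M' => by
          have heq : (fun v => (Scheme.Modules.pullbackPushforwardAdjunction
              (pullback.fst A.obj.q b.left)).unit.app A.obj.E ≫
                (Scheme.Modules.pushforward (pullback.fst A.obj.q b.left)).map v)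
              = (Scheme.Modules.pullbackPushforwardAdjunction (pullback.fst A.obj.q b.left)).homEquiv
                  A.obj.E M' := by
            funext v; exact (Adjunction.homEquiv_unit _ _ _ _).symm
          rw [heq]; exact Equiv.bijective _ }
    refine ⟨⟨A', hA'⟩, ObjectProperty.homMk φ, IsHomLift.of_fac' _ _ _ rfl rfl ?_⟩
    simp [φ]
    rfl
  isStronglyCartesian := by
    intro A B φ
    constructor
    intro E g ψ hψ
    have h : g ≫ φ.hom.base = ψ.hom.base :=
      IsHomLift.eq_of_isHomLift (ModSt.Coh f).p (g ≫ (ModSt.Coh f).p.map φ) ψ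
    obtain ⟨χ, ⟨hχ, hχf⟩, huniq⟩ := fac_unique φ.hom g ψ.hom h
    refine ⟨ObjectProperty.homMk χ, ⟨IsHomLift.of_fac' _ _ _ rfl rfl ?_, ?_⟩, ?_⟩
    · simp [hχ, ModSt.Obj.forget]
    · exact ObjectProperty.hom_ext _ hχf
    · rintro π ⟨hπ, hπf⟩
      refine ObjectProperty.hom_ext _ (huniq π.hom ⟨?_, congrArg InducedCategory.Hom.hom hπf⟩)
      exact (IsHomLift.eq_of_isHomLift (ModSt.Coh f).p g π).symm

end Groth.Agent.Desc19b.ModStFib
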