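import Groth.Agent.AlgSpLib.FppfEpi
import Groth.Agent.AlgSpLib.FppfSource
import Groth.Agent.AlgSpLib.SourceRing
import Groth.Agent.AlgSpLib.EtLocalInst
import Groth.Agent.FlatLocal.Descent
import Mathlib.AlgebraicGeometry.Morphisms.UniversallyOpen
import Mathlib.AlgebraicGeometry.Sites.Fpqc
import Mathlib.AlgebraicGeometry.Sites.Etale

/-! Properties local on the source for the fppf and etale topologies. -/

set_option autoImplicit false
set_option backward.isDefEq.respectTransparency.types false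

universe u

open CategoryTheory CategoryTheory.Limits AlgebraicGeometry

namespace Groth.Agent.Desc19b

/-- A covering family as one morphism. -/
theorem exists_desc {P : MorphismProperty Scheme.{u}} [IsZariskiLocalAtSource P] {R : MorphismProperty Scheme.{u}} [IsZariskiLocalAtSource R]
    {X Y : Scheme.{u}} (f : X ⟶ Y) (𝒰 : Scheme.Cover.{u} (Scheme.precoverage R) X) (h : ∀ i, P (𝒰.f i ≫ f)) :
    ∃ (T : Scheme.{u}) (c : T ⟶ X), R c ∧ Surjective c ∧ P (c ≫ f) := by
  refine ⟨∐ 𝒰.X, Sigma.desc 𝒰.f, IsZariskiLocalAtSource.sigmaDesc fun i => 𝒰.map_prop i, ⟨fun x => ?_⟩, ?_⟩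
  · obtain ⟨i, y, rfl⟩ := 𝒰.exists_eq x
    exact ⟨Sigma.ι 𝒰.X i y, by rw [← Scheme.Hom.comp_apply, Sigma.ι_desc]⟩
  · rw [show Sigma.desc 𝒰.f ≫ f = Sigma.desc fun i => 𝒰.f i ≫ f from Sigma.hom_ext _ _ fun i => by simp]
    exact IsZariskiLocalAtSource.sigmaDesc h

/-- A property is local on the source if it is preserved by and descends along single covers. -/
theorem isLocalAtSource_of_desc {P R : MorphismProperty Scheme.{u}} [IsZariskiLocalAtSource P] [IsZariskiLocalAtSource R] [P.RespectsIso]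
    [Precoverage.Small.{u} (Scheme.precoverage R)]
    (h1 : ∀ {X' X Y : Scheme.{u}} (g : X' ⟶ X) (f : X ⟶ Y), R g → P f → P (g ≫ f))
    (h2 : ∀ {X' X Y : Scheme.{u}} (g : X' ⟶ X) (f : X ⟶ Y), R g → Surjective g → P (g ≫ f) → P f) :
    P.IsLocalAtSource (Scheme.precoverage R) :=
  MorphismProperty.IsLocalAtSource.mk_of_small.{u} (fun 𝒰 hf i => h1 _ _ (Scheme.Cover.map_prop 𝒰 i) hf)
    (fun {X Y f} 𝒰 h => by
      obtain ⟨T, c, hc, hs, hP⟩ := exists_desc (R := R) f 𝒰 h
      exact h2 c f hc hs hP)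

theorem isOpenMap_of_comp {X' X Y : Scheme.{u}} (g : X' ⟶ X) (f : X ⟶ Y) [Surjective g]
    (h : IsOpenMap (g ≫ f)) : IsOpenMap f := fun O hO => by
  rw [← Set.image_preimage_eq O g.surjective, Set.image_image]
  exact h _ (hO.preimage g.continuous)

theorem universallyOpen_of_comp {X' X Y : Scheme.{u}} (g : X' ⟶ X) (f : X ⟶ Y) [Surjective g]
    [UniversallyOpen (g ≫ f)] : UniversallyOpen f := by
  refine ⟨fun X₁ Y₁ i₁ i₂ f' h => ?_⟩
  have : Surjective (pullback.snd g i₁) := MorphismProperty.pullback_snd (P := @Surjective) g i₁ inferInstance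
  exact isOpenMap_of_comp (pullback.snd g i₁) f' (UniversallyOpen.universally_isOpenMap (f := g ≫ f) _ _ _ ((IsPullback.of_hasPullback g i₁).paste_vert h.flip).flip)

theorem flat_refined {X Y Z Y' : Scheme.{u}} (f : X ⟶ Y) (q : Y ⟶ Z) (g : Y' ⟶ Y) [Flat g] [Surjective g]
    (l : Y' ⟶ X) (hl : l ≫ f = g) [Flat (f ≫ q)] : Flat q := by
  have h : Flat (pullback.fst f g ≫ (f ≫ q)) := inferInstance
  rw [← Category.assoc, pullback.condition, Category.assoc] at h
  have := AlgSpLib.flat_of_retract (pullback.lift l (𝟙 Y') (by rw [Category.id_comp, hl])) (pullback.snd f g) (pullback.lift_snd _ _ _) (g ≫ q) h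
  exact FlatLocal.flat_of_comp g q

theorem flat_stalkMap_comp_iff {X Y Z : Scheme.{u}} (f : X ⟶ Y) (g : Y ⟶ Z) (x : X)
    (hf : (f.stalkMap x).hom.Flat) : ((f ≫ g).stalkMap x).hom.Flat ↔ (g.stalkMap (f x)).hom.Flat := by
  rw [Scheme.Hom.stalkMap_comp]
  refine ⟨fun h => AlgSpLib.flat_of_comp _ _ ?_ h, fun h => RingHom.Flat.comp h hf⟩
  algebraize [(f.stalkMap x).hom]
  have : IsLocalHom (algebraMap (Y.presheaf.stalk (f x)) (X.presheaf.stalk x)) := f.toLRSHom.prop x
  exact RingHom.faithfullyFlat_algebraMap_iff.2 Module.FaithfullyFlat.of_flat_of_isLocalHom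

theorem injective_of_pullback {X Y Y' : Scheme.{u}} (f : X ⟶ Y) (q : Y' ⟶ Y) [Surjective q] {P : Scheme.{u}}
    (p : P ⟶ X) (f' : P ⟶ Y') (h : IsPullback p f' f q) (hf : Function.Injective f') : Function.Injective f := by
  intro a b hab
  obtain ⟨y, hy⟩ := q.surjective (f a)
  obtain ⟨za, rfl, ha⟩ := Scheme.exists_preimage_of_isPullback h a y hy.symm
  obtain ⟨zb, rfl, hb⟩ := Scheme.exists_preimage_of_isPullback h b y (hab ▸ hy.symm)
  rw [hf (ha.trans hb.symm)]

theorem finite_fibres_of_pullback {X Y Y' : Scheme.{u}} (f : X ⟶ Y) (q : Y' ⟶ Y) [Surjective q] {P : Scheme.{u}}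
    (p : P ⟶ X) (f' : P ⟶ Y') (h : IsPullback p f' f q) (hf : ∀ y, (f' ⁻¹' {y}).Finite) (y : Y) :
    (f ⁻¹' {y}).Finite := by
  obtain ⟨y', rfl⟩ := q.surjective y
  refine ((hf y').image p).subset fun a ha => ?_
  obtain ⟨z, rfl, hz⟩ := Scheme.exists_preimage_of_isPullback h a y' ha
  exact ⟨z, hz, rfl⟩

end Groth.Agent.Desc19b
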