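import Groth.Agent.Props12.FinLocFree
import Groth.Agent.Props12.FlatOver
import Groth.Agent.Flatn12.PullbackSections
import Groth.Agent.EGA43.InjFibre.Scheme
import Mathlib.RingTheory.Finiteness.Descent
import Mathlib.AlgebraicGeometry.Morphisms.Flat

/-! Finiteness and finite local freeness of quasi-coherent modules descend along fpqc coverings. -/

set_option autoImplicit false
set_option linter.style.haveILetI false
set_option backward.isDefEq.respectTransparency false
set_option backward.isDefEq.respectTransparency.types false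

universe u w

open CategoryTheory CategoryTheory.Limits AlgebraicGeometry TensorProduct TopologicalSpace Opposite

namespace Groth.Agent.Desc19b

section algebra

variable {A : Type u} [CommRing A] {κ : Type w} (B : κ → Type u) [∀ k, CommRing (B k)]
  [∀ k, Algebra A (B k)] [∀ k, Module.Flat A (B k)]

theorem subsingleton_of_family
    (hcov : ∀ p : PrimeSpectrum A, ∃ (k : κ) (q : PrimeSpectrum (B k)), PrimeSpectrum.comap (algebraMap A (B k)) q = p)
    (C : Type u) [AddCommGroup C] [Module A C] (h : ∀ k, ∀ x : B k ⊗[A] C, x = 0) : ∀ c : C, c = 0 := by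
  intro c
  by_contra hc
  let I : Ideal A := LinearMap.ker (LinearMap.toSpanSingleton A C c)
  have hI : I ≠ ⊤ := fun e => hc (by simpa [I] using (show (1 : A) ∈ I from e ▸ Submodule.mem_top))
  obtain ⟨m, hm, hIm⟩ := Ideal.exists_le_maximal I hI
  obtain ⟨k, q, hq⟩ := hcov ⟨m, hm.isPrime⟩
  let g : (A ⧸ I) →ₗ[A] C := I.liftQ (LinearMap.toSpanSingleton A C c) le_rfl
  have hg : Function.Injective g := LinearMap.ker_eq_bot.1 (Submodule.ker_liftQ_eq_bot _ _ _ le_rfl)
  have h4 : (1 : B k) ⊗ₜ[A] (Ideal.Quotient.mk I 1) = 0 :=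
    Module.Flat.lTensor_preserves_injective_linearMap (M := B k) g hg ((h k _).trans (map_zero _).symm)
  have h5 := congrArg (TensorProduct.tensorQuotEquivQuotSMul (B k) I) h4
  erw [TensorProduct.tensorQuotEquivQuotSMul_tmul_mk, map_zero, Submodule.Quotient.mk_eq_zero, one_smul] at h5
  rw [Ideal.smul_top_eq_map, Submodule.restrictScalars_mem] at h5
  refine q.isPrime.ne_top ((Ideal.eq_top_iff_one _).2 ((Ideal.map_le_iff_le_comap.2 fun a ha => ?_) h5))
  have e := congrArg PrimeSpectrum.asIdeal hq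
  exact (e.ge (hIm ha) :)

theorem finite_of_family [Finite κ]
    (hcov : ∀ p : PrimeSpectrum A, ∃ (k : κ) (q : PrimeSpectrum (B k)), PrimeSpectrum.comap (algebraMap A (B k)) q = p)
    (M : Type u) [AddCommGroup M] [Module A M] (h : ∀ k, Module.Finite (B k) (B k ⊗[A] M)) : Module.Finite A M := by
  have hN : ∀ k, ∃ N : Submodule A M, N.FG ∧ ∀ x : B k ⊗[A] M, x ∈ LinearMap.range (N.subtype.lTensor (B k)) := fun k => by
    obtain ⟨s, hs⟩ := (h k).fg_top
    have h1 : ∀ x : B k ⊗[A] M, ∃ N : Submodule A M, N.FG ∧ x ∈ LinearMap.range (N.subtype.lTensor (B k)) := fun x => by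
      induction x using TensorProduct.induction_on with
      | zero => exact ⟨⊥, Submodule.fg_bot, zero_mem _⟩
      | tmul b m => exact ⟨A ∙ m, Submodule.fg_span_singleton m, b ⊗ₜ ⟨m, Submodule.mem_span_singleton_self m⟩, rfl⟩
      | add x y hx hy =>
        obtain ⟨N₁, f₁, ⟨t₁, rfl⟩⟩ := hx
        obtain ⟨N₂, f₂, ⟨t₂, rfl⟩⟩ := hy
        refine ⟨N₁ ⊔ N₂, f₁.sup f₂, (Submodule.inclusion le_sup_left).lTensor (B k) t₁ + (Submodule.inclusion le_sup_right).lTensor (B k) t₂, ?_⟩
        rw [map_add, ← LinearMap.comp_apply, ← LinearMap.lTensor_comp, ← LinearMap.comp_apply, ← LinearMap.lTensor_comp]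
        rfl
    choose N hNfg hNmem using h1
    refine ⟨s.sup N, Submodule.fg_finset_sup _ _ fun x _ => hNfg x, fun x => ?_⟩
    have hx : x ∈ Submodule.span (B k) (s : Set (B k ⊗[A] M)) := hs ▸ Submodule.mem_top
    induction hx using Submodule.span_induction with
    | mem a ha =>
      obtain ⟨t, ht⟩ := hNmem a
      refine ⟨(Submodule.inclusion (Finset.le_sup (f := N) ha)).lTensor (B k) t, ?_⟩
      rw [← LinearMap.comp_apply, ← LinearMap.lTensor_comp]
      exact ht
    | zero => exact zero_mem _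
    | add a b _ _ ha hb => exact add_mem ha hb
    | smul r a _ ha =>
      obtain ⟨t, rfl⟩ := ha
      exact ⟨r • t, LinearMap.map_smul (TensorProduct.AlgebraTensorModule.lTensor (B k) (B k) (s.sup N).subtype) r t⟩
  choose N hNfg hNmem using hN
  cases nonempty_fintype κ
  let N' := Finset.univ.sup N
  suffices H : N' = ⊤ from ⟨H ▸ Submodule.fg_finset_sup _ _ fun k _ => hNfg k⟩
  refine eq_top_iff.2 fun m _ => ?_
  have h0 := subsingleton_of_family B hcov (M ⧸ N') (fun k x => by
    obtain ⟨y, rfl⟩ := LinearMap.lTensor_surjective (B k) N'.mkQ_surjective x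
    obtain ⟨t, rfl⟩ := hNmem k y
    rw [← LinearMap.comp_apply, ← LinearMap.lTensor_comp]
    have : N'.mkQ.comp (N k).subtype = 0 := LinearMap.ext fun n =>
      (Submodule.Quotient.mk_eq_zero _).2 (Finset.le_sup (f := N) (Finset.mem_univ k) n.2)
    rw [this, LinearMap.lTensor_zero, LinearMap.zero_apply]) (Submodule.Quotient.mk m)
  exact (Submodule.Quotient.mk_eq_zero _).1 h0

theorem finitePresentation_of_family [Finite κ]
    (hcov : ∀ p : PrimeSpectrum A, ∃ (k : κ) (q : PrimeSpectrum (B k)), PrimeSpectrum.comap (algebraMap A (B k)) q = p)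
    (M : Type u) [AddCommGroup M] [Module A M] (h : ∀ k, Module.FinitePresentation (B k) (B k ⊗[A] M)) :
    Module.FinitePresentation A M := by
  haveI := finite_of_family B hcov M fun k => inferInstance
  obtain ⟨n, π, hπ⟩ := Module.Finite.exists_fin' A M
  haveI : Module.Finite A (LinearMap.ker π) := finite_of_family B hcov _ fun k => by
    haveI := h k
    have hinj : Function.Injective ((LinearMap.ker π).subtype.baseChange (B k)) :=
      Module.Flat.lTensor_preserves_injective_linearMap (M := B k) _ Subtype.val_injective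
    have hsurj : Function.Surjective (π.baseChange (B k)) := LinearMap.lTensor_surjective (B k) hπ
    have hex : Function.Exact ((LinearMap.ker π).subtype.baseChange (B k)) (π.baseChange (B k)) :=
      Module.Flat.lTensor_exact (B k) π.exact_subtype_ker_map
    have hfg := Module.FinitePresentation.fg_ker (π.baseChange (B k)) hsurj
    rw [hex.linearMap_ker_eq] at hfg
    haveI := Module.Finite.iff_fg.2 hfg
    exact Module.Finite.equiv (LinearEquiv.ofInjective _ hinj).symm
  exact Module.finitePresentation_of_surjective π hπ (Module.Finite.iff_fg.1 inferInstance)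

end algebra

variable {X X' : Scheme.{u}}

/-- Over an affine open, a quasi-compact surjective morphism has a finite affine covering. -/
theorem exists_affine_family (f : X' ⟶ X) [QuasiCompact f] [Surjective f] {U : X.Opens} (hU : IsAffineOpen U) :
    ∃ (n : ℕ) (V : Fin n → X'.Opens) (hV : ∀ k, IsAffineOpen (V k)) (e : ∀ k, V k ≤ f ⁻¹ᵁ U),
      ∀ p : PrimeSpectrum Γ(X, U), ∃ (k : Fin n) (q : PrimeSpectrum Γ(X', V k)),
        PrimeSpectrum.comap (f.appLE U (V k) (e k)).hom q = p := by
  have hc : IsCompact ((f ⁻¹ᵁ U : X'.Opens) : Set X') := f.isCompact_preimage hU.isCompact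
  obtain ⟨S, hS, hSU⟩ := isCompact_iff_finite_and_eq_biUnion_affineOpens.1 hc
  haveI := hS.to_subtype
  obtain ⟨n, ⟨ε⟩⟩ := Finite.exists_equiv_fin S
  have he : ∀ k, ((ε.symm k).1 : X'.Opens) ≤ f ⁻¹ᵁ U := fun k => by
    rw [hSU]; exact le_iSup₂_of_le (ε.symm k).1 (ε.symm k).2 le_rfl
  refine ⟨n, fun k => (ε.symm k).1, fun k => (ε.symm k).1.2, he, fun p => ?_⟩
  obtain ⟨⟨y, hy⟩, rfl⟩ : ∃ y : U, hU.primeIdealOf y = p := hU.isoSpec.hom.homeomorph.surjective p
  obtain ⟨x, rfl⟩ := f.surjective y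
  have hx : x ∈ f ⁻¹ᵁ U := hy
  rw [hSU] at hx
  simp only [Opens.mem_iSup] at hx
  obtain ⟨W, hW, hxW⟩ := hx
  obtain ⟨k, hk⟩ := ε.symm.surjective ⟨W, hW⟩
  have hxk : x ∈ ((ε.symm k).1 : X'.Opens) := by rw [hk]; exact hxW
  exact ⟨k, (ε.symm k).1.2.primeIdealOf ⟨x, hxk⟩, IsAffineOpen.comap_primeIdealOf_appLE U hU _ (ε.symm k).1.2 (he k) hxk⟩

theorem finite_of_fpqc (f : X' ⟶ X) [Flat f] [Surjective f] [QuasiCompact f] (M : X.Modules) (hM : Coh.IsQCoh M)
    (h : Coh.IsCoh ((Scheme.Modules.pullback f).obj M)) : Coh.IsCoh M := by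
  haveI := hM
  refine (Coherent.isCoh_iff_finite_sections M).2 ⟨hM, fun U hU => ?_⟩
  obtain ⟨n, V, hV, e, hcov⟩ := exists_affine_family f hU
  letI : ∀ k, Algebra Γ(X, U) Γ(X', V k) := fun k => (f.appLE U (V k) (e k)).hom.toAlgebra
  haveI : ∀ k, Module.Flat Γ(X, U) Γ(X', V k) := fun k =>
    HasRingHomProperty.appLE @Flat f inferInstance ⟨U, hU⟩ ⟨V k, hV k⟩ (e k)
  refine finite_of_family (fun k => Γ(X', V k)) hcov _ fun k => ?_
  haveI := ((Coherent.isCoh_iff_finite_sections _).1 h).2 _ (hV k)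
  obtain ⟨E⟩ := Flatn12.nonempty_pullback_sections_equiv f M hU (hV k) (e k)
  exact Module.Finite.equiv E.symm

theorem finite_stalk_of_baseChange (f : X' ⟶ X) [Flat f] (M : X.Modules) [Coh.IsQCoh M]
    (h : FlatMod.IsFinLocFree ((Scheme.Modules.pullback f).obj M)) (x : X') :
    Module.Finite (X.presheaf.stalk (f x)) (M.presheaf.stalk (f x)) := by
  haveI hQ' : Coh.IsQCoh ((Scheme.Modules.pullback f).obj M) := EGA43.InjFibre.isQCoh_pullback f M
  letI := (f.stalkMap x).hom.toAlgebra
  haveI : IsLocalHom (algebraMap (X.presheaf.stalk (f x)) (X'.presheaf.stalk x)) := inferInstanceAs (IsLocalHom (f.stalkMap x).hom)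
  haveI : Module.Flat (X.presheaf.stalk (f x)) (X'.presheaf.stalk x) := Flat.stalkMap f x
  haveI : Module.FaithfullyFlat (X.presheaf.stalk (f x)) (X'.presheaf.stalk x) := Module.FaithfullyFlat.of_flat_of_isLocalHom
  obtain ⟨U, n, hx, hb⟩ := Props12.exists_nhd_basis_stalk _ h x
  obtain ⟨b⟩ := hb x hx
  haveI := Module.Finite.of_basis b
  let E : ((Scheme.Modules.pullback f).obj M).presheaf.stalk x ≃ₗ[X'.presheaf.stalk x]
      (X'.presheaf.stalk x) ⊗[X.presheaf.stalk (f x)] (M.presheaf.stalk (f x)) :=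
    ((ModStalk.pullbackStalkIso f x).app M).toLinearEquiv
  haveI : Module.Finite (X'.presheaf.stalk x) ((X'.presheaf.stalk x) ⊗[X.presheaf.stalk (f x)] (M.presheaf.stalk (f x))) :=
    Module.Finite.equiv E
  exact Module.Finite.of_finite_tensorProduct_of_faithfullyFlat (X'.presheaf.stalk x)

theorem isFinLocFree_of_fpqc (f : X' ⟶ X) [Flat f] [Surjective f] [QuasiCompact f] (M : X.Modules) [Coh.IsQCoh M]
    (h : FlatMod.IsFinLocFree ((Scheme.Modules.pullback f).obj M)) : FlatMod.IsFinLocFree M := by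
  haveI hQ' : Coh.IsQCoh ((Scheme.Modules.pullback f).obj M) := EGA43.InjFibre.isQCoh_pullback f M
  have hFP : CohB1.IsFP M := EGA43.FPKernel.isFP_of_forall_exists_affine M fun x => by
    obtain ⟨U, hU, hxU, -⟩ := Opens.isBasis_iff_nbhd.mp X.isBasis_affineOpens (Opens.mem_top x)
    refine ⟨U, hU, hxU, ?_⟩
    obtain ⟨n, V, hV, e, hcov⟩ := exists_affine_family f hU
    letI : ∀ k, Algebra Γ(X, U) Γ(X', V k) := fun k => (f.appLE U (V k) (e k)).hom.toAlgebra
    haveI : ∀ k, Module.Flat Γ(X, U) Γ(X', V k) := fun k =>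
      HasRingHomProperty.appLE @Flat f inferInstance ⟨U, hU⟩ ⟨V k, hV k⟩ (e k)
    refine finitePresentation_of_family (fun k => Γ(X', V k)) hcov _ fun k => ?_
    haveI := EGA43.QcohFP.finitePresentation_sections _ (Props12.isFP_of_isFinLocFree _ h) (hV k)
    obtain ⟨E⟩ := Flatn12.nonempty_pullback_sections_equiv f M hU (hV k) (e k)
    exact Module.finitePresentation_of_surjective E.symm.toLinearMap E.symm.surjective (by simp [Submodule.fg_bot])
  refine Props12.isFinLocFree_of_isFP_of_free_stalks M hFP fun y => ?_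
  obtain ⟨x, rfl⟩ := f.surjective y
  haveI : Module.Finite (X.presheaf.stalk (f x)) (M.presheaf.stalk (f x)) :=
    finite_stalk_of_baseChange f M h x
  letI := (f.stalkMap x).hom.toAlgebra
  haveI : IsLocalHom (algebraMap (X.presheaf.stalk (f x)) (X'.presheaf.stalk x)) := inferInstanceAs (IsLocalHom (f.stalkMap x).hom)
  haveI : Module.Flat (X.presheaf.stalk (f x)) (X'.presheaf.stalk x) := Flat.stalkMap f x
  haveI : Module.FaithfullyFlat (X.presheaf.stalk (f x)) (X'.presheaf.stalk x) := Module.FaithfullyFlat.of_flat_of_isLocalHom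
  haveI : Module.Flat (X'.presheaf.stalk x) (((Scheme.Modules.pullback f).obj M).presheaf.stalk x) :=
    Props12.isFlat_of_isFinLocFree _ h x
  let E : ((Scheme.Modules.pullback f).obj M).presheaf.stalk x ≃ₗ[X'.presheaf.stalk x]
      (X'.presheaf.stalk x) ⊗[X.presheaf.stalk (f x)] (M.presheaf.stalk (f x)) :=
    ((ModStalk.pullbackStalkIso f x).app M).toLinearEquiv
  haveI : Module.Flat (X'.presheaf.stalk x) ((X'.presheaf.stalk x) ⊗[X.presheaf.stalk (f x)] (M.presheaf.stalk (f x))) :=
    Module.Flat.of_linearEquiv E.symm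
  haveI : Module.Flat (X.presheaf.stalk (f x)) (M.presheaf.stalk (f x)) :=
    Module.Flat.of_flat_tensorProduct (X.presheaf.stalk (f x)) (M.presheaf.stalk (f x)) (X'.presheaf.stalk x)
  exact Module.free_of_flat_of_isLocalRing

end Groth.Agent.Desc19b
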