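import Groth.Prelude.Def_EGA4b
import Groth.Agent.Et18.EtaleNormal
import Mathlib.RingTheory.Unramified.LocalStructure
import Mathlib.RingTheory.Localization.LocalizationLocalization

/-! Normal rings and smooth algebras. -/

set_option autoImplicit false
set_option linter.style.haveILetI false

universe u

open TensorProduct

namespace Groth.Agent.Desc19b

theorem isIntegrallyClosed_mvPolynomial_fin' (W : Type u) [CommRing W] [IsDomain W]
    [IsIntegrallyClosed W] : ∀ e : ℕ, IsIntegrallyClosed (MvPolynomial (Fin e) W)
  | 0 => IsIntegrallyClosed.of_equiv (MvPolynomial.isEmptyRingEquiv W (Fin 0)).symm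
  | e + 1 => by
    have := isIntegrallyClosed_mvPolynomial_fin' W e
    exact IsIntegrallyClosed.of_equiv (MvPolynomial.finSuccEquiv W e).symm.toRingEquiv

/-- Over a normal domain, a smooth algebra has normal local rings. -/
theorem normal_localization_of_smooth (R S : Type u) [CommRing R] [IsDomain R] [IsIntegrallyClosed R]
    [CommRing S] [Algebra R S] [Algebra.Smooth R S] (q : Ideal S) [q.IsPrime] :
    IsDomain (Localization.AtPrime q) ∧ IsIntegrallyClosed (Localization.AtPrime q) := by
  haveI : Algebra.IsSmoothAt R q := by
    have h := Algebra.smoothLocus_eq_univ (R := R) (A := S)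
    exact (Set.eq_univ_iff_forall.1 h ⟨q, inferInstance⟩ :)
  obtain ⟨f, hf, n, _, _, _⟩ := Algebra.IsSmoothAt.exists_isStandardEtale_mvPolynomial (R := R) (p := q)
  haveI := isIntegrallyClosed_mvPolynomial_fin' R n
  let q' : Ideal (Localization.Away f) := q.map (algebraMap S _)
  haveI : q'.IsPrime := IsLocalization.isPrime_of_isPrime_disjoint (.powers f) _ _ ‹_›
    ((Ideal.disjoint_powers_iff_notMem_of_isPrime _).mpr hf)
  obtain ⟨h1, h2⟩ := Et18.normal_localization_of_etale (MvPolynomial (Fin n) R) (Localization.Away f) q'
  have hc : q'.comap (algebraMap S (Localization.Away f)) = q :=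
    IsLocalization.comap_map_of_isPrime_disjoint (.powers f) _ ‹_›
      ((Ideal.disjoint_powers_iff_notMem_of_isPrime _).mpr hf)
  haveI : IsLocalization.AtPrime (Localization.AtPrime q') (q'.comap (algebraMap S (Localization.Away f))) :=
    IsLocalization.isLocalization_isLocalization_atPrime_isLocalization (.powers f) _ q'
  haveI : IsLocalization.AtPrime (Localization.AtPrime q') q := by
    simp only [hc] at *; assumption
  let e : Localization.AtPrime q' ≃+* Localization.AtPrime q :=
    (IsLocalization.algEquiv q.primeCompl (Localization.AtPrime q') (Localization.AtPrime q)).toRingEquiv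
  exact ⟨e.symm.injective.isDomain, IsIntegrallyClosed.of_equiv e⟩

theorem isNormalRing_of_smooth (A B : Type u) [CommRing A] [CommRing B] [Algebra A B] [Algebra.Smooth A B]
    (hA : EGA4.IsNormalRing A) : EGA4.IsNormalRing B := by
  intro q hq
  let p := q.comap (algebraMap A B)
  obtain ⟨h1, h2⟩ := hA p
  let B' := Localization.AtPrime p ⊗[A] B
  letI : Algebra B B' := Algebra.TensorProduct.rightAlgebra
  haveI : Algebra.IsPushout A (Localization.AtPrime p) B B' := inferInstance
  haveI : IsLocalization (Algebra.algebraMapSubmonoid B p.primeCompl) B' :=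
    (Algebra.isLocalization_iff_isPushout p.primeCompl (Localization.AtPrime p)).2 inferInstance
  have hd : Disjoint ((Algebra.algebraMapSubmonoid B p.primeCompl : Submonoid B) : Set B) q := by
    rw [Set.disjoint_left]
    rintro _ ⟨a, ha, rfl⟩ h
    exact ha h
  let q' : Ideal B' := q.map (algebraMap B B')
  haveI : q'.IsPrime := IsLocalization.isPrime_of_isPrime_disjoint _ _ _ hq hd
  have hc : q'.comap (algebraMap B B') = q :=
    IsLocalization.comap_map_of_isPrime_disjoint _ _ hq hd
  obtain ⟨i1, i2⟩ := normal_localization_of_smooth (Localization.AtPrime p) B' q'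
  haveI : IsLocalization.AtPrime (Localization.AtPrime q') (q'.comap (algebraMap B B')) :=
    IsLocalization.isLocalization_isLocalization_atPrime_isLocalization
      (Algebra.algebraMapSubmonoid B p.primeCompl) _ q'
  haveI : IsLocalization.AtPrime (Localization.AtPrime q') q := by
    simp only [hc] at *; assumption
  let e : Localization.AtPrime q' ≃+* Localization.AtPrime q :=
    (IsLocalization.algEquiv q.primeCompl (Localization.AtPrime q') (Localization.AtPrime q)).toRingEquiv
  exact ⟨e.symm.injective.isDomain, IsIntegrallyClosed.of_equiv (R := Localization.AtPrime q') e⟩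

theorem isNormalRing_of_faithfullyFlat (A B : Type u) [CommRing A] [CommRing B] [Algebra A B]
    [Module.FaithfullyFlat A B] (hB : EGA4.IsNormalRing B) : EGA4.IsNormalRing A := by
  intro p hp
  obtain ⟨⟨q, hq⟩, hqp⟩ := PrimeSpectrum.comap_surjective_of_faithfullyFlat (A := A) (B := B) ⟨p, hp⟩
  have hqp' : q.comap (algebraMap A B) = p := congrArg PrimeSpectrum.asIdeal hqp
  haveI : q.LiesOver p := ⟨hqp'.symm⟩
  letI : Algebra (Localization.AtPrime p) (Localization.AtPrime q) := Localization.AtPrime.algebraOfLiesOver p q
  obtain ⟨h1, h2⟩ := hB q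
  haveI : Module.Flat A (Localization.AtPrime q) :=
    Module.Flat.trans A B (Localization.AtPrime q)
  haveI : Module.Flat (Localization.AtPrime p) (Localization.AtPrime q) :=
    (Module.flat_iff_of_isLocalization (Localization.AtPrime p) p.primeCompl (Localization.AtPrime q)).2 inferInstance
  haveI : Module.FaithfullyFlat (Localization.AtPrime p) (Localization.AtPrime q) :=
    Module.FaithfullyFlat.of_flat_of_isLocalHom
  exact Et18.normal_of_faithfullyFlat (Localization.AtPrime p) (Localization.AtPrime q)

end Groth.Agent.Desc19b
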