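import Groth.Agent.AmpleLib.FTIdeal
import Groth.Agent.AmpleLib.Local
import Groth.Agent.Props12.FinLocFree
import Groth.Agent.Coherent.Existence.SysKernel
import Groth.Agent.CAlgH3.LocFreeFactor
import Groth.Agent.DCat.PerfTensor
import Groth.Prelude.Def_PerfAux

/-! The resolution property forces affine diagonal. -/

set_option autoImplicit false
set_option backward.isDefEq.respectTransparency.types false

universe u

open CategoryTheory CategoryTheory.Limits AlgebraicGeometry Opposite TopologicalSpace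
open Groth.Agent.Coherent Groth.Agent.PicLib Groth.Agent.AmpleLib

namespace Groth.Agent.Desc19b

variable {X : Scheme.{u}}

/-- A map from a trivialised module hitting one on an open gives a combination of global values. -/
theorem exists_unit_combination {W : X.Opens} {E : X.Modules} (q : E ⟶ Coh.structureModule X) {n : ℕ}
    (e : E.restrict W.ι ≅ FlatMod.freeMod W.toScheme n) (V : W.toScheme.Opens)
    (s : Γ(E, W.ι ''ᵁ V)) (hs : q.app (W.ι ''ᵁ V) s = (1 : Γ(X, W.ι ''ᵁ V))) :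
    ∃ (m : ULift.{u} (Fin n) → Γ(E, W.ι ''ᵁ ⊤)) (c : ULift.{u} (Fin n) → Γ(X, W.ι ''ᵁ V)),
      ∑ i, c i * res (W.ι.image_mono le_top) (q.app (W.ι ''ᵁ ⊤) (m i) : Γ(X, W.ι ''ᵁ ⊤)) = 1 := by
  classical
  let ψ := e ≪≫ (Props12.freeModIso W.toScheme n).symm
  let q' := (Scheme.Modules.restrictFunctor W.ι).map q
  let a : Γ(E.restrict W.ι, V) := s
  let θ : Coherent.freeMod W.toScheme (ULift.{u} (Fin n)) ⟶ (Coh.structureModule X).restrict W.ι := ψ.inv ≫ q'
  have h1 : θ.app V (ψ.hom.app V a) = q'.app V a := by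
    show (ψ.inv ≫ q').app V _ = _
    rw [Scheme.Modules.Hom.comp_app, ConcreteCategory.comp_apply]
    exact congrArg _ (congr(($(ψ.hom_inv_id)).app V a))
  rw [freeMod_app θ] at h1
  refine ⟨fun i => ψ.inv.app ⊤ (freeBasisVec i ⊤), fun i => freeCoord V i (ψ.hom.app V a), ?_⟩
  refine Eq.trans ?_ hs
  refine Eq.trans ?_ h1
  refine Finset.sum_congr rfl fun i _ => ?_
  rw [← resM_unitVal (freeInj i ≫ θ) (le_top : V ≤ ⊤)]
  let z : Γ((Coh.structureModule X).restrict W.ι, V) :=
    resM ((Coh.structureModule X).restrict W.ι) (le_top : V ≤ ⊤) (unitVal (freeInj i ≫ θ) ⊤)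
  let r : Γ(W.toScheme, V) := freeCoord V i (ψ.hom.app V a)
  show r * _ = ((Coh.structureModule X).restrictAppIso W.ι V).hom (r • z)
  rw [Scheme.Modules.smul_restrictAppIso_hom_apply, Scheme.Opens.ι_appIso]
  rfl

/-- An affine open meets an affine open on which the covering bundle is trivial in an affine open. -/
theorem isAffineOpen_inf_of_trivial {U W : X.Opens} {E : X.Modules} (q : E ⟶ Coh.structureModule X)
    (hW : IsAffineOpen W) (hq : ∀ (T : X.Opens) (m : Γ(E, T)), X.basicOpen (q.app T m : Γ(X, T)) ≤ U)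
    (s : Γ(E, U)) (hs : q.app U s = (1 : Γ(X, U))) {n : ℕ}
    (e : E.restrict W.ι ≅ FlatMod.freeMod W.toScheme n) : IsAffineOpen (U ⊓ W) := by
  let V : W.toScheme.Opens := W.ι ⁻¹ᵁ U
  have hV : W.ι ''ᵁ V ≤ U := W.ι.image_preimage_le U
  have hV' : W.ι ''ᵁ V = U ⊓ W := by
    rw [Scheme.Hom.image_preimage_eq_opensRange_inf, Scheme.Opens.opensRange_ι, inf_comm]
  have hs' : q.app (W.ι ''ᵁ V) (resM E hV s) = (1 : Γ(X, W.ι ''ᵁ V)) := by
    rw [app_resM, hs]
    exact map_one (res hV)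
  obtain ⟨m, c, hc⟩ := exists_unit_combination q e V _ hs'
  rw [← hV']
  let r : ULift.{u} (Fin n) → Γ(X, W.ι ''ᵁ ⊤) := fun i => q.app (W.ι ''ᵁ ⊤) (m i)
  refine isAffineOpen_of_isAffineOpen_basicOpen (W.ι ''ᵁ V) (Set.range fun i => res (W.ι.image_mono le_top) (r i)) ?_ ?_
  · rw [Ideal.eq_top_iff_one, ← hc]
    exact Submodule.sum_mem _ fun i _ => Ideal.mul_mem_left _ _ (Ideal.subset_span ⟨i, rfl⟩)
  · rintro _ ⟨i, rfl⟩
    rw [show X.basicOpen (res (W.ι.image_mono le_top) (r i)) = (W.ι ''ᵁ V) ⊓ X.basicOpen (r i) from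
      X.basicOpen_res _ (homOfLE _).op]
    have hle : X.basicOpen (r i) ≤ W.ι ''ᵁ V := by
      rw [hV']
      exact le_inf (hq _ (m i)) ((X.basicOpen_le _).trans W.ι_image_top.le)
    rw [inf_eq_right.2 hle]
    exact IsAffineOpen.basicOpen (by rw [W.ι_image_top]; exact hW) _

/-- With the resolution property, intersections of affine opens are affine. -/
theorem isAffineOpen_inf_of_resolution [CompactSpace X] [QuasiSeparatedSpace X]
    (hX : PerfAux.HasResolutionProperty X) {U V : X.Opens} (hU : IsAffineOpen U) (hV : IsAffineOpen V) :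
    IsAffineOpen (U ⊓ V) := by
  obtain ⟨I, -, hI, hO⟩ := exists_idealMod_compl hU
  obtain ⟨E, π, hE, hπ⟩ := hX _ hI.1 hI.2
  have := CAlgH3.LocFreeFactor.isQCoh_of_finLocFree hE
  have := hI.1
  let q := π ≫ ClSub.idealModι I
  have hq : ∀ (T : X.Opens) (m : Γ(E, T)), X.basicOpen (q.app T m : Γ(X, T)) ≤ U := fun T m =>
    (basicOpen_idealModι_le I T (π.app T m)).trans hO.le
  obtain ⟨k, hk⟩ : ∃ k, (ClSub.idealModι I).app U k = (1 : Γ(X, U)) := hO ▸ exists_idealModι_eq_one I
  obtain ⟨s, hs⟩ := Existence.app_surjective_of_epi π hU k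
  have hs' : q.app U s = (1 : Γ(X, U)) := by
    show (ClSub.idealModι I).app U (π.app U s) = _
    rw [hs]; exact hk
  have haff : IsAffineHom U.ι := isAffineHom_of_forall_exists_isAffineOpen _ fun x => by
    obtain ⟨T, n, hxT, ⟨e⟩⟩ := hE x
    obtain ⟨W, hW, hxW, hWT⟩ := exists_isAffineOpen_mem_and_subset (x := x) (U := T) hxT
    obtain ⟨e₀⟩ := DCat.PerfTensor.free_of_le (W := W) hWT e
    let e' := AmpleLib.restrictIsoPullback W.ι E ≪≫ e₀
    refine ⟨W, hxW, hW, ?_⟩
    rw [← U.ι.isAffineOpen_iff_of_isOpenImmersion, U.ι.image_preimage_eq_opensRange_inf,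
      Scheme.Opens.opensRange_ι]
    exact isAffineOpen_inf_of_trivial q hW hq s hs' e'
  have h := U.ι.isAffineOpen_iff_of_isOpenImmersion.2 (hV.preimage U.ι)
  rwa [U.ι.image_preimage_eq_opensRange_inf, Scheme.Opens.opensRange_ι] at h

end Groth.Agent.Desc19b
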