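import Groth.Agent.Desc19b.AmpleQuot
import Groth.Agent.DCat.PerfTensor
import Groth.Agent.Coherent.ProjSpaceBC
import Groth.Prelude.Def_PerfAux
import Groth.Prelude.Def_MoreMor
import Groth.Prelude.Def_KSix

/-! The resolution property from an ample family. -/

set_option autoImplicit false
set_option backward.isDefEq.respectTransparency.types false

universe u

open CategoryTheory CategoryTheory.Limits AlgebraicGeometry Opposite TopologicalSpace
open Groth.Agent.Coherent Groth.Agent.PicLib Groth.Agent.AmpleLib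

namespace Groth.Agent.Desc19b

variable {X : Scheme.{u}}

local instance : HasFiniteBiproducts X.Modules := Abelian.hasFiniteBiproducts

theorem hasResolutionProperty_of_affine_loci [CompactSpace X]
    (h : ∀ x : X, ∃ (P : X.Modules) (a : Γ(P, ⊤)), PicF.IsInvertible P ∧ x ∈ glocus P a ∧ IsAffineOpen (glocus P a)) :
    PerfAux.HasResolutionProperty X := fun M hM hft => by
  obtain ⟨n, N, π, hπ, hN⟩ := exists_epi_negPow (fun _ => True)
    (fun x => let ⟨P, a, h⟩ := h x; ⟨P, a, trivial, h⟩) M ⟨hM, hft⟩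
  exact ⟨_, π, DCat.PerfTensor.isFinLocFree_of_iso (biproduct.isoCoproduct N).symm
    (DCat.PerfTensor.isFinLocFree_sigma N fun j => Coherent.isFinLocFree_of_invertible (hN j).1), hπ⟩

theorem hasResolutionProperty_of_isAmple {L : X.Modules} (hL : CohB1.IsAmple L) :
    PerfAux.HasResolutionProperty X := by
  obtain ⟨hLi, hc, hx⟩ := isAmple_iff_affGlocus.1 hL
  refine hasResolutionProperty_of_affine_loci fun x => ?_
  obtain ⟨m, -, b, hxb, -, hb⟩ := hx x
  exact ⟨_, b, isInvertible_tensorPow hLi m, hxb, hb⟩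

theorem hasResolutionProperty_of_ampleFamily (hX : MoreMor.HasAmpleFamily X) :
    PerfAux.HasResolutionProperty X := by
  have := hX.1
  refine hasResolutionProperty_of_affine_loci fun x => ?_
  obtain ⟨L, n, s, hL, -, hx, ha⟩ := hX.2 x
  rw [genLocus_eq_glocus] at hx ha
  exact ⟨_, _, isInvertible_tensorPow hL n, hx, ha⟩

/-- The refined form for an ample family. -/
theorem exists_epi_inAddL {ι : Type u} (L : ι → X.Modules) (hL : KSix.IsAmpleFamily L) (F : X.Modules)
    (hF : Coh.IsQCoh F) (hF' : CohB1.IsFT F) :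
    ∃ (M : X.Modules) (π : M ⟶ F), KSix.InAddL L M ∧ Epi π := by
  obtain ⟨hc, -, hi, hx⟩ := hL
  let C : X.Modules → Prop := fun P => ∃ (i : ι) (n : ℕ), P = CohB1.tensorPow (L i) (n + 1)
  obtain ⟨n, N, π, hπ, hN⟩ := exists_epi_negPow C (fun x => by
    obtain ⟨i, n, s, hx, ha⟩ := hx x
    rw [genLocus_eq_glocus] at hx ha
    exact ⟨_, _, ⟨i, n, rfl⟩, isInvertible_tensorPow (hi i) _, hx, ha⟩) F ⟨hF, hF'⟩
  refine ⟨_, π, ⟨n, N, fun j => ?_, ⟨Iso.refl _⟩⟩, hπ⟩
  obtain ⟨-, P, k, ⟨i, m, rfl⟩, hk, ⟨e⟩⟩ := hN j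
  obtain ⟨e', -⟩ := exists_powPowIso (hi i) (m + 1) k
  exact ⟨i, (m + 1) * k, Nat.mul_pos m.succ_pos hk, ⟨AmpleLib.tensorIso (Iso.refl _) e'.symm ≪≫ e⟩⟩

end Groth.Agent.Desc19b
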