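import Mathlib

/-! Quasi-compact refinements of fpqc covers; locality of properties and descent of opens for fpqc covers. -/

set_option autoImplicit false
set_option linter.style.haveILetI false
set_option backward.isDefEq.respectTransparency.types false
set_option backward.isDefEq.respectTransparency false

universe u

open CategoryTheory CategoryTheory.Limits AlgebraicGeometry

namespace Groth.Agent.Desc19b

/-- Over an affine open of the base, an fpqc cover is refined by a single qc faithfully flat morphism. -/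
theorem exists_fpqc_refinement {Y U : Scheme.{u}} (𝒰 : Scheme.Cover Scheme.fpqcPrecoverage Y)
    (ι : U ⟶ Y) [IsOpenImmersion ι] [IsAffine U] :
    ∃ (n : ℕ) (a : Fin n → 𝒰.I₀) (Z : Fin n → Scheme.{u}) (v : ∀ k, Z k ⟶ 𝒰.X (a k)) (w : ∀ k, Z k ⟶ U),
      (∀ k, IsOpenImmersion (v k)) ∧ (∀ k, w k ≫ ι = v k ≫ 𝒰.f (a k)) ∧
        Flat (Sigma.desc w) ∧ Surjective (Sigma.desc w) ∧ QuasiCompact (Sigma.desc w) := by
  have h1 := 𝒰.mem₀
  haveI : QuasiCompactCover 𝒰.toPreZeroHypercover := Scheme.presieve₀_mem_qcPrecoverage_iff.1 h1.1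
  have hfl : ∀ i, Flat (𝒰.f i) := (Scheme.presieve₀_mem_precoverage_iff 𝒰.toPreZeroHypercover).1 h1.2 |>.2
  have hV : IsAffineOpen ι.opensRange := isAffineOpen_opensRange _
  obtain ⟨n, a, W, hW, heq⟩ :=
    QuasiCompactCover.exists_isAffineOpen_of_isCompact 𝒰.toPreZeroHypercover hV.isCompact
  have hsub : ∀ k, Set.range ((hW k).fromSpec ≫ 𝒰.f (a k)) ⊆ Set.range ι := by
    intro k
    rw [Scheme.Hom.comp_base, TopCat.coe_comp, Set.range_comp, (hW k).range_fromSpec]
    exact (Set.subset_iUnion (fun k => 𝒰.f (a k) '' (W k : Set _)) k).trans heq.le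
  let w : ∀ k, Spec Γ(_, W k) ⟶ U := fun k => IsOpenImmersion.lift ι ((hW k).fromSpec ≫ 𝒰.f (a k)) (hsub k)
  have hw : ∀ k, w k ≫ ι = (hW k).fromSpec ≫ 𝒰.f (a k) := fun k => IsOpenImmersion.lift_fac _ _ _
  refine ⟨n, a, _, fun k => (hW k).fromSpec, w, fun _ => inferInstance, hw,
    IsZariskiLocalAtSource.sigmaDesc fun k => ?_, ⟨fun y => ?_⟩, inferInstance⟩
  · haveI := hfl (a k)
    haveI h2 : Flat (w k ≫ ι) := by rw [hw k]; infer_instance
    exact MorphismProperty.of_postcomp @Flat (W' := @IsOpenImmersion) (w k) ι inferInstance h2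
  · have hy : ι y ∈ (ι.opensRange : Set Y) := ⟨y, rfl⟩
    rw [← heq, Set.mem_iUnion] at hy
    obtain ⟨k, z, hz, hzy⟩ := hy
    obtain ⟨z', rfl⟩ : z ∈ Set.range (hW k).fromSpec := by rw [(hW k).range_fromSpec]; exact hz
    refine ⟨Sigma.ι (fun k => Spec Γ(_, W k)) k z', ι.isOpenEmbedding.injective ?_⟩
    rw [← hzy, ← Scheme.Hom.comp_apply, ← Scheme.Hom.comp_apply, ← Scheme.Hom.comp_apply]
    congr 1
    simp [hw]

theorem of_fpqcCover (P : MorphismProperty Scheme.{u}) [IsZariskiLocalAtTarget P]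
    (hP : P.DescendsAlong (@Surjective ⊓ @Flat ⊓ @QuasiCompact : MorphismProperty Scheme.{u}))
    {X Y : Scheme.{u}} (f : X ⟶ Y) (𝒰 : Scheme.Cover Scheme.fpqcPrecoverage Y)
    (h : ∀ i : 𝒰.I₀, P (pullback.snd f (𝒰.f i))) : P f := by
  refine IsZariskiLocalAtTarget.of_openCover Y.affineCover fun j => ?_
  obtain ⟨n, a, Z, v, w, hv, hw, hfl, hs, hqc⟩ := exists_fpqc_refinement 𝒰 (Y.affineCover.f j)
  haveI := hv
  refine MorphismProperty.of_pullback_snd_of_descendsAlong (Q := @Surjective ⊓ @Flat ⊓ @QuasiCompact)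
    (g := Sigma.desc w) ⟨⟨hs, hfl⟩, hqc⟩ ?_
  refine IsZariskiLocalAtTarget.of_openCover (sigmaOpenCover Z) fun k => ?_
  change P (pullback.snd (pullback.snd (pullback.snd f (Y.affineCover.f j)) (Sigma.desc w)) (Sigma.ι Z k))
  have big := ((IsPullback.of_hasPullback
      (pullback.snd (pullback.snd f (Y.affineCover.f j)) (Sigma.desc w)) (Sigma.ι Z k)).paste_horiz
    (IsPullback.of_hasPullback (pullback.snd f (Y.affineCover.f j)) (Sigma.desc w))).paste_horiz
    (IsPullback.of_hasPullback f (Y.affineCover.f j))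
  rw [Sigma.ι_desc, hw k] at big
  exact IsZariskiLocalAtTarget.of_isPullback
    (IsPullback.of_right' big (IsPullback.of_hasPullback f (𝒰.f (a k)))) (h (a k))

/-- Opens descend along fpqc covers. -/
theorem existsUnique_opens_preimage_eq {ι : Type u} {T : Scheme.{u}} {Ti : ι → Scheme.{u}}
    (f : ∀ i, Ti i ⟶ T) (hf : Presieve.ofArrows Ti f ∈ Scheme.fpqcPrecoverage T)
    (W : ∀ i, (Ti i).Opens)
    (hW : ∀ i j, (pullback.fst (f i) (f j)) ⁻¹ᵁ (W i) = (pullback.snd (f i) (f j)) ⁻¹ᵁ (W j)) :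
    ∃! V : T.Opens, ∀ i, (f i) ⁻¹ᵁ V = W i := by
  let 𝒰 : Scheme.Cover Scheme.fpqcPrecoverage T := { PreZeroHypercover.mk ι Ti f with mem₀ := hf }
  let S : Set T := ⋃ i, f i '' (W i : Set (Ti i))
  have hS : ∀ i, f i ⁻¹' S = W i := fun i => by
    refine Set.Subset.antisymm (fun x hx => ?_) fun x hx => Set.mem_iUnion.2 ⟨i, x, hx, rfl⟩
    obtain ⟨j, y, hy, hxy⟩ := Set.mem_iUnion.1 hx
    obtain ⟨z, hz1, hz2⟩ := Scheme.Pullback.exists_preimage_pullback x y hxy.symm
    have h3 : z ∈ pullback.fst (f i) (f j) ⁻¹ᵁ W i := by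
      rw [hW i j]
      exact (hz2 ▸ hy : pullback.snd (f i) (f j) z ∈ W j)
    exact hz1 ▸ h3
  have hop : IsOpen S := by
    refine (T.affineCover.isOpenCover_opensRange).isOpen_iff_inter.2 fun j => ?_
    obtain ⟨n, a, Z, v, w, hv, hw, hfl, hs, hqc⟩ := exists_fpqc_refinement 𝒰 (T.affineCover.f j)
    rw [Scheme.Hom.coe_opensRange, ← Set.image_preimage_eq_inter_range]
    refine (T.affineCover.f j).isOpenEmbedding.isOpenMap _ ?_
    rw [← (Flat.isQuotientMap_of_surjective (Sigma.desc w)).isOpen_preimage]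
    rw [(sigmaOpenCover Z).isOpenCover_opensRange.isOpen_iff_inter]
    intro k
    rw [Scheme.Hom.coe_opensRange, ← Set.image_preimage_eq_inter_range]
    refine ((sigmaOpenCover Z).f k).isOpenEmbedding.isOpenMap _ ?_
    have e : Sigma.ι Z k ≫ Sigma.desc w ≫ T.affineCover.f j = v k ≫ f (a k) := by simp [hw, 𝒰]
    have e2 : ⇑((sigmaOpenCover Z).f k) ⁻¹' (⇑(Sigma.desc w) ⁻¹' (⇑(T.affineCover.f j) ⁻¹' S))
        = v k ⁻¹' (f (a k) ⁻¹' S) := by
      ext z
      simp only [Set.mem_preimage, sigmaOpenCover_f, ← Scheme.Hom.comp_apply, Category.assoc, e]; rfl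
    rw [e2, hS]
    exact (W (a k)).2.preimage (v k).continuous
  refine ⟨⟨S, hop⟩, fun i => TopologicalSpace.Opens.ext (hS i), fun V hV => TopologicalSpace.Opens.ext ?_⟩
  obtain ⟨hsurj, -⟩ := (Scheme.presieve₀_mem_precoverage_iff 𝒰.toPreZeroHypercover).1 hf.2
  ext t
  obtain ⟨i, x, rfl⟩ := hsurj t
  exact (Set.ext_iff.1 (congrArg SetLike.coe (hV i)) x).trans (Set.ext_iff.1 (hS i) x).symm

end Groth.Agent.Desc19b
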