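import Groth.Agent.Desc19b.EffAffine

/-! Effectivity of descent for schemes reduces to finite flat surjective families of affine schemes. -/

set_option autoImplicit false
set_option linter.style.haveILetI false
set_option backward.isDefEq.respectTransparency false
set_option backward.isDefEq.respectTransparency.types false

universe u

open CategoryTheory CategoryTheory.Limits AlgebraicGeometry Desc

namespace Groth.Agent.Desc19b

/-- A datum over a finite affine family, relative to a monomorphism into the base, has a quotient. -/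
def HasAffineQuotient {S : Scheme.{u}} {A : CommRingCat.{u}} (j : Spec A ⟶ S) {κ : Type u}
    {B : κ → CommRingCat.{u}} (b : ∀ k, A ⟶ B k) (D : SchDDFam (fun k => Spec.map (b k) ≫ j)) : Prop :=
  ∃ (U : Scheme.{u}) (π : U ⟶ Spec A) (q : ∀ k, (D.obj k).left ⟶ U),
    (∀ k, IsPullback (q k) (D.obj k).hom π (Spec.map (b k))) ∧
    ∀ {T : Scheme.{u}} {k l : κ} (x : T ⟶ Spec (B k)) (y : T ⟶ Spec (B l))
      (h : x ≫ Spec.map (b k) ≫ j = y ≫ Spec.map (b l) ≫ j) (t : Lifts (D.obj k) x),
      (D.φ x y h t).1 ≫ q l = t.1 ≫ q k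

variable {S : Scheme.{u}} {ι : Type u} {X : ι → Scheme.{u}} {f : ∀ i, X i ⟶ S}

theorem nonempty_quot_of_core (P : MorphismProperty Scheme.{u}) [P.IsStableUnderBaseChange]
    (hf : Presieve.ofArrows X f ∈ Scheme.fpqcPrecoverage S) (D : SchDDFam f) (hD : ∀ i, P (D.obj i).hom)
    (W : S.affineOpens)
    (core : ∀ (κ : Type u) [Finite κ] (B : κ → CommRingCat.{u}) (b : ∀ k, Γ(S, W.1) ⟶ B k),
      (∀ k, (b k).hom.Flat) → (∀ y, ∃ k z, Spec.map (b k) z = y) →
      ∀ D' : SchDDFam (fun k => Spec.map (b k) ≫ W.2.fromSpec), (∀ k, P (D'.obj k).hom) →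
        HasAffineQuotient W.2.fromSpec b D') : Nonempty (Quot D W.1) := by
  obtain ⟨n, a, V, hV, e, hfl, hsurj⟩ := exists_affine_pieces hf W
  let B := fun k => Γ(X (a k), V k)
  let b : ∀ k, Γ(S, W.1) ⟶ B k := fun k => (f (a k)).appLE W.1 (V k) (e k)
  let v : ∀ k, Spec (B k) ⟶ X (a k) := fun k => (hV k).fromSpec
  have hv : ∀ k, v k ≫ f (a k) = Spec.map (b k) ≫ W.2.fromSpec := fun k =>
    (IsAffineOpen.SpecMap_appLE_fromSpec _ W.2 (hV k) (e k)).symm
  let D' := PullRefine.PD (α := a) (g := v) (u₀ := fun k => Spec.map (b k) ≫ W.2.fromSpec) hv D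
  have hs : ∀ y, ∃ k z, Spec.map (b k) z = y := fun y => by
    obtain ⟨k, z, hz⟩ := hsurj (W.2.isoSpec.inv y)
    exact ⟨k, z, W.2.isoSpec.inv.isOpenEmbedding.injective (by rw [← hz, Scheme.Hom.comp_apply])⟩
  obtain ⟨U, π, q, hq, hinv⟩ := core _ B b hfl hs D' fun k => MorphismProperty.pullback_snd _ _ (hD (a k))
  haveI : IsAffine W.1.toScheme := W.2
  let w : ∀ k, Spec (B k) ⟶ W.1.toScheme := fun k => Spec.map (b k) ≫ W.2.isoSpec.inv
  have hw : ∀ k, w k ≫ W.1.ι = v k ≫ f (a k) := fun k => by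
    rw [hv, Category.assoc, IsAffineOpen.isoSpec_inv_ι]
  haveI : ∀ k, Flat (w k) := fun k => by
    haveI : Flat (Spec.map (b k)) := (HasRingHomProperty.Spec_iff (P := @Flat)).2 (hfl k)
    infer_instance
  have hmem := Quot.finite_family_mem w fun y => hsurj y
  have hmemW : ∀ t, (π ≫ W.2.fromSpec) t ∈ W.1 := fun t => by
    have h : (π ≫ W.2.fromSpec) t ∈ Set.range W.2.fromSpec := ⟨π t, (Scheme.Hom.comp_apply _ _ _).symm⟩
    rw [W.2.range_fromSpec] at h
    exact h
  refine Quot.nonempty_of_pieces a v (fun s hs => Quot.cover_of_open w hw hmem s hs) (π ≫ W.2.fromSpec) hmemW q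
    (fun k => ?_) (fun x y h t => ?_)
  · rw [hv]
    exact ⟨⟨by rw [← Category.assoc, (hq k).w, Category.assoc]; rfl⟩,
      ⟨PullbackCone.IsLimit.mk _ (fun s => (hq k).lift s.fst s.snd
          (by rw [← cancel_mono W.2.fromSpec, Category.assoc, Category.assoc]; exact s.condition))
        (fun s => (hq k).lift_fst _ _ _) (fun s => (hq k).lift_snd _ _ _)
        (fun s m h1 h2 => (hq k).hom_ext (h1.trans ((hq k).lift_fst _ _ _).symm) (h2.trans ((hq k).lift_snd _ _ _).symm))⟩⟩
  · exact hinv x y (by rw [← hv, ← hv]; exact h) t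

/-- Reduction of effectivity to finite families of affine schemes. -/
theorem isEffective_of_core (P : MorphismProperty Scheme.{u}) [P.IsStableUnderBaseChange]
    (hf : Presieve.ofArrows X f ∈ Scheme.fpqcPrecoverage S) (D : SchDDFam f) (hD : ∀ i, P (D.obj i).hom)
    (core : ∀ {S' : Scheme.{u}} {A : CommRingCat.{u}} (j : Spec A ⟶ S') [Mono j] {κ : Type u} [Finite κ]
      {B : κ → CommRingCat.{u}} (b : ∀ k, A ⟶ B k), (∀ k, (b k).hom.Flat) → (∀ y, ∃ k z, Spec.map (b k) z = y) →
      ∀ D' : SchDDFam (fun k => Spec.map (b k) ≫ j), (∀ k, P (D'.obj k).hom) → HasAffineQuotient j b D') :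
    D.IsEffective :=
  Quot.isEffective_of_affine hf fun W => (nonempty_quot_of_core P hf D hD W
    fun _ _ _ b hb hs D' hD' => core W.2.fromSpec b hb hs D' hD').some

end Groth.Agent.Desc19b
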