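import Groth.Agent.Desc19b.EffAffinization
import Groth.Agent.Desc19b.EffReduce
import Groth.Agent.Desc19b.CoverLocal
import Mathlib.AlgebraicGeometry.Morphisms.ClosedImmersion
import Mathlib.AlgebraicGeometry.QuasiAffine
import Groth.Agent.QuasiAffLib.Basic

/-! Descent data with quasi-affine pieces are effective. -/

set_option autoImplicit false
set_option linter.style.haveILetI false
set_option backward.isDefEq.respectTransparency false
set_option backward.isDefEq.respectTransparency.types false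

universe u

open CategoryTheory CategoryTheory.Limits AlgebraicGeometry Desc

namespace Groth.Agent.Desc19b

theorem hasAffineQuotient_of_opens {S : Scheme.{u}} {A : CommRingCat.{u}} (j : Spec A ⟶ S) [Mono j]
    {κ : Type u} [Finite κ] {B : κ → CommRingCat.{u}} (b : ∀ k, A ⟶ B k) (hb : ∀ k, (b k).hom.Flat)
    (hs : ∀ y, ∃ k z, Spec.map (b k) z = y) (D : SchDDFam (fun k => Spec.map (b k) ≫ j)) {U : Scheme.{u}}
    (π : U ⟶ Spec A) {Y : κ → Scheme.{u}} (r : ∀ k, Y k ⟶ U) (zz : ∀ k, Y k ⟶ Spec (B k))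
    (hr : ∀ k, IsPullback (r k) (zz k) π (Spec.map (b k))) (i : ∀ k, (D.obj k).left ⟶ Y k)
    [∀ k, IsOpenImmersion (i k)] (hi : ∀ k, i k ≫ zz k = (D.obj k).hom)
    (hinv : ∀ {T : Scheme.{u}} {k l : κ} (x : T ⟶ Spec (B k)) (y : T ⟶ Spec (B l))
      (h : x ≫ Spec.map (b k) ≫ j = y ≫ Spec.map (b l) ≫ j) (t : Lifts (D.obj k) x),
      (D.φ x y h t).1 ≫ i l ≫ r l = t.1 ≫ i k ≫ r k) : HasAffineQuotient j b D := by
  let O : ∀ k, (Y k).Opens := fun k => (i k).opensRange
  -- the opens agree on the overlaps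
  have key : ∀ (k l : κ) (z : ↑(pullback (r k) (r l))),
      pullback.fst (r k) (r l) z ∈ O k → pullback.snd (r k) (r l) z ∈ O l := by
    intro k l z hz
    let G := pullback.fst (r k) (r l) ⁻¹ᵁ O k
    let t₀ : G.toScheme ⟶ (D.obj k).left := IsOpenImmersion.lift (i k) (G.ι ≫ pullback.fst (r k) (r l))
      (by
        rintro _ ⟨y, rfl⟩
        rw [Scheme.Hom.comp_apply]
        exact y.2)
    have ht₀ : t₀ ≫ (i k) = G.ι ≫ pullback.fst (r k) (r l) := IsOpenImmersion.lift_fac _ _ _
    let y : G.toScheme ⟶ Spec (B l) := G.ι ≫ pullback.snd (r k) (r l) ≫ zz l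
    have hxy : (t₀ ≫ (D.obj k).hom) ≫ Spec.map (b k) ≫ j = y ≫ Spec.map (b l) ≫ j := by
      calc (t₀ ≫ (D.obj k).hom) ≫ Spec.map (b k) ≫ j
          = (t₀ ≫ (i k)) ≫ zz k ≫ Spec.map (b k) ≫ j := by
            simp only [Category.assoc, reassoc_of% (hi k)]
        _ = G.ι ≫ pullback.fst (r k) (r l) ≫ (r k ≫ π) ≫ j := by
            rw [ht₀, (hr k).w]; simp only [Category.assoc]
        _ = G.ι ≫ pullback.snd (r k) (r l) ≫ (r l ≫ π) ≫ j := by
            simp only [Category.assoc, pullback.condition_assoc]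
        _ = y ≫ Spec.map (b l) ≫ j := by rw [(hr l).w]; simp only [y, Category.assoc]
    let t : Lifts (D.obj k) (t₀ ≫ (D.obj k).hom) := ⟨t₀, rfl⟩
    have h1 : (D.φ _ y hxy t).1 ≫ (i l) = G.ι ≫ pullback.snd (r k) (r l) := by
      refine (hr l).hom_ext ?_ ?_
      · rw [Category.assoc, hinv _ _ hxy t, reassoc_of% ht₀, Category.assoc, pullback.condition]
      · rw [Category.assoc, hi, (D.φ _ y hxy t).2, Category.assoc]
    have h2 := congrArg (fun φ : G.toScheme ⟶ Y l => φ ⟨z, hz⟩) h1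
    rw [Scheme.Hom.comp_apply, Scheme.Hom.comp_apply] at h2
    exact ⟨_, h2⟩
  have hcov : Presieve.ofArrows (fun k => Y k) r ∈ Scheme.fpqcPrecoverage U := by
    haveI : ∀ k, Flat (Spec.map (b k)) := fun k => (HasRingHomProperty.Spec_iff (P := @Flat)).2 (hb k)
    exact Precoverage.mem_coverings_of_isPullback _ (Quot.finite_family_mem _ hs) π _
      zz hr
  obtain ⟨V, hV, -⟩ := existsUnique_opens_preimage_eq r hcov O fun k l => TopologicalSpace.Opens.ext (Set.ext fun z => by
    refine ⟨key k l z, fun hz => ?_⟩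
    have h := key l k ((pullbackSymmetry (r k) (r l)).hom z)
      (by rw [← Scheme.Hom.comp_apply, pullbackSymmetry_hom_comp_fst]; exact hz)
    rw [← Scheme.Hom.comp_apply, pullbackSymmetry_hom_comp_snd] at h
    exact h)
  let q : ∀ k, (D.obj k).left ⟶ V.toScheme := fun k => IsOpenImmersion.lift V.ι ((i k) ≫ r k) (by
    rw [Scheme.Opens.range_ι]
    rintro _ ⟨y, rfl⟩
    rw [Scheme.Hom.comp_apply]
    have : (i k) y ∈ r k ⁻¹ᵁ V := by rw [hV]; exact ⟨y, rfl⟩
    exact this)
  have hq : ∀ k, q k ≫ V.ι = (i k) ≫ r k := fun k => IsOpenImmersion.lift_fac _ _ _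
  refine ⟨V.toScheme, V.ι ≫ π, q, fun k => ?_, fun x y h t => ?_⟩
  · have h1 : IsPullback (q k) (i k) V.ι (r k) :=
      IsOpenImmersion.isPullback _ _ _ _ (hq k).symm (by rw [Scheme.Opens.opensRange_ι]; exact hV k)
    have h2 := h1.paste_vert (hr k)
    rwa [hi] at h2
  · rw [← cancel_mono V.ι, Category.assoc, Category.assoc, hq, hq]
    exact hinv x y h t

theorem hasAffineQuotient_of_isQuasiAffine {S : Scheme.{u}} {A : CommRingCat.{u}} (j : Spec A ⟶ S) [Mono j]
    {κ : Type u} [Finite κ] {B : κ → CommRingCat.{u}} (b : ∀ k, A ⟶ B k) (hb : ∀ k, (b k).hom.Flat)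
    (hs : ∀ y, ∃ k z, Spec.map (b k) z = y) (D : SchDDFam (fun k => Spec.map (b k) ≫ j))
    (hD : ∀ k, (D.obj k).left.IsQuasiAffine) : HasAffineQuotient j b D := by
  haveI := hD
  obtain ⟨U, π, r, -, hr, hinv⟩ := exists_affinization_quotient A j B b hb D (fun k => inferInstance)
    (fun k => inferInstance)
  exact hasAffineQuotient_of_opens j b hb hs D π r _ hr (fun k => (D.obj k).left.toSpecΓ)
    (fun k => toSpecΓ_γ _) hinv

/-- Effective descent for schemes quasi-affine over the members of an fpqc family. -/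
theorem isEffective_of_isQuasiAffine {S : Scheme.{u}} {ι : Type u} {X : ι → Scheme.{u}} {f : ∀ i, X i ⟶ S}
    (hf : Presieve.ofArrows X f ∈ Scheme.fpqcPrecoverage S) (D : SchDDFam f)
    (hD : ∀ i, Mor2.IsQuasiAffine (D.obj i).hom) : D.IsEffective := by
  let P : MorphismProperty Scheme.{u} := fun _ _ g => Mor2.IsQuasiAffine g
  have hiso : ∀ {Y Z : Scheme.{u}} (e : Y ≅ Z), Mor2.IsQuasiAffine e.hom := fun e =>
    QuasiAffLib.isQuasiAffine_of_isEmbedding e.hom e.hom.isOpenEmbedding.toIsEmbedding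
  haveI : P.RespectsIso := MorphismProperty.RespectsIso.mk _
    (fun e g hg => QuasiAffLib.isQuasiAffine_comp _ _ (hiso e) hg)
    (fun e g hg => QuasiAffLib.isQuasiAffine_comp _ _ hg (hiso e))
  haveI : P.IsStableUnderBaseChange := MorphismProperty.IsStableUnderBaseChange.mk' fun X' Y' Z' f' g _ hg => by
    have h2 := QuasiAffLib.isQuasiAffine_comp _ _ (hiso (pullbackSymmetry f' g))
      (QuasiAffLib.isQuasiAffine_baseChange g hg f')
    rwa [pullbackSymmetry_hom_comp_snd] at h2
  refine isEffective_of_core P hf D hD fun j _ κ _ B b hb hs D' hD' => ?_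
  refine hasAffineQuotient_of_isQuasiAffine j b hb hs D' fun k => ?_
  haveI : ((⊤ : (D'.obj k).left.Opens).toScheme).IsQuasiAffine := (hD' k).2 ⊤ (isAffineOpen_top _)
  exact Scheme.IsQuasiAffine.of_isAffineHom (D'.obj k).left.topIso.inv

/-- Effective descent for open immersions into the members of an fpqc family. -/
theorem isEffective_of_isOpenImmersion {S : Scheme.{u}} {ι : Type u} {X : ι → Scheme.{u}} {f : ∀ i, X i ⟶ S}
    (hf : Presieve.ofArrows X f ∈ Scheme.fpqcPrecoverage S) (D : SchDDFam f)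
    (hD : ∀ i, IsOpenImmersion (D.obj i).hom) : D.IsEffective := by
  refine isEffective_of_core @IsOpenImmersion hf D hD fun j _ κ _ B b hb hs D' hD' => ?_
  haveI := hD'
  refine hasAffineQuotient_of_opens j b hb hs D' (𝟙 _) (fun k => Spec.map (b k)) (fun k => 𝟙 _)
    (fun k => IsPullback.of_vert_isIso ⟨by simp⟩) (fun k => (D'.obj k).hom) (fun k => Category.comp_id _)
    fun {T k l} x y h t => ?_
  rw [← cancel_mono j]
  simp only [Category.assoc]
  rw [reassoc_of% (D'.φ x y h t).2, reassoc_of% t.2]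
  exact h.symm

end Groth.Agent.Desc19b
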