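import Groth.Prelude.Def_DescFam
import Mathlib.AlgebraicGeometry.Sites.Fpqc

/-! Morphisms of schemes descend along fpqc coverings: the descent-data functor is fully faithful. -/

set_option autoImplicit false
set_option linter.style.haveILetI false
set_option backward.isDefEq.respectTransparency false
set_option backward.isDefEq.respectTransparency.types false

universe u

open CategoryTheory CategoryTheory.Limits AlgebraicGeometry Opposite

namespace Groth.Agent.Desc19b

variable {S : Scheme.{u}} {ι : Type u} {X : ι → Scheme.{u}} {f : ∀ i, X i ⟶ S}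

theorem snd_family_mem (hf : Presieve.ofArrows X f ∈ Scheme.fpqcPrecoverage S) (U : Over S) :
    Presieve.ofArrows (fun i => pullback (f i) U.hom) (fun i => pullback.snd (f i) U.hom) ∈
      Scheme.fpqcPrecoverage U.left :=
  Precoverage.mem_coverings_of_isPullback f hf U.hom _ (fun i => pullback.fst (f i) U.hom)
    fun i => (IsPullback.of_hasPullback (f i) U.hom).flip

theorem existsUnique_glue (hf : Presieve.ofArrows X f ∈ Scheme.fpqcPrecoverage S) (U : Over S) (Z : Scheme.{u})
    (h : ∀ i, pullback (f i) U.hom ⟶ Z)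
    (hcomp : Presieve.Arrows.Compatible (yoneda.obj Z) (fun i => pullback.snd (f i) U.hom) h) :
    ∃! t : U.left ⟶ Z, ∀ i, pullback.snd (f i) U.hom ≫ t = h i := by
  have hs : Presieve.IsSheafFor (yoneda.obj Z)
      (Presieve.ofArrows (fun i => pullback (f i) U.hom) (fun i => pullback.snd (f i) U.hom)) :=
    (GrothendieckTopology.Subcanonical.isSheaf_of_isRepresentable (J := Scheme.fpqcTopology) (yoneda.obj Z)).isSheafFor _
      (Precoverage.generate_mem_toGrothendieck (snd_family_mem hf U))
  exact (Presieve.isSheafFor_arrows_iff _ _).1 hs h hcomp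

theorem toDDFam_faithful (hf : Presieve.ofArrows X f ∈ Scheme.fpqcPrecoverage S) : (Desc.toDDFam f).Faithful := by
  refine ⟨fun {U V} g g' hg => Over.OverMorphism.ext ?_⟩
  have key : ∀ i, pullback.snd (f i) U.hom ≫ g.left = pullback.snd (f i) U.hom ≫ g'.left := fun i => by
    have h := congrArg (fun a => (Desc.SchDDFam.Hom.hom a i).left ≫ pullback.snd (f i) V.hom) hg
    simp only [Desc.toDDFam, pullback.map] at h
    erw [pullback.lift_snd, pullback.lift_snd] at h
    exact h
  obtain ⟨t, -, huniq⟩ := existsUnique_glue hf U V.left (fun i => pullback.snd (f i) U.hom ≫ g.left)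
    fun i j W g₁ g₂ e => by
      show g₁ ≫ pullback.snd (f i) U.hom ≫ g.left = g₂ ≫ pullback.snd (f j) U.hom ≫ g.left
      rw [reassoc_of% e]
  exact (huniq g.left fun i => rfl).trans (huniq g'.left fun i => (key i).symm).symm

theorem toDDFam_full (hf : Presieve.ofArrows X f ∈ Scheme.fpqcPrecoverage S) : (Desc.toDDFam f).Full := by
  refine ⟨fun {U V} a => ?_⟩
  let h : ∀ i, pullback (f i) U.hom ⟶ V.left := fun i => (a.hom i).left ≫ pullback.snd (f i) V.hom
  have hcomp : Presieve.Arrows.Compatible (yoneda.obj V.left) (fun i => pullback.snd (f i) U.hom) h := by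
    intro i j W g₁ g₂ e
    have hxx : (g₁ ≫ pullback.fst (f i) U.hom) ≫ f i = (g₂ ≫ pullback.fst (f j) U.hom) ≫ f j := by
      rw [Category.assoc, Category.assoc, pullback.condition, pullback.condition, reassoc_of% e]
    let v : Desc.Lifts ((Desc.toDDFam f).obj U |>.obj i) (g₁ ≫ pullback.fst (f i) U.hom) := ⟨g₁, rfl⟩
    have hc := a.comm _ _ hxx v (a.push v) rfl
    have e2 : ((Desc.canonicalDDFam f U).φ _ _ hxx v).1 = g₂ := by
      refine pullback.hom_ext ?_ ?_
      · simp [Desc.canonicalDDFam]
      · simp only [Desc.canonicalDDFam, Equiv.coe_fn_mk, Desc.canMapFam_val]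
        erw [pullback.lift_snd]
        exact e
    have h3 := congrArg (· ≫ pullback.snd (f j) V.hom) hc
    simp only [Desc.toDDFam, Desc.canonicalDDFam, Equiv.coe_fn_mk, Desc.canMapFam_val] at h3
    erw [pullback.lift_snd] at h3
    show g₁ ≫ h i = g₂ ≫ h j
    rw [← e2]
    simpa [h, Desc.SchDDFam.Hom.push, v, Desc.canonicalDDFam] using h3
  obtain ⟨t, ht, -⟩ := existsUnique_glue hf U V.left h hcomp
  have hw : t ≫ V.hom = U.hom := by
    obtain ⟨w, -, huniq⟩ := existsUnique_glue hf U S (fun i => pullback.snd (f i) U.hom ≫ U.hom)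
      fun i j W g₁ g₂ e => by
        show g₁ ≫ pullback.snd (f i) U.hom ≫ U.hom = g₂ ≫ pullback.snd (f j) U.hom ≫ U.hom
        rw [reassoc_of% e]
    refine (huniq _ fun i => ?_).trans (huniq U.hom fun i => rfl).symm
    rw [reassoc_of% (ht i)]
    simp only [h, Category.assoc]
    rw [← pullback.condition]
    have h5 : (a.hom i).left ≫ pullback.fst (f i) V.hom = pullback.fst (f i) U.hom := Over.w (a.hom i)
    exact (reassoc_of% h5) (f i) |>.trans pullback.condition
  refine ⟨Over.homMk t hw, ?_⟩
  ext i
  refine pullback.hom_ext ?_ ?_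
  · simp only [Desc.toDDFam, pullback.map]
    erw [pullback.lift_fst, Category.comp_id]
    exact (Over.w (a.hom i)).symm
  · simp only [Desc.toDDFam, pullback.map]
    erw [pullback.lift_snd]
    exact ht i

end Groth.Agent.Desc19b
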