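import Groth.Prelude.Def_NonAbH2
import Groth.Prelude.Def_Red2
import Groth.Agent.S5427
import Groth.Agent.SGA3cLib.DSChar
import Groth.Agent.Misc15.FreeMonoidAlgebra
import Mathlib.AlgebraicGeometry.Sites.Fpqc
import Mathlib.AlgebraicGeometry.Morphisms.Flat
import Mathlib.AlgebraicGeometry.Morphisms.FinitePresentation
import Mathlib.Data.ZMod.Basic
import Mathlib.RingTheory.FiniteType

/-! The Kummer sequence `1 → μ_n → 𝔾_m → 𝔾_m → 1` is exact for the fppf, hence for the fpqc, topology. -/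

set_option autoImplicit false
universe u

open CategoryTheory AlgebraicGeometry MonoidalCategory CartesianMonoidalCategory MonObj GrpObj

namespace Groth.Agent.Desc19b.Kummer

open Groth.Agent.SGA3cLib Groth.Agent.S5427

variable {S : Scheme.{u}} (n : ℕ)

theorem dsFn_chi {W : Over S} (p : W ⟶ Red.Gm S) (m : Multiplicative ℤ) :
    dsFn (p ≫ Red.chi S (n : ℤ)) m = dsFn p (Multiplicative.ofAdd (m.toAdd * n)) := by
  rw [show Red.chi S (n : ℤ) = Red.DSmap S ((zmultiplesHom ℤ (n : ℤ) : ℤ →+ ℤ)) from rfl, dsFn_DSmap]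
  congr 2

theorem dsFn_cast {W : Over S} (p : W ⟶ Red.DS S (ZMod n)) (m : Multiplicative ℤ) :
    dsFn (p ≫ Red.DSmap S (Int.castAddHom (ZMod n))) m = dsFn p (Multiplicative.ofAdd (m.toAdd : ZMod n)) := by
  rw [dsFn_DSmap]
  rfl

theorem cast_comp_chi : Red.DSmap S (Int.castAddHom (ZMod n)) ≫ Red.chi S (n : ℤ) = 1 := by
  refine dsFn_injective (MonoidHom.ext fun m => ?_)
  have h := dsFn_cast n (𝟙 (Red.DS S (ZMod n))) (Multiplicative.ofAdd (m.toAdd * (n : ℤ)))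
  rw [Category.id_comp] at h
  rw [dsFn_chi, h, dsFn_one, toAdd_ofAdd]
  simp only [Int.cast_mul, Int.cast_natCast, ZMod.natCast_self, mul_zero, ofAdd_zero, map_one]

theorem cast_mono {W : Over S} {p p' : W ⟶ Red.DS S (ZMod n)}
    (h : p ≫ Red.DSmap S (Int.castAddHom (ZMod n)) = p' ≫ Red.DSmap S (Int.castAddHom (ZMod n))) : p = p' := by
  refine dsFn_injective (MonoidHom.ext fun z => ?_)
  obtain ⟨k, hk⟩ := ZMod.intCast_surjective z.toAdd
  have hz : z = Multiplicative.ofAdd ((Multiplicative.ofAdd k).toAdd : ZMod n) := by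
    rw [toAdd_ofAdd, hk, ofAdd_toAdd]
  have a := congrArg (fun q => dsFn q (Multiplicative.ofAdd k)) h
  rw [hz]
  exact ((dsFn_cast n p (Multiplicative.ofAdd k)).symm.trans a).trans (dsFn_cast n p' (Multiplicative.ofAdd k))

theorem exists_of_comp_chi {W : Over S} (w : W ⟶ Red.Gm S) (h : w ≫ Red.chi S (n : ℤ) = 1) :
    ∃ q : W ⟶ Red.DS S (ZMod n), q ≫ Red.DSmap S (Int.castAddHom (ZMod n)) = w := by
  let f : ℤ →+ Additive Γ(W.left, ⊤)ˣ := MonoidHom.toAdditiveRight (dsFn w).toHomUnits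
  have hv : ∀ k : ℤ, ((f k).toMul : Γ(W.left, ⊤)) = dsFn w (Multiplicative.ofAdd k) := fun k => rfl
  have hn : f n = 0 := by
    refine Additive.toMul.injective (Units.ext ?_)
    rw [hv]
    have e := congrArg (fun q => dsFn q (Multiplicative.ofAdd (1 : ℤ))) h
    simp only [dsFn_chi, dsFn_one, toAdd_ofAdd, _root_.one_mul] at e
    exact e
  obtain ⟨q, hq⟩ := exists_dsPt (U := S) (M := ZMod n) (W := W)
    ((Units.coeHom _).comp (AddMonoidHom.toMultiplicativeLeft (ZMod.lift n ⟨f, hn⟩)))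
  refine ⟨q, dsFn_injective (MonoidHom.ext fun m => ?_)⟩
  rw [dsFn_cast, hq]
  show (((ZMod.lift n ⟨f, hn⟩) (m.toAdd : ZMod n)).toMul : Γ(W.left, ⊤)) = _
  rw [ZMod.lift_coe, hv, ofAdd_toAdd]

theorem mul_chi {W : Over S} (a b : W ⟶ Red.Gm S) :
    (a * b) ≫ Red.chi S (n : ℤ) = (a ≫ Red.chi S (n : ℤ)) * (b ≫ Red.chi S (n : ℤ)) :=
  dsFn_injective (MonoidHom.ext fun m => by rw [dsFn_mul, dsFn_chi, dsFn_chi, dsFn_chi, dsFn_mul])

theorem one_chi {W : Over S} : (1 : W ⟶ Red.Gm S) ≫ Red.chi S (n : ℤ) = 1 :=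
  dsFn_injective (MonoidHom.ext fun m => by rw [dsFn_chi, dsFn_one, dsFn_one])

theorem isPullback_chi :
    IsPullback (fst (Red.Gm S) (Red.DS S (ZMod n)))
      ((Red.Gm S ◁ Red.DSmap S (Int.castAddHom (ZMod n))) ≫ μ[Red.Gm S])
      (Red.chi S (n : ℤ)) (Red.chi S (n : ℤ)) := by
  set u := Red.DSmap S (Int.castAddHom (ZMod n))
  set v := Red.chi S (n : ℤ)
  have hr : (Red.Gm S ◁ u) ≫ μ[Red.Gm S] = fst _ _ * (snd _ _ ≫ u) := by
    rw [Hom.mul_def]
    congr 1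
  have hcomm : fst (Red.Gm S) (Red.DS S (ZMod n)) ≫ v = ((Red.Gm S ◁ u) ≫ μ[Red.Gm S]) ≫ v := by
    rw [hr, mul_chi, Category.assoc, cast_comp_chi, MonObj.comp_one, _root_.mul_one]
  have hex : ∀ (s : Limits.PullbackCone v v),
      ∃ q : s.pt ⟶ Red.DS S (ZMod n), q ≫ u = s.fst⁻¹ * s.snd := fun s => by
    refine exists_of_comp_chi n _ ?_
    rw [mul_chi, ← s.condition, ← mul_chi, inv_mul_cancel, one_chi]
  choose q hq using hex
  have hl : ∀ {W : Over S} (a : W ⟶ Red.Gm S) (b : W ⟶ Red.DS S (ZMod n)),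
      lift a b ≫ ((Red.Gm S ◁ u) ≫ μ[Red.Gm S]) = a * (b ≫ u) := fun a b => by
    rw [hr, MonObj.comp_mul, lift_fst, ← Category.assoc, lift_snd]
  refine ⟨⟨hcomm⟩, ⟨Limits.PullbackCone.IsLimit.mk hcomm (fun s => lift s.fst (q s))
    (fun s => lift_fst _ _) (fun s => ?_) (fun s m h1 h2 => ?_)⟩⟩
  · rw [hl, hq, mul_inv_cancel_left]
  · apply CartesianMonoidalCategory.hom_ext
    · rw [lift_fst, h1]
    · rw [lift_snd]
      refine cast_mono n ?_
      have hm : lift (m ≫ fst _ _) (m ≫ snd _ _) = m := by rw [← comp_lift, lift_fst_snd, Category.comp_id]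
      rw [← hm, hl, h1] at h2
      rw [hq, ← h2, inv_mul_cancel_left]

theorem bijective_orbits (hn : 0 < n) :
    Function.Bijective fun dp : Fin n × Multiplicative ℤ =>
      Multiplicative.ofAdd ((dp.1 : ℕ) : ℤ) * AddMonoidHom.toMultiplicative (zmultiplesHom ℤ (n : ℤ)) dp.2 := by
  have e : ∀ (d : Fin n) (p : Multiplicative ℤ),
      Multiplicative.ofAdd ((d : ℕ) : ℤ) * AddMonoidHom.toMultiplicative (zmultiplesHom ℤ (n : ℤ)) p =
        Multiplicative.ofAdd ((d : ℕ) + p.toAdd * (n : ℤ)) := fun d p => rfl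
  refine ⟨?_, fun q => ?_⟩
  · rintro ⟨d, p⟩ ⟨d', p'⟩ h
    have h' : ((d : ℕ) : ℤ) + p.toAdd * n = ((d' : ℕ) : ℤ) + p'.toAdd * n := by
      simpa only [e, EmbeddingLike.apply_eq_iff_eq] using h
    have hd : ((d : ℕ) : ℤ) = (d' : ℕ) := by
      have := congrArg (· % (n : ℤ)) h'
      simpa [Int.add_mul_emod_self_right, Int.emod_eq_of_lt (Int.natCast_nonneg _) (Int.ofNat_lt.mpr d.isLt),
        Int.emod_eq_of_lt (Int.natCast_nonneg _) (Int.ofNat_lt.mpr d'.isLt)] using this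
    refine Prod.ext (Fin.ext (by exact_mod_cast hd)) (Multiplicative.toAdd.injective ?_)
    exact mul_right_cancel₀ (show (n : ℤ) ≠ 0 by omega) (by linarith)
  · have hpos : (0 : ℤ) < n := by exact_mod_cast hn
    have h0 := Int.emod_nonneg q.toAdd hpos.ne'
    have h1 := Int.emod_lt_of_pos q.toAdd hpos
    refine ⟨(⟨(q.toAdd % n).toNat, by omega⟩, Multiplicative.ofAdd (q.toAdd / n)), ?_⟩
    refine (e _ _).trans ?_
    rw [toAdd_ofAdd, Fin.val_mk, Int.toNat_of_nonneg h0, Int.emod_add_ediv_mul q.toAdd n, ofAdd_toAdd]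

theorem diagMap_props (hn : 0 < n) :
    Flat (Red.diagMap (ULift.{u} ℤ) (zmultiplesHom ℤ (n : ℤ))).left ∧
      Surjective (Red.diagMap (ULift.{u} ℤ) (zmultiplesHom ℤ (n : ℤ))).left ∧
      LocallyOfFinitePresentation (Red.diagMap (ULift.{u} ℤ) (zmultiplesHom ℤ (n : ℤ))).left := by
  haveI : Nonempty (Fin n) := ⟨⟨0, hn⟩⟩
  let f := AddMonoidHom.toMultiplicative (zmultiplesHom ℤ (n : ℤ))
  let φ := MonoidAlgebra.mapDomainAlgHom (ULift.{u} ℤ) (ULift.{u} ℤ) f
  have hff : φ.toRingHom.FaithfullyFlat :=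
    Misc15.FreeMonoidAlgebra.faithfullyFlat (K := ULift.{u} ℤ) f
      (fun d : Fin n => Multiplicative.ofAdd ((d : ℕ) : ℤ)) (bijective_orbits n hn)
  obtain ⟨hfl, hsurj⟩ := (flat_and_surjective_SpecMap_iff (CommRingCat.ofHom φ.toRingHom)).mpr hff
  refine ⟨hfl, hsurj, (HasRingHomProperty.Spec_iff (P := @LocallyOfFinitePresentation)).mpr ?_⟩
  haveI : IsNoetherianRing (ULift.{u} ℤ) := isNoetherianRing_of_ringEquiv ℤ ULift.ringEquiv.symm
  haveI : Algebra.FinitePresentation (ULift.{u} ℤ) (MonoidAlgebra (ULift.{u} ℤ) (Multiplicative ℤ)) :=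
    Algebra.FinitePresentation.of_finiteType.mp inferInstance
  letI : Algebra (MonoidAlgebra (ULift.{u} ℤ) (Multiplicative ℤ)) (MonoidAlgebra (ULift.{u} ℤ) (Multiplicative ℤ)) :=
    φ.toRingHom.toAlgebra
  show RingHom.FinitePresentation φ.toRingHom
  exact @Algebra.FinitePresentation.of_restrict_scalars_finitePresentation (ULift.{u} ℤ) _ _ _ _ _ _ _
    (φ.toRingHom.toAlgebra) (IsScalarTower.of_algebraMap_eq fun x => (φ.commutes x).symm) _ _

theorem isExactSeq_fppf (hn : 0 < n) :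
    NonAbH1.IsExactSeq Scheme.fppfPrecoverage
      (Red.DSmap S (Int.castAddHom (ZMod n))) (Red.chi S (n : ℤ)) := by
  obtain ⟨hfl, hsurj, hfp⟩ := diagMap_props.{u} n hn
  haveI : Flat (Red.chi S (n : ℤ)).left := MorphismProperty.overPullbackMap (P := @Flat) _ _ hfl
  haveI : Surjective (Red.chi S (n : ℤ)).left := MorphismProperty.overPullbackMap (P := @Surjective) _ _ hsurj
  haveI : LocallyOfFinitePresentation (Red.chi S (n : ℤ)).left :=
    MorphismProperty.overPullbackMap (P := @LocallyOfFinitePresentation) _ _ hfp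
  refine ⟨isMonHom_DSmap _, isMonHom_DSmap _, cast_comp_chi n, isPullback_chi n,
    Presieve.singleton (Red.chi S (n : ℤ)).left, Scheme.Hom.singleton_mem_fppfPrecoverage _, ?_⟩
  rintro S' g ⟨⟩
  exact ⟨𝟙 _, Category.id_comp _⟩

end Groth.Agent.Desc19b.Kummer
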