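import Groth.Agent.Desc19b.Imm
import Mathlib.RingTheory.Flat.TorsionFree
import Mathlib.RingTheory.DiscreteValuationRing.TFAE
import Mathlib.RingTheory.RegularLocalRing.Defs

/-! Schematic closure of the generic fibre over a base whose local rings are principal: it is flat and
is the only flat closed subscheme with that generic fibre. -/

set_option autoImplicit false
set_option linter.style.haveILetI false
set_option backward.isDefEq.respectTransparency false
set_option backward.isDefEq.respectTransparency.types false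

universe u

open CategoryTheory CategoryTheory.Limits AlgebraicGeometry

namespace Groth.Agent.Desc19b

variable {X Y Z W : Scheme.{u}}

theorem isPrincipalIdealRing_of_regular_dim_le_one (R : Type u) [CommRing R] [IsDomain R] [IsRegularLocalRing R]
    (h : ringKrullDim R ≤ 1) : IsPrincipalIdealRing R := by
  refine (tfae_of_isNoetherianRing_of_isLocalRing_of_isDomain R).out 4 0 |>.1 ?_
  have hfg := IsNoetherian.noetherian (IsLocalRing.maximalIdeal R)
  have h1 : (IsLocalRing.maximalIdeal R).spanFinrank ≤ 1 := by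
    have := IsRegularLocalRing.spanFinrank_maximalIdeal (R := R) ▸ h
    exact_mod_cast this
  obtain ⟨s, hs, hspan⟩ := Submodule.FG.exists_span_set_encard_eq_spanFinrank hfg
  rcases eq_or_ne s ∅ with rfl | hne
  · exact ⟨⟨0, by rw [← hspan]; simp⟩⟩
  · obtain ⟨x, hx⟩ := Set.nonempty_iff_ne_empty.2 hne
    have hsub : s ⊆ {x} := by
      intro y hy
      have : s.encard ≤ 1 := by rw [hs]; exact_mod_cast h1
      exact Set.encard_le_one_iff.1 this y x hy hx
    exact ⟨⟨x, by rw [← hspan, Set.Subset.antisymm hsub (Set.singleton_subset_iff.2 hx)]⟩⟩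

variable [IsIntegral Y]

/-- Nonzero functions on the base act injectively on the functions of a flat scheme. -/
theorem eq_zero_of_appLE_mul_eq_zero (h : W ⟶ Y) [Flat h] {V : Y.Opens} (hV : IsAffineOpen V) (a : Γ(Y, V))
    (ha : a ≠ 0) {P : W.Opens} (hP : P ≤ h ⁻¹ᵁ V) (x : Γ(W, P)) (hx : h.appLE V P hP a * x = 0) : x = 0 := by
  refine W.IsSheaf.section_ext fun w hw => ?_
  obtain ⟨_, ⟨P', hP', rfl⟩, hwP', hsub : P' ≤ P⟩ :=
    W.isBasis_affineOpens.exists_subset_of_mem_open hw P.isOpen
  refine ⟨P', hsub, hwP', ?_⟩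
  haveI : Nonempty V := by
    by_contra hn
    apply ha
    refine Y.IsSheaf.section_ext fun y hy => absurd ⟨⟨y, hy⟩⟩ hn
  have hf := h.flat_appLE hV hP' (hsub.trans hP)
  letI := (h.appLE V P' (hsub.trans hP)).hom.toAlgebra
  haveI : Module.Flat Γ(Y, V) Γ(W, P') := hf
  have hr : IsSMulRegular Γ(W, P') a :=
    Module.Flat.isSMulRegular_of_nonZeroDivisors (mem_nonZeroDivisors_of_ne_zero ha)
  rw [map_zero]
  refine hr ?_
  show a • _ = a • (0 : Γ(W, P'))
  rw [smul_zero, Algebra.smul_def]
  show h.appLE V P' _ a * _ = 0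
  have := congrArg (W.presheaf.map (homOfLE hsub).op) hx
  rw [map_mul, map_zero, ← CommRingCat.comp_apply, Scheme.Hom.appLE_map] at this
  exact this

/-- The scheme-theoretic image of a scheme flat over the base is flat over it. -/
theorem flat_imageι [IsLocallyNoetherian Y] (hY : ∀ y : Y, IsPrincipalIdealRing (Y.presheaf.stalk y))
    (g : W ⟶ X) [QuasiCompact g] (f : X ⟶ Y) [Flat (g ≫ f)] : Flat (g.imageι ≫ f) := by
  set h := g.imageι ≫ f with hh
  haveI := AlgSpLib.isSchemeTheoreticallyDominant_toImage g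
  haveI : Flat (g.toImage ≫ h) := by rw [hh, Scheme.Hom.toImage_imageι_assoc]; infer_instance
  rw [Flat.iff_flat_stalkMap]
  intro z
  haveI := hY (h z)
  algebraize [(h.stalkMap z).hom]
  refine Module.Flat.flat_iff_torsion_eq_bot_of_isBezout.2 (eq_bot_iff.2 ?_)
  rintro s ⟨⟨a, ha⟩, has⟩
  have ha0 : a ≠ 0 := nonZeroDivisors.ne_zero ha
  obtain ⟨V₀, hV₀, a, rfl⟩ := Y.presheaf.exists_germ_eq a
  obtain ⟨_, ⟨V, hV, rfl⟩, hzV, hVV₀ : V ≤ V₀⟩ := Y.isBasis_affineOpens.exists_subset_of_mem_open hV₀ V₀.isOpen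
  obtain ⟨O₀, hO₀, s, rfl⟩ := g.image.presheaf.exists_germ_eq s
  let a' := Y.presheaf.map (homOfLE hVV₀).op a
  have e : (h.stalkMap z) (Y.presheaf.germ V₀ (h z) hV₀ a) *
      g.image.presheaf.germ O₀ z hO₀ s = 0 := has
  rw [← Y.presheaf.germ_res_apply (homOfLE hVV₀) (h z) hzV a, Scheme.Hom.germ_stalkMap_apply] at e
  let O₁ : g.image.Opens := O₀ ⊓ h ⁻¹ᵁ V
  have hO₁ : z ∈ O₁ := ⟨hO₀, hzV⟩
  rw [← g.image.presheaf.germ_res_apply (homOfLE (inf_le_right : O₁ ≤ h ⁻¹ᵁ V)) z hO₁,
    ← g.image.presheaf.germ_res_apply (homOfLE (inf_le_left : O₁ ≤ O₀)) z hO₁ s, ← map_mul,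
    ← map_zero (g.image.presheaf.germ O₁ z hO₁).hom] at e
  obtain ⟨O, hzO, i₁, i₂, e⟩ := g.image.presheaf.germ_eq z hO₁ hO₁ _ _ e
  rw [map_mul, map_zero] at e
  have hO : O ≤ h ⁻¹ᵁ V := i₁.le.trans inf_le_right
  have hcomm : ∀ t, g.image.presheaf.map i₁.op (g.image.presheaf.map (homOfLE (inf_le_right : O₁ ≤ h ⁻¹ᵁ V)).op
      (h.app V t)) = h.appLE V O hO t := fun t => by
    rw [← CommRingCat.comp_apply, ← CommRingCat.comp_apply, ← Functor.map_comp]
    rfl
  rw [hcomm] at e
  have e2 := congrArg (g.toImage.app O) e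
  rw [map_mul, map_zero, ← CommRingCat.comp_apply] at e2
  have hap : h.appLE V O hO ≫ g.toImage.app O = (g.toImage ≫ h).appLE V (g.toImage ⁻¹ᵁ O) (fun w hw => hO hw) := by
    rw [Scheme.Hom.app_eq_appLE, Scheme.Hom.appLE_comp_appLE]
  rw [hap] at e2
  have ha' : a' ≠ 0 := by
    intro h0
    apply ha0
    rw [← Y.presheaf.germ_res_apply (homOfLE hVV₀) (h z) hzV a, show Y.presheaf.map (homOfLE hVV₀).op a = 0 from h0,
      map_zero]
  have e3 := eq_zero_of_appLE_mul_eq_zero (g.toImage ≫ h) hV a' ha' _ _ e2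
  have e4 := (Scheme.Hom.app_injective g.toImage O) (e3.trans (map_zero _).symm)
  rw [Submodule.mem_bot, ← g.image.presheaf.germ_res_apply (homOfLE (inf_le_left : O₁ ≤ O₀)) z hO₁ s,
    ← g.image.presheaf.germ_res_apply i₁ z hzO]
  exact (congrArg _ e4).trans (map_zero _)

theorem quasiCompact_fromSpecResidueField (y : Y) : QuasiCompact (Y.fromSpecResidueField y) := by
  rw [quasiCompact_iff_forall_isAffineOpen]
  intro U _
  exact (Set.subsingleton_of_subsingleton (α := PrimeSpectrum (Y.residueField y))).finite.isCompact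

/-- The generic point is scheme-theoretically dense. -/
theorem dominant_genericPoint : IsSchemeTheoreticallyDominant (Y.fromSpecResidueField (genericPoint Y)) := by
  haveI : IsDominant (Y.fromSpecResidueField (genericPoint Y)) := by
    refine ⟨?_⟩
    rw [denseRange_iff_closure_range, Scheme.range_fromSpecResidueField]
    exact genericPoint_closure _
  exact .of_isDominant _

theorem flat_fromSpecResidueField_genericPoint : Flat (Y.fromSpecResidueField (genericPoint Y)) := by
  set η := genericPoint Y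
  haveI : IsIso (Y.residue η) :=
    (ConcreteCategory.isIso_iff_bijective _).2 ⟨(Y.residue η).hom.injective, Y.residue_surjective η⟩
  rw [Scheme.fromSpecResidueField]
  haveI : Flat (Y.fromSpecStalk η) := by
    obtain ⟨_, ⟨(U : Y.Opens), hU, rfl⟩, hxU, -⟩ :=
      Y.isBasis_affineOpens.exists_subset_of_mem_open (Set.mem_univ η) isOpen_univ
    rw [← hU.fromSpecStalk_eq_fromSpecStalk hxU, IsAffineOpen.fromSpecStalk]
    have : Flat (Spec.map (Y.presheaf.germ U η hxU)) := by
      rw [Flat.SpecMap_iff]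
      let := Y.presheaf.algebra_section_stalk ⟨η, hxU⟩
      have := hU.isLocalization_stalk ⟨η, hxU⟩
      exact IsLocalization.flat (Y.presheaf.stalk η) (hU.primeIdealOf ⟨η, hxU⟩).asIdeal.primeCompl
    infer_instance
  infer_instance

/-- The generic fibre of a flat scheme is scheme-theoretically dense. -/
theorem dominant_fiberι (h : Z ⟶ Y) [Flat h] : IsSchemeTheoreticallyDominant (h.fiberι (genericPoint Y)) := by
  haveI := dominant_genericPoint (Y := Y)
  haveI := quasiCompact_fromSpecResidueField (genericPoint Y)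
  exact IsSchemeTheoreticallyDominant.pullbackFst h (Y.fromSpecResidueField (genericPoint Y))

/-- A flat closed subscheme is cut out by the kernel of any closed subscheme of the generic fibre pulling back to it. -/
theorem ker_eq_of_flat {Z' : Scheme.{u}} (f : X ⟶ Y) (z : Z ⟶ X) [Flat (z ≫ f)]
    {z' : Z' ⟶ f.fiber (genericPoint Y)} {w : Z' ⟶ Z}
    (hsq : IsPullback w z' z (f.fiberι (genericPoint Y))) : z.ker = (z' ≫ f.fiberι (genericPoint Y)).ker := by
  have hp := hsq.paste_vert (IsPullback.of_hasPullback f (Y.fromSpecResidueField (genericPoint Y)))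
  haveI : IsSchemeTheoreticallyDominant w := by
    haveI := dominant_fiberι (z ≫ f)
    rw [← hp.isoPullback_hom_fst]
    show IsSchemeTheoreticallyDominant (hp.isoPullback.hom ≫ (z ≫ f).fiberι (genericPoint Y))
    infer_instance
  rw [← hsq.w, Scheme.Hom.ker_comp, w.ker_eq_bot, Scheme.IdealSheafData.map_bot]

end Groth.Agent.Desc19b

namespace Groth.Agent.Desc19b

variable {X Y : Scheme.{u}} [IsIntegral Y]

/-- Flatness over the base of a subscheme of the generic fibre. -/
theorem flat_comp_fiberι (f : X ⟶ Y) {Z' : Scheme.{u}} (z' : Z' ⟶ f.fiber (genericPoint Y)) :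
    Flat ((z' ≫ f.fiberι (genericPoint Y)) ≫ f) := by
  haveI := flat_fromSpecResidueField_genericPoint (Y := Y)
  rw [Category.assoc, Scheme.Hom.fiber_fac, ← Category.assoc]
  haveI : Flat (z' ≫ f.fiberToSpecResidueField (genericPoint Y)) := inferInstance
  infer_instance

theorem quasiCompact_fiberι (f : X ⟶ Y) : QuasiCompact (f.fiberι (genericPoint Y)) := by
  haveI := quasiCompact_fromSpecResidueField (genericPoint Y)
  exact MorphismProperty.pullback_fst f (Y.fromSpecResidueField (genericPoint Y)) inferInstance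

/-- The generic fibre of the closure of a closed subscheme of the generic fibre. -/
theorem isPullback_toImage (f : X ⟶ Y) {Z' : Scheme.{u}} (z' : Z' ⟶ f.fiber (genericPoint Y))
    [IsClosedImmersion z'] :
    IsPullback (z' ≫ f.fiberι (genericPoint Y)).toImage z' (z' ≫ f.fiberι (genericPoint Y)).imageι
      (f.fiberι (genericPoint Y)) := by
  haveI := quasiCompact_fiberι f
  haveI : Flat (f.fiberι (genericPoint Y)) :=
    MorphismProperty.pullback_fst f (Y.fromSpecResidueField (genericPoint Y)) flat_fromSpecResidueField_genericPoint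
  set ι := f.fiberι (genericPoint Y)
  set g := z' ≫ ι with hg
  let m : Z' ⟶ pullback g.imageι ι := pullback.lift g.toImage z' (by rw [Scheme.Hom.toImage_imageι, hg])
  have hm : m ≫ pullback.snd g.imageι ι = z' := pullback.lift_snd _ _ _
  haveI : Mono ι := inferInstance
  have sq : IsPullback (𝟙 Z') z' g ι := by
    have : IsPullback z' (𝟙 _) (𝟙 _) z' := IsPullback.of_vert_isIso ⟨by simp⟩
    refine IsPullback.of_isLimit' ⟨by rw [Category.id_comp]⟩ (PullbackCone.IsLimit.mk _ (fun s => s.fst)
      (fun s => by simp) (fun s => ?_) fun s r h1 _ => by simpa using h1)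
    rw [← cancel_mono ι, Category.assoc]
    exact s.condition
  haveI : IsIso m := IsClosedImmersion.isIso_of_ker_eq z' (pullback.snd g.imageι ι) m hm (by
    rw [ker_pullback_snd_of_flat, Scheme.Hom.imageι, Scheme.IdealSheafData.ker_subschemeι,
      ← ker_pullback_snd_of_flat g ι, ← sq.isoPullback_hom_snd, Scheme.Hom.ker_comp_of_isIso])
  exact IsPullback.of_iso_pullback ⟨by rw [Scheme.Hom.toImage_imageι, hg]⟩ (asIso m)
    (pullback.lift_fst _ _ _) hm

end Groth.Agent.Desc19b
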