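import Groth.Agent.Desc19b.Quot

/-! Quotients over all affine opens glue: effectivity of descent is Zariski local on the base. -/

set_option autoImplicit false
set_option linter.style.haveILetI false
set_option backward.isDefEq.respectTransparency false
set_option backward.isDefEq.respectTransparency.types false

universe u

open CategoryTheory CategoryTheory.Limits AlgebraicGeometry Desc

namespace Groth.Agent.Desc19b.Quot

theorem isPullback_of_comp_mono {P A B C Z : Scheme.{u}} {a : P ⟶ A} {b : P ⟶ B} {c : A ⟶ C} {d : B ⟶ C}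
    {m : C ⟶ Z} (h : IsPullback a b (c ≫ m) (d ≫ m)) (e : a ≫ c = b ≫ d) : IsPullback a b c d :=
  ⟨⟨e⟩, ⟨PullbackCone.IsLimit.mk _ (fun s => h.lift s.fst s.snd (by simp [reassoc_of% s.condition]))
    (fun s => h.lift_fst _ _ _) (fun s => h.lift_snd _ _ _)
    (fun s l h1 h2 => h.hom_ext (by simpa using h1) (by simpa using h2))⟩⟩

variable {S : Scheme.{u}} {ι : Type u} {X : ι → Scheme.{u}} {f : ∀ i, X i ⟶ S} {D : SchDDFam f}
variable (hf : Presieve.ofArrows X f ∈ Scheme.fpqcPrecoverage S) (Q : ∀ W : S.affineOpens, Quot D W.1)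

/-- The structure map of a quotient, as a map to the open. -/
noncomputable def toOpen (W : S.affineOpens) : (Q W).U ⟶ W.1.toScheme :=
  IsOpenImmersion.lift W.1.ι (Q W).π (by rw [Scheme.Opens.range_ι]; rintro _ ⟨t, rfl⟩; exact (Q W).mem t)

theorem toOpen_ι (W : S.affineOpens) : toOpen Q W ≫ W.1.ι = (Q W).π := IsOpenImmersion.lift_fac _ _ _

/-- The gluing datum. -/
noncomputable def gluingData : S.directedAffineCover.RelativeGluingData where
  functor :=
    { obj := fun W => (Q W).U
      map := fun {W W'} h => cmp hf (leOfHom h) (Q W) (Q W')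
      map_id := fun W => cmp_self hf (Q W)
      map_comp := fun h h' => (cmp_comp hf (leOfHom h) (leOfHom h') _ _ _).symm }
  natTrans :=
    { app := fun W => toOpen Q W
      naturality := fun W W' h => by
        rw [← cancel_mono W'.1.ι]
        show (cmp hf (leOfHom h) (Q W) (Q W') ≫ toOpen Q W') ≫ W'.1.ι = _
        rw [Category.assoc, toOpen_ι, cmp_π]
        simp only [Scheme.Cover.functorOfLocallyDirected_map, Category.assoc]
        show _ = toOpen Q W ≫ S.homOfLE (leOfHom h) ≫ W'.1.ι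
        rw [Scheme.homOfLE_ι, toOpen_ι] }
  equifibered := fun {W W'} h => by
    have h2 := isPullback_cmp hf (leOfHom h) (Q W) (Q W') (toOpen_ι Q W)
    have e : cmp hf (leOfHom h) (Q W) (Q W') ≫ toOpen Q W' = toOpen Q W ≫ S.homOfLE (leOfHom h) := by
      rw [← cancel_mono W'.1.ι, Category.assoc, Category.assoc, toOpen_ι, cmp_π, Scheme.homOfLE_ι, toOpen_ι]
    rw [← toOpen_ι Q W', ← Scheme.homOfLE_ι S (show W.1 ≤ W'.1 from leOfHom h)] at h2
    exact isPullback_of_comp_mono h2 e

/-- The inclusion of a quotient into the glued scheme. -/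
noncomputable abbrev incl (W : S.affineOpens) : (Q W).U ⟶ (gluingData hf Q).glued :=
  colimit.ι (gluingData hf Q).functor W

theorem incl_toBase (W : S.affineOpens) : incl hf Q W ≫ (gluingData hf Q).toBase = (Q W).π := by
  rw [Scheme.Cover.RelativeGluingData.ι_toBase]
  exact toOpen_ι Q W

theorem cmp_incl {W W' : S.affineOpens} (h : W ≤ W') :
    cmp hf h (Q W) (Q W') ≫ incl hf Q W' = incl hf Q W :=
  colimit.w (gluingData hf Q).functor (homOfLE h)

theorem inW_piece {T : Scheme.{u}} {i : ι} (x : T ⟶ X i) (W : S.affineOpens) :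
    InW W.1 ((pullback.fst (x ≫ f i) (S.directedAffineCover.f W) ≫ x) ≫ f i) := by
  rw [Category.assoc, pullback.condition]
  exact (inW_ι W.1).comp _

/-- The value of a point on the piece over an affine open. -/
noncomputable def piece {T : Scheme.{u}} {i : ι} (x : T ⟶ X i) (t : Lifts (D.obj i) x) (W : S.affineOpens) :
    pullback (x ≫ f i) (S.directedAffineCover.f W) ⟶ (gluingData hf Q).glued :=
  ((Q W).e _ (inW_piece (f := f) x W) (rest (pullback.fst (x ≫ f i) (S.directedAffineCover.f W)) t)).1 ≫ incl hf Q W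

theorem piece_compat {T : Scheme.{u}} {i : ι} (x : T ⟶ X i) (t : Lifts (D.obj i) x) {W W' : S.affineOpens}
    (h : W ⟶ W') :
    Scheme.Cover.trans (S.directedAffineCover.pullback₁ (x ≫ f i)) h ≫ piece hf Q x t W' = piece hf Q x t W := by
  let k := Scheme.Cover.trans (S.directedAffineCover.pullback₁ (x ≫ f i)) h
  have hk : k ≫ pullback.fst (x ≫ f i) (S.directedAffineCover.f W') =
      pullback.fst (x ≫ f i) (S.directedAffineCover.f W) := (pullback.lift_fst _ _ _).trans (Category.comp_id _)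
  have hy := (inW_piece (f := f) x W).mono (show W.1 ≤ W'.1 from leOfHom h)
  show k ≫ ((Q W').e _ (inW_piece (f := f) x W') _).1 ≫ incl hf Q W' = _
  erw [← Category.assoc, ← (Q W').nat k (inW_piece (f := f) x W') hy ((reassoc_of% hk) x) (rest (pullback.fst _ _) t)
    (rest (pullback.fst (x ≫ f i) (S.directedAffineCover.f W)) t) ((reassoc_of% hk) t.1).symm,
    ← cmp_spec hf (leOfHom h) (Q W) (Q W') _ (inW_piece (f := f) x W), Category.assoc, cmp_incl hf Q (leOfHom h)]
  rfl

/-- The glued value of a point. -/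
noncomputable def toGlued {T : Scheme.{u}} {i : ι} (x : T ⟶ X i) (t : Lifts (D.obj i) x) :
    T ⟶ (gluingData hf Q).glued :=
  Scheme.OpenCover.glueMorphismsOfLocallyDirected (S.directedAffineCover.pullback₁ (x ≫ f i)) (piece hf Q x t)
    (fun h => piece_compat hf Q x t h)

theorem fst_toGlued {T : Scheme.{u}} {i : ι} (x : T ⟶ X i) (t : Lifts (D.obj i) x) (W : S.affineOpens) :
    pullback.fst (x ≫ f i) (S.directedAffineCover.f W) ≫ toGlued hf Q x t = piece hf Q x t W :=
  Scheme.OpenCover.map_glueMorphismsOfLocallyDirected (S.directedAffineCover.pullback₁ (x ≫ f i)) _ _ W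

theorem toGlued_spec {T : Scheme.{u}} {i : ι} (x : T ⟶ X i) (t : Lifts (D.obj i) x) (W : S.affineOpens)
    (hx : InW W.1 (x ≫ f i)) : toGlued hf Q x t = ((Q W).e x hx t).1 ≫ incl hf Q W := by
  let a : T ⟶ W.1.toScheme := IsOpenImmersion.lift W.1.ι (x ≫ f i)
    (by rw [Scheme.Opens.range_ι]; rintro _ ⟨y, rfl⟩; exact hx y)
  let l : T ⟶ pullback (x ≫ f i) (S.directedAffineCover.f W) :=
    pullback.lift (𝟙 T) a (by rw [Category.id_comp]; exact (IsOpenImmersion.lift_fac _ _ _).symm)
  have hl : l ≫ pullback.fst (x ≫ f i) (S.directedAffineCover.f W) = 𝟙 T := pullback.lift_fst _ _ _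
  have h := congrArg (l ≫ ·) (fst_toGlued hf Q x t W)
  simp only [reassoc_of% hl] at h
  rw [h, piece, ← Category.assoc]
  erw [(Q W).nat l (inW_piece (f := f) x W) hx ((reassoc_of% hl) x) (rest (pullback.fst _ _) t) t ((reassoc_of% hl) t.1).symm]

theorem toGlued_nat {T T' : Scheme.{u}} (k : T' ⟶ T) {i : ι} {x : T ⟶ X i} {y : T' ⟶ X i} (hk : k ≫ x = y)
    (t : Lifts (D.obj i) x) (t' : Lifts (D.obj i) y) (ht : t'.1 = k ≫ t.1) :
    toGlued hf Q y t' = k ≫ toGlued hf Q x t := by
  refine Scheme.Cover.hom_ext (S.directedAffineCover.pullback₁ (y ≫ f i)) _ _ fun W => ?_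
  show pullback.fst (y ≫ f i) (S.directedAffineCover.f W) ≫ _ = pullback.fst _ _ ≫ _
  rw [fst_toGlued]
  let l : pullback (y ≫ f i) (S.directedAffineCover.f W) ⟶ pullback (x ≫ f i) (S.directedAffineCover.f W) :=
    pullback.map _ _ _ _ k (𝟙 _) (𝟙 _) (by rw [Category.comp_id, ← hk, Category.assoc]) (by simp)
  have hl : l ≫ pullback.fst _ _ = pullback.fst (y ≫ f i) (S.directedAffineCover.f W) ≫ k := pullback.lift_fst _ _ _
  rw [← reassoc_of% hl, fst_toGlued, piece, piece, ← Category.assoc]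
  erw [(Q W).nat l (inW_piece (f := f) x W) (inW_piece (f := f) y W) (by rw [(reassoc_of% hl) x, hk]) (rest (pullback.fst _ _) t)
    (rest (pullback.fst _ _) t') (by show pullback.fst _ _ ≫ t'.1 = l ≫ pullback.fst _ _ ≫ t.1; rw [(reassoc_of% hl) t.1, ht])]

theorem toGlued_π {T : Scheme.{u}} {i : ι} (x : T ⟶ X i) (t : Lifts (D.obj i) x) :
    toGlued hf Q x t ≫ (gluingData hf Q).toBase = x ≫ f i := by
  refine Scheme.Cover.hom_ext (S.directedAffineCover.pullback₁ (x ≫ f i)) _ _ fun W => ?_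
  show pullback.fst (x ≫ f i) (S.directedAffineCover.f W) ≫ _ = pullback.fst _ _ ≫ _
  rw [← Category.assoc, fst_toGlued, piece, Category.assoc, incl_toBase,
    ((Q W).e _ (inW_piece (f := f) x W) _).2, Category.assoc]

theorem toGlued_inv {T : Scheme.{u}} {i j : ι} {x : T ⟶ X i} {y : T ⟶ X j} (h : x ≫ f i = y ≫ f j)
    (t : Lifts (D.obj i) x) : toGlued hf Q y (D.φ x y h t) = toGlued hf Q x t := by
  refine Scheme.Cover.hom_ext (S.directedAffineCover.pullback₁ (y ≫ f j)) _ _ fun W => ?_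
  let k := pullback.fst (y ≫ f j) (S.directedAffineCover.f W)
  show k ≫ _ = k ≫ _
  have hy : InW W.1 ((k ≫ y) ≫ f j) := inW_piece (f := f) y W
  have hx : InW W.1 ((k ≫ x) ≫ f i) := by rw [Category.assoc, h, ← Category.assoc]; exact hy
  have h' : (k ≫ x) ≫ f i = (k ≫ y) ≫ f j := by rw [Category.assoc, h, Category.assoc]
  have e : D.φ (k ≫ x) (k ≫ y) h' (rest k t) = rest k (D.φ x y h t) :=
    Subtype.ext (D.φ_natural k x y h _ _ rfl rfl h' t _ rfl)
  rw [← toGlued_nat hf Q k rfl _ (rest k (D.φ x y h t)) rfl, ← toGlued_nat hf Q k rfl _ (rest k t) rfl,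
    toGlued_spec hf Q _ _ W hy, toGlued_spec hf Q _ _ W hx, ← e, (Q W).inv h' hx hy]

theorem incl_injective {T : Scheme.{u}} (W : S.affineOpens) {a b : T ⟶ (Q W).U}
    (h : a ≫ incl hf Q W = b ≫ incl hf Q W) : a = b := (cancel_mono (incl hf Q W)).1 h

theorem toGlued_injective {T : Scheme.{u}} {i : ι} (x : T ⟶ X i) (t t' : Lifts (D.obj i) x)
    (h : toGlued hf Q x t = toGlued hf Q x t') : t = t' := by
  refine Subtype.ext (Scheme.Cover.hom_ext (S.directedAffineCover.pullback₁ (x ≫ f i)) _ _ fun W => ?_)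
  have h1 := congrArg (pullback.fst (x ≫ f i) (S.directedAffineCover.f W) ≫ ·) h
  simp only [fst_toGlued, piece] at h1
  exact congrArg Subtype.val (((Q W).e _ _).injective (Subtype.ext (incl_injective hf Q W h1)))

theorem exists_toGlued_eq {T : Scheme.{u}} {i : ι} (x : T ⟶ X i) (τ : T ⟶ (gluingData hf Q).glued)
    (hτ : τ ≫ (gluingData hf Q).toBase = x ≫ f i) : ∃ t, toGlued hf Q x t = τ := by
  let 𝒯 := S.directedAffineCover.pullback₁ (x ≫ f i)
  have hcond : ∀ W, pullback.snd (x ≫ f i) (S.directedAffineCover.f W) ≫ S.directedAffineCover.f W =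
      (pullback.fst (x ≫ f i) (S.directedAffineCover.f W) ≫ τ) ≫ (gluingData hf Q).toBase := fun W => by
    rw [Category.assoc, hτ, ← pullback.condition]
  have hl : ∀ W, ∃ t : Lifts (D.obj i) (pullback.fst (x ≫ f i) (S.directedAffineCover.f W) ≫ x),
      toGlued hf Q _ t = pullback.fst (x ≫ f i) (S.directedAffineCover.f W) ≫ τ := fun W => by
    let τW := ((gluingData hf Q).isPullback_natTrans_ι_toBase W).lift _ _ (hcond W)
    have h1 : τW ≫ incl hf Q W = pullback.fst _ _ ≫ τ := IsPullback.lift_snd _ _ _ _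
    refine ⟨((Q W).e _ (inW_piece (f := f) x W)).symm ⟨τW, ?_⟩, ?_⟩
    · rw [← incl_toBase hf Q W, reassoc_of% h1, hτ, Category.assoc]
    · rw [toGlued_spec hf Q _ _ W (inW_piece (f := f) x W), Equiv.apply_symm_apply]
      exact h1
  choose t ht using hl
  have hcomp : ∀ {W W' : S.affineOpens} (h : W ⟶ W'), Scheme.Cover.trans 𝒯 h ≫ (t W').1 = (t W).1 := fun {W W'} h => by
    have hk : Scheme.Cover.trans 𝒯 h ≫ pullback.fst (x ≫ f i) (S.directedAffineCover.f W') =
        pullback.fst (x ≫ f i) (S.directedAffineCover.f W) := (pullback.lift_fst _ _ _).trans (Category.comp_id _)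
    let t' : Lifts (D.obj i) (pullback.fst (x ≫ f i) (S.directedAffineCover.f W) ≫ x) :=
      ⟨Scheme.Cover.trans 𝒯 h ≫ (t W').1, by rw [Category.assoc, (t W').2, reassoc_of% hk]⟩
    show t'.1 = _
    refine congrArg Subtype.val (toGlued_injective hf Q _ t' (t W) ?_)
    rw [toGlued_nat hf Q (Scheme.Cover.trans 𝒯 h) (by rw [reassoc_of% hk]) (t W') t' rfl, ht, ht, reassoc_of% hk]
  let m : T ⟶ (D.obj i).left := Scheme.OpenCover.glueMorphismsOfLocallyDirected 𝒯 (fun W => (t W).1) hcomp
  have hm : ∀ W, pullback.fst (x ≫ f i) (S.directedAffineCover.f W) ≫ m = (t W).1 := fun W =>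
    Scheme.OpenCover.map_glueMorphismsOfLocallyDirected 𝒯 _ _ W
  refine ⟨⟨m, Scheme.Cover.hom_ext 𝒯 _ _ fun W => ?_⟩, Scheme.Cover.hom_ext 𝒯 _ _ fun W => ?_⟩
  · show pullback.fst _ _ ≫ m ≫ _ = pullback.fst _ _ ≫ x
    rw [reassoc_of% (hm W)]
    exact (t W).2
  · show pullback.fst _ _ ≫ _ = pullback.fst _ _ ≫ τ
    rw [← ht W]
    exact (toGlued_nat hf Q (pullback.fst (x ≫ f i) (S.directedAffineCover.f W)) rfl _ (t W) (hm W).symm).symm

include hf Q in
/-- Effectivity is Zariski local on the base. -/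
theorem isEffective_of_affine : D.IsEffective := by
  refine isEffective
    { U := (gluingData hf Q).glued
      π := (gluingData hf Q).toBase
      mem := inW_top _
      e := fun {T i} x _ => Equiv.ofBijective (fun t => ⟨toGlued hf Q x t, toGlued_π hf Q x t⟩)
        ⟨fun t t' h => toGlued_injective hf Q x t t' (congrArg Subtype.val h), fun τ => ?_⟩
      nat := fun {T T'} k {i x} _ {y} _ hk t t' ht => toGlued_nat hf Q k hk t t' ht
      inv := fun {T i j x y} h _ _ t => toGlued_inv hf Q h t }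
  obtain ⟨t, ht⟩ := exists_toGlued_eq hf Q x τ.1 τ.2
  exact ⟨t, Subtype.ext ht⟩

end Groth.Agent.Desc19b.Quot
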