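import Groth.Agent.Desc19b.EffSepLqf
import Groth.Agent.GrpdLib.InvariantAffine
import Groth.Agent.QuasiAffLib.Basic

/-!
# Effective descent along finite locally free morphisms

A descent datum along a finite flat finitely presented surjection is effective if the (finite) orbit of every
point lies in an affine open (SGA 1 VIII 7.6).
-/

set_option autoImplicit false
set_option linter.style.haveILetI false
set_option backward.isDefEq.respectTransparency false
set_option backward.isDefEq.respectTransparency.types false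

universe u

open CategoryTheory CategoryTheory.Limits AlgebraicGeometry Desc
open Groth.Agent.Desc19b

noncomputable section

namespace Groth.Agent.Desc19b.EffFinLocFree

open EffSepLqf

variable {S : Scheme.{u}} {ι : Type u} {X : ι → Scheme.{u}} {f : ∀ i, X i ⟶ S} (D : SchDDFam f)

/-- Every orbit lies in an affine open. -/
def OrbitAffine : Prop :=
  ∀ (k l : ι) (v : (D.obj k).left), ∃ U : (D.obj l).left.Opens, IsAffineOpen U ∧
    ∀ z : Src D k l, pullback.fst ((D.obj k).hom ≫ f k) (f l) z = v →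
      (toTgt D k l ≫ pullback.snd _ _) z ∈ U

/-- Effectivity over an affine base for a one-member family. -/
theorem isEffective_of_orbitAffine [Subsingleton ι] [IsAffine S] [∀ i, IsAffine (X i)] [∀ i, Flat (f i)]
    [∀ i, LocallyOfFinitePresentation (f i)] [∀ i, IsFinite (f i)] (H : OrbitAffine D)
    (hf : Presieve.ofArrows X f ∈ Scheme.fpqcPrecoverage S) : D.IsEffective := by
  refine SubQuotGlue.isEffective hf fun k v => ?_
  obtain ⟨U, hU, hvU⟩ := H k k v
  let σ₀ := toTgt D k k ≫ pullback.snd (f k) ((D.obj k).hom ≫ f k)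
  let π := pullback.fst ((D.obj k).hom ≫ f k) (f k)
  haveI : IsFinite π := MorphismProperty.pullback_fst _ _ (inferInstance : IsFinite (f k))
  let bad : Set (D.obj k).left := π '' (σ₀ ⁻¹' (U : Set (D.obj k).left)ᶜ)
  have hbad : IsClosed bad := π.isClosedMap _ (U.isOpen.isClosed_compl.preimage σ₀.continuous)
  have hv : v ∈ badᶜ := by rintro ⟨z, hz, hzv⟩; exact hz (hvU z hzv)
  obtain ⟨_, ⟨(W : (D.obj k).left.Opens), hW, rfl⟩, hvW, hWb⟩ :=
    (D.obj k).left.isBasis_affineOpens.exists_subset_of_mem_open hv hbad.isOpen_compl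
  haveI : IsAffine W.toScheme := hW
  have hst : Stable D (sat D k W) := stable_sat D k W
  have hqa : ∀ i, Mor2.IsQuasiAffine ((restr D hst).obj i).hom := fun i => by
    obtain rfl := Subsingleton.elim k i
    show Mor2.IsQuasiAffine ((sat D k W k).ι ≫ (D.obj k).hom)
    have hP : CompactSpace ↥(P D k k W) :=
      QuasiCompact.compactSpace_of_compactSpace (pullback.fst ((W.ι ≫ (D.obj k).hom) ≫ f k) (f k))
    have hcpt : IsCompact (sat D k W k : Set (D.obj k).left) := isCompact_range (σ D k k W).continuous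
    have : CompactSpace (sat D k W k).toScheme := isCompact_iff_compactSpace.mp hcpt
    have hle : sat D k W k ≤ U := by
      rintro _ ⟨z, rfl⟩
      by_contra hn
      refine hWb (pullback.fst ((W.ι ≫ (D.obj k).hom) ≫ f k) (f k) z).2 ⟨incl D k k W z, ?_, ?_⟩
      · show σ₀ (incl D k k W z) ∉ U
        rw [← Scheme.Hom.comp_apply, show incl D k k W ≫ σ₀ = σ D k k W by rw [σ_eq, Category.assoc]]
        exact hn
      · show π (incl D k k W z) = _
        rw [← Scheme.Hom.comp_apply,
          show incl D k k W ≫ π = pullback.fst _ _ ≫ W.ι from pullback.lift_fst _ _ _]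
        rfl
    haveI : IsAffine U.toScheme := hU
    haveI : Scheme.IsQuasiAffine (sat D k W k).toScheme := QuasiAffLib.of_le hle hcpt
    refine ⟨quasiCompact_of_compactSpace _, fun V hV => ?_⟩
    haveI : QuasiCompact ((sat D k W k).ι ≫ (D.obj k).hom) := quasiCompact_of_compactSpace _
    haveI : CompactSpace (((sat D k W k).ι ≫ (D.obj k).hom) ⁻¹ᵁ V).toScheme :=
      isCompact_iff_compactSpace.mp (((sat D k W k).ι ≫ (D.obj k).hom).isCompact_preimage hV.isCompact)
    exact Scheme.IsQuasiAffine.of_isImmersion (((sat D k W k).ι ≫ (D.obj k).hom) ⁻¹ᵁ V).ι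
  have heff := isEffective_of_isQuasiAffine hf (restr D hst) hqa
  haveI : ∀ i, IsOpenImmersion ((restrι D hst).hom i).left := fun i =>
    inferInstanceAs (IsOpenImmersion (sat D k W i).ι)
  obtain ⟨h1, h2⟩ := SubQuot.exists_of_open_sub (restrι D hst) heff
  exact ⟨⟨_, h1, h2⟩, ⟨⟨v, le_sat D k W hvW⟩, rfl⟩⟩

variable {X S : Scheme.{u}} (p : X ⟶ S) (D : Desc.SchDD p)

/-- The one-member family of a morphism. -/
abbrev one : SchDDFam (fun _ : PUnit.{u + 1} => p) := (SchDDFam.ofSchDD p).obj D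

theorem schDD_effective_of_orbitAffine [Surjective p] [IsFinite p] [Flat p] [LocallyOfFinitePresentation p]
    (H : OrbitAffine (one p D)) : ∃ U : Over S, Nonempty ((Desc.toDD p).obj U ≅ D) := by
  let E := one p D
  have hf : Presieve.ofArrows (fun _ : PUnit.{u + 1} => X) (fun _ => p) ∈ Scheme.fpqcPrecoverage S := by
    rw [Presieve.ofArrows_pUnit]; exact p.singleton_mem_fpqcPrecoverage
  suffices E.IsEffective by
    obtain ⟨U, ⟨e⟩⟩ := this
    exact ⟨U, ⟨(SchDDFam.toSchDD p).mapIso e⟩⟩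
  refine Quot.isEffective_of_affine hf fun W => Classical.choice ?_
  let a : PUnit.{u + 1} → PUnit.{u + 1} := fun k => k
  let V : X.Opens := p ⁻¹ᵁ W.1
  have hV : IsAffineOpen V := W.2.preimage p
  let B : PUnit.{u + 1} → CommRingCat.{u} := fun _ => Γ(X, V)
  obtain ⟨b, hb⟩ : ∃ b : ∀ k, Γ(S, W.1) ⟶ B k, ∀ k, b k = p.appLE W.1 V le_rfl := ⟨fun _ => _, fun _ => rfl⟩
  let v : ∀ k, Spec (B k) ⟶ X := fun _ => hV.fromSpec
  have hv : ∀ k, v k ≫ p = Spec.map (b k) ≫ W.2.fromSpec := fun k => by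
    rw [hb]; exact (IsAffineOpen.SpecMap_appLE_fromSpec _ W.2 hV le_rfl).symm
  let D' := PullRefine.PD (α := a) (g := v) (u₀ := fun k => Spec.map (b k) ≫ W.2.fromSpec) hv E
  have hsq : ∀ k, IsPullback (v k) (Spec.map (b k)) p W.2.fromSpec := fun k =>
    (IsOpenImmersion.isPullback (Spec.map (b k)) (v k) W.2.fromSpec p (hv k) (by
      show p ⁻¹ᵁ W.2.fromSpec.opensRange = hV.fromSpec.opensRange
      rw [hV.opensRange_fromSpec, W.2.opensRange_fromSpec])).flip
  haveI : ∀ k, Flat (Spec.map (b k)) := fun k => MorphismProperty.of_isPullback (P := @Flat) (hsq k) ‹_›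
  haveI : ∀ k, IsFinite (Spec.map (b k)) := fun k => MorphismProperty.of_isPullback (P := @IsFinite) (hsq k) ‹_›
  haveI : ∀ k, LocallyOfFinitePresentation (Spec.map (b k)) := fun k =>
    MorphismProperty.of_isPullback (P := @LocallyOfFinitePresentation) (hsq k) ‹_›
  have hfl : ∀ k, (b k).hom.Flat := fun k => (HasRingHomProperty.Spec_iff (P := @Flat)).1 inferInstance
  haveI : ∀ k, Surjective (Spec.map (b k)) := fun k =>
    MorphismProperty.of_isPullback (P := @Surjective) (hsq k) ‹_›
  have hs : ∀ y, ∃ k z, Spec.map (b k) z = y := fun y => ⟨⟨⟩, (Spec.map (b ⟨⟩)).surjective y⟩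
  have H' : OrbitAffine (overAffine D') := by
    intro k l z
    let pr : (D'.obj l).left ⟶ D.obj.left := pullback.fst D.obj.hom (v l)
    haveI : IsOpenImmersion pr := inferInstanceAs (IsOpenImmersion (pullback.fst D.obj.hom hV.fromSpec))
    let prk : (D'.obj k).left ⟶ D.obj.left := pullback.fst D.obj.hom (v k)
    obtain ⟨U, hU, hzU⟩ := H ⟨⟩ ⟨⟩ (prk z)
    let π := pullback.fst (((overAffine D').obj k).hom ≫ Spec.map (b k)) (Spec.map (b l))
    let σ₀ := toTgt (overAffine D') k l ≫ pullback.snd (Spec.map (b k)) (((overAffine D').obj l).hom ≫ Spec.map (b l))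
    haveI : IsFinite π := MorphismProperty.pullback_fst _ _ inferInstance
    let F : Set D.obj.left := (σ₀ ≫ pr) '' (π ⁻¹' {z})
    have hF : F.Finite := (π.finite_preimage_singleton z).image _
    have hFU : ∀ w ∈ F, w ∈ U ∧ w ∈ pr.opensRange := by
      rintro _ ⟨w, hw, rfl⟩
      refine ⟨?_, ⟨σ₀ w, rfl⟩⟩
      let m : Src (overAffine D') k l ⟶ Src E ⟨⟩ ⟨⟩ :=
        pullback.map _ _ _ _ prk (v l) W.2.fromSpec (by
          show (pullback.snd D.obj.hom (v k) ≫ Spec.map (b k)) ≫ _ = prk ≫ D.obj.hom ≫ p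
          rw [pullback.condition_assoc, Category.assoc, hv]) (hv l).symm
      have hm1 : m ≫ pullback.fst _ _ = π ≫ prk := pullback.lift_fst _ _ _
      have hm2 : m ≫ pullback.snd _ _ = pullback.snd _ _ ≫ v l := pullback.lift_snd _ _ _
      have key : σ₀ ≫ pr = m ≫ toTgt E ⟨⟩ ⟨⟩ ≫ pullback.snd _ _ := by
        rw [toTgt_snd]
        simp only [σ₀, toTgt_snd]
        show ((overAffine D').φ _ _ _ _).1 ≫ pr = _
        simp only [overAffine, D', PullRefine.PD, pullDDFam, pullDDFamObj, Equiv.trans_apply, liftsPullbackEquiv,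
          Equiv.coe_fn_mk, Equiv.coe_fn_symm_mk, pr, a]
        refine (pullback.lift_fst _ _ _).trans ?_
        exact E.φ_natural m _ _ (src_cond E ⟨⟩ ⟨⟩) _ _
          (by rw [← Category.assoc, hm1]; exact (Category.assoc _ _ _).trans ((congrArg (π ≫ ·) pullback.condition).trans (Category.assoc _ _ _).symm))
          hm2 _ ⟨pullback.fst _ _, rfl⟩ _ hm1.symm
      rw [key, Scheme.Hom.comp_apply]
      refine hzU _ ?_
      rw [← Scheme.Hom.comp_apply, hm1, Scheme.Hom.comp_apply, show π w = z from hw]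
      rfl
    haveI : IsAffine U.toScheme := hU
    obtain ⟨r, hr, hrle⟩ := GrpdLib.exists_basicOpen_of_finite (U.ι ⁻¹' F)
      (hF.preimage U.ι.isOpenEmbedding.injective.injOn) (U.ι ⁻¹ᵁ pr.opensRange) fun w hw => (hFU _ hw).2
    let A : D.obj.left.Opens := U.ι ''ᵁ U.toScheme.basicOpen r
    have hA : IsAffineOpen A := ((isAffineOpen_top U.toScheme).basicOpen r).image_of_isOpenImmersion U.ι
    have hAle : A ≤ pr.opensRange := by
      rintro _ ⟨w, hw, rfl⟩
      exact hrle hw
    refine ⟨pr ⁻¹ᵁ A, hA.preimage_of_isOpenImmersion pr hAle, fun w hw => ?_⟩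
    have hwF : (σ₀ ≫ pr) w ∈ F := ⟨w, hw, rfl⟩
    refine ⟨⟨(σ₀ ≫ pr) w, (hFU _ hwF).1⟩, hr hwF, rfl⟩
  haveI : IsAffine W.1.toScheme := W.2
  obtain ⟨U, π, q, hq, hinv⟩ := hasAffineQuotient_of_isEffective W.2.fromSpec b D'
    (isEffective_of_orbitAffine (overAffine D') H' (Quot.finite_family_mem _ hs))
  let w : ∀ k, Spec (B k) ⟶ W.1.toScheme := fun k => Spec.map (b k) ≫ W.2.isoSpec.inv
  have hw : ∀ k, w k ≫ W.1.ι = v k ≫ p := fun k => by
    rw [hv, Category.assoc, IsAffineOpen.isoSpec_inv_ι]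
  have hmem := Quot.finite_family_mem w fun y => by
    obtain ⟨z, hz⟩ := (Spec.map (b ⟨⟩) ≫ W.2.isoSpec.inv).surjective y
    exact ⟨⟨⟩, z, hz⟩
  have hmemW : ∀ t, (π ≫ W.2.fromSpec) t ∈ W.1 := fun t => by
    have h : (π ≫ W.2.fromSpec) t ∈ Set.range W.2.fromSpec := ⟨π t, (Scheme.Hom.comp_apply _ _ _).symm⟩
    rw [W.2.range_fromSpec] at h
    exact h
  refine Quot.nonempty_of_pieces a v (fun s hs => Quot.cover_of_open w hw hmem s hs) (π ≫ W.2.fromSpec) hmemW q
    (fun k => ?_) (fun x y h t => ?_)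
  · rw [hv]
    exact ⟨⟨by rw [← Category.assoc, (hq k).w, Category.assoc]; rfl⟩,
      ⟨PullbackCone.IsLimit.mk _ (fun s => (hq k).lift s.fst s.snd
          (by rw [← cancel_mono W.2.fromSpec, Category.assoc, Category.assoc]; exact s.condition))
        (fun s => (hq k).lift_fst _ _ _) (fun s => (hq k).lift_snd _ _ _)
        (fun s m h1 h2 => (hq k).hom_ext (h1.trans ((hq k).lift_fst _ _ _).symm) (h2.trans ((hq k).lift_snd _ _ _).symm))⟩⟩
  · exact hinv x y (((congrArg (x ≫ ·) (hv _)).symm.trans h).trans (congrArg (y ≫ ·) (hv _))) t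

/-- The orbit of a point lies in the fibre. -/
theorem orbit_fibre (z : Src (one p D) ⟨⟩ ⟨⟩) :
    p (D.obj.hom ((toTgt (one p D) ⟨⟩ ⟨⟩ ≫ pullback.snd _ _) z)) =
      p (D.obj.hom (pullback.fst (D.obj.hom ≫ p) p z)) := by
  have h1 := congrArg (fun φ : Src (one p D) ⟨⟩ ⟨⟩ ⟶ X => p (φ z)) (toTgt_snd_hom (one p D) ⟨⟩ ⟨⟩)
  have h2 := congrArg (fun φ : pullback (D.obj.hom ≫ p) p ⟶ S => φ z) (pullback.condition (f := D.obj.hom ≫ p) (g := p))
  exact h1.trans h2.symm

theorem orbit_finite [IsFinite p] (v : D.obj.left) :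
    ((toTgt (one p D) ⟨⟩ ⟨⟩ ≫ pullback.snd _ _) '' (pullback.fst (D.obj.hom ≫ p) p ⁻¹' {v})).Finite := by
  haveI : IsFinite (pullback.fst (D.obj.hom ≫ p) p) := MorphismProperty.pullback_fst _ _ ‹_›
  exact ((pullback.fst (D.obj.hom ≫ p) p).finite_preimage_singleton v).image _

theorem orbit_nonempty (v : D.obj.left) : (pullback.fst (D.obj.hom ≫ p) p ⁻¹' {v}).Nonempty := by
  obtain ⟨z, hz, -⟩ := Scheme.Pullback.exists_preimage_pullback (f := D.obj.hom ≫ p) (g := p) v (D.obj.hom v)
    (Scheme.Hom.comp_apply _ _ _)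
  exact ⟨z, hz⟩

/-- Effective descent when every finite subset of a fibre lies in an affine open. -/
theorem schDD_effective_of_finite_in_affine [Surjective p] [IsFinite p] [Flat p] [LocallyOfFinitePresentation p]
    (hV : ∀ (y : S) (s : Finset ↥D.obj.left), (∀ v ∈ s, p (D.obj.hom v) = y) →
      ∃ U : D.obj.left.Opens, IsAffineOpen U ∧ ∀ v ∈ s, v ∈ U) :
    ∃ U : Over S, Nonempty ((Desc.toDD p).obj U ≅ D) := by
  refine schDD_effective_of_orbitAffine p D fun _ _ v => ?_
  obtain ⟨U, hU, h⟩ := hV (p (D.obj.hom v)) (orbit_finite p D v).toFinset fun w hw => by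
    obtain ⟨z, hz, rfl⟩ := (orbit_finite p D v).mem_toFinset.1 hw
    rw [orbit_fibre, show pullback.fst (D.obj.hom ≫ p) p z = v from hz]
  exact ⟨U, hU, fun z hz => h _ ((orbit_finite p D v).mem_toFinset.2 ⟨z, hz, rfl⟩)⟩

/-- Orbits are bounded by the geometric fibres. -/
theorem orbit_encard_le [IsFinite p] (d : ℕ)
    (hfib : ∀ (k : Type u) [Field k] [IsAlgClosed k] (y : Spec (CommRingCat.of k) ⟶ S),
      Set.encard {x : Spec (CommRingCat.of k) ⟶ X | x ≫ p = y} ≤ d) (v : D.obj.left) :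
    (pullback.fst (D.obj.hom ≫ p) p ⁻¹' {v}).encard ≤ d := by
  obtain ⟨K, _, _, _, -⟩ : ∃ (K : Type u) (_ : Field K) (_ : IsAlgClosed K) (_ : Algebra (D.obj.left.residueField v) K), True :=
    ⟨AlgebraicClosure (D.obj.left.residueField v), inferInstance, inferInstance, inferInstance, trivial⟩
  let g : Spec (CommRingCat.of K) ⟶ D.obj.left :=
    Spec.map (CommRingCat.ofHom (algebraMap (D.obj.left.residueField v) K)) ≫ D.obj.left.fromSpecResidueField v
  let pt : Spec (CommRingCat.of K) := IsLocalRing.closedPoint K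
  have hg : g pt = v := by
    simp only [g, Scheme.Hom.comp_apply]
    exact Scheme.fromSpecResidueField_apply _ _
  let y := g ≫ D.obj.hom ≫ p
  let F := {x : Spec (CommRingCat.of K) ⟶ X | x ≫ p = y}
  let toPt : F → ↥(pullback (D.obj.hom ≫ p) p) := fun x => pullback.lift g x.1 x.2.symm pt
  have hsub : pullback.fst (D.obj.hom ≫ p) p ⁻¹' {v} ⊆ Set.range toPt := by
    intro z hz
    obtain ⟨w, hw, -⟩ := Scheme.Pullback.exists_preimage_pullback (f := pullback.fst (D.obj.hom ≫ p) p) (g := g)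
      z pt ((show pullback.fst (D.obj.hom ≫ p) p z = v from hz).trans hg.symm)
    let q := pullback.snd (pullback.fst (D.obj.hom ≫ p) p) g
    haveI : IsFinite q := MorphismProperty.pullback_snd _ _ (MorphismProperty.pullback_fst _ _ ‹_›)
    have hfin : (Set.univ : Set ↥(pullback (pullback.fst (D.obj.hom ≫ p) p) g)).Finite :=
      (q.finite_preimage_singleton pt).subset fun x _ => Subsingleton.elim (q x) pt
    haveI : JacobsonSpace ↥(pullback (pullback.fst (D.obj.hom ≫ p) p) g) := LocallyOfFiniteType.jacobsonSpace q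
    haveI : Finite ↥(pullback (pullback.fst (D.obj.hom ≫ p) p) g) := Set.finite_univ_iff.1 hfin
    let s := pointOfClosedPoint q w (isClosed_singleton)
    have hs : s ≫ q = 𝟙 _ := pointOfClosedPoint_comp _ _ _
    have hspt : s pt = w := pointOfClosedPoint_apply _ _ _ _
    let a := s ≫ pullback.fst _ g
    have ha : a ≫ pullback.fst (D.obj.hom ≫ p) p = g := by
      simp only [a, Category.assoc, pullback.condition]
      rw [← Category.assoc, hs, Category.id_comp]
    refine ⟨⟨a ≫ pullback.snd _ _, ?_⟩, ?_⟩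
    · show _ = g ≫ D.obj.hom ≫ p
      rw [Category.assoc, ← pullback.condition, ← Category.assoc a, ha]
    · show pullback.lift g (a ≫ pullback.snd _ _) _ pt = z
      rw [show pullback.lift g (a ≫ pullback.snd _ _) _ = a from pullback.hom_ext
        ((pullback.lift_fst _ _ _).trans ha.symm) (pullback.lift_snd _ _ _), ← hw, ← hspt,
        ← Scheme.Hom.comp_apply]
  refine (Set.encard_le_encard hsub).trans ((le_of_eq_of_le (congrArg _ Set.image_univ.symm)
    (Set.encard_image_le toPt Set.univ)).trans ?_)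
  rw [Set.encard_univ]
  exact hfib K y

/-- Effective descent when `d` points of a fibre always lie in an affine open and geometric fibres have at most `d`
points. -/
theorem schDD_effective_of_bounded [Surjective p] [IsFinite p] [Flat p] [LocallyOfFinitePresentation p] (d : ℕ)
    (hfib : ∀ (k : Type u) [Field k] [IsAlgClosed k] (y : Spec (CommRingCat.of k) ⟶ S),
      Set.encard {x : Spec (CommRingCat.of k) ⟶ X | x ≫ p = y} ≤ d)
    (hV : ∀ (y : S) (v : Fin d → ↥D.obj.left), (∀ i, p (D.obj.hom (v i)) = y) →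
      ∃ U : D.obj.left.Opens, IsAffineOpen U ∧ ∀ i, v i ∈ U) :
    ∃ U : Over S, Nonempty ((Desc.toDD p).obj U ≅ D) := by
  refine schDD_effective_of_orbitAffine p D fun _ _ v => ?_
  let O := pullback.fst (D.obj.hom ≫ p) p ⁻¹' {v}
  have hle := orbit_encard_le p D d hfib v
  have hOfin : O.Finite := Set.finite_of_encard_le_coe hle
  haveI := hOfin.fintype
  haveI : Nonempty O := (orbit_nonempty p D v).to_subtype
  obtain ⟨e⟩ : Nonempty (O ↪ Fin d) := Function.Embedding.nonempty_of_card_le (by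
    rw [Fintype.card_fin, ← Set.toFinset_card]
    exact_mod_cast (O.encard_eq_coe_toFinset_card.symm.le.trans hle))
  obtain ⟨U, hU, h⟩ := hV (p (D.obj.hom v))
    (fun i => (toTgt (one p D) ⟨⟩ ⟨⟩ ≫ pullback.snd _ _) (Function.invFun e i).1) fun i => by
      rw [orbit_fibre, show pullback.fst (D.obj.hom ≫ p) p (Function.invFun e i).1 = v from (Function.invFun e i).2]
  refine ⟨U, hU, fun z hz => ?_⟩
  have := h (e ⟨z, hz⟩)
  rwa [Function.leftInverse_invFun e.injective] at this

end Groth.Agent.Desc19b.EffFinLocFree
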