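import Groth.Prelude.Def_DescFam
import Mathlib.AlgebraicGeometry.Sites.Fpqc
import Mathlib.AlgebraicGeometry.Morphisms.Flat

/-! Pulling back descent data along a refinement of families with the same target. -/

set_option autoImplicit false
set_option linter.style.haveILetI false
set_option backward.isDefEq.respectTransparency false
set_option backward.isDefEq.respectTransparency.types false

universe u w w'

open CategoryTheory CategoryTheory.Limits AlgebraicGeometry Opposite Desc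

namespace Groth.Agent.Desc19b.PullRefine

variable {S : Scheme.{u}} {κ : Type w} {V : κ → Scheme.{u}} {v : ∀ j, V j ⟶ S}
variable {ι : Type w'} {U : ι → Scheme.{u}} {u₀ : ∀ i, U i ⟶ S}
variable {α : ι → κ} {g : ∀ i, U i ⟶ V (α i)} (w : ∀ i, g i ≫ v (α i) = u₀ i)

/-- Maps out of schemes over a member of the coarse family are detected where they factor through the fine one. -/
def Sep (v : ∀ j, V j ⟶ S) (u₀ : ∀ i, U i ⟶ S) : Prop :=
  ∀ (j : κ) {T Z : Scheme.{u}} (x : T ⟶ V j) (m n : T ⟶ Z),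
    (∀ (T' : Scheme.{u}) (h : T' ⟶ T) (i : ι) (r : T' ⟶ U i), (h ≫ x) ≫ v j = r ≫ u₀ i → h ≫ m = h ≫ n) → m = n

/-- Maps out of schemes over a member of the coarse family glue. -/
def Glue (v : ∀ j, V j ⟶ S) (u₀ : ∀ i, U i ⟶ S) : Prop :=
  ∀ (j : κ) {T Z : Scheme.{u}} (x : T ⟶ V j)
    (F : ∀ (T' : Scheme.{u}) (h : T' ⟶ T) (i : ι) (r : T' ⟶ U i), (h ≫ x) ≫ v j = r ≫ u₀ i → (T' ⟶ Z)),
    (∀ (T' T'' : Scheme.{u}) (k : T'' ⟶ T') (h : T' ⟶ T) (i : ι) (r : T' ⟶ U i) (e : (h ≫ x) ≫ v j = r ≫ u₀ i)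
      (i' : ι) (r' : T'' ⟶ U i') (e' : ((k ≫ h) ≫ x) ≫ v j = r' ≫ u₀ i'), k ≫ F T' h i r e = F T'' (k ≫ h) i' r' e') →
    ∃ m : T ⟶ Z, ∀ T' h i r e, h ≫ m = F T' h i r e

theorem lifts_ext {Y : Scheme.{u}} {O : Over Y} {T : Scheme.{u}} {x y : T ⟶ Y} (v₁ : Lifts O x) (v₂ : Lifts O y)
    (h : v₁.1 = v₂.1) : x = y := by rw [← v₁.2, ← v₂.2, h]

abbrev cst {Y : Scheme.{u}} {O : Over Y} {T : Scheme.{u}} {x y : T ⟶ Y} (h : x = y) (v₁ : Lifts O x) : Lifts O y :=
  ⟨v₁.1, v₁.2.trans h⟩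

variable {D D' : SchDDFam v}

/-- Pullback of a datum to the fine family. -/
noncomputable abbrev PD (D : SchDDFam v) : SchDDFam u₀ :=
  (pullDDFam (f := v) (f' := u₀) (α := α) (p := 𝟙 S) (p' := g)
      (fun i => (w i).trans (Category.comp_id (u₀ i)).symm)).obj D

section
variable (b : PD w D ⟶ PD w D')

/-- A morphism of pulled back data, applied to a point over a point of the fine family. -/
noncomputable def pushB
    {T : Scheme.{u}} {i : ι} {r : T ⟶ U i} (t : Lifts (D.obj (α i)) (r ≫ g i)) : Lifts (D'.obj (α i)) (r ≫ g i) :=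
  liftsPullbackEquiv (D'.obj (α i)) (g i) r (b.push ((liftsPullbackEquiv (D.obj (α i)) (g i) r).symm t))

theorem pushB_nat {T T' : Scheme.{u}} (k : T' ⟶ T) {i : ι} {r : T ⟶ U i} (t : Lifts (D.obj (α i)) (r ≫ g i))
    (t' : Lifts (D.obj (α i)) ((k ≫ r) ≫ g i)) (ht : t'.1 = k ≫ t.1) :
    (pushB w b t').1 = k ≫ (pushB w b t).1 := by
  have e : ((liftsPullbackEquiv (D.obj (α i)) (g i) (k ≫ r)).symm t').1 =
      k ≫ ((liftsPullbackEquiv (D.obj (α i)) (g i) r).symm t).1 := by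
    apply pullback.hom_ext <;> simp [liftsPullbackEquiv, ht]
  simp only [pushB, liftsPullbackEquiv, Equiv.coe_fn_mk, SchDDFam.Hom.push] at e ⊢
  erw [e]
  simp only [Category.assoc]

theorem pushB_comm {T : Scheme.{u}} {i i' : ι} {r : T ⟶ U i} {r' : T ⟶ U i'} (hrr : r ≫ u₀ i = r' ≫ u₀ i')
    (e : (r ≫ g i) ≫ v (α i) = (r' ≫ g i') ≫ v (α i')) (t : Lifts (D.obj (α i)) (r ≫ g i)) :
    pushB w b (D.φ _ _ e t) = D'.φ _ _ e (pushB w b t) := by
  have h := b.comm r r' hrr ((liftsPullbackEquiv (D.obj (α i)) (g i) r).symm t)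
    (b.push ((liftsPullbackEquiv (D.obj (α i)) (g i) r).symm t)) rfl
  apply Subtype.ext
  have h2 := congrArg (· ≫ pullback.fst (D'.obj (α i')).hom (g i')) h
  simp only [PD, pullDDFam, pullDDFamObj, Equiv.trans_apply] at h2
  simp only [pushB, SchDDFam.Hom.push, liftsPullbackEquiv, Equiv.coe_fn_mk, Equiv.coe_fn_symm_mk] at h2 ⊢
  erw [pullback.lift_fst] at h2
  have et : (⟨pullback.lift t.1 r t.2 ≫ pullback.fst (D.obj (α i)).hom (g i),
      by erw [pullback.lift_fst]; exact t.2⟩ : Lifts (D.obj (α i)) (r ≫ g i)) = t := Subtype.ext (pullback.lift_fst _ _ _)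
  rw [et] at h2
  exact h2.symm

/-- The value forced on a point by a morphism of pulled back data. -/
noncomputable def val {T : Scheme.{u}} {j : κ} {x : T ⟶ V j} {i : ι} (r : T ⟶ U i)
    (e : x ≫ v j = r ≫ u₀ i) (t : Lifts (D.obj j) x) : Lifts (D'.obj j) x :=
  D'.φ (r ≫ g i) x (by rw [Category.assoc, w, e])
    (pushB w b (D.φ x (r ≫ g i) (by rw [Category.assoc, w, e]) t))

theorem val_indep {T : Scheme.{u}} {j : κ} {x : T ⟶ V j} {i i' : ι} (r : T ⟶ U i) (e : x ≫ v j = r ≫ u₀ i)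
    (r' : T ⟶ U i') (e' : x ≫ v j = r' ≫ u₀ i') (t : Lifts (D.obj j) x) :
    val w b r e t = val w b r' e' t := by
  have hrr : r ≫ u₀ i = r' ≫ u₀ i' := e.symm.trans e'
  have hg : (r ≫ g i) ≫ v (α i) = (r' ≫ g i') ≫ v (α i') := by rw [Category.assoc, Category.assoc, w, w, hrr]
  have key := pushB_comm w b hrr hg (D.φ x (r ≫ g i) (by rw [Category.assoc, w, e]) t)
  rw [D.φ_comp] at key
  simp only [val]
  rw [key, D'.φ_comp]

theorem val_nat {T T' : Scheme.{u}} (k : T' ⟶ T) {j : κ} {x : T ⟶ V j} {i : ι} (r : T ⟶ U i)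
    (e : x ≫ v j = r ≫ u₀ i) (t : Lifts (D.obj j) x) {y : T' ⟶ V j} (hy : k ≫ x = y) (e' : y ≫ v j = (k ≫ r) ≫ u₀ i)
    (t' : Lifts (D.obj j) y) (ht : t'.1 = k ≫ t.1) :
    (val w b (k ≫ r) e' t').1 = k ≫ (val w b r e t).1 := by
  subst hy
  refine D'.φ_natural k _ _ _ _ _ (Category.assoc _ _ _).symm rfl _ _ _ ?_
  refine pushB_nat w b k _ _ ?_
  exact D.φ_natural k _ _ _ _ _ rfl (Category.assoc _ _ _).symm _ _ _ ht

end

theorem faithful (hs : Sep v u₀) :
    (pullDDFam (f := v) (f' := u₀) (α := α) (p := 𝟙 S) (p' := g)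
      (fun i => (w i).trans (Category.comp_id (u₀ i)).symm)).Faithful := by
  refine ⟨fun {D D'} a a' haa => SchDDFam.hom_ext (funext fun j => Over.OverMorphism.ext ?_)⟩
  refine hs j (D.obj j).hom _ _ fun T h i r e => ?_
  let t : Lifts (D.obj j) (h ≫ (D.obj j).hom) := ⟨h, rfl⟩
  have he : (h ≫ (D.obj j).hom) ≫ v j = (r ≫ g i) ≫ v (α i) := by rw [e, Category.assoc, w]
  let t' := D.φ _ _ he t
  have h1 := a.comm _ _ he t (a.push t) rfl
  have h2 := a'.comm _ _ he t (a'.push t) rfl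
  have hlift : (pullback.lift t'.1 r t'.2 : T ⟶ pullback (D.obj (α i)).hom (g i)) ≫ pullback.fst _ _ = t'.1 :=
    pullback.lift_fst _ _ _
  have h3 : t'.1 ≫ (a.hom (α i)).left = t'.1 ≫ (a'.hom (α i)).left := by
    have h4 := congrArg (fun c => (SchDDFam.Hom.hom c i).left ≫ pullback.fst (D'.obj (α i)).hom (g i)) haa
    simp only [pullDDFam, pullback.map] at h4
    erw [pullback.lift_fst, pullback.lift_fst] at h4
    rw [← hlift, Category.assoc, Category.assoc]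
    exact congrArg (_ ≫ ·) h4
  have h5 : D'.φ _ _ he (a.push t) = D'.φ _ _ he (a'.push t) := Subtype.ext (h1.trans (h3.trans h2.symm))
  exact congrArg Subtype.val ((D'.φ _ _ he).injective h5)

theorem full (hs : Sep v u₀) (hgl : Glue v u₀) :
    (pullDDFam (f := v) (f' := u₀) (α := α) (p := 𝟙 S) (p' := g)
      (fun i => (w i).trans (Category.comp_id (u₀ i)).symm)).Full := by
  refine ⟨fun {D D'} b => ?_⟩
  have hglue : ∀ j, ∃ m : (D.obj j).left ⟶ (D'.obj j).left, ∀ T' h i r e,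
      h ≫ m = (val w b r e (⟨h, rfl⟩ : Lifts (D.obj j) (h ≫ (D.obj j).hom))).1 := fun j => by
    refine hgl j (D.obj j).hom (fun T' h i r e => (val w b r e (⟨h, rfl⟩ : Lifts (D.obj j) (h ≫ (D.obj j).hom))).1) ?_
    intro T' T'' k h i r e i' r' e'
    rw [val_indep w b r' e' (k ≫ r) (by rw [Category.assoc k r, ← e]; simp only [Category.assoc])]
    exact (val_nat w b k r e ⟨h, rfl⟩ (Category.assoc _ _ _).symm _ ⟨k ≫ h, rfl⟩ rfl).symm
  choose m hm using hglue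
  have spec : ∀ {T : Scheme.{u}} {j : κ} {x : T ⟶ V j} {i : ι} (r : T ⟶ U i) (e : x ≫ v j = r ≫ u₀ i)
      (t : Lifts (D.obj j) x), t.1 ≫ m j = (val w b r e t).1 := fun {T j x i} r e t => by
    obtain ⟨t1, rfl⟩ := t
    exact hm j T t1 i r e
  have hover : ∀ j, m j ≫ (D'.obj j).hom = (D.obj j).hom := fun j => by
    refine hs j (D.obj j).hom _ _ fun T h i r e => ?_
    rw [← Category.assoc, hm j T h i r e]
    exact (val w b r e (⟨h, rfl⟩ : Lifts (D.obj j) (h ≫ (D.obj j).hom))).2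
  refine ⟨⟨fun j => Over.homMk (m j) (hover j), ?_⟩, ?_⟩
  · intro T j₀ j₁ x₀ x₁ hx t t' ht
    refine hs j₀ x₀ _ _ fun T' h i r e => ?_
    have hx' : (h ≫ x₀) ≫ v j₀ = (h ≫ x₁) ≫ v j₁ := by rw [Category.assoc, hx, ← Category.assoc]
    let s : Lifts (D.obj j₀) (h ≫ x₀) := ⟨h ≫ t.1, by rw [Category.assoc, t.2]⟩
    let s' : Lifts (D'.obj j₀) (h ≫ x₀) := ⟨h ≫ t'.1, by rw [Category.assoc, t'.2]⟩
    rw [← D'.φ_natural h x₀ x₁ hx (h ≫ x₀) (h ≫ x₁) rfl rfl hx' t' s' rfl, ← Category.assoc,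
      ← D.φ_natural h x₀ x₁ hx (h ≫ x₀) (h ≫ x₁) rfl rfl hx' t s rfl]
    have e1 : (h ≫ x₁) ≫ v j₁ = r ≫ u₀ i := hx'.symm.trans e
    have key : D'.φ _ _ hx' (val w b r e s) = val w b r e1 (D.φ _ _ hx' s) := by
      simp only [val]
      rw [D'.φ_comp, D.φ_comp]
    have hs' : s' = val w b r e s := Subtype.ext ((congrArg (h ≫ ·) ht).trans ((Category.assoc _ _ _).symm.trans (spec r e s)))
    rw [hs', key]
    exact (spec r e1 _).symm
  · refine SchDDFam.hom_ext (funext fun i => Over.OverMorphism.ext ?_)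
    have e : (pullback.snd (D.obj (α i)).hom (g i) ≫ g i) ≫ v (α i) = pullback.snd (D.obj (α i)).hom (g i) ≫ u₀ i := by
      rw [Category.assoc, w]
    let t : Lifts (D.obj (α i)) (pullback.snd (D.obj (α i)).hom (g i) ≫ g i) :=
      ⟨pullback.fst (D.obj (α i)).hom (g i), pullback.condition⟩
    have h1 := spec _ e t
    simp only [val, D.φ_self, D'.φ_self] at h1
    have h2 : (liftsPullbackEquiv (D.obj (α i)) (g i) (pullback.snd (D.obj (α i)).hom (g i))).symm t =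
        ⟨𝟙 _, Category.id_comp _⟩ := by
      apply Subtype.ext
      apply pullback.hom_ext
      · simp [liftsPullbackEquiv, t]
      · simp [liftsPullbackEquiv]
    simp only [pushB, h2, SchDDFam.Hom.push] at h1
    refine pullback.hom_ext ?_ ?_
    · simp only [pullDDFam, pullback.map]
      erw [pullback.lift_fst]
      refine h1.trans ?_
      simp [liftsPullbackEquiv]
    · simp only [pullDDFam, pullback.map]
      erw [pullback.lift_snd, Category.comp_id]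
      exact (Over.w (b.hom i)).symm

theorem sep_glue_of_cover {σ : κ → Type u} {W : ∀ j, σ j → Scheme.{u}} (q : ∀ j k, W j k ⟶ V j)
    (idx : ∀ j, σ j → ι) (r₀ : ∀ j k, W j k ⟶ U (idx j k)) (hc : ∀ j k, q j k ≫ v j = r₀ j k ≫ u₀ (idx j k))
    (hcov : ∀ j, Presieve.ofArrows (W j) (q j) ∈ Scheme.fpqcPrecoverage (V j)) :
    Sep v u₀ ∧ Glue v u₀ := by
  have hshf : ∀ (j : κ) (T Z : Scheme.{u}) (x : T ⟶ V j), Presieve.IsSheafFor (yoneda.obj Z)
      (Presieve.ofArrows (fun k => pullback (q j k) x) (fun k => pullback.snd (q j k) x)) := fun j T Z x =>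
    (GrothendieckTopology.Subcanonical.isSheaf_of_isRepresentable (J := Scheme.fpqcTopology) (yoneda.obj Z)).isSheafFor _
      (Precoverage.generate_mem_toGrothendieck
        (Precoverage.mem_coverings_of_isPullback (q j) (hcov j) x _ (fun k => pullback.fst (q j k) x)
          fun k => (IsPullback.of_hasPullback (q j k) x).flip))
  have hcomm : ∀ (j : κ) (T : Scheme.{u}) (x : T ⟶ V j) (k : σ j),
      (pullback.snd (q j k) x ≫ x) ≫ v j = (pullback.fst (q j k) x ≫ r₀ j k) ≫ u₀ (idx j k) := fun j T x k => by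
    rw [← pullback.condition, Category.assoc, Category.assoc, hc]
  constructor
  · intro j T Z x m n h
    obtain ⟨t, -, huniq⟩ := (Presieve.isSheafFor_arrows_iff _ _).1 (hshf j T Z x)
      (fun k => pullback.snd (q j k) x ≫ m) fun k k' W' g₁ g₂ e => by
        show g₁ ≫ pullback.snd (q j k) x ≫ m = g₂ ≫ pullback.snd (q j k') x ≫ m
        rw [reassoc_of% e]
    exact (huniq m fun k => rfl).trans (huniq n fun k => (h _ _ _ _ (hcomm j T x k)).symm).symm
  · intro j T Z x F hF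
    obtain ⟨t, ht, -⟩ := (Presieve.isSheafFor_arrows_iff _ _).1 (hshf j T Z x)
      (fun k => F _ (pullback.snd (q j k) x) _ (pullback.fst (q j k) x ≫ r₀ j k) (hcomm j T x k))
      fun k k' W' g₁ g₂ e => by
        show g₁ ≫ F _ _ _ _ _ = g₂ ≫ F _ _ _ _ _
        have e2 : ((g₁ ≫ pullback.snd (q j k) x) ≫ x) ≫ v j =
            (g₁ ≫ pullback.fst (q j k) x ≫ r₀ j k) ≫ u₀ (idx j k) := by
          simp only [Category.assoc] at *
          exact congrArg (g₁ ≫ ·) (by simpa only [Category.assoc] using hcomm j T x k)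
        rw [hF _ _ g₁ _ _ _ _ _ _ e2, hF _ _ g₂ _ _ _ _ (idx j k) (g₁ ≫ pullback.fst (q j k) x ≫ r₀ j k) (by rw [← e]; exact e2)]
        congr 1
    refine ⟨t, fun T' h i r e => ?_⟩
    obtain ⟨s, -, huniq⟩ := (Presieve.isSheafFor_arrows_iff _ _).1 (hshf j T' Z (h ≫ x))
      (fun k => pullback.snd (q j k) (h ≫ x) ≫ F T' h i r e) fun k k' W' g₁ g₂ e' => by
        show g₁ ≫ pullback.snd _ _ ≫ _ = g₂ ≫ pullback.snd _ _ ≫ _
        rw [reassoc_of% e']
    refine (huniq _ fun k => ?_).trans (huniq _ fun k => rfl).symm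
    show pullback.snd (q j k) (h ≫ x) ≫ h ≫ t = pullback.snd (q j k) (h ≫ x) ≫ F T' h i r e
    let l : pullback (q j k) (h ≫ x) ⟶ pullback (q j k) x :=
      pullback.lift (pullback.fst _ _) (pullback.snd _ _ ≫ h) (by rw [Category.assoc]; exact pullback.condition)
    have hl : l ≫ pullback.snd (q j k) x = pullback.snd _ _ ≫ h := pullback.lift_snd _ _ _
    have hl2 := reassoc_of% hl
    rw [← hl2 t]
    have hlt : l ≫ pullback.snd (q j k) x ≫ t = l ≫ F _ (pullback.snd (q j k) x) _ _ (hcomm j T x k) :=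
      congrArg (l ≫ ·) (ht k)
    have e3 : ((l ≫ pullback.snd (q j k) x) ≫ x) ≫ v j = (pullback.snd (q j k) (h ≫ x) ≫ r) ≫ u₀ i := by
      rw [hl]; simp only [Category.assoc] at e ⊢; rw [e]
    rw [hlt, hF _ _ l _ _ _ _ i (pullback.snd (q j k) (h ≫ x) ≫ r) e3,
      hF _ _ (pullback.snd (q j k) (h ≫ x)) h i r e i (pullback.snd (q j k) (h ≫ x) ≫ r) (by rw [← hl]; exact e3)]
    congr 1

theorem sep_of_flat_surjective {κ' : Type w} {V' : κ' → Scheme.{u}} {v' : ∀ j, V' j ⟶ S} (i : ι) [Flat (u₀ i)]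
    [Surjective (u₀ i)] : Sep v' u₀ := by
  intro j T Z x m n h
  haveI : Flat (pullback.fst (x ≫ v' j) (u₀ i)) := MorphismProperty.pullback_fst (P := @Flat) _ _ inferInstance
  haveI : Surjective (pullback.fst (x ≫ v' j) (u₀ i)) :=
    ⟨Set.range_eq_univ.1 (by rw [Scheme.Pullback.range_fst, (u₀ i).surjective.range_eq, Set.preimage_univ])⟩
  haveI := Flat.epi_of_flat_of_surjective (pullback.fst (x ≫ v' j) (u₀ i))
  refine (cancel_epi (pullback.fst (x ≫ v' j) (u₀ i))).1 (h _ _ i (pullback.snd _ _) ?_)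
  rw [Category.assoc]
  exact pullback.condition

theorem sep_glue_of_sections (j2i : κ → ι) (s : ∀ j, V j ⟶ U (j2i j)) (hs : ∀ j, s j ≫ u₀ (j2i j) = v j) :
    Sep v u₀ ∧ Glue v u₀ := by
  refine ⟨fun j T Z x m n h => ?_, fun j T Z x F hF => ?_⟩
  · simpa using h T (𝟙 T) (j2i j) (x ≫ s j) (by rw [Category.id_comp, Category.assoc, hs])
  · refine ⟨F T (𝟙 T) (j2i j) (x ≫ s j) (by rw [Category.id_comp, Category.assoc, hs]), fun T' h i r e => ?_⟩
    rw [hF _ _ h (𝟙 T) _ _ _ i r (by rw [Category.comp_id]; exact e)]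
    congr 1


end Groth.Agent.Desc19b.PullRefine

namespace Groth.Agent.Desc19b.PullRefine

variable {S : Scheme.{u}} {ι : Type w'} {U : ι → Scheme.{u}} {u₀ : ∀ i, U i ⟶ S}

/-- A morphism of descent data from a natural map on points. -/
theorem exists_hom_of_lifts {D₁ D₂ : SchDDFam u₀}
    (e : ∀ (T : Scheme.{u}) (i : ι) (x : T ⟶ U i), Lifts (D₁.obj i) x → Lifts (D₂.obj i) x)
    (hnat : ∀ (T T' : Scheme.{u}) (k : T' ⟶ T) (i : ι) (x : T ⟶ U i) (y : T' ⟶ U i) (_ : k ≫ x = y)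
      (t : Lifts (D₁.obj i) x) (t' : Lifts (D₁.obj i) y), t'.1 = k ≫ t.1 → (e T' i y t').1 = k ≫ (e T i x t).1)
    (hφ : ∀ (T : Scheme.{u}) (i i' : ι) (x : T ⟶ U i) (x' : T ⟶ U i') (h : x ≫ u₀ i = x' ≫ u₀ i') (t : Lifts (D₁.obj i) x),
      e T i' x' (D₁.φ x x' h t) = D₂.φ x x' h (e T i x t)) :
    ∃ a : D₁ ⟶ D₂, ∀ (T : Scheme.{u}) (i : ι) (x : T ⟶ U i) (t : Lifts (D₁.obj i) x), t.1 ≫ (a.hom i).left = (e T i x t).1 := by
  let m : ∀ i, Lifts (D₂.obj i) (D₁.obj i).hom := fun i => e _ i (D₁.obj i).hom ⟨𝟙 _, Category.id_comp _⟩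
  have spec : ∀ (T : Scheme.{u}) (i : ι) (x : T ⟶ U i) (t : Lifts (D₁.obj i) x), t.1 ≫ (m i).1 = (e T i x t).1 :=
    fun T i x t => (hnat _ _ t.1 i _ x t.2 ⟨𝟙 _, Category.id_comp _⟩ t (Category.comp_id _).symm).symm
  refine ⟨⟨fun i => Over.homMk (m i).1 (m i).2, ?_⟩, spec⟩
  intro T i j x₀ x₁ h t t' ht
  have h1 : t' = e T i x₀ t := Subtype.ext (ht.trans (spec T i x₀ t))
  rw [h1, ← hφ]
  exact (spec T j x₁ _).symm

theorem nonempty_iso_of_lifts {D₁ D₂ : SchDDFam u₀}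
    (e : ∀ (T : Scheme.{u}) (i : ι) (x : T ⟶ U i), Lifts (D₁.obj i) x ≃ Lifts (D₂.obj i) x)
    (hnat : ∀ (T T' : Scheme.{u}) (k : T' ⟶ T) (i : ι) (x : T ⟶ U i) (y : T' ⟶ U i) (_ : k ≫ x = y)
      (t : Lifts (D₁.obj i) x) (t' : Lifts (D₁.obj i) y), t'.1 = k ≫ t.1 → (e T' i y t').1 = k ≫ (e T i x t).1)
    (hφ : ∀ (T : Scheme.{u}) (i i' : ι) (x : T ⟶ U i) (x' : T ⟶ U i') (h : x ≫ u₀ i = x' ≫ u₀ i') (t : Lifts (D₁.obj i) x),
      e T i' x' (D₁.φ x x' h t) = D₂.φ x x' h (e T i x t)) :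
    ∃ a : D₁ ≅ D₂, ∀ (T : Scheme.{u}) (i : ι) (x : T ⟶ U i) (t : Lifts (D₁.obj i) x),
      t.1 ≫ (a.hom.hom i).left = (e T i x t).1 := by
  obtain ⟨a, ha⟩ := exists_hom_of_lifts (fun T i x => e T i x) hnat hφ
  obtain ⟨b, hb⟩ := exists_hom_of_lifts (fun T i x => (e T i x).symm)
    (fun T T' k i x y hy t t' ht => by
      let s : Lifts (D₁.obj i) y := ⟨k ≫ ((e T i x).symm t).1, by rw [Category.assoc, ((e T i x).symm t).2, hy]⟩
      have h1 := hnat T T' k i x y hy ((e T i x).symm t) s rfl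
      rw [Equiv.apply_symm_apply] at h1
      have h2 : e T' i y s = t' := Subtype.ext (h1.trans ht.symm)
      rw [← h2, Equiv.symm_apply_apply])
    (fun T i i' x x' h t => by rw [Equiv.symm_apply_eq, hφ, Equiv.apply_symm_apply])
  refine ⟨⟨a, b, ?_, ?_⟩, ha⟩
  · refine SchDDFam.hom_ext (funext fun i => Over.OverMorphism.ext ?_)
    have h1 := ha _ i _ (⟨𝟙 _, Category.id_comp _⟩ : Lifts (D₁.obj i) (D₁.obj i).hom)
    have h2 := hb _ i _ (e _ i (D₁.obj i).hom ⟨𝟙 _, Category.id_comp _⟩)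
    rw [Equiv.symm_apply_apply, ← h1] at h2
    simpa using h2
  · refine SchDDFam.hom_ext (funext fun i => Over.OverMorphism.ext ?_)
    have h1 := hb _ i _ (⟨𝟙 _, Category.id_comp _⟩ : Lifts (D₂.obj i) (D₂.obj i).hom)
    have h2 := ha _ i _ ((e _ i (D₂.obj i).hom).symm ⟨𝟙 _, Category.id_comp _⟩)
    rw [Equiv.apply_symm_apply, ← h1] at h2
    simpa using h2

theorem nonempty_selfMap_iso {g : ∀ i, U i ⟶ U i} (w : ∀ i, g i ≫ u₀ i = u₀ i) :
    Nonempty (pullDDFam (f := u₀) (f' := u₀) (α := fun i => i) (p := 𝟙 S) (p' := g)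
      (fun i => (w i).trans (Category.comp_id (u₀ i)).symm) ≅ 𝟭 (SchDDFam u₀)) := by
  have hh : ∀ {T : Scheme.{u}} {i : ι} (x : T ⟶ U i), (x ≫ g i) ≫ u₀ i = x ≫ u₀ i := fun x => by rw [Category.assoc, w]
  have key : ∀ D : SchDDFam u₀, ∃ a : PD (α := fun i => i) (g := g) w D ≅ D, ∀ (T : Scheme.{u}) (i : ι) (x : T ⟶ U i)
      (t : Lifts ((PD (α := fun i => i) (g := g) w D).obj i) x),
      t.1 ≫ (a.hom.hom i).left = (D.φ (x ≫ g i) x (hh x) (liftsPullbackEquiv (D.obj i) (g i) x t)).1 := fun D => by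
    refine nonempty_iso_of_lifts (D₁ := PD (α := fun i => i) (g := g) w D) (D₂ := D)
      (fun T i x => (liftsPullbackEquiv (D.obj i) (g i) x).trans (D.φ (x ≫ g i) x (hh x))) ?_ ?_
    · intro T T' k i x y hy t t' ht
      subst hy
      refine D.φ_natural k _ _ _ _ _ (Category.assoc _ _ _).symm rfl _ _ _ ?_
      simp [liftsPullbackEquiv, ht]
    · intro T i i' x x' h t
      simp only [Equiv.trans_apply, PD, pullDDFam, pullDDFamObj, Equiv.apply_symm_apply]
      erw [D.φ_comp, D.φ_comp]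
  choose a ha using key
  refine ⟨NatIso.ofComponents a ?_⟩
  intro D D' q
  refine SchDDFam.hom_ext (funext fun i => Over.OverMorphism.ext ?_)
  have h1 := ha D _ i (pullback.snd (D.obj i).hom (g i)) ⟨𝟙 _, Category.id_comp _⟩
  let t := liftsPullbackEquiv (D.obj i) (g i) (pullback.snd (D.obj i).hom (g i)) ⟨𝟙 _, Category.id_comp _⟩
  have h2 := q.comm _ _ (hh (pullback.snd (D.obj i).hom (g i))) t (q.push t) rfl
  let t' : Lifts ((PD (α := fun i => i) (g := g) w D').obj i) (pullback.snd (D.obj i).hom (g i)) :=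
    ((pullDDFam (f := u₀) (f' := u₀) (α := fun i => i) (p := 𝟙 S) (p' := g)
      (fun i => (w i).trans (Category.comp_id (u₀ i)).symm)).map q).push ⟨𝟙 _, Category.id_comp _⟩
  have h3 := ha D' _ i (pullback.snd (D.obj i).hom (g i)) t'
  have h4 : liftsPullbackEquiv (D'.obj i) (g i) _ t' = q.push t := by
    apply Subtype.ext
    simp only [t', t, SchDDFam.Hom.push, liftsPullbackEquiv, Equiv.coe_fn_mk, pullDDFam, pullback.map]
    erw [Category.assoc, pullback.lift_fst]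
    simp
  rw [h4, h2, ← h1] at h3
  simp only [t', SchDDFam.Hom.push, Category.id_comp] at h3
  simpa using h3

variable {κ : Type w} {V : κ → Scheme.{u}} {v : ∀ j, V j ⟶ S}
variable {α : ι → κ} {g : ∀ i, U i ⟶ V (α i)}

theorem nonempty_roundtrip_iso (w : ∀ i, g i ≫ v (α i) = u₀ i) {β : κ → ι} {s : ∀ j, V j ⟶ U (β j)}
    (ws : ∀ j, s j ≫ u₀ (β j) = v j) (D : SchDDFam u₀) :
    Nonempty (PD w (PD ws D) ≅ D) := by
  have hh : ∀ {T : Scheme.{u}} {i : ι} (x : T ⟶ U i), ((x ≫ g i) ≫ s (α i)) ≫ u₀ (β (α i)) = x ≫ u₀ i := fun x => by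
    rw [Category.assoc, ws, Category.assoc, w]
  obtain ⟨a, -⟩ := nonempty_iso_of_lifts (D₁ := PD w (PD ws D)) (D₂ := D)
    (fun T i x => ((liftsPullbackEquiv ((PD ws D).obj (α i)) (g i) x).trans
      (liftsPullbackEquiv (D.obj (β (α i))) (s (α i)) (x ≫ g i))).trans (D.φ ((x ≫ g i) ≫ s (α i)) x (hh x))) (by
      intro T T' k i x y hy t t' ht
      subst hy
      refine D.φ_natural k _ _ _ _ _ (by simp [Category.assoc]) rfl _ _ _ ?_
      simp [liftsPullbackEquiv, ht]) (by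
      intro T i i' x x' h t
      simp only [Equiv.trans_apply, PD, pullDDFam, pullDDFamObj, Equiv.apply_symm_apply]
      erw [D.φ_comp, D.φ_comp])
  exact ⟨a⟩

theorem isEquivalence_of_back (w : ∀ i, g i ≫ v (α i) = u₀ i) {β : κ → ι} {s : ∀ j, V j ⟶ U (β j)}
    (ws : ∀ j, s j ≫ u₀ (β j) = v j) :
    (pullDDFam (f := v) (f' := u₀) (α := α) (p := 𝟙 S) (p' := g)
      (fun i => (w i).trans (Category.comp_id (u₀ i)).symm)).IsEquivalence := by
  obtain ⟨h1, h2⟩ := sep_glue_of_sections (v := v) (u₀ := u₀) β s ws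
  exact { full := full w h1 h2
          faithful := faithful w h1
          essSurj := ⟨fun D => ⟨PD ws D, nonempty_roundtrip_iso w ws D⟩⟩ }

end Groth.Agent.Desc19b.PullRefine
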