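import Groth.Agent.Desc19b.Quot
import Groth.Agent.Desc19b.PullRefine

/-! A quotient over an open from a quotient of a covering family of pieces. -/

set_option autoImplicit false
set_option linter.style.haveILetI false
set_option backward.isDefEq.respectTransparency false
set_option backward.isDefEq.respectTransparency.types false

universe u

open CategoryTheory CategoryTheory.Limits AlgebraicGeometry Desc

namespace Groth.Agent.Desc19b.Quot

variable {S : Scheme.{u}} {ι : Type u} {X : ι → Scheme.{u}} {f : ∀ i, X i ⟶ S} {D : SchDDFam f}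

/-- A finite family of flat quasi-compact morphisms which is jointly surjective is an fpqc covering. -/
theorem finite_family_mem {Y : Scheme.{u}} {κ : Type u} [Finite κ] {Z : κ → Scheme.{u}} (w : ∀ k, Z k ⟶ Y)
    [∀ k, QuasiCompact (w k)] [∀ k, Flat (w k)] (hs : ∀ y, ∃ k z, w k z = y) :
    Presieve.ofArrows Z w ∈ Scheme.fpqcPrecoverage Y := by
  have h : Presieve.ofArrows Z w ∈ Scheme.precoverage @Flat Y :=
    (Scheme.presieve₀_mem_precoverage_iff (PreZeroHypercover.mk κ Z w)).2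
      ⟨fun y => hs y, fun k => inferInstanceAs (Flat (w k))⟩
  let 𝒰 : Y.Cover (Scheme.precoverage @Flat) := { PreZeroHypercover.mk κ Z w with mem₀ := h }
  haveI : Finite 𝒰.I₀ := ‹Finite κ›
  haveI : ∀ i, QuasiCompact (𝒰.f i) := fun i => inferInstanceAs (QuasiCompact (w i))
  exact ⟨Scheme.presieve₀_mem_qcPrecoverage_iff.2 (QuasiCompactCover.of_finite (𝒰 := 𝒰)), h⟩

/-- A covering of an open gives a covering of every scheme over that open. -/
theorem cover_of_open {W : S.Opens} {κ : Type u} {Z : κ → Scheme.{u}} {u₀ : ∀ k, Z k ⟶ S}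
    (w : ∀ k, Z k ⟶ W.toScheme) (hw : ∀ k, w k ≫ W.ι = u₀ k)
    (hmem : Presieve.ofArrows Z w ∈ Scheme.fpqcPrecoverage W.toScheme) {T : Scheme.{u}} (s : T ⟶ S) (hs : InW W s) :
    Presieve.ofArrows (fun k => pullback s (u₀ k)) (fun k => pullback.fst s (u₀ k)) ∈ Scheme.fpqcPrecoverage T := by
  let s' : T ⟶ W.toScheme := IsOpenImmersion.lift W.ι s
    (by rw [Scheme.Opens.range_ι]; rintro _ ⟨y, rfl⟩; exact hs y)
  have hs' : s' ≫ W.ι = s := IsOpenImmersion.lift_fac _ _ _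
  refine Precoverage.mem_coverings_of_isPullback w hmem s' _ (fun k => pullback.snd s (u₀ k)) fun k => ?_
  have hc : pullback.fst s (u₀ k) ≫ s' = pullback.snd s (u₀ k) ≫ w k := by
    rw [← cancel_mono W.ι, Category.assoc, Category.assoc, hs', hw, pullback.condition]
  refine ⟨⟨hc⟩, ⟨PullbackCone.IsLimit.mk _ (fun c => pullback.lift c.fst c.snd ?_) (fun c => pullback.lift_fst _ _ _)
    (fun c => pullback.lift_snd _ _ _) (fun c m h1 h2 => ?_)⟩⟩
  · rw [← hs', ← hw, ← Category.assoc, ← Category.assoc, c.condition]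
  · apply pullback.hom_ext
    · rw [h1, pullback.lift_fst]
    · rw [h2, pullback.lift_snd]

theorem nonempty_of_pieces {W : S.Opens} {κ : Type u} {Z : κ → Scheme.{u}} (a : κ → ι) (v : ∀ k, Z k ⟶ X (a k))
    (hcov : ∀ {T : Scheme.{u}} (s : T ⟶ S), InW W s →
      Presieve.ofArrows (fun k => pullback s (v k ≫ f (a k))) (fun k => pullback.fst s (v k ≫ f (a k))) ∈
        Scheme.fpqcPrecoverage T)
    {U : Scheme.{u}} (π : U ⟶ S) (hπ : InW W π) (q : ∀ k, pullback (D.obj (a k)).hom (v k) ⟶ U)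
    (sq : ∀ k, IsPullback (q k) (pullback.snd (D.obj (a k)).hom (v k)) π (v k ≫ f (a k)))
    (hinv : ∀ {T : Scheme.{u}} {k l : κ} (x : T ⟶ Z k) (y : T ⟶ Z l)
      (h : x ≫ v k ≫ f (a k) = y ≫ v l ≫ f (a l))
      (t : Lifts ((PullRefine.PD (α := a) (g := v) (u₀ := fun k => v k ≫ f (a k)) (fun _ => rfl) D).obj k) x),
      ((PullRefine.PD (α := a) (g := v) (u₀ := fun k => v k ≫ f (a k)) (fun _ => rfl) D).φ x y h t).1 ≫ q l =
        t.1 ≫ q k) :
    Nonempty (Quot D W) := by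
  have shf : ∀ {T : Scheme.{u}} (s : T ⟶ S), InW W s → ∀ Y : Scheme.{u},
      Presieve.IsSheafFor (yoneda.obj Y)
        (Presieve.ofArrows (fun k => pullback s (v k ≫ f (a k))) (fun k => pullback.fst s (v k ≫ f (a k)))) :=
    fun s hs Y => (GrothendieckTopology.Subcanonical.isSheaf_of_isRepresentable (J := Scheme.fpqcTopology)
      (yoneda.obj Y)).isSheafFor _ (Precoverage.generate_mem_toGrothendieck (hcov s hs))
  have ext' : ∀ {T : Scheme.{u}} (s : T ⟶ S), InW W s → ∀ {Y : Scheme.{u}} (m n : T ⟶ Y),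
      (∀ k, pullback.fst s (v k ≫ f (a k)) ≫ m = pullback.fst s (v k ≫ f (a k)) ≫ n) → m = n :=
    fun {T} s hs {Y} m n h => by
      obtain ⟨t, -, hu⟩ := (Presieve.isSheafFor_arrows_iff _ _).1 (shf s hs Y)
        (fun k => pullback.fst s (v k ≫ f (a k)) ≫ m) fun k k' W' g₁ g₂ e => by
          show g₁ ≫ pullback.fst _ _ ≫ m = g₂ ≫ pullback.fst _ _ ≫ m
          rw [reassoc_of% e]
      exact (hu m fun k => rfl).trans (hu n fun k => (h k).symm).symm
  -- the points over a piece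
  let E : ∀ {T : Scheme.{u}} {k : κ} (z : T ⟶ Z k),
      Lifts (D.obj (a k)) (z ≫ v k) ≃ {τ : T ⟶ U // τ ≫ π = z ≫ v k ≫ f (a k)} := fun {T k} z =>
    { toFun := fun t => ⟨pullback.lift t.1 z t.2 ≫ q k, by rw [Category.assoc, (sq k).w, pullback.lift_snd_assoc]⟩
      invFun := fun τ => ⟨(sq k).lift τ.1 z τ.2 ≫ pullback.fst _ _, by
        rw [Category.assoc, pullback.condition, ← Category.assoc, (sq k).lift_snd]⟩
      left_inv := fun t => Subtype.ext (by
        show (sq k).lift _ z _ ≫ pullback.fst _ _ = t.1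
        rw [show (sq k).lift (pullback.lift t.1 z t.2 ≫ q k) z _ = pullback.lift t.1 z t.2 from
          (sq k).hom_ext ((sq k).lift_fst _ _ _) ((sq k).lift_snd _ _ _ |>.trans (pullback.lift_snd _ _ _).symm)]
        exact pullback.lift_fst _ _ _)
      right_inv := fun τ => Subtype.ext (by
        show pullback.lift _ z _ ≫ q k = τ.1
        rw [show pullback.lift ((sq k).lift τ.1 z τ.2 ≫ pullback.fst _ _) z _ = (sq k).lift τ.1 z τ.2 from
          pullback.hom_ext (pullback.lift_fst _ _ _) ((pullback.lift_snd _ _ _).trans ((sq k).lift_snd _ _ _).symm)]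
        exact (sq k).lift_fst _ _ _) }
  have E_inv : ∀ {T : Scheme.{u}} {k l : κ} (z : T ⟶ Z k) (z' : T ⟶ Z l)
      (h : (z ≫ v k) ≫ f (a k) = (z' ≫ v l) ≫ f (a l)) (t : Lifts (D.obj (a k)) (z ≫ v k)),
      (E z' (D.φ _ _ h t)).1 = (E z t).1 := fun {T k l} z z' h t => by
    have h1 := hinv z z' (by simpa only [Category.assoc] using h) ((liftsPullbackEquiv _ (v k) z).symm t)
    simp only [PullRefine.PD, pullDDFam, pullDDFamObj, Equiv.trans_apply, Equiv.apply_symm_apply] at h1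
    exact h1
  -- the points over a piece, for a point of a member of the family
  let G : ∀ {T : Scheme.{u}} {i : ι} (y : T ⟶ X i) {k : κ} (z : T ⟶ Z k) (_ : y ≫ f i = (z ≫ v k) ≫ f (a k)),
      Lifts (D.obj i) y → (T ⟶ U) := fun y _ z h t => (E z (D.φ y (z ≫ v _) h t)).1
  have G_π : ∀ {T : Scheme.{u}} {i : ι} (y : T ⟶ X i) {k : κ} (z : T ⟶ Z k)
      (h : y ≫ f i = (z ≫ v k) ≫ f (a k)) (t : Lifts (D.obj i) y), G y z h t ≫ π = y ≫ f i :=
    fun y k z h t => ((E z (D.φ y (z ≫ v k) h t)).2).trans (by rw [h, Category.assoc])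
  have G_nat : ∀ {T T' : Scheme.{u}} (g : T' ⟶ T) {i : ι} (y : T ⟶ X i) {k : κ} (z : T ⟶ Z k)
      (h : y ≫ f i = (z ≫ v k) ≫ f (a k)) (y' : T' ⟶ X i) (hy : g ≫ y = y') (h' : y' ≫ f i = ((g ≫ z) ≫ v k) ≫ f (a k))
      (t : Lifts (D.obj i) y) (t' : Lifts (D.obj i) y'), t'.1 = g ≫ t.1 → G y' (g ≫ z) h' t' = g ≫ G y z h t := by
    intro T T' g i y k z h y' hy h' t t' ht
    have h1 := D.φ_natural g y (z ≫ v k) h y' ((g ≫ z) ≫ v k) hy (Category.assoc _ _ _).symm h' t t' ht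
    show pullback.lift (D.φ y' _ h' t').1 (g ≫ z) _ ≫ q k = g ≫ pullback.lift _ z _ ≫ q k
    rw [← Category.assoc]
    congr 1
    apply pullback.hom_ext
    · rw [pullback.lift_fst]
      exact h1.trans ((congrArg (g ≫ ·) (pullback.lift_fst _ _ _).symm).trans (Category.assoc _ _ _).symm)
    · rw [pullback.lift_snd, Category.assoc, pullback.lift_snd]
  have G_indep : ∀ {T : Scheme.{u}} {i : ι} (y : T ⟶ X i) {k l : κ} (z : T ⟶ Z k) (z' : T ⟶ Z l)
      (h : y ≫ f i = (z ≫ v k) ≫ f (a k)) (h' : y ≫ f i = (z' ≫ v l) ≫ f (a l)) (t : Lifts (D.obj i) y),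
      G y z' h' t = G y z h t := fun y k l z z' h h' t => by
    have h1 := E_inv z z' (h.symm.trans h') (D.φ y _ h t)
    rwa [D.φ_comp] at h1
  have G_inj : ∀ {T : Scheme.{u}} {i : ι} (y : T ⟶ X i) {k : κ} (z : T ⟶ Z k)
      (h : y ≫ f i = (z ≫ v k) ≫ f (a k)) (t t' : Lifts (D.obj i) y), G y z h t = G y z h t' → t = t' :=
    fun y k z h t t' e => (D.φ y _ h).injective ((E z).injective (Subtype.ext e))
  -- gluing
  have hcond : ∀ {T : Scheme.{u}} {i : ι} (x : T ⟶ X i) (k : κ),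
      (pullback.fst (x ≫ f i) (v k ≫ f (a k)) ≫ x) ≫ f i =
        (pullback.snd (x ≫ f i) (v k ≫ f (a k)) ≫ v k) ≫ f (a k) := fun x k => by
    rw [Category.assoc, Category.assoc, pullback.condition]
  have glue : ∀ {T : Scheme.{u}} {i : ι} (x : T ⟶ X i), InW W (x ≫ f i) → ∀ t : Lifts (D.obj i) x,
      ∃ τ : T ⟶ U, ∀ k, pullback.fst (x ≫ f i) (v k ≫ f (a k)) ≫ τ =
        G _ (pullback.snd (x ≫ f i) (v k ≫ f (a k))) (hcond x k) (rest (pullback.fst _ _) t) := by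
    intro T i x hx t
    obtain ⟨τ, hτ, -⟩ := (Presieve.isSheafFor_arrows_iff _ _).1 (shf (x ≫ f i) hx U)
      (fun k => G _ (pullback.snd _ _) (hcond x k) (rest (pullback.fst _ _) t)) fun k l T' g₁ g₂ e => by
        show g₁ ≫ G _ _ _ _ = g₂ ≫ G _ _ _ _
        have e' : g₂ ≫ pullback.fst (x ≫ f i) (v l ≫ f (a l)) ≫ x = g₁ ≫ pullback.fst (x ≫ f i) (v k ≫ f (a k)) ≫ x := by
          rw [reassoc_of% e]
        have h1 : (g₁ ≫ pullback.fst (x ≫ f i) (v k ≫ f (a k)) ≫ x) ≫ f i = ((g₁ ≫ pullback.snd _ _) ≫ v k) ≫ f (a k) := by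
          simpa only [Category.assoc] using congrArg (g₁ ≫ ·) (hcond x k)
        have h2 : (g₁ ≫ pullback.fst (x ≫ f i) (v k ≫ f (a k)) ≫ x) ≫ f i = ((g₂ ≫ pullback.snd _ _) ≫ v l) ≫ f (a l) := by
          rw [← e']; simpa only [Category.assoc] using congrArg (g₂ ≫ ·) (hcond x l)
        let t' : Lifts (D.obj i) (g₁ ≫ pullback.fst (x ≫ f i) (v k ≫ f (a k)) ≫ x) :=
          ⟨g₁ ≫ pullback.fst (x ≫ f i) (v k ≫ f (a k)) ≫ t.1, by simp only [Category.assoc, t.2]⟩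
        rw [← G_nat g₁ _ _ _ _ rfl h1 _ t' rfl,
          ← G_nat g₂ _ _ _ _ e' h2 _ t' (by show _ = g₂ ≫ _ ≫ t.1; rw [← reassoc_of% e]),
          G_indep _ (g₁ ≫ pullback.snd _ _) (g₂ ≫ pullback.snd _ _) h1 h2]
    exact ⟨τ, hτ⟩
  choose τ hτ using @glue
  have τ_spec : ∀ {T : Scheme.{u}} {i : ι} (x : T ⟶ X i) (hx : InW W (x ≫ f i)) (t : Lifts (D.obj i) x)
      {T' : Scheme.{u}} (g : T' ⟶ T) {k : κ} (z : T' ⟶ Z k) (h : (g ≫ x) ≫ f i = (z ≫ v k) ≫ f (a k)),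
      g ≫ τ x hx t = G (g ≫ x) z h (rest g t) := by
    intro T i x hx t T' g k z h
    let l : T' ⟶ pullback (x ≫ f i) (v k ≫ f (a k)) := pullback.lift g z (by simpa only [Category.assoc] using h)
    have l1 : l ≫ pullback.fst _ _ = g := pullback.lift_fst _ _ _
    have l2 : l ≫ pullback.snd _ _ = z := pullback.lift_snd _ _ _
    have h2 : (g ≫ x) ≫ f i = ((l ≫ pullback.snd _ _) ≫ v k) ≫ f (a k) := by rw [l2, h]
    calc g ≫ τ x hx t = l ≫ pullback.fst _ _ ≫ τ x hx t := by rw [reassoc_of% l1]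
      _ = G (g ≫ x) (l ≫ pullback.snd _ _) h2 (rest g t) := by
        rw [hτ x hx t k]
        exact (G_nat l _ _ _ _ ((reassoc_of% l1) x) h2 _ (rest g t) ((reassoc_of% l1) t.1).symm).symm
      _ = G (g ≫ x) z h (rest g t) := G_indep _ z (l ≫ pullback.snd _ _) h h2 _
  have τ_π : ∀ {T : Scheme.{u}} {i : ι} (x : T ⟶ X i) (hx : InW W (x ≫ f i)) (t : Lifts (D.obj i) x),
      τ x hx t ≫ π = x ≫ f i := fun x hx t => ext' _ hx _ _ fun k => by
    rw [← Category.assoc, hτ x hx t k, G_π, Category.assoc]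
  have τ_inj : ∀ {T : Scheme.{u}} {i : ι} (x : T ⟶ X i) (hx : InW W (x ≫ f i)) (t t' : Lifts (D.obj i) x),
      τ x hx t = τ x hx t' → t = t' := fun {T i} x hx t t' e => Subtype.ext (ext' _ hx _ _ fun k => by
    have h1 := congrArg (pullback.fst (x ≫ f i) (v k ≫ f (a k)) ≫ ·) e
    simp only [hτ] at h1
    exact congrArg Subtype.val (G_inj _ _ _ _ _ h1))
  have τ_surj : ∀ {T : Scheme.{u}} {i : ι} (x : T ⟶ X i) (hx : InW W (x ≫ f i)) (s : T ⟶ U), s ≫ π = x ≫ f i →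
      ∃ t, τ x hx t = s := by
    intro T i x hx s hs
    let t₀ : ∀ k, Lifts (D.obj i) (pullback.fst (x ≫ f i) (v k ≫ f (a k)) ≫ x) := fun k =>
      (D.φ _ _ (hcond x k)).symm ((E (pullback.snd (x ≫ f i) (v k ≫ f (a k)))).symm
        ⟨pullback.fst _ _ ≫ s, by rw [Category.assoc, hs]; exact pullback.condition⟩)
    have ht₀ : ∀ k, G _ _ (hcond x k) (t₀ k) = pullback.fst (x ≫ f i) (v k ≫ f (a k)) ≫ s := fun k => by
      simp only [G, t₀, Equiv.apply_symm_apply]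
    obtain ⟨m, hm, -⟩ := (Presieve.isSheafFor_arrows_iff _ _).1 (shf (x ≫ f i) hx (D.obj i).left)
      (fun k => (t₀ k).1) fun k l T' g₁ g₂ e => by
        show g₁ ≫ (t₀ k).1 = g₂ ≫ (t₀ l).1
        let y := g₁ ≫ pullback.fst (x ≫ f i) (v k ≫ f (a k)) ≫ x
        have e' : g₂ ≫ pullback.fst (x ≫ f i) (v l ≫ f (a l)) ≫ x = y := by rw [← reassoc_of% e]
        have h1 : y ≫ f i = ((g₁ ≫ pullback.snd _ _) ≫ v k) ≫ f (a k) := by
          simpa only [y, Category.assoc] using congrArg (g₁ ≫ ·) (hcond x k)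
        have h2 : y ≫ f i = ((g₂ ≫ pullback.snd _ _) ≫ v l) ≫ f (a l) := by
          rw [← e']; simpa only [Category.assoc] using congrArg (g₂ ≫ ·) (hcond x l)
        let t₁ : Lifts (D.obj i) y := ⟨g₁ ≫ (t₀ k).1, by rw [Category.assoc, (t₀ k).2]⟩
        let t₂ : Lifts (D.obj i) y := ⟨g₂ ≫ (t₀ l).1, by rw [Category.assoc, (t₀ l).2, e']⟩
        refine congrArg Subtype.val (G_inj y (g₁ ≫ pullback.snd _ _) h1 t₁ t₂ ?_)
        rw [← G_indep y (g₁ ≫ pullback.snd _ _) (g₂ ≫ pullback.snd _ _) h1 h2 t₂,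
          G_nat g₁ _ _ (hcond x k) _ rfl h1 (t₀ k) t₁ rfl, G_nat g₂ _ _ (hcond x l) _ e' h2 (t₀ l) t₂ rfl, ht₀, ht₀,
          reassoc_of% e]
    have hm' : ∀ k, pullback.fst (x ≫ f i) (v k ≫ f (a k)) ≫ m = (t₀ k).1 := hm
    refine ⟨⟨m, ext' _ hx _ _ fun k => ?_⟩, ext' _ hx _ _ fun k => ?_⟩
    · rw [← Category.assoc, hm', (t₀ k).2]
    · rw [hτ, ← ht₀ k]
      exact congrArg (G _ _ _) (Subtype.ext (hm' k))
  exact ⟨{
    U := U
    π := π
    mem := hπ
    e := fun {T i} x hx => Equiv.ofBijective (fun t => ⟨τ x hx t, τ_π x hx t⟩)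
      ⟨fun t t' e => τ_inj x hx t t' (congrArg Subtype.val e), fun s => by
        obtain ⟨t, ht⟩ := τ_surj x hx s.1 s.2
        exact ⟨t, Subtype.ext ht⟩⟩
    nat := fun {T T'} g {i x} hx {y} hy hk t t' ht => ext' (y ≫ f i) hy _ _ fun k => by
      let p := pullback.fst (y ≫ f i) (v k ≫ f (a k))
      have h0 : ((p ≫ g) ≫ x) ≫ f i = (pullback.snd (y ≫ f i) (v k ≫ f (a k)) ≫ v k) ≫ f (a k) := by
        rw [Category.assoc p g, hk]; exact hcond y k
      show p ≫ τ y hy t' = p ≫ g ≫ τ x hx t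
      rw [hτ, ← Category.assoc p g, τ_spec x hx t (p ≫ g) _ h0]
      have h1 : (p ≫ y) ≫ f i = ((𝟙 _ ≫ pullback.snd (y ≫ f i) (v k ≫ f (a k))) ≫ v k) ≫ f (a k) := by
        rw [Category.id_comp]; exact hcond y k
      have h2 := G_nat (𝟙 _) _ _ h0 (p ≫ y) (by rw [Category.id_comp, Category.assoc, hk]) h1 (rest (p ≫ g) t)
        (rest p t') (by show p ≫ t'.1 = 𝟙 _ ≫ (p ≫ g) ≫ t.1; rw [ht, Category.id_comp, Category.assoc])
      simpa only [Category.id_comp] using h2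
    inv := fun {T i j x y} h hx hy t => ext' (y ≫ f j) hy _ _ fun k => by
      let p := pullback.fst (y ≫ f j) (v k ≫ f (a k))
      have h1 : (p ≫ x) ≫ f i = (p ≫ y) ≫ f j := by rw [Category.assoc, h, Category.assoc]
      have h2 : (p ≫ x) ≫ f i = (pullback.snd (y ≫ f j) (v k ≫ f (a k)) ≫ v k) ≫ f (a k) := h1.trans (hcond y k)
      have h3 : D.φ (p ≫ x) (p ≫ y) h1 (rest p t) = rest p (D.φ x y h t) :=
        Subtype.ext (D.φ_natural p x y h _ _ rfl rfl h1 t _ rfl)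
      show p ≫ τ y hy (D.φ x y h t) = p ≫ τ x hx t
      rw [hτ, τ_spec x hx t p _ h2]
      show (E _ (D.φ _ _ _ (rest p (D.φ x y h t)))).1 = (E _ (D.φ _ _ h2 (rest p t))).1
      rw [← h3, D.φ_comp] }⟩

end Groth.Agent.Desc19b.Quot
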