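import Mathlib
import Groth.Agent.ProjLib.IdealComap

/-! Flat extension of colon ideals; ideal sheaves descend along flat surjections. -/

set_option autoImplicit false
set_option backward.isDefEq.respectTransparency.types false
set_option backward.isDefEq.respectTransparency false

universe u v

open CategoryTheory AlgebraicGeometry TensorProduct

namespace Groth.Agent.Desc19b

theorem colon_map_eq_top {A : Type u} {B : Type v} [CommRing A] [CommRing B] [Algebra A B] [Module.Flat A B]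
    (I : Ideal A) (a : A) (ha : algebraMap A B a ∈ I.map (algebraMap A B)) :
    Ideal.map (algebraMap A B) (Submodule.comap (LinearMap.toSpanSingleton A A a) I : Ideal A) = ⊤ := by
  let u : A →ₗ[A] A ⧸ I := (Submodule.mkQ I).comp (LinearMap.toSpanSingleton A A a)
  let J : Ideal A := Submodule.comap (LinearMap.toSpanSingleton A A a) I
  have hex : Function.Exact J.subtype u := by
    intro r
    simp [J, u, ← map_mul, Ideal.Quotient.eq_zero_iff_mem]
  have hex' := Module.Flat.lTensor_exact B hex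
  have h0 : u.lTensor B ((1 : B) ⊗ₜ[A] (1 : A)) = 0 := by
    apply (Algebra.TensorProduct.quotIdealMapEquivTensorQuot B I).symm.injective
    rw [map_zero, LinearMap.lTensor_tmul]
    simp only [u, LinearMap.comp_apply, Submodule.mkQ_apply, LinearMap.toSpanSingleton_apply, one_smul]
    rw [Ideal.Quotient.mk_eq_mk]
    simpa [Algebra.smul_def] using Ideal.Quotient.eq_zero_iff_mem.2 ha
  obtain ⟨t, ht⟩ := (hex' _).1 h0
  rw [Ideal.eq_top_iff_one]
  have : TensorProduct.rid A B (J.subtype.lTensor B t) = 1 := by rw [ht]; simp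
  rw [← this]
  clear ht this h0
  induction t using TensorProduct.induction_on with
  | zero => simp
  | tmul b j =>
    simp only [LinearMap.lTensor_tmul, TensorProduct.rid_tmul, Submodule.coe_subtype, Algebra.smul_def]
    exact Ideal.mul_mem_right _ _ (Ideal.mem_map_of_mem _ j.2)
  | add x y hx hy => simp only [map_add]; exact Ideal.add_mem _ hx hy

theorem idealSheafData_le_of_family {ι : Type v} {Q : ι → Scheme.{u}} {Y : Scheme.{u}} (g : ∀ i, Q i ⟶ Y)
    [∀ i, Flat (g i)] (hsurj : ∀ y : Y, ∃ i x, g i x = y)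
    {I I' : Y.IdealSheafData} (hle' : ∀ i, I'.comap (g i) ≤ I.comap (g i)) : I' ≤ I := by
  intro U a ha
  by_contra hna
  have hne : (Submodule.comap (LinearMap.toSpanSingleton Γ(Y, U.1) Γ(Y, U.1) a) (I.ideal U) : Ideal _) ≠ ⊤ := by
    intro ht
    exact hna (by simpa using (Ideal.eq_top_iff_one _).1 ht)
  obtain ⟨m, hm, hle⟩ := Ideal.exists_le_maximal _ hne
  let p : PrimeSpectrum Γ(Y, U.1) := ⟨m, hm.isPrime⟩
  obtain ⟨i, x, hx⟩ := hsurj (U.2.fromSpec p)
  have h := hle' i
  generalize hX : g i = f at x hx h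
  have hflat : Flat f := hX ▸ inferInstance
  have hxU : x ∈ f ⁻¹ᵁ U.1 := by
    show f x ∈ U.1
    rw [hx, ← SetLike.mem_coe, ← U.2.range_fromSpec]
    exact ⟨p, rfl⟩
  obtain ⟨_, ⟨V, hV : IsAffineOpen V, rfl⟩, hxV, hVU⟩ :=
    Scheme.isBasis_affineOpens (Q i) |>.exists_subset_of_mem_open hxU (f ⁻¹ᵁ U.1).2
  have e : V ≤ f ⁻¹ᵁ U.1 := hVU
  obtain ⟨q, hq⟩ : x ∈ Set.range hV.fromSpec := by rw [IsAffineOpen.range_fromSpec]; exact hxV
  have hpq : Spec.map (f.appLE U.1 V e) q = p := by
    apply U.2.fromSpec.isOpenEmbedding.injective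
    rw [← Scheme.Hom.comp_apply, U.2.SpecMap_appLE_fromSpec f hV e, Scheme.Hom.comp_apply, hq, hx]
  algebraize [(f.appLE U.1 V e).hom]
  haveI : Module.Flat Γ(Y, U.1) Γ(Q i, V) := f.flat_appLE U.2 hV e
  have hmem : algebraMap Γ(Y, U.1) Γ(Q i, V) a ∈ (I.ideal U).map (algebraMap Γ(Y, U.1) Γ(Q i, V)) := by
    have h1 := h ⟨V, hV⟩
    rw [Groth.Agent.ProjLib.comap_ideal_eq I' f U ⟨V, hV⟩ e, Groth.Agent.ProjLib.comap_ideal_eq I f U ⟨V, hV⟩ e] at h1
    exact h1 (Ideal.mem_map_of_mem _ ha)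
  have hJ := colon_map_eq_top (B := Γ(Q i, V)) (I.ideal U) a hmem
  apply q.isPrime.ne_top
  rw [eq_top_iff, ← hJ, Ideal.map_le_iff_le_comap]
  intro r hr
  have hm' : m = q.asIdeal.comap (algebraMap Γ(Y, U.1) Γ(Q i, V)) :=
    (congrArg PrimeSpectrum.asIdeal hpq).symm
  exact hm' ▸ hle hr

theorem idealSheafData_le_of_comap_le {X Y : Scheme.{u}} (f : X ⟶ Y) [Flat f] [Surjective f]
    {I I' : Y.IdealSheafData} (h : I'.comap f ≤ I.comap f) : I' ≤ I :=
  idealSheafData_le_of_family (fun _ : PUnit.{1} => f) (fun y => ⟨⟨⟩, f.surjective y⟩) fun _ => h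

theorem idealSheafData_comap_injective {X Y : Scheme.{u}} (f : X ⟶ Y) [Flat f] [Surjective f] :
    Function.Injective fun J : Y.IdealSheafData => J.comap f := fun _ _ h =>
  le_antisymm (idealSheafData_le_of_comap_le f h.le) (idealSheafData_le_of_comap_le f h.ge)

end Groth.Agent.Desc19b
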