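import Groth.Agent.Desc19b.Imm
import Groth.Agent.Desc19b.IdealFlat

/-! Descent of ideal sheaves along fpqc morphisms. -/

set_option autoImplicit false
set_option backward.isDefEq.respectTransparency false

universe u

open CategoryTheory CategoryTheory.Limits AlgebraicGeometry

namespace Groth.Agent.Desc19b

theorem isSchemeTheoreticallyDominant_of_flat {X Y : Scheme.{u}} (f : X ⟶ Y)
    [Flat f] [Surjective f] [QuasiCompact f] : IsSchemeTheoreticallyDominant f := by
  rw [isSchemeTheoreticallyDominant_iff]
  refine Scheme.IdealSheafData.ext (funext fun U => ?_)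
  rw [Scheme.Hom.ker_apply, Scheme.IdealSheafData.ideal_bot, Pi.bot_apply, eq_bot_iff]
  intro s hs
  have hs0 : f.app U.1 s = 0 := hs
  refine TopCat.Presheaf.section_ext Y.sheaf U.1 s 0 fun y hy => ?_
  obtain ⟨x, rfl⟩ := f.surjective y
  letI := (f.stalkMap x).hom.toAlgebra
  haveI : IsLocalHom (algebraMap (Y.presheaf.stalk (f x)) (X.presheaf.stalk x)) :=
    inferInstanceAs (IsLocalHom (f.stalkMap x).hom)
  haveI : Module.Flat (Y.presheaf.stalk (f x)) (X.presheaf.stalk x) := Flat.stalkMap f x
  haveI : Module.FaithfullyFlat (Y.presheaf.stalk (f x)) (X.presheaf.stalk x) :=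
    Module.FaithfullyFlat.of_flat_of_isLocalHom
  apply FaithfulSMul.algebraMap_injective (Y.presheaf.stalk (f x)) (X.presheaf.stalk x)
  show f.stalkMap x (Y.presheaf.germ U.1 (f x) hy s) = f.stalkMap x (Y.presheaf.germ U.1 (f x) hy 0)
  rw [Scheme.Hom.germ_stalkMap_apply, hs0, map_zero, map_zero, map_zero]

/-- An ideal sheaf with equal pullbacks to the double fibre product descends. -/
theorem exists_idealSheafData_comap_eq {S S' : Scheme.{u}} (g : S' ⟶ S) [Flat g] [Surjective g]
    [QuasiCompact g] (J' : S'.IdealSheafData)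
    (h : J'.comap (pullback.fst g g) = J'.comap (pullback.snd g g)) :
    ∃ J : S.IdealSheafData, J.comap g = J' := by
  refine ⟨(J'.subschemeι ≫ g).ker, ?_⟩
  rw [← ker_pullback_snd_of_flat]
  let ι' := J'.subschemeι
  let e := pullbackRightPullbackFstIso g g ι'
  have h1 : e.inv ≫ pullback.snd ι' (pullback.fst g g) ≫ pullback.snd g g = pullback.snd (ι' ≫ g) g := by
    simp [e]
  rw [← h1, Scheme.Hom.ker_comp_of_isIso]
  have h2 : (pullback.fst (pullback.fst g g) ι' ≫ pullback.snd g g).ker =
      ((J'.comap (pullback.snd g g)).subschemeι ≫ pullback.snd g g).ker := by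
    rw [← J'.comapIso_inv_subschemeι (pullback.fst g g), Category.assoc, Scheme.Hom.ker_comp_of_isIso, h]
  rw [show pullback.snd ι' (pullback.fst g g) = (pullbackSymmetry _ _).hom ≫ pullback.fst (pullback.fst g g) ι' from
    (pullbackSymmetry_hom_comp_fst _ _).symm, Category.assoc, Scheme.Hom.ker_comp_of_isIso, h2,
    ← J'.comapIso_hom_fst (pullback.snd g g), Category.assoc, Scheme.Hom.ker_comp_of_isIso]
  change (pullback.fst (pullback.snd g g) ι' ≫ pullback.snd g g).ker = J'
  rw [pullback.condition]
  haveI := isSchemeTheoreticallyDominant_of_flat (pullback.snd (pullback.snd g g) ι')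
  rw [Scheme.Hom.ker_comp, (pullback.snd (pullback.snd g g) ι').ker_eq_bot, Scheme.IdealSheafData.map_bot]
  exact J'.ker_subschemeι

end Groth.Agent.Desc19b
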