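import Groth.Agent.AlgSpLib.FpqcBaseImm
import Groth.Agent.AlgSpLib.FppfLocal
import Groth.Agent.H8Lim.ProConsLimit
import Groth.Agent.Desc19b.Source
import Groth.Prelude.Def_Flat

/-! Descent of embeddings, immersions, universal homeomorphisms; scheme-theoretic image and flat base change. -/

set_option autoImplicit false
set_option backward.isDefEq.respectTransparency.types false

universe u

open CategoryTheory CategoryTheory.Limits AlgebraicGeometry Topology

namespace Groth.Agent.Desc19b

variable {P X Y Y' : Scheme.{u}} {p : P ⟶ X} {f' : P ⟶ Y'} {f : X ⟶ Y} {q : Y' ⟶ Y}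

/-- Embeddings descend along flat surjections, for quasi-compact morphisms. -/
theorem isEmbedding_of_pullback [QuasiCompact f] [Flat q] [Surjective q]
    (h : IsPullback p f' f q) (hf : IsEmbedding f') : IsEmbedding f := by
  have hp : Function.Surjective p :=
    (MorphismProperty.of_isPullback (P := @Surjective) h.flip inferInstance : Surjective p).surj
  refine ⟨⟨le_antisymm f.continuous.le_induced fun U hU => ?_⟩, injective_of_pullback f q p f' h hf.injective⟩
  let F : Set X := Uᶜ
  have hF : IsClosed F := hU.isClosed_compl
  have hE : ProCons.IsProConstructible (f '' F) :=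
    H8ProCons.isProConstructible_image f (H8ProCons.isProConstructible_iff_compl.2
      (H8ProCons.isIndConstructible_of_isOpen hF.isOpen_compl))
  have e : F = f ⁻¹' closure (f '' F) := by
    refine Set.Subset.antisymm (fun x hx => subset_closure ⟨x, hx, rfl⟩) fun x hx => ?_
    obtain ⟨x', rfl⟩ := hp x
    have hx' : f' x' ∈ closure (f' '' (p ⁻¹' F)) := by
      rw [Scheme.image_preimage_eq_of_isPullback h, ← H8Lim.preimage_closure_of_flat q hE]
      show q (f' x') ∈ closure _
      rw [← Scheme.Hom.comp_apply, ← h.w, Scheme.Hom.comp_apply]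
      exact hx
    have : x' ∈ closure (p ⁻¹' F) := by rw [hf.isInducing.closure_eq_preimage_closure_image]; exact hx'
    rwa [(hF.preimage p.continuous).closure_eq] at this
  exact ⟨(closure (f '' F))ᶜ, isClosed_closure.isOpen_compl, by rw [Set.preimage_compl, ← e, compl_compl]⟩

theorem descendsAlong_isEmbedding_qc :
    MorphismProperty.DescendsAlong (topologically (fun f => IsEmbedding f) ⊓ @QuasiCompact : MorphismProperty Scheme.{u})
      Et18.FPQC.{u} := ⟨fun {A X Y Z fst snd f g} h hf hfst => by
  have := Et18.descends_quasiCompact.{u}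
  have hq : QuasiCompact g := MorphismProperty.of_isPullback_of_descendsAlong (P := @QuasiCompact) h hf hfst.2
  have : Flat f := hf.1.2
  have : Surjective f := hf.1.1
  exact ⟨isEmbedding_of_pullback h.flip hfst.1, hq⟩⟩

theorem descendsAlong_universally_isEmbedding_qc :
    MorphismProperty.DescendsAlong
      (MorphismProperty.universally (topologically (fun f => IsEmbedding f)) ⊓ @QuasiCompact : MorphismProperty Scheme.{u})
      Et18.FPQC.{u} := ⟨fun {A X Y Z fst snd f g} h hf hfst => by
  have := Et18.descends_quasiCompact.{u}
  have hq : QuasiCompact g := MorphismProperty.of_isPullback_of_descendsAlong (P := @QuasiCompact) h hf hfst.2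
  refine ⟨fun T' T i₁ i₂ f' sq => ?_, hq⟩
  have : Flat f := hf.1.2
  have : Surjective f := hf.1.1
  let fT := pullback.snd f i₂
  have : QuasiCompact f' := MorphismProperty.of_isPullback (P := @QuasiCompact) sq.flip hq
  have sqA := (IsPullback.of_hasPullback f' fT).paste_horiz sq.flip
  have w : (pullback.fst f' fT ≫ i₁) ≫ g = (pullback.snd f' fT ≫ pullback.fst f i₂) ≫ f := by
    rw [Category.assoc, Category.assoc, pullback.condition]
    exact sqA.w
  rw [show fT ≫ i₂ = pullback.fst f i₂ ≫ f from pullback.condition.symm, ← h.flip.lift_fst _ _ w] at sqA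
  have sqB := IsPullback.of_right sqA (h.flip.lift_snd _ _ w) h.flip
  exact isEmbedding_of_pullback (IsPullback.of_hasPullback f' fT) (hfst.1 _ _ _ sqB.flip)⟩

theorem descendsAlong_isUnivHomeo :
    MorphismProperty.DescendsAlong (FlatMor.IsUnivHomeo.{u}) Et18.FPQC.{u} := by
  have key : ∀ {X Y : Scheme.{u}} (f : X ⟶ Y), FlatMor.IsUnivHomeo f ↔
      UniversallyClosed f ∧ UniversallyInjective f ∧ Surjective f := fun {X Y} f => by
    constructor
    · intro h
      exact ⟨universallyClosed_eq ▸ MorphismProperty.universally_mono (show topologically (fun f => IsHomeomorph f) ≤ topologically @IsClosedMap from fun _ _ g hg => hg.isClosedMap) _ h,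
        universallyInjective_eq ▸ MorphismProperty.universally_mono (show topologically (fun f => IsHomeomorph f) ≤ topologically (fun f => Function.Injective f) from fun _ _ g hg => hg.injective) _ h,
        ⟨(MorphismProperty.universally_le _ _ h : IsHomeomorph f).surjective⟩⟩
    · rintro ⟨h1, h2, h3⟩ T' T i₁ i₂ f' sq
      have : UniversallyClosed f' := MorphismProperty.of_isPullback sq.flip h1
      have : UniversallyInjective f' := MorphismProperty.of_isPullback sq.flip h2
      have : Surjective f' := MorphismProperty.of_isPullback sq.flip h3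
      exact isHomeomorph_iff_continuous_isClosedMap_bijective.2 ⟨f'.continuous, f'.isClosedMap, f'.injective, f'.surjective⟩
  refine ⟨fun {A X Y Z fst snd f g} h hf hfst => ?_⟩
  obtain ⟨h1, h2, h3⟩ := (key _).1 hfst
  exact (key _).2 ⟨MorphismProperty.of_isPullback_of_descendsAlong (P := @UniversallyClosed) h hf h1,
    MorphismProperty.of_isPullback_of_descendsAlong (P := @UniversallyInjective) h hf h2,
    MorphismProperty.of_isPullback_of_descendsAlong (P := @Surjective) h hf h3⟩

/-- The kernel of a quasi-compact morphism commutes with flat base change. -/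
theorem ker_pullback_snd_of_flat {X Y Y' : Scheme.{u}} (f : X ⟶ Y) (g : Y' ⟶ Y)
    [QuasiCompact f] [Flat g] : (pullback.snd f g).ker = f.ker.comap g := by
  have := AlgSpLib.isSchemeTheoreticallyDominant_toImage f
  have sq := ((IsPullback.of_hasPullback f.toImage (pullback.snd g f.imageι)).paste_vert
    (IsPullback.of_hasPullback g f.imageι).flip)
  rw [Scheme.Hom.toImage_imageι] at sq
  rw [← Scheme.Hom.ker_comp_of_isIso (sq.isoPullback.hom), sq.isoPullback_hom_snd, Scheme.Hom.ker_comp,
    (pullback.snd f.toImage (pullback.snd g f.imageι)).ker_eq_bot, Scheme.IdealSheafData.map_bot,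
    Scheme.IdealSheafData.ker_fst_of_isClosedImmersion, Scheme.Hom.imageι, Scheme.IdealSheafData.ker_subschemeι]

theorem descendsAlong_immersion_qc :
    MorphismProperty.DescendsAlong (@IsImmersion ⊓ @QuasiCompact : MorphismProperty Scheme.{u}) Et18.FPQC.{u} :=
  ⟨fun {A X Y Z fst snd f g} h hf hfst => by
    refine AlgSpLib.descends_qcImmersion_family (m := 1) g (fun _ => f) (fun _ => hf.1.2) (fun _ => hf.2)
      (fun y => ?_) (fun _ => ?_)
    · obtain ⟨x, hx⟩ := hf.1.1.surj y
      exact ⟨0, x, hx⟩
    · rw [← h.flip.isoPullback_inv_snd]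
      exact ⟨MorphismProperty.RespectsIso.precomp (P := @IsImmersion) _ _ hfst.1,
        MorphismProperty.RespectsIso.precomp (P := @QuasiCompact) _ _ hfst.2⟩⟩

theorem descendsAlong_immersion_fppf :
    MorphismProperty.DescendsAlong (@IsImmersion : MorphismProperty Scheme.{u})
      (@Surjective ⊓ @Flat ⊓ @LocallyOfFinitePresentation : MorphismProperty Scheme.{u}) :=
  ⟨fun {A X Y Z fst snd f g} h hf hfst => by
    have : Flat f := hf.1.2
    have : Surjective f := hf.1.1
    have : LocallyOfFinitePresentation f := hf.2
    have hfi : IsImmersion fst := hfst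
    let E := Set.range g
    have e : f ⁻¹' E = Set.range fst := by
      rw [show E = g '' Set.univ from Set.image_univ.symm, ← Scheme.image_preimage_eq_of_isPullback h.flip, Set.preimage_univ, Set.image_univ]
    have hU : IsOpen (coborder E) := by
      rw [← Set.image_preimage_eq (coborder E) f.surjective, ← coborder_preimage f.isOpenMap f.continuous, e]
      exact f.isOpenMap _ (isLocallyClosed_iff_isOpen_coborder.1 fst.isLocallyClosed_range)
    let U : Z.Opens := ⟨coborder E, hU⟩
    let g₁ : Y ⟶ U := IsOpenImmersion.lift U.ι g (by rw [Scheme.Opens.range_ι]; exact subset_coborder)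
    have hg₁ : g₁ ≫ U.ι = g := IsOpenImmersion.lift_fac _ _ _
    let fU := f ∣_ U
    have sqU := isPullback_morphismRestrict f U
    have sqA := IsPullback.of_hasPullback g₁ fU
    have hg : IsClosedImmersion (pullback.snd g₁ fU) := by
      have sq' := sqA.paste_vert sqU
      rw [hg₁] at sq'
      have hi : IsImmersion (pullback.snd g₁ fU ≫ (f ⁻¹ᵁ U).ι) := by
        rw [← sq'.isoIsPullback_hom_snd _ _ h.flip]
        exact MorphismProperty.RespectsIso.precomp (P := @IsImmersion) _ _ hfi
      have : IsImmersion (pullback.snd g₁ fU) := IsImmersion.of_comp _ (f ⁻¹ᵁ U).ι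
      refine IsClosedImmersion.of_isPreimmersion _ ?_
      have hc : IsClosed (Set.range g₁) := by
        have e' : Set.range g₁ = U.ι ⁻¹' closure E := by
          ext z
          constructor
          · rintro ⟨y, rfl⟩
            exact subset_closure ⟨y, by rw [← hg₁]; rfl⟩
          · intro hz
            obtain ⟨y, hy⟩ := closure_inter_coborder.subset ⟨hz, z.2⟩
            exact ⟨y, U.ι.isOpenEmbedding.injective (by rw [← Scheme.Hom.comp_apply, hg₁, hy])⟩
        rw [e']
        exact isClosed_closure.preimage U.ι.continuous
      rw [← Set.image_univ, ← Set.preimage_univ (f := pullback.fst g₁ fU), Scheme.image_preimage_eq_of_isPullback sqA, Set.image_univ]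
      exact hc.preimage fU.continuous
    have : Flat fU := MorphismProperty.of_isPullback (isPullback_morphismRestrict f U).flip ‹Flat f›
    have : Surjective fU := MorphismProperty.of_isPullback (isPullback_morphismRestrict f U).flip ‹Surjective f›
    have : LocallyOfFinitePresentation fU := MorphismProperty.of_isPullback (isPullback_morphismRestrict f U).flip ‹LocallyOfFinitePresentation f›
    have : IsClosedImmersion g₁ :=
      MorphismProperty.IsLocalAtTarget.of_forall_pullbackSnd (P := @IsClosedImmersion) fU.singleton_mem_fppfPrecoverage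
        (by rintro _ _ _ ⟨⟩; exact hg)
    rw [← hg₁]
    infer_instance⟩

end Groth.Agent.Desc19b
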