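import Groth.Prelude.Def_FDesc
import Groth.Agent.AssSch12.Primary
import Groth.Agent.H8Lim.ProConsLimit

/-! Quasi-flat morphisms: universal lifting of generalisations and its topological consequences. -/

set_option autoImplicit false
set_option linter.style.haveILetI false
set_option backward.isDefEq.respectTransparency false
set_option backward.isDefEq.respectTransparency.types false

universe u

open CategoryTheory CategoryTheory.Limits AlgebraicGeometry TensorProduct Topology

namespace Groth.Agent.Desc19b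

/-- A finite module, flat over the base, not killed near `q`, gives primes below `q` over smaller primes. -/
theorem exists_prime_le_comap_eq {A T : Type u} [CommRing A] [CommRing T] [Algebra A T]
    (N : Type u) [AddCommGroup N] [Module T N] [Module A N] [IsScalarTower A T N] [Module.Finite T N]
    [Module.Flat A N] (q : Ideal T) [q.IsPrime] (n₀ : N) (hn₀ : ∀ r, r ∉ q → r • n₀ ≠ 0)
    (p : Ideal A) [p.IsPrime] (hp : p ≤ q.comap (algebraMap A T)) :
    ∃ q₁ : Ideal T, q₁.IsPrime ∧ q₁ ≤ q ∧ q₁.comap (algebraMap A T) = p := by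
  let Sg : Submonoid T := q.primeCompl ⊔ Algebra.algebraMapSubmonoid T p.primeCompl
  have hd : Disjoint ((p.map (algebraMap A T) : Ideal T) : Set T) Sg := by
    rw [Set.disjoint_left]
    rintro t ht ht'
    obtain ⟨r, hr, _, ⟨a, ha, rfl⟩, rfl⟩ := Submonoid.mem_sup.1 ht'
    have htf : ∀ x : N, a • x ∈ p • (⊤ : Submodule A N) → x ∈ p • (⊤ : Submodule A N) := by
      intro x hx
      let μ : A ⧸ p →ₗ[A] A ⧸ p := LinearMap.lsmul A _ a
      have hμ : Function.Injective μ := by
        refine (injective_iff_map_eq_zero _).2 fun z hz => ?_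
        obtain ⟨z, rfl⟩ := Ideal.Quotient.mk_surjective z
        have : a • z ∈ p := Ideal.Quotient.eq_zero_iff_mem.1 hz
        exact Ideal.Quotient.eq_zero_iff_mem.2 ((‹p.IsPrime›.mem_or_mem this).resolve_left ha)
      have h1 : Function.Injective (μ.rTensor N) := Module.Flat.rTensor_preserves_injective_linearMap μ hμ
      have h2 : μ.rTensor N (Ideal.Quotient.mk p 1 ⊗ₜ x) = 0 := by
        apply (TensorProduct.quotTensorEquivQuotSMul N p).injective
        rw [map_zero, LinearMap.rTensor_tmul, show μ (Ideal.Quotient.mk p 1) = Ideal.Quotient.mk p a by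
          simp [μ, Algebra.smul_def]]
        simpa using (Submodule.Quotient.mk_eq_zero _).2 hx
      have h3 := congrArg (TensorProduct.quotTensorEquivQuotSMul N p) (h1 (h2.trans (map_zero _).symm))
      simpa using h3
    let f : Module.End T N := algebraMap T (Module.End T N) r
    have hf : f.range ≤ p.map (algebraMap A T) • (⊤ : Submodule T N) := by
      rintro _ ⟨n, rfl⟩
      have h1 : (r * algebraMap A T a) • n ∈ p.map (algebraMap A T) • (⊤ : Submodule T N) :=
        Submodule.smul_mem_smul ht Submodule.mem_top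
      have e : ∀ y : N, y ∈ p.map (algebraMap A T) • (⊤ : Submodule T N) ↔ y ∈ p • (⊤ : Submodule A N) := fun y => by
        rw [← Submodule.restrictScalars_mem A, Ideal.smul_restrictScalars, Submodule.restrictScalars_top]
      rw [e] at h1 ⊢
      rw [mul_comm, mul_smul, algebraMap_smul] at h1
      exact htf _ h1
    obtain ⟨P, hP, -, hc, hz⟩ := LinearMap.exists_monic_and_coeff_mem_pow_and_aeval_eq_zero_of_range_le_smul T f _ hf
    have hz' : Polynomial.eval r P • n₀ = 0 := by
      have h2 : algebraMap T (Module.End T N) (Polynomial.eval r P) = 0 := by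
        rw [← hz, Polynomial.aeval_algebraMap_apply]
        simp
      exact LinearMap.congr_fun h2 n₀
    have hq : Polynomial.eval r P ∈ q := by
      by_contra h
      exact hn₀ _ h hz'
    have hle : p.map (algebraMap A T) ≤ q := Ideal.map_le_iff_le_comap.2 hp
    rw [Polynomial.eval_eq_sum_range, Finset.sum_range_succ, hP.coeff_natDegree, one_mul] at hq
    have : ∑ k ∈ Finset.range P.natDegree, P.coeff k * r ^ k ∈ q := by
      refine Ideal.sum_mem _ fun k hk => Ideal.mul_mem_right _ _ (hle (Ideal.pow_le_self ?_ (hc k)))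
      have := Finset.mem_range.1 hk
      omega
    exact hr (‹q.IsPrime›.mem_of_pow_mem _ ((q.add_mem_iff_right this).1 hq))
  obtain ⟨q₁, hq₁, hle, hdisj⟩ := Ideal.exists_le_prime_disjoint _ _ hd
  refine ⟨q₁, hq₁, fun t ht => ?_, le_antisymm (fun a ha => ?_) (Ideal.map_le_iff_le_comap.1 hle)⟩
  · by_contra h
    exact Set.disjoint_left.1 hdisj ht (le_sup_left (α := Submonoid T) (a := q.primeCompl) h)
  · by_contra h
    exact Set.disjoint_left.1 hdisj ha
      (le_sup_right (α := Submonoid T) (b := Algebra.algebraMapSubmonoid T p.primeCompl) ⟨a, h, rfl⟩)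

/-- The base-changed version. -/
theorem exists_prime_le_tensor {R A S : Type u} [CommRing R] [CommRing A] [CommRing S] [IsLocalRing S]
    [Algebra R A] [Algebra R S] (M : Type u) [AddCommGroup M] [Module S M] [Module R M] [IsScalarTower R S M]
    [Module.Finite S M] [Nontrivial M] [Module.Flat R M]
    (q : Ideal (A ⊗[R] S)) [q.IsPrime]
    (hq : q.comap (Algebra.TensorProduct.includeRight : S →ₐ[R] A ⊗[R] S).toRingHom = IsLocalRing.maximalIdeal S)
    (p : Ideal A) [p.IsPrime] (hp : p ≤ q.comap (Algebra.TensorProduct.includeLeftRingHom : A →+* A ⊗[R] S)) :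
    ∃ q₁ : Ideal (A ⊗[R] S), q₁.IsPrime ∧ q₁ ≤ q ∧
      q₁.comap (Algebra.TensorProduct.includeLeftRingHom : A →+* A ⊗[R] S) = p := by
  letI := (Algebra.TensorProduct.rightAlgebra : Algebra S (A ⊗[R] S))
  let e := Algebra.IsPushout.cancelBaseChange R A S (A ⊗[R] S) M
  haveI : Module.Flat A ((A ⊗[R] S) ⊗[S] M) := Module.Flat.of_linearEquiv e
  obtain ⟨Q, hQ, -⟩ : ∃ Q : Submodule S M, IsCoatom Q ∧ ⊥ ≤ Q := by
    obtain h | h := IsCoatomic.eq_top_or_exists_le_coatom (⊥ : Submodule S M)
    · exact absurd h bot_ne_top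
    · exact h
  haveI : IsSimpleModule S (M ⧸ Q) := isSimpleModule_iff_isCoatom.2 hQ
  obtain ⟨I, hI, ⟨l⟩⟩ := isSimpleModule_iff_quot_maximal.1 ‹IsSimpleModule S (M ⧸ Q)›
  obtain ⟨m₀, hm₀⟩ := Submodule.Quotient.mk_surjective _ (l.symm (Ideal.Quotient.mk I 1))
  have hIq : I ≤ q.comap (algebraMap S (A ⊗[R] S)) := by
    rw [IsLocalRing.eq_maximalIdeal hI, ← hq]
    exact fun s hs => hs
  let ι : (S ⧸ I) →ₗ[S] (A ⊗[R] S) ⧸ q :=
    Submodule.liftQ I (LinearMap.toSpanSingleton S ((A ⊗[R] S) ⧸ q) 1) fun s hs => by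
      rw [LinearMap.mem_ker, LinearMap.toSpanSingleton_apply]
      show Submodule.Quotient.mk (p := q) (s • (1 : A ⊗[R] S)) = 0
      rw [Submodule.Quotient.mk_eq_zero, Algebra.smul_def, mul_one]
      exact hIq hs
  let ψ : (A ⊗[R] S) ⊗[S] M →ₗ[A ⊗[R] S] (A ⊗[R] S) ⧸ q :=
    (ι.comp (l.toLinearMap.comp Q.mkQ)).liftBaseChange (A ⊗[R] S)
  refine exists_prime_le_comap_eq ((A ⊗[R] S) ⊗[S] M) q (1 ⊗ₜ m₀) (fun r hr h0 => ?_) p hp
  have := congrArg ψ h0
  rw [map_smul, map_zero] at this
  have h1 : ψ (1 ⊗ₜ m₀) = 1 := by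
    simp only [ψ, LinearMap.liftBaseChange_tmul, LinearMap.comp_apply, LinearEquiv.coe_coe, Submodule.mkQ_apply, hm₀,
      LinearEquiv.apply_symm_apply, one_smul, ι]
    erw [Submodule.liftQ_apply]
    simp
  rw [h1] at this
  change Submodule.Quotient.mk (p := q) (r • (1 : A ⊗[R] S)) = 0 at this
  rw [Submodule.Quotient.mk_eq_zero, smul_eq_mul, mul_one] at this
  exact hr this

open Groth.Agent.AssSch12 Groth.Agent.QCohLoc in
theorem finite_stalk' {X : Scheme.{u}} {M : X.Modules} (hM : Coh.IsCoh M) (x : X) :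
    Module.Finite (X.presheaf.stalk x) (M.presheaf.stalk x) := by
  haveI := hM.1
  obtain ⟨_, ⟨V, hV, rfl⟩, hxV, -⟩ :=
    X.isBasis_affineOpens.exists_subset_of_mem_open (Set.mem_univ x) isOpen_univ
  obtain ⟨G, hG⟩ := ((Coherent.isCoh_iff_finite_sections M).1 hM).2 V hV |>.fg_top
  classical
  refine ⟨⟨G.image (M.presheaf.germ V x hxV), top_le_iff.1 fun z _ => ?_⟩⟩
  obtain ⟨f, m, hf, hm⟩ := exists_smul_stalk_eq_germ M hV hxV z
  have hu : IsUnit (X.presheaf.germ V x hxV f) := (Scheme.mem_basicOpen _ _ _ hxV).1 hf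
  rw [← Submodule.smul_mem_iff_of_isUnit _ hu, hm]
  clear hm
  have : m ∈ Submodule.span Γ(X, V) (G : Set Γ(M, V)) := hG.ge trivial
  induction this using Submodule.span_induction with
  | mem a ha => exact Submodule.subset_span (by simpa using ⟨a, ha, rfl⟩)
  | zero => rw [map_zero]; exact zero_mem _
  | add a b _ _ ha hb => rw [map_add]; exact add_mem ha hb
  | smul r a _ ha => rw [germ_smul']; exact Submodule.smul_mem _ _ ha

variable {X Y Y' : Scheme.{u}}

theorem exists_lift_prime {R A S O : CommRingCat.{u}} [IsLocalRing S] [IsLocalRing O] (a : R ⟶ A) (b : R ⟶ S)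
    (θ₁ : A ⟶ O) (θ₂ : S ⟶ O) [IsLocalHom θ₂.hom] (w : a ≫ θ₁ = b ≫ θ₂)
    (M : Type u) [AddCommGroup M] [Module S M] [Module.Finite S M] [Nontrivial M]
    (hflat : letI := Module.compHom M b.hom; Module.Flat R M)
    (p : Spec A) (hp : p.asIdeal ≤ (Spec.map θ₁ (IsLocalRing.closedPoint O)).asIdeal) :
    ∃ (T : CommRingCat.{u}) (inl : A ⟶ T) (inr : S ⟶ T) (θ : T ⟶ O), a ≫ inl = b ≫ inr ∧ inl ≫ θ = θ₁ ∧
      inr ≫ θ = θ₂ ∧ ∃ q₁ : Spec T, q₁ ⤳ Spec.map θ (IsLocalRing.closedPoint O) ∧ Spec.map inl q₁ = p := by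
  letI : Algebra R A := a.hom.toAlgebra
  letI : Algebra R S := b.hom.toAlgebra
  letI : Module R M := Module.compHom M b.hom
  haveI : IsScalarTower R S M := .of_algebraMap_smul fun _ _ => rfl
  haveI : Module.Flat R M := hflat
  letI : Algebra R O := (a ≫ θ₁).hom.toAlgebra
  let l₁ : A →ₐ[R] O := { toRingHom := θ₁.hom, commutes' := fun r => rfl }
  let l₂ : S →ₐ[R] O := { toRingHom := θ₂.hom, commutes' := fun r => (RingHom.congr_fun (congrArg CommRingCat.Hom.hom w) r).symm }
  let θ : A ⊗[R] S →ₐ[R] O := Algebra.TensorProduct.lift l₁ l₂ fun _ _ => Commute.all _ _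
  let inl : A ⟶ CommRingCat.of (A ⊗[R] S) := CommRingCat.ofHom Algebra.TensorProduct.includeLeftRingHom
  let inr : S ⟶ CommRingCat.of (A ⊗[R] S) :=
    CommRingCat.ofHom (Algebra.TensorProduct.includeRight : S →ₐ[R] A ⊗[R] S).toRingHom
  let θ' : CommRingCat.of (A ⊗[R] S) ⟶ O := CommRingCat.ofHom θ.toRingHom
  have hab : a ≫ inl = b ≫ inr := by
    ext r
    exact RingHom.congr_fun (Algebra.TensorProduct.includeLeftRingHom_comp_algebraMap (R := R) (A := A) (B := S)) r
  have e₁ : inl ≫ θ' = θ₁ := by ext s; simp [inl, θ', θ, l₁]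
  have e₂ : inr ≫ θ' = θ₂ := by ext s; simp [inr, θ', θ, l₂]
  let q : Ideal (A ⊗[R] S) := (IsLocalRing.maximalIdeal O).comap θ.toRingHom
  have hqm : q.comap (Algebra.TensorProduct.includeRight : S →ₐ[R] A ⊗[R] S).toRingHom =
      IsLocalRing.maximalIdeal S := by
    rw [Ideal.comap_comap]
    show (IsLocalRing.maximalIdeal O).comap (inr ≫ θ').hom = _
    rw [e₂]
    exact ((IsLocalRing.local_hom_TFAE θ₂.hom).out 0 4).1 ‹IsLocalHom θ₂.hom›
  have hpq : p.asIdeal ≤ q.comap (Algebra.TensorProduct.includeLeftRingHom : A →+* A ⊗[R] S) := by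
    rw [Ideal.comap_comap]
    show p.asIdeal ≤ (IsLocalRing.maximalIdeal O).comap (inl ≫ θ').hom
    rw [e₁]
    exact hp
  haveI := p.isPrime
  obtain ⟨q₁, hq₁, hle, hq₁p⟩ := exists_prime_le_tensor M q hqm p.asIdeal hpq
  exact ⟨CommRingCat.of (A ⊗[R] S), inl, inr, θ', hab, e₁, e₂, ⟨q₁, hq₁⟩,
    (PrimeSpectrum.le_iff_specializes (R := A ⊗[R] S) ⟨q₁, hq₁⟩ ⟨q, inferInstance⟩).1 hle,
    PrimeSpectrum.ext hq₁p⟩

/-- The base change of a quasi-flat morphism lifts generalisations. -/
theorem generalizingMap_pullback_fst (f : X ⟶ Y) {g : Y' ⟶ Y} (hg : FDesc.IsQuasiFlat g) :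
    GeneralizingMap (pullback.fst f g) := by
  obtain ⟨M, hM, hflat, hne⟩ := hg
  intro z' x₁ hx₁
  let x := pullback.fst f g z'
  let y := pullback.snd f g z'
  have hxy : f x = g y := by
    show (pullback.fst f g ≫ f) z' = (pullback.snd f g ≫ g) z'
    rw [pullback.condition]
  haveI : Module.Finite (Y'.presheaf.stalk y) (M.presheaf.stalk y) := finite_stalk' hM y
  haveI : Nontrivial (M.presheaf.stalk y) := hne y
  let a : Y.presheaf.stalk (g y) ⟶ X.presheaf.stalk x :=
    Y.presheaf.stalkSpecializes (specializes_of_eq hxy) ≫ f.stalkMap x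
  have ha : Spec.map a ≫ Y.fromSpecStalk (g y) = X.fromSpecStalk x ≫ f := by
    simp only [a, Spec.map_comp, Category.assoc, Scheme.SpecMap_stalkSpecializes_fromSpecStalk,
      Scheme.SpecMap_stalkMap_fromSpecStalk]
  have hb : Spec.map (g.stalkMap y) ≫ Y.fromSpecStalk (g y) = Y'.fromSpecStalk y ≫ g :=
    Scheme.SpecMap_stalkMap_fromSpecStalk g
  have hθ : a ≫ (pullback.fst f g).stalkMap z' = g.stalkMap y ≫ (pullback.snd f g).stalkMap z' := by
    apply Spec.map_injective
    rw [← cancel_mono (Y.fromSpecStalk (g y)), Spec.map_comp a, Spec.map_comp (g.stalkMap y), Category.assoc,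
      Category.assoc, ha, hb, ← Category.assoc, ← Category.assoc, Scheme.SpecMap_stalkMap_fromSpecStalk,
      Scheme.SpecMap_stalkMap_fromSpecStalk, Category.assoc, Category.assoc, pullback.condition]
  obtain ⟨p, hp⟩ : x₁ ∈ Set.range (X.fromSpecStalk x) := by rw [Scheme.range_fromSpecStalk]; exact hx₁
  have hpm : p.asIdeal ≤ (Spec.map ((pullback.fst f g).stalkMap z') (IsLocalRing.closedPoint _)).asIdeal := by
    refine (IsLocalRing.le_maximalIdeal p.isPrime.ne_top).trans (le_of_eq ?_)
    exact (congrArg PrimeSpectrum.asIdeal (IsLocalRing.comap_closedPoint ((pullback.fst f g).stalkMap z').hom)).symm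
  obtain ⟨T, inl, inr, θ, hab, e₁, e₂, q₁, hsp, hq₁⟩ := exists_lift_prime a (g.stalkMap y)
    ((pullback.fst f g).stalkMap z') ((pullback.snd f g).stalkMap z') hθ (M.presheaf.stalk y) (hflat y) p hpm
  let φ : Spec T ⟶ pullback f g :=
    pullback.lift (Spec.map inl ≫ X.fromSpecStalk x) (Spec.map inr ≫ Y'.fromSpecStalk y) (by
      rw [Category.assoc, Category.assoc, ← ha, ← hb, ← Spec.map_comp_assoc, ← Spec.map_comp_assoc, hab])
  have hθφ : Spec.map θ ≫ φ = (pullback f g).fromSpecStalk z' := by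
    refine pullback.hom_ext ?_ ?_
    · rw [Category.assoc, pullback.lift_fst, ← Spec.map_comp_assoc, e₁]
      exact Scheme.SpecMap_stalkMap_fromSpecStalk _
    · rw [Category.assoc, pullback.lift_snd, ← Spec.map_comp_assoc, e₂]
      exact Scheme.SpecMap_stalkMap_fromSpecStalk _
  refine ⟨φ q₁, ?_, ?_⟩
  · have h := hsp.map φ.continuous
    rwa [show φ (Spec.map θ (IsLocalRing.closedPoint _)) = z' by
      show (Spec.map θ ≫ φ) _ = z'
      rw [hθφ]
      exact Scheme.fromSpecStalk_closedPoint] at h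
  · show (φ ≫ pullback.fst f g) q₁ = x₁
    rw [pullback.lift_fst, Scheme.Hom.comp_apply, hq₁, hp]

theorem generalizingMap_of_isQuasiFlat {f : X ⟶ Y} (hf : FDesc.IsQuasiFlat f) : GeneralizingMap f := by
  intro x y hy
  have h := generalizingMap_pullback_fst (𝟙 Y) hf
  obtain ⟨z, hz⟩ : x ∈ Set.range (pullback.snd (𝟙 Y) f) := (pullback.snd (𝟙 Y) f).homeomorph.surjective x
  have e : pullback.fst (𝟙 Y) f = pullback.snd (𝟙 Y) f ≫ f := by rw [← pullback.condition, Category.comp_id]
  obtain ⟨z₁, h1, h2⟩ := h (a := z) (b := y) (by rw [e, Scheme.Hom.comp_apply, hz]; exact hy)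
  refine ⟨pullback.snd (𝟙 Y) f z₁, hz ▸ h1.map (pullback.snd (𝟙 Y) f).continuous, ?_⟩
  rwa [e, Scheme.Hom.comp_apply] at h2

theorem preimage_closure_of_generalizing (f : X ⟶ Y) (hf : GeneralizingMap f) {E : Set Y}
    (hE : ProCons.IsProConstructible E) : f ⁻¹' closure E = closure (f ⁻¹' E) := by
  refine subset_antisymm (fun x hx ↦ ?_) (f.continuous.closure_preimage_subset E)
  obtain ⟨y, hy, hyx⟩ := (H8Lim.mem_closure_iff_exists_specializes hE).mp hx
  obtain ⟨x', hx', rfl⟩ := hf hyx
  exact (H8Lim.mem_closure_iff_exists_specializes (H8ProCons.isProConstructible_preimage f hE)).mpr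
    ⟨x', hy, hx'⟩

theorem isProConstructible_image_closed (f : X ⟶ Y) [QuasiCompact f] {F : Set X} (hF : IsClosed F) :
    ProCons.IsProConstructible (f '' F) :=
  H8ProCons.isProConstructible_image f (H8ProCons.isProConstructible_iff_compl.2
    (H8ProCons.isIndConstructible_of_isOpen hF.isOpen_compl))

theorem preimage_closure_image_of_saturated (f : X ⟶ Y) (hf : GeneralizingMap f) [QuasiCompact f]
    {F : Set X} (hF : IsClosed F) (hsat : f ⁻¹' (f '' F) = F) : f ⁻¹' closure (f '' F) = F := by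
  rw [preimage_closure_of_generalizing f hf (isProConstructible_image_closed f hF), hsat, hF.closure_eq]

theorem preimage_closure_range_of_generalizing (f : X ⟶ Y) (hf : GeneralizingMap f) (g : Y' ⟶ Y) [QuasiCompact g] :
    f ⁻¹' closure (Set.range g) = closure (f ⁻¹' Set.range g) := by
  refine preimage_closure_of_generalizing f hf ?_
  rw [← Set.image_univ]
  exact isProConstructible_image_closed g isClosed_univ

theorem isQuotientMap_of_generalizing (f : X ⟶ Y) (hf : GeneralizingMap f) [Surjective f] [QuasiCompact f] :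
    IsQuotientMap f := by
  refine (isQuotientMap_iff _).2 ⟨isCoinducing_iff.2 fun U => ⟨fun h => ?_, fun h => h.preimage f.continuous⟩, f.surjective⟩
  have hc : IsClosed (f ⁻¹' Uᶜ) := h.isClosed_compl
  have := preimage_closure_image_of_saturated f hf hc (by rw [Set.image_preimage_eq _ f.surjective])
  rw [Set.image_preimage_eq _ f.surjective] at this
  exact isClosed_compl_iff.1 (closure_subset_iff_isClosed.1
    ((Set.preimage_subset_preimage_iff (by simp [f.surjective.range_eq])).1 this.le))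

theorem isDominant_pullback_snd (f : X ⟶ Y) (g : Y' ⟶ Y) [QuasiCompact f] [IsDominant f] (hg : GeneralizingMap g) :
    IsDominant (pullback.snd f g) := by
  refine ⟨fun y => ?_⟩
  rw [Scheme.Pullback.range_snd, ← preimage_closure_range_of_generalizing g hg f]
  exact IsDominant.denseRange (f := f) (g y)

theorem generalizingMap_snd_of_fiber (f : X ⟶ Y) (g : Y' ⟶ Y) (z : ↥(pullback f g)) (w : Y')
    (hw : w ⤳ pullback.snd f g z) (hgw : g w = f (pullback.fst f g z)) :
    ∃ z₁, z₁ ⤳ z ∧ pullback.snd f g z₁ = w := by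
  let η := f (pullback.fst f g z)
  let j := Y.fromSpecResidueField η
  have hzη : g (pullback.snd f g z) = η := by
    show (pullback.snd f g ≫ g) z = (pullback.fst f g ≫ f) z
    rw [pullback.condition]
  let i : pullback g j ⟶ Y' := pullback.fst g j
  have hi : Set.range i = g ⁻¹' {η} := by
    rw [Scheme.Pullback.range_fst, Scheme.range_fromSpecResidueField]
  obtain ⟨y₀, hy₀⟩ : pullback.snd f g z ∈ Set.range i := by rw [hi]; exact hzη
  obtain ⟨w₀, hw₀⟩ : w ∈ Set.range i := by rw [hi]; exact hgw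
  obtain ⟨z₀, hz₀, hz₀'⟩ := Scheme.Pullback.exists_preimage_pullback (f := pullback.snd f g) (g := i) z y₀ hy₀.symm
  have big := (IsPullback.of_hasPullback (pullback.snd f g) i).flip.paste_vert (IsPullback.of_hasPullback f g).flip
  have hs : i ≫ g = pullback.snd g j ≫ j := pullback.condition
  rw [hs] at big
  haveI : Flat (pullback.snd (pullback.snd f g) i) :=
    MorphismProperty.of_isPullback (P := @Flat)
      (IsPullback.of_right' big.flip (IsPullback.of_hasPullback f j)) inferInstance
  have hemb : Topology.IsEmbedding i := (IsPreimmersion.isEmbedding i)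
  have hsp : w₀ ⤳ pullback.snd (pullback.snd f g) i z₀ := by
    rw [hz₀', ← hemb.isInducing.specializes_iff, hy₀, hw₀]
    exact hw
  obtain ⟨z₁, h1, h2⟩ := Flat.generalizingMap (pullback.snd (pullback.snd f g) i) hsp
  refine ⟨pullback.fst (pullback.snd f g) i z₁, hz₀ ▸ h1.map (pullback.fst (pullback.snd f g) i).continuous, ?_⟩
  show (pullback.fst (pullback.snd f g) i ≫ pullback.snd f g) z₁ = w
  rw [pullback.condition, Scheme.Hom.comp_apply, h2, hw₀]

theorem closure_image_component (f : X ⟶ Y) {g : Y' ⟶ Y}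
    (hf : ∀ Z ∈ irreducibleComponents ↥X, closure (⇑f '' Z) ∈ irreducibleComponents ↥Y)
    (hg : FDesc.IsQuasiFlat g) {Z' : Set ↥(pullback f g)} (hZ' : Z' ∈ irreducibleComponents ↥(pullback f g)) :
    closure (⇑(pullback.snd f g) '' Z') ∈ irreducibleComponents ↥Y' := by
  have hZc := isClosed_of_mem_irreducibleComponents _ hZ'
  obtain ⟨z, hz⟩ := QuasiSober.sober hZ'.1 hZc
  have hzmax : ∀ z₁, z₁ ⤳ z → z₁ = z := fun z₁ h => by
    have hsub : Z' ⊆ closure {z₁} := hz.def ▸ closure_minimal (Set.singleton_subset_iff.2 h.mem_closure) isClosed_closure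
    have e := hZ'.2 isIrreducible_singleton.closure hsub
    exact (h.antisymm (hz.specializes (e (subset_closure rfl)))).eq
  have him : closure (pullback.snd f g '' Z') = closure {pullback.snd f g z} := by
    rw [← hz.def, closure_image_closure (pullback.snd f g).continuous, Set.image_singleton]
  rw [him]
  have hgm := generalizingMap_pullback_fst f hg
  let x := pullback.fst f g z
  have hxmax : ∀ x₁, x₁ ⤳ x → x₁ = x := fun x₁ h => by
    obtain ⟨z₁, h1, h2⟩ := hgm h
    rw [← h2, hzmax z₁ h1]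
  have hxc : closure {x} ∈ irreducibleComponents ↥X := by
    refine ⟨isIrreducible_singleton.closure, fun W hW hle => ?_⟩
    obtain ⟨w, hw⟩ := QuasiSober.sober hW.closure isClosed_closure
    have e := hxmax w (hw.specializes (subset_closure (hle (subset_closure rfl))))
    exact subset_closure.trans (hw.def.symm.le.trans (by rw [e]))
  have hYc := hf _ hxc
  rw [closure_image_closure f.continuous, Set.image_singleton] at hYc
  have hfxmax : ∀ y, y ⤳ f x → y = f x := fun y h => by
    have hsub : closure {f x} ⊆ closure {y} := closure_minimal (Set.singleton_subset_iff.2 h.mem_closure) isClosed_closure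
    have e := hYc.2 isIrreducible_singleton.closure hsub
    exact (h.antisymm (specializes_iff_mem_closure.2 (e (subset_closure rfl)))).eq
  refine ⟨isIrreducible_singleton.closure, fun W hW hle => ?_⟩
  obtain ⟨w, hw⟩ := QuasiSober.sober hW.closure isClosed_closure
  have hwy : w ⤳ pullback.snd f g z := hw.specializes (subset_closure (hle (subset_closure rfl)))
  have hgw : g w = f x := hfxmax _ (by
    have h := hwy.map g.continuous
    rwa [show g (pullback.snd f g z) = f x from by
      show (pullback.snd f g ≫ g) z = (pullback.fst f g ≫ f) z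
      rw [pullback.condition]] at h)
  have key : w = pullback.snd f g z := by
    obtain ⟨z₁, h1, h2⟩ := generalizingMap_snd_of_fiber f g z w hwy hgw
    rw [← h2, hzmax z₁ h1]
  exact subset_closure.trans (hw.def.symm.le.trans (by rw [key]))

end Groth.Agent.Desc19b
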