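import Mathlib

/-!
# Invariant families at a finite stage

For three levels of rings of functions related by gluing maps, the invariant families of the middle level
generate, over the base of each member, the image of the first level.
-/

set_option autoImplicit false
set_option backward.isDefEq.respectTransparency.types false
set_option backward.isDefEq.respectTransparency false
set_option synthInstance.maxHeartbeats 100000

universe u

open TensorProduct Algebra.TensorProduct

namespace Groth.Agent.Desc19b.IndQAAlg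

variable {A : Type u} [CommRing A] {κ : Type u} {B C₀ C₁ C₂ : κ → Type u}
  [∀ k, CommRing (B k)] [∀ k, CommRing (C₀ k)] [∀ k, CommRing (C₁ k)] [∀ k, CommRing (C₂ k)]
  [∀ k, Algebra A (B k)] [∀ k, Algebra A (C₀ k)] [∀ k, Algebra A (C₁ k)] [∀ k, Algebra A (C₂ k)]
  (r : ∀ k, C₁ k →ₐ[A] C₂ k) (φ : ∀ k l, C₁ l →ₐ[A] C₂ k ⊗[A] B l)

/-- The invariant families. -/
def G : Subalgebra A (∀ k, C₁ k) :=
  ⨅ p : κ × κ, AlgHom.equalizer ((φ p.1 p.2).comp (Pi.evalAlgHom A C₁ p.2))
    (((includeLeft : C₂ p.1 →ₐ[A] C₂ p.1 ⊗[A] B p.2).comp (r p.1)).comp (Pi.evalAlgHom A C₁ p.1))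

theorem mem_G {x : ∀ k, C₁ k} : x ∈ G r φ ↔ ∀ k l, φ k l (x l) = r k (x k) ⊗ₜ 1 := by
  simp [G, Algebra.mem_iInf]

/-- The restriction of a family. -/
def res : G r φ →ₐ[A] ∀ k, C₂ k :=
  (Pi.algHom A _ fun k => (r k).comp (Pi.evalAlgHom A C₁ k)).comp (G r φ).val

/-- The restricted invariant families. -/
def G' : Subalgebra A (∀ k, C₂ k) := (res r φ).range

/-- The projection of the restricted families to a factor. -/
def proj (k : κ) : G' r φ →ₐ[A] C₂ k := (Pi.evalAlgHom A C₂ k).comp (G' r φ).val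

/-- The projection of the families to a factor. -/
def projG (k : κ) : G r φ →ₐ[A] C₁ k := (Pi.evalAlgHom A C₁ k).comp (G r φ).val

theorem exists_quotient [Finite κ] [∀ k, Module.Flat A (B k)] (c₁ : ∀ k, B k →ₐ[A] C₁ k)
    (r₀ : ∀ k, C₀ k →ₐ[A] C₁ k) (ψ : ∀ k l, C₀ l →ₐ[A] C₁ k ⊗[A] B l)
    (hB : ∀ k l b, φ k l (c₁ l b) = (1 : C₂ k) ⊗ₜ b)
    (unit : ∀ k x, productMap (AlgHom.id A (C₁ k)) (c₁ k) (ψ k k x) = r₀ k x)
    (assoc : ∀ k l m x, Algebra.TensorProduct.map (φ k l) (AlgHom.id A (B m)) (ψ l m x) =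
      Algebra.TensorProduct.map ((includeLeft : C₂ k →ₐ[A] C₂ k ⊗[A] B l).comp (r k)) (AlgHom.id A (B m))
        (ψ k m x)) (m : κ) :
    ∃ (Q : Type u) (_ : CommRing Q) (μ : Q →+* C₁ m) (π : Q →+* G' r φ ⊗[A] B m),
      Function.Surjective π ∧ (∀ x, μ x = 0 → π x = 0) ∧
      (∀ x, productMap (proj r φ m) ((r m).comp (c₁ m)) (π x) = r m (μ x)) ∧
      ∀ g, ∃ x, μ x = r₀ m g := by
  classical
  cases nonempty_fintype κ
  let d : (∀ k, C₁ k) →ₗ[A] ∀ p : κ × κ, C₂ p.1 ⊗[A] B p.2 := LinearMap.pi fun p =>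
    (φ p.1 p.2).toLinearMap ∘ₗ LinearMap.proj p.2 -
      ((includeLeft : C₂ p.1 →ₐ[A] C₂ p.1 ⊗[A] B p.2).comp (r p.1)).toLinearMap ∘ₗ LinearMap.proj p.1
  let ι₁ : G r φ →ₗ[A] ∀ k, C₁ k := (G r φ).val.toLinearMap
  have hex : Function.Exact ι₁ d := fun x => by
    constructor
    · intro h
      exact ⟨⟨x, (mem_G r φ).2 fun k l => sub_eq_zero.1 (congrFun h (k, l))⟩, rfl⟩
    · rintro ⟨x, rfl⟩
      exact funext fun p => sub_eq_zero.2 ((mem_G r φ).1 x.2 p.1 p.2)
  have hexB := Module.Flat.rTensor_exact (B m) hex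
  let Φ₁ := TensorProduct.piLeft (R := A) (N := B m) (M := C₁) (ι := κ)
  let Φ₂ := TensorProduct.piLeft (R := A) (N := B m) (M := C₂) (ι := κ)
  let Φd := TensorProduct.piLeft (R := A) (N := B m) (M := fun p : κ × κ => C₂ p.1 ⊗[A] B p.2) (ι := κ × κ)
  have hΦ₁ : ∀ z k, Φ₁ z k = LinearMap.rTensor (B m) (LinearMap.proj k) z := by
    intro z k
    induction z with
    | zero => simp
    | tmul f b => simp [Φ₁]
    | add a b ha hb => simp [ha, hb]
  have hΦ₂ : ∀ z k, Φ₂ z k = LinearMap.rTensor (B m) (LinearMap.proj k) z := by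
    intro z k
    induction z with
    | zero => simp
    | tmul f b => simp [Φ₂]
    | add a b ha hb => simp [ha, hb]
  have hΦd : ∀ z p, Φd z p = LinearMap.rTensor (B m) (LinearMap.proj p) z := by
    intro z p
    induction z with
    | zero => simp
    | tmul f b => simp [Φd]
    | add a b ha hb => simp [ha, hb]
  have hd : ∀ z k l, Φd (d.rTensor (B m) z) (k, l) =
      Algebra.TensorProduct.map (φ k l) (AlgHom.id A (B m)) (Φ₁ z l) -
      Algebra.TensorProduct.map ((includeLeft : C₂ k →ₐ[A] C₂ k ⊗[A] B l).comp (r k)) (AlgHom.id A (B m))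
        (Φ₁ z k) := by
    intro z k l
    rw [hΦd, hΦ₁, hΦ₁]
    induction z with
    | zero => simp
    | tmul f b => simp [d, TensorProduct.sub_tmul]
    | add a b ha hb => simp only [map_add, ha, hb]; abel
  let μ := productMap (projG r φ m) (c₁ m)
  let π := Algebra.TensorProduct.map (res r φ).rangeRestrict (AlgHom.id A (B m))
  refine ⟨G r φ ⊗[A] B m, inferInstance, μ.toRingHom, π.toRingHom, ?_, fun x hx => ?_, fun x => ?_, fun g => ?_⟩
  · intro y
    induction y with
    | zero => exact ⟨0, map_zero _⟩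
    | tmul h b =>
      obtain ⟨a, ha⟩ := (res r φ).rangeRestrict_surjective h
      exact ⟨a ⊗ₜ b, by rw [← ha]; rfl⟩
    | add a b ha hb =>
      obtain ⟨a', ha'⟩ := ha
      obtain ⟨b', hb'⟩ := hb
      exact ⟨a' + b', by rw [map_add, ha', hb']⟩
  · -- the components of the restricted family are determined by the member
    have key : ∀ (z : G r φ ⊗[A] B m) (k : κ),
        Φ₂ ((G' r φ).val.toLinearMap.rTensor (B m) (π z)) k = φ k m (μ z) := by
      intro z k
      rw [hΦ₂]
      induction z with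
      | zero => simp
      | tmul h b =>
        simp [π, μ, projG, res, hB, (mem_G r φ).1 h.2 k m, Algebra.TensorProduct.tmul_mul_tmul]
      | add a b ha hb => simp [ha, hb]
    refine Module.Flat.rTensor_preserves_injective_linearMap (M := B m) (G' r φ).val.toLinearMap
      Subtype.val_injective (Φ₂.injective (funext fun k => ?_))
    show Φ₂ ((G' r φ).val.toLinearMap.rTensor (B m) (π x)) k = _
    rw [key, map_zero, map_zero, Pi.zero_apply, show μ x = 0 from hx, map_zero]
  · show productMap (proj r φ m) ((r m).comp (c₁ m)) (π x) = r m (μ x)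
    induction x with
    | zero => simp
    | tmul h b => simp [π, μ, proj, projG, res]
    | add a b ha hb => simp only [map_add, ha, hb]
  · have hy : d.rTensor (B m) (Φ₁.symm fun k => ψ k m g) = 0 := Φd.injective (funext fun ⟨k, l⟩ => by
      rw [hd, Φd.map_zero, Pi.zero_apply, LinearEquiv.apply_symm_apply, assoc, sub_self])
    obtain ⟨z, hz⟩ := (hexB _).1 hy
    refine ⟨z, ?_⟩
    have h1 : ∀ z, μ z = productMap (AlgHom.id A (C₁ m)) (c₁ m) (Φ₁ (ι₁.rTensor (B m) z) m) := by
      intro z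
      rw [hΦ₁]
      induction z with
      | zero => simp
      | tmul h b => simp [μ, ι₁, projG]
      | add a b ha hb => simp [ha, hb]
    show μ z = _
    rw [h1, hz, LinearEquiv.apply_symm_apply]
    exact unit m g

end Groth.Agent.Desc19b.IndQAAlg
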