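import Mathlib.AlgebraicGeometry.QuasiAffine

/-!
# An open immersion criterion for invariant functions

If functions from a quotient `R` of a ring of functions on a middle open generate the functions of a
quasi-affine open, up to restriction, then a smaller open maps to `Spec R` by an open immersion.
-/

set_option autoImplicit false
set_option linter.style.haveILetI false
set_option backward.isDefEq.respectTransparency false
set_option backward.isDefEq.respectTransparency.types false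

universe u

open CategoryTheory CategoryTheory.Limits AlgebraicGeometry TopologicalSpace

noncomputable section

namespace Groth.Agent.Desc19b.IndQA

theorem preimage_ι_basicOpen {Z : Scheme.{u}} (U : Z.Opens) (s : Γ(Z, U)) :
    U.ι ⁻¹ᵁ Z.basicOpen s = U.toScheme.basicOpen (U.topIso.inv s) := by
  rw [← Scheme.Opens.ι_image_basicOpen_topIso_inv, Scheme.Hom.preimage_image_eq]

theorem isOpenImmersion_toSpec {Z : Scheme.{u}} {W₀ W₁ W₂ Ω : Z.Opens} (h₁ : W₁ ≤ W₀) (h₂ : W₂ ≤ W₁)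
    (h₃ : Ω ≤ W₂) [W₀.toScheme.IsQuasiAffine] (hW₁ : IsCompact (W₁ : Set Z)) {Q R : CommRingCat.{u}}
    (μ : Q ⟶ Γ(Z, W₁)) (π : Q ⟶ R) (η : R ⟶ Γ(Z, W₂)) (hπ : Function.Surjective π.hom)
    (hker : ∀ x, μ.hom x = 0 → π.hom x = 0) (hη : π ≫ η = μ ≫ Z.presheaf.map (homOfLE h₂).op)
    (hgen : ∀ g, ∃ x, μ.hom x = (Z.presheaf.map (homOfLE h₁).op).hom g) :
    IsOpenImmersion (Ω.toSpecΓ ≫ Spec.map (η ≫ Z.presheaf.map (homOfLE h₃).op)) := by
  refine IsZariskiLocalAtTarget.of_forall_source_exists_preimage _ fun v => ?_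
  -- an affine basic open of `W₀` inside `Ω`
  obtain ⟨_, ⟨_, ⟨g₀, hg₀, rfl⟩, rfl⟩, hv, hvΩ⟩ := (Scheme.IsQuasiAffine.isBasis_basicOpen
    W₀.toScheme).exists_subset_of_mem_open (show (⟨v.1, h₁ (h₂ (h₃ v.2))⟩ : W₀.toScheme) ∈ W₀.ι ⁻¹ᵁ Ω from v.2)
    (W₀.ι ⁻¹ᵁ Ω).isOpen
  let g : Γ(Z, W₀) := W₀.topIso.hom g₀
  have hgD : W₀.ι ⁻¹ᵁ Z.basicOpen g = W₀.toScheme.basicOpen g₀ := by
    rw [preimage_ι_basicOpen]
    exact congrArg _ (W₀.topIso.hom_inv_id_apply g₀)
  have hle : Z.basicOpen g ≤ W₀ := Z.basicOpen_le g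
  have hgΩ : Z.basicOpen g ≤ Ω := fun z hz => by
    have : (⟨z, hle hz⟩ : W₀.toScheme) ∈ W₀.toScheme.basicOpen g₀ := hgD ▸ hz
    exact hvΩ this
  have hgaff : IsAffineOpen (Z.basicOpen g) := by
    have := hg₀.image_of_isOpenImmersion W₀.ι
    rwa [← hgD, Scheme.Hom.image_preimage_eq_opensRange_inf, Scheme.Opens.opensRange_ι,
      inf_of_le_right hle] at this
  have hvg : v.1 ∈ Z.basicOpen g := by
    have : (⟨v.1, h₁ (h₂ (h₃ v.2))⟩ : W₀.toScheme) ∈ W₀.ι ⁻¹ᵁ Z.basicOpen g := by rw [hgD]; exact hv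
    exact this
  obtain ⟨x₀, hx₀⟩ := hgen g
  let r : R := π.hom x₀
  let res := fun {U V : Z.Opens} (h : U ≤ V) => Z.presheaf.map (homOfLE h).op
  have hresres : ∀ {U V W : Z.Opens} (h : U ≤ V) (h' : V ≤ W), res h' ≫ res h = res (h.trans h') :=
    fun h h' => by simp only [res, ← Functor.map_comp]; rfl
  have hηπ : ∀ {U : Z.Opens} (h : U ≤ W₂) (x : Q),
      (res h).hom (η.hom (π.hom x)) = (res (h.trans h₂)).hom (μ.hom x) := fun h x => by
    have := congrArg (fun F => (F ≫ res h).hom x) hη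
    simp only [Category.assoc, CommRingCat.hom_comp, RingHom.comp_apply] at this
    rw [this, ← hresres h h₂]
    rfl
  have hrg : ∀ {U : Z.Opens} (h : U ≤ W₂),
      (res h).hom (η.hom r) = (res ((h.trans h₂).trans h₁)).hom g := fun {U} h => by
    rw [hηπ h, hx₀, ← hresres (h.trans h₂) h₁]
    rfl
  have hΩD : Z.basicOpen ((res h₃).hom (η.hom r)) = Z.basicOpen g := by
    rw [hrg h₃, Scheme.basicOpen_res]
    exact inf_of_le_right hgΩ
  let i := Ω.toSpecΓ ≫ Spec.map (η ≫ res h₃)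
  have hpre : i ⁻¹ᵁ (PrimeSpectrum.basicOpen r : (Spec R).Opens) = Ω.ι ⁻¹ᵁ Z.basicOpen g := by
    show Ω.toSpecΓ ⁻¹ᵁ (Spec.map (η ≫ res h₃) ⁻¹ᵁ PrimeSpectrum.basicOpen r) = _
    rw [← hΩD]
    simp only [Scheme.Opens.toSpecΓ, Scheme.Hom.comp_preimage, SpecMap_preimage_basicOpen,
      Scheme.toSpecΓ_preimage_basicOpen, CommRingCat.hom_comp, RingHom.comp_apply]
    rw [preimage_ι_basicOpen]
  refine ⟨PrimeSpectrum.basicOpen r, ?_, ?_⟩
  · have : v ∈ i ⁻¹ᵁ (PrimeSpectrum.basicOpen r : (Spec R).Opens) := hpre ▸ hvg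
    exact this
  -- the functions on the basic open
  let α : R ⟶ Γ(Z, Z.basicOpen g) := η ≫ res (hgΩ.trans h₃)
  letI : Algebra R Γ(Z, Z.basicOpen g) := α.hom.toAlgebra
  have hαπ : ∀ x, α.hom (π.hom x) = (res ((hgΩ.trans h₃).trans h₂)).hom (μ.hom x) := fun x => hηπ _ x
  have hαr : α.hom r = (res hle).hom g := hrg _
  haveI : QuasiSeparatedSpace W₀.toScheme := inferInstance
  have hW₀c : IsCompact (W₀ : Set Z) := isCompact_iff_compactSpace.2 (inferInstanceAs (CompactSpace W₀.toScheme))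
  have hW₀q : IsQuasiSeparated (W₀ : Set Z) :=
    (isQuasiSeparated_iff_quasiSeparatedSpace _ W₀.isOpen).2 (inferInstanceAs (QuasiSeparatedSpace W₀.toScheme))
  haveI hloc := isLocalization_basicOpen_of_qcqs hW₀c hW₀q g
  haveI : IsLocalization.Away r Γ(Z, Z.basicOpen g) := by
    constructor; constructor
    · rintro ⟨_, n, rfl⟩
      show IsUnit (α.hom (r ^ n))
      rw [map_pow, hαr]
      exact (RingedSpace.isUnit_res_basicOpen _ g).pow n
    · intro z
      obtain ⟨n, y, e⟩ := exists_eq_pow_mul_of_isCompact_of_isQuasiSeparated Z W₀ hW₀c hW₀q g z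
      obtain ⟨x, hx⟩ := hgen y
      refine ⟨⟨π.hom x, _, n, rfl⟩, ?_⟩
      show z * α.hom (r ^ n) = α.hom (π.hom x)
      rw [map_pow, hαr, hαπ, hx, mul_comm]
      refine (show (res hle).hom g ^ n * z = (res hle).hom y from e.symm).trans ?_
      rw [← hresres ((hgΩ.trans h₃).trans h₂) h₁]
      rfl
    · intro a b hab
      obtain ⟨a, rfl⟩ := hπ a
      obtain ⟨b, rfl⟩ := hπ b
      have h0 : (res ((hgΩ.trans h₃).trans h₂)).hom (μ.hom (a - b)) = 0 := by
        rw [← hαπ, map_sub, map_sub, sub_eq_zero]; exact hab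
      let g₁ := (res h₁).hom g
      have hD₁ : Z.basicOpen g₁ = Z.basicOpen g := by
        simp only [g₁, res, Scheme.basicOpen_res]
        exact inf_of_le_right ((hgΩ.trans h₃).trans h₂)
      obtain ⟨n, hn⟩ := exists_pow_mul_eq_zero_of_res_basicOpen_eq_zero_of_isCompact Z hW₁ (μ.hom (a - b)) g₁ (by
        show (res (Z.basicOpen_le g₁)).hom (μ.hom (a - b)) = 0
        rw [← hresres hD₁.le ((hgΩ.trans h₃).trans h₂), CommRingCat.hom_comp, RingHom.comp_apply, h0, map_zero])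
      refine ⟨⟨_, n, rfl⟩, ?_⟩
      show r ^ n * π.hom a = r ^ n * π.hom b
      rw [← sub_eq_zero, ← mul_sub, ← map_sub]
      show π.hom x₀ ^ n * π.hom (a - b) = 0
      rw [← map_pow, ← map_mul]
      refine hker _ ?_
      rw [map_mul, map_pow, hx₀]
      exact hn
  haveI : IsOpenImmersion (Spec.map α) := .of_isLocalization r
  haveI : IsAffine (Z.basicOpen g).toScheme := hgaff
  have hpost : IsOpenImmersion ((Z.basicOpen g).toSpecΓ ≫ Spec.map α) := by
    haveI : IsIso (Z.basicOpen g).toSpecΓ := by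
      rw [← IsAffineOpen.isoSpec_hom hgaff]; infer_instance
    infer_instance
  have e : Z.homOfLE hgΩ ≫ i = (Z.basicOpen g).toSpecΓ ≫ Spec.map α := by
    simp only [i, α, Spec.map_comp]
    rw [← Scheme.Opens.toSpecΓ_SpecMap_presheaf_map_assoc _ _ hgΩ, ← Spec.map_comp_assoc, hresres]
  let j := IsOpenImmersion.lift (Z.homOfLE hgΩ) (i ⁻¹ᵁ PrimeSpectrum.basicOpen r).ι (by
    rw [Scheme.Opens.range_ι, hpre]
    intro z hz
    refine ⟨⟨z.1, hz⟩, Ω.ι.isOpenEmbedding.injective ?_⟩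
    rw [← Scheme.Hom.comp_apply, Scheme.homOfLE_ι]
    rfl)
  rw [← IsOpenImmersion.lift_fac (Z.homOfLE hgΩ) (i ⁻¹ᵁ PrimeSpectrum.basicOpen r).ι, Category.assoc]
  haveI : IsOpenImmersion j := IsOpenImmersion.of_comp _ (Z.homOfLE hgΩ)
  show IsOpenImmersion (j ≫ Z.homOfLE hgΩ ≫ i)
  rw [e]
  infer_instance

end Groth.Agent.Desc19b.IndQA
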