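import Groth.Agent.Desc19b.IndQATop
import Groth.Agent.Desc19b.IndQAAlg
import Groth.Agent.Desc19b.IndQAImm
import Groth.Agent.FlatMorIndQA.Basic

/-!
# Effective fpqc descent for ind-quasi-affine schemes

Saturations of quasi-compact opens are contained in stable opens embedding openly into the spectrum of
invariant functions taken at a finite stage, so descend.
-/

set_option autoImplicit false
set_option linter.style.haveILetI false
set_option backward.isDefEq.respectTransparency false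
set_option backward.isDefEq.respectTransparency.types false

universe u

open CategoryTheory CategoryTheory.Limits AlgebraicGeometry Desc TensorProduct Algebra.TensorProduct
open Groth.Agent.Desc19b Groth.Agent.Desc19b.EffSepLqf

noncomputable section

namespace Groth.Agent.Desc19b.IndQA

theorem hom_ext_spec {T : Scheme.{u}} {R : CommRingCat.{u}} {a b : T ⟶ Spec R} (h : γ a = γ b) : a = b := by
  rw [← toSpecΓ_γ a, h, toSpecΓ_γ]

theorem homOfLE_topIso {Z : Scheme.{u}} {U W : Z.Opens} (h : U ≤ W) :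
    W.topIso.inv ≫ (Z.homOfLE h).appTop ≫ U.topIso.hom = Z.presheaf.map (homOfLE h).op := by
  simp [← Functor.map_comp]

theorem topIso_homOfLE {Z : Scheme.{u}} {U W : Z.Opens} (h : U ≤ W) :
    (Z.homOfLE h).appTop ≫ U.topIso.hom = W.topIso.hom ≫ Z.presheaf.map (homOfLE h).op := by
  rw [← homOfLE_topIso h, Iso.hom_inv_id_assoc]

theorem γ_toSpecΓ_map {T W : Scheme.{u}} {R : CommRingCat.{u}} (g : T ⟶ W) (p : R ⟶ Γ(W, ⊤)) :
    γ (g ≫ W.toSpecΓ ≫ Spec.map p) = p ≫ g.appTop := by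
  rw [← Category.assoc, γ_specMap, γ_comp]
  simp [γ, Scheme.toSpecΓ_appTop]

/-- A datum over the base as a datum relative to the identity. -/
def underAffine {A : CommRingCat.{u}} {κ : Type u} {B : κ → CommRingCat.{u}}
    {b : ∀ k, A ⟶ B k} (D : SchDDFam (fun k => Spec.map (b k))) :
    SchDDFam (fun k => Spec.map (b k) ≫ 𝟙 (Spec A)) where
  obj := D.obj
  φ T k l x₀ x₁ h := D.φ x₀ x₁ (by simpa using h)
  φ_natural T T' g k l x₀ x₁ h y₀ y₁ hy₀ hy₁ h' v v' hv' := D.φ_natural g x₀ x₁ _ y₀ y₁ hy₀ hy₁ _ v v' hv'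
  φ_self T k x v := D.φ_self x v
  φ_comp T k l m x₀ x₁ x₂ h₀₁ h₁₂ v := D.φ_comp x₀ x₁ x₂ _ _ v

variable {A : CommRingCat.{u}} {κ : Type u} [Finite κ] {B : κ → CommRingCat.{u}} {b : ∀ k, A ⟶ B k}
  (D : SchDDFam (fun k => Spec.map (b k)))

theorem nonempty_subQuot_core (hb : ∀ k, (b k).hom.Flat) (hs : ∀ y, ∃ k z, Spec.map (b k) z = y)
    [∀ k, Flat (Spec.map (b k))] [∀ k, QuasiCompact (Spec.map (b k))]
    (hD : ∀ k, MoreMor.IsIndQuasiAffineHom (D.obj k).hom) (W₀ W₁ W₂ : ∀ k, (D.obj k).left.Opens)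
    (hc₀ : ∀ k, IsCompact (W₀ k : Set (D.obj k).left)) (hc₁ : ∀ k, IsCompact (W₁ k : Set (D.obj k).left))
    (hc₂ : ∀ k, IsCompact (W₂ k : Set (D.obj k).left)) (h₁ : W₁ ≤ core D W₀) (h₂ : W₂ ≤ core D W₁) :
    Nonempty (SubQuot D (core D W₂)) := by
  classical
  have qa : ∀ (k : κ) (W : (D.obj k).left.Opens), IsCompact (W : Set (D.obj k).left) → W.toScheme.IsQuasiAffine :=
    fun k W hW => (FlatMorIndQA.hom_iff _).1 (hD k) ⊤ (isAffineOpen_top _) W (fun _ _ => trivial) hW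
  haveI q₀ : ∀ k, ((W₀ k).toScheme).IsQuasiAffine := fun k => qa k _ (hc₀ k)
  haveI q₁ : ∀ k, ((W₁ k).toScheme).IsQuasiAffine := fun k => qa k _ (hc₁ k)
  haveI q₂ : ∀ k, ((W₂ k).toScheme).IsQuasiAffine := fun k => qa k _ (hc₂ k)
  have h₁₀ : W₁ ≤ W₀ := h₁.trans (core_le D W₀)
  have h₂₁ : W₂ ≤ W₁ := h₂.trans (core_le D W₁)
  obtain ⟨e₁₀, he₁₀⟩ : ∃ e : ∀ k, (W₁ k).toScheme ⟶ (W₀ k).toScheme, ∀ k, e k = (D.obj k).left.homOfLE (h₁₀ k) :=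
    ⟨_, fun _ => rfl⟩
  obtain ⟨e₂₁, he₂₁⟩ : ∃ e : ∀ k, (W₂ k).toScheme ⟶ (W₁ k).toScheme, ∀ k, e k = (D.obj k).left.homOfLE (h₂₁ k) :=
    ⟨_, fun _ => rfl⟩
  -- rings
  let C₀ : κ → CommRingCat.{u} := fun k => Γ((W₀ k).toScheme, ⊤)
  let C₁ : κ → CommRingCat.{u} := fun k => Γ((W₁ k).toScheme, ⊤)
  let C₂ : κ → CommRingCat.{u} := fun k => Γ((W₂ k).toScheme, ⊤)
  let w₀ : ∀ k, (W₀ k).toScheme ⟶ Spec (B k) := fun k => (W₀ k).ι ≫ (D.obj k).hom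
  let w₁ : ∀ k, (W₁ k).toScheme ⟶ Spec (B k) := fun k => (W₁ k).ι ≫ (D.obj k).hom
  let w₂ : ∀ k, (W₂ k).toScheme ⟶ Spec (B k) := fun k => (W₂ k).ι ≫ (D.obj k).hom
  have hw₁₀ : ∀ k, e₁₀ k ≫ w₀ k = w₁ k := fun k => by simp [he₁₀, w₀, w₁]
  have hw₂₁ : ∀ k, e₂₁ k ≫ w₁ k = w₂ k := fun k => by simp [he₂₁, w₁, w₂]
  letI : ∀ k, Algebra A (B k) := fun k => (b k).hom.toAlgebra
  letI : ∀ k, Algebra A (C₀ k) := fun k => (b k ≫ γ (w₀ k)).hom.toAlgebra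
  letI : ∀ k, Algebra A (C₁ k) := fun k => (b k ≫ γ (w₁ k)).hom.toAlgebra
  letI : ∀ k, Algebra A (C₂ k) := fun k => (b k ≫ γ (w₂ k)).hom.toAlgebra
  haveI : ∀ k, Module.Flat A (B k) := fun k => hb k
  have hA₁ : ∀ k, γ (w₁ k ≫ Spec.map (b k)) = CommRingCat.ofHom (algebraMap A (C₁ k)) := fun k => γ_specMap _ _
  have hA₂ : ∀ k, γ (w₂ k ≫ Spec.map (b k)) = CommRingCat.ofHom (algebraMap A (C₂ k)) := fun k => γ_specMap _ _
  have hγ₁₀ : ∀ k, γ (w₀ k) ≫ (e₁₀ k).appTop = γ (w₁ k) := fun k => by rw [← γ_comp, hw₁₀]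
  have hγ₂₁ : ∀ k, γ (w₁ k) ≫ (e₂₁ k).appTop = γ (w₂ k) := fun k => by rw [← γ_comp, hw₂₁]
  let c₁ : ∀ k, B k →ₐ[A] C₁ k := fun k => { (γ (w₁ k)).hom with commutes' := fun r => rfl }
  let r₀ : ∀ k, C₀ k →ₐ[A] C₁ k := fun k =>
    { (e₁₀ k).appTop.hom with commutes' := fun r => congrArg (fun φ => φ.hom (algebraMap A (B k) r)) (hγ₁₀ k) }
  let r : ∀ k, C₁ k →ₐ[A] C₂ k := fun k =>
    { (e₂₁ k).appTop.hom with commutes' := fun r => congrArg (fun φ => φ.hom (algebraMap A (B k) r)) (hγ₂₁ k) }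
  -- overlaps
  let P₁ : κ → κ → Scheme.{u} := fun k l => P D k l (W₁ k)
  let P₂ : κ → κ → Scheme.{u} := fun k l => P D k l (W₂ k)
  let f₁ : ∀ k l, P₁ k l ⟶ (W₁ k).toScheme := fun k l => pullback.fst _ _
  let f₂ : ∀ k l, P₂ k l ⟶ (W₂ k).toScheme := fun k l => pullback.fst _ _
  let z₁ : ∀ k l, P₁ k l ⟶ Spec (B l) := fun k l => pullback.snd _ _
  let z₂ : ∀ k l, P₂ k l ⟶ Spec (B l) := fun k l => pullback.snd _ _
  let σ₁ : ∀ k l, P₁ k l ⟶ (W₀ l).toScheme := fun k l => IsOpenImmersion.lift (W₀ l).ι (σ D k l (W₁ k)) (by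
    rw [Scheme.Opens.range_ι]
    rintro _ ⟨z, rfl⟩
    obtain ⟨a, ha, hrel⟩ := rel_σ D (W₁ k) z
    exact core_le D W₀ l (rel_core D W₀ hrel (h₁ k ha)))
  let σ₂ : ∀ k l, P₂ k l ⟶ (W₁ l).toScheme := fun k l => IsOpenImmersion.lift (W₁ l).ι (σ D k l (W₂ k)) (by
    rw [Scheme.Opens.range_ι]
    rintro _ ⟨z, rfl⟩
    obtain ⟨a, ha, hrel⟩ := rel_σ D (W₂ k) z
    exact core_le D W₁ l (rel_core D W₁ hrel (h₂ k ha)))
  have hσ₁ : ∀ k l, σ₁ k l ≫ (W₀ l).ι = σ D k l (W₁ k) := fun k l => IsOpenImmersion.lift_fac _ _ _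
  have hσ₂ : ∀ k l, σ₂ k l ≫ (W₁ l).ι = σ D k l (W₂ k) := fun k l => IsOpenImmersion.lift_fac _ _ _
  have hσ₁w : ∀ k l, σ₁ k l ≫ w₀ l = z₁ k l := fun k l => by
    simp only [w₀, reassoc_of% (hσ₁ k l)]
    exact (D.φ _ _ (P_cond D k l (W₁ k)) ⟨pullback.fst _ _ ≫ (W₁ k).ι, Category.assoc _ _ _⟩).2
  have hσ₂w : ∀ k l, σ₂ k l ≫ w₁ l = z₂ k l := fun k l => by
    simp only [w₁, reassoc_of% (hσ₂ k l)]
    exact (D.φ _ _ (P_cond D k l (W₂ k)) ⟨pullback.fst _ _ ≫ (W₂ k).ι, Category.assoc _ _ _⟩).2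
  have hρ₁ex : ∀ k l, ∃ ρ : CommRingCat.of (C₁ k ⊗[A] B l) ≅ Γ(P₁ k l, ⊤),
      CommRingCat.ofHom (includeLeft : C₁ k →ₐ[A] C₁ k ⊗[A] B l).toRingHom ≫ ρ.hom = (f₁ k l).appTop ∧
      CommRingCat.ofHom (includeRight : B l →ₐ[A] C₁ k ⊗[A] B l).toRingHom ≫ ρ.hom = γ (z₁ k l) := fun k l => by
    obtain ⟨ρ, e1, e2⟩ := exists_tensor_iso (A := A) (C₁ k) (B l) (sY := w₁ k ≫ Spec.map (b k)) (Iso.refl _)
      ((Category.comp_id _).trans (hA₁ k).symm) (IsPullback.of_hasPullback (w₁ k ≫ Spec.map (b k)) (Spec.map (b l)))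
    exact ⟨ρ, e1.trans (Category.id_comp _), e2⟩
  have hρ₂ex : ∀ k l, ∃ ρ : CommRingCat.of (C₂ k ⊗[A] B l) ≅ Γ(P₂ k l, ⊤),
      CommRingCat.ofHom (includeLeft : C₂ k →ₐ[A] C₂ k ⊗[A] B l).toRingHom ≫ ρ.hom = (f₂ k l).appTop ∧
      CommRingCat.ofHom (includeRight : B l →ₐ[A] C₂ k ⊗[A] B l).toRingHom ≫ ρ.hom = γ (z₂ k l) := fun k l => by
    obtain ⟨ρ, e1, e2⟩ := exists_tensor_iso (A := A) (C₂ k) (B l) (sY := w₂ k ≫ Spec.map (b k)) (Iso.refl _)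
      ((Category.comp_id _).trans (hA₂ k).symm) (IsPullback.of_hasPullback (w₂ k ≫ Spec.map (b k)) (Spec.map (b l)))
    exact ⟨ρ, e1.trans (Category.id_comp _), e2⟩
  choose ρ₁ hρ₁l hρ₁r using hρ₁ex
  choose ρ₂ hρ₂l hρ₂r using hρ₂ex
  let ψ' : ∀ k l, C₀ l ⟶ CommRingCat.of (C₁ k ⊗[A] B l) := fun k l => (σ₁ k l).appTop ≫ (ρ₁ k l).inv
  let φ' : ∀ k l, C₁ l ⟶ CommRingCat.of (C₂ k ⊗[A] B l) := fun k l => (σ₂ k l).appTop ≫ (ρ₂ k l).inv
  have hψρ : ∀ k l, ψ' k l ≫ (ρ₁ k l).hom = (σ₁ k l).appTop := fun k l => by simp [ψ']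
  have hφρ : ∀ k l, φ' k l ≫ (ρ₂ k l).hom = (σ₂ k l).appTop := fun k l => by simp [φ']
  have hcψ : ∀ k l, γ (w₀ l) ≫ ψ' k l = CommRingCat.ofHom (includeRight : B l →ₐ[A] C₁ k ⊗[A] B l).toRingHom :=
    fun k l => by rw [← cancel_mono (ρ₁ k l).hom, Category.assoc, hψρ, hρ₁r, ← γ_comp, hσ₁w]
  have hcφ : ∀ k l, γ (w₁ l) ≫ φ' k l = CommRingCat.ofHom (includeRight : B l →ₐ[A] C₂ k ⊗[A] B l).toRingHom :=
    fun k l => by rw [← cancel_mono (ρ₂ k l).hom, Category.assoc, hφρ, hρ₂r, ← γ_comp, hσ₂w]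
  let ψ : ∀ k l, C₀ l →ₐ[A] C₁ k ⊗[A] B l := fun k l =>
    { (ψ' k l).hom with
      commutes' := fun r => (congrArg (fun φ => φ.hom (algebraMap A (B l) r)) (hcψ k l)).trans
        (AlgHom.commutes _ r) }
  let φ : ∀ k l, C₁ l →ₐ[A] C₂ k ⊗[A] B l := fun k l =>
    { (φ' k l).hom with
      commutes' := fun r => (congrArg (fun φ => φ.hom (algebraMap A (B l) r)) (hcφ k l)).trans
        (AlgHom.commutes _ r) }
  have hφ : ∀ k l, CommRingCat.ofHom (φ k l).toRingHom = φ' k l := fun _ _ => rfl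
  have hB : ∀ k l x, φ k l (c₁ l x) = (1 : C₂ k) ⊗ₜ x := fun k l x => congrArg (fun F => F.hom x) (hcφ k l)
  have hunit : ∀ k x, productMap (AlgHom.id A (C₁ k)) (c₁ k) (ψ k k x) = r₀ k x := by
    intro k x
    let μ := CommRingCat.ofHom (productMap (AlgHom.id A (C₁ k)) (c₁ k)).toRingHom
    let Δ : (W₁ k).toScheme ⟶ P₁ k k := pullback.lift (𝟙 _) (w₁ k) (by simp [w₁])
    have e1 : Δ ≫ f₁ k k = 𝟙 _ := pullback.lift_fst _ _ _
    have e2 : Δ ≫ z₁ k k = w₁ k := pullback.lift_snd _ _ _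
    have e3 : Δ ≫ σ₁ k k = e₁₀ k := by
      rw [← cancel_mono (W₀ k).ι, Category.assoc, hσ₁,
        σ_spec D k k (W₁ k) Δ (w₁ k) (w₁ k) (by show Δ ≫ f₁ k k ≫ _ = _; rw [reassoc_of% e1]) e2 rfl
          ⟨(W₁ k).ι, rfl⟩ (by show _ = Δ ≫ f₁ k k ≫ _; rw [reassoc_of% e1]), D.φ_self]
      simp [he₁₀]
    have hμ : μ = (ρ₁ k k).hom ≫ Δ.appTop := (CommRingCat.isPushout_tensorProduct A (C₁ k) (B k)).hom_ext
      (by erw [reassoc_of% hρ₁l, ← Scheme.Hom.comp_appTop, e1]; ext r; simp [μ]; rfl)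
      (by erw [reassoc_of% hρ₁r, ← γ_comp, e2]; ext r; simp [μ, c₁])
    have e4 : ψ' k k ≫ μ = (e₁₀ k).appTop := by
      rw [hμ, reassoc_of% hψρ, ← Scheme.Hom.comp_appTop, e3]
    exact congrArg (fun F => F.hom x) e4
  have hassoc : ∀ k l m x, Algebra.TensorProduct.map (φ k l) (AlgHom.id A (B m)) (ψ l m x) =
      Algebra.TensorProduct.map ((includeLeft : C₂ k →ₐ[A] C₂ k ⊗[A] B l).comp (r k)) (AlgHom.id A (B m))
        (ψ k m x) := by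
    intro k l m x
    let s' : P₂ k l ⟶ Spec A := f₂ k l ≫ w₂ k ≫ Spec.map (b k)
    have hcond : f₂ k l ≫ w₂ k ≫ Spec.map (b k) = z₂ k l ≫ Spec.map (b l) :=
      pullback.condition (f := w₂ k ≫ Spec.map (b k)) (g := Spec.map (b l))
    let P₃ := pullback s' (Spec.map (b m))
    let p₁₂ : P₃ ⟶ P₂ k l := pullback.fst _ _
    let z₃ : P₃ ⟶ Spec (B m) := pullback.snd _ _
    have hc3 : p₁₂ ≫ f₂ k l ≫ w₂ k ≫ Spec.map (b k) = z₃ ≫ Spec.map (b m) := pullback.condition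
    let p₁₃ : P₃ ⟶ P₁ k m := pullback.lift (p₁₂ ≫ f₂ k l ≫ e₂₁ k) z₃ (by
      show (p₁₂ ≫ f₂ k l ≫ e₂₁ k) ≫ w₁ k ≫ Spec.map (b k) = _
      simp only [Category.assoc]; rw [reassoc_of% (hw₂₁ k)]; exact hc3)
    let p₂₃ : P₃ ⟶ P₁ l m := pullback.lift (p₁₂ ≫ σ₂ k l) z₃ (by
      show (p₁₂ ≫ σ₂ k l) ≫ w₁ l ≫ Spec.map (b l) = _
      simp only [Category.assoc]; rw [reassoc_of% (hσ₂w k l), ← hcond]; exact hc3)
    have e1 : p₁₃ ≫ f₁ k m = p₁₂ ≫ f₂ k l ≫ e₂₁ k := pullback.lift_fst _ _ _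
    have e2 : p₂₃ ≫ f₁ l m = p₁₂ ≫ σ₂ k l := pullback.lift_fst _ _ _
    have e3 : p₁₃ ≫ z₁ k m = z₃ := pullback.lift_snd _ _ _
    have e4 : p₂₃ ≫ z₁ l m = z₃ := pullback.lift_snd _ _ _
    let X₀ := p₁₂ ≫ f₂ k l ≫ w₂ k
    let X₁ := p₁₂ ≫ z₂ k l
    have h01 : X₀ ≫ Spec.map (b k) = X₁ ≫ Spec.map (b l) := by simp only [X₀, X₁, Category.assoc, hcond]
    have h12 : X₁ ≫ Spec.map (b l) = z₃ ≫ Spec.map (b m) := by
      rw [← h01]; simpa only [X₀, Category.assoc] using hc3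
    let t₀ : Lifts (D.obj k) X₀ := ⟨p₁₂ ≫ f₂ k l ≫ (W₂ k).ι, by simp [X₀, w₂]⟩
    have k1 : p₁₂ ≫ σ D k l (W₂ k) = (D.φ X₀ X₁ h01 t₀).1 :=
      σ_spec D k l (W₂ k) p₁₂ X₀ X₁ rfl rfl h01 t₀ rfl
    have k2 : p₂₃ ≫ σ D l m (W₁ l) = (D.φ X₁ z₃ h12 (D.φ X₀ X₁ h01 t₀)).1 :=
      σ_spec D l m (W₁ l) p₂₃ X₁ z₃ (by
          show p₂₃ ≫ f₁ l m ≫ w₁ l = _
          rw [reassoc_of% e2, hσ₂w]) e4 h12 _ (by
          show _ = p₂₃ ≫ f₁ l m ≫ (W₁ l).ι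
          rw [reassoc_of% e2, hσ₂, k1])
    have k3 : p₁₃ ≫ σ D k m (W₁ k) = (D.φ X₀ z₃ (h01.trans h12) t₀).1 :=
      σ_spec D k m (W₁ k) p₁₃ X₀ z₃ (by
          show p₁₃ ≫ f₁ k m ≫ w₁ k = _
          rw [reassoc_of% e1, hw₂₁]) e3 _ _ (by
          show p₁₂ ≫ f₂ k l ≫ _ = p₁₃ ≫ f₁ k m ≫ (W₁ k).ι
          rw [reassoc_of% e1]; simp [he₂₁])
    have k4 : p₂₃ ≫ σ₁ l m = p₁₃ ≫ σ₁ k m := by
      rw [← cancel_mono (W₀ m).ι, Category.assoc, Category.assoc, hσ₁, hσ₁, k2, k3, D.φ_comp]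
    haveI : QuasiCompact (w₂ k ≫ Spec.map (b k)) := (HasAffineProperty.iff_of_isAffine (P := @QuasiCompact)).2
      (inferInstanceAs (CompactSpace ((W₂ k).toScheme)))
    haveI : CompactSpace (P₂ k l) := QuasiCompact.compactSpace_of_compactSpace (z₂ k l)
    haveI : QuasiSeparated (w₂ k ≫ Spec.map (b k)) :=
      (HasAffineProperty.iff_of_isAffine (P := @QuasiSeparated)).2 (inferInstanceAs (QuasiSeparatedSpace ((W₂ k).toScheme)))
    haveI : QuasiSeparatedSpace (P₂ k l) := quasiSeparatedSpace_of_quasiSeparated (z₂ k l)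
    obtain ⟨ρ₃, h31, h32⟩ := exists_tensor_iso (A := A) (C₂ k ⊗[A] B l) (B m) (sY := s') (ρ₂ k l)
      (by
        rw [show CommRingCat.ofHom (algebraMap A (C₂ k ⊗[A] B l)) = CommRingCat.ofHom (algebraMap A (C₂ k)) ≫
          CommRingCat.ofHom (includeLeft : C₂ k →ₐ[A] C₂ k ⊗[A] B l).toRingHom from by ext r; rfl,
          Category.assoc, hρ₂l, ← hA₂, ← γ_comp])
      (IsPullback.of_hasPullback s' (Spec.map (b m)))
    have m13 : CommRingCat.ofHom (Algebra.TensorProduct.map ((includeLeft : C₂ k →ₐ[A] C₂ k ⊗[A] B l).comp (r k))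
        (AlgHom.id A (B m))).toRingHom ≫ ρ₃.hom = (ρ₁ k m).hom ≫ p₁₃.appTop :=
      (CommRingCat.isPushout_tensorProduct A (C₁ k) (B m)).hom_ext
        (by
          erw [reassoc_of% hρ₁l, ← Scheme.Hom.comp_appTop, e1, Scheme.Hom.comp_appTop p₁₂ (f₂ k l ≫ e₂₁ k),
            Scheme.Hom.comp_appTop (f₂ k l) (e₂₁ k), ← hρ₂l, Category.assoc, Category.assoc, ← h31]
          ext r; simp; rfl)
        (by erw [reassoc_of% hρ₁r, ← γ_comp, e3, ← h32]; ext r; simp [Algebra.TensorProduct.one_def])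
    have m23 : CommRingCat.ofHom (Algebra.TensorProduct.map (φ k l) (AlgHom.id A (B m))).toRingHom ≫ ρ₃.hom =
        (ρ₁ l m).hom ≫ p₂₃.appTop :=
      (CommRingCat.isPushout_tensorProduct A (C₁ l) (B m)).hom_ext
        (by
          erw [reassoc_of% hρ₁l, ← Scheme.Hom.comp_appTop, e2, Scheme.Hom.comp_appTop, ← hφρ, Category.assoc, ← h31,
            ← hφ]
          ext r; simp)
        (by erw [reassoc_of% hρ₁r, ← γ_comp, e4, ← h32]; ext r; simp [Algebra.TensorProduct.one_def])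
    have h4 : ψ' l m ≫ CommRingCat.ofHom (Algebra.TensorProduct.map (φ k l) (AlgHom.id A (B m))).toRingHom =
        ψ' k m ≫ CommRingCat.ofHom (Algebra.TensorProduct.map ((includeLeft : C₂ k →ₐ[A] C₂ k ⊗[A] B l).comp (r k))
          (AlgHom.id A (B m))).toRingHom := by
      simp only [← cancel_mono ρ₃.hom, Category.assoc]
      rw [m23, m13, reassoc_of% hψρ, reassoc_of% hψρ,
        ← Scheme.Hom.comp_appTop, ← Scheme.Hom.comp_appTop, k4]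
    exact congrArg (fun F => F.hom x) h4
  -- the invariant functions
  let G' := IndQAAlg.G' r φ
  let Y : κ → Scheme.{u} := fun k => Spec (CommRingCat.of (G' ⊗[A] B k))
  let zz : ∀ k, Y k ⟶ Spec (B k) := fun k =>
    Spec.map (CommRingCat.ofHom (includeRight : B k →ₐ[A] G' ⊗[A] B k).toRingHom)
  let rr : ∀ k, Y k ⟶ Spec (CommRingCat.of G') := fun k =>
    Spec.map (CommRingCat.ofHom (includeLeft : G' →ₐ[A] G' ⊗[A] B k).toRingHom)
  let η : ∀ k, CommRingCat.of (G' ⊗[A] B k) ⟶ C₂ k := fun k =>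
    CommRingCat.ofHom (productMap (IndQAAlg.proj r φ k) ((r k).comp (c₁ k))).toRingHom
  let Ω := core D W₂
  have hst : Stable D Ω := stable_core D W₂
  have hΩ : ∀ k, Ω k ≤ W₂ k := fun k => core_le D W₂ k
  obtain ⟨e₃₂, he₃₂⟩ : ∃ e : ∀ k, (Ω k).toScheme ⟶ (W₂ k).toScheme, ∀ k, e k = (D.obj k).left.homOfLE (hΩ k) :=
    ⟨_, fun _ => rfl⟩
  let i : ∀ k, (Ω k).toScheme ⟶ Y k := fun k => e₃₂ k ≫ ((W₂ k).toScheme).toSpecΓ ≫ Spec.map (η k)
  have hopen : ∀ k, IsOpenImmersion (i k) := fun k => by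
    obtain ⟨Q, hQ, μ, π, hπ, hker, hη, hgen⟩ :=
      IndQAAlg.exists_quotient r φ c₁ r₀ ψ hB hunit hassoc k
    haveI : (W₀ k).toScheme.IsQuasiAffine := q₀ k
    have := isOpenImmersion_toSpec (Ω := Ω k) (h₁₀ k) (h₂₁ k) (hΩ k) (hc₁ k)
      (Q := CommRingCat.of Q) (R := CommRingCat.of (G' ⊗[A] B k))
      (CommRingCat.ofHom μ ≫ (W₁ k).topIso.hom) (CommRingCat.ofHom π) (η k ≫ (W₂ k).topIso.hom) hπ
      (fun x hx => hker x (by
        exact ((W₁ k).topIso.hom_inv_id_apply (μ x)).symm.trans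
          ((congrArg (W₁ k).topIso.inv hx).trans (map_zero _))))
      (by
        have hη' : CommRingCat.ofHom π ≫ η k = CommRingCat.ofHom μ ≫ (e₂₁ k).appTop :=
          CommRingCat.hom_ext (RingHom.ext hη)
        rw [reassoc_of% hη', Category.assoc]
        congr 1
        rw [he₂₁]
        exact topIso_homOfLE _)
      (fun g => by
        obtain ⟨x, hx⟩ := hgen ((W₀ k).topIso.inv g)
        refine ⟨x, ?_⟩
        have e : (W₀ k).topIso.inv ≫ (e₁₀ k).appTop ≫ (W₁ k).topIso.hom =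
            ((D.obj k).left).presheaf.map (homOfLE (h₁₀ k)).op := by
          rw [he₁₀]
          exact homOfLE_topIso _
        show (W₁ k).topIso.hom (μ x) = _
        rw [hx, ← e]
        rfl)
    convert this using 1
    simp only [i, he₃₂, Spec.map_comp, Category.assoc]
    rw [Scheme.Opens.toSpecΓ_SpecMap_presheaf_map_assoc]
    simp [Scheme.Opens.toSpecΓ, ← Spec.map_comp_assoc]
    erw [Spec.map_id, Category.id_comp]
  have hi : ∀ k, i k ≫ zz k = (Ω k).ι ≫ (D.obj k).hom := fun k => by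
    have e : CommRingCat.ofHom (includeRight : B k →ₐ[A] G' ⊗[A] B k).toRingHom ≫ η k = γ (w₂ k) := by
      rw [← hγ₂₁]
      ext x
      exact productMap_right_apply (IndQAAlg.proj r φ k) ((r k).comp (c₁ k)) x
    simp only [i, zz, Category.assoc, ← Spec.map_comp, e, toSpecΓ_γ]
    simp [he₃₂, w₂]
  haveI := hopen
  let D₁ := underAffine (restr D hst)
  have hinv : ∀ {T : Scheme.{u}} {k l : κ} (x : T ⟶ Spec (B k)) (y : T ⟶ Spec (B l))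
      (h : x ≫ Spec.map (b k) ≫ 𝟙 _ = y ≫ Spec.map (b l) ≫ 𝟙 _) (t : Lifts (D₁.obj k) x),
      (D₁.φ x y h t).1 ≫ i l ≫ rr l = t.1 ≫ i k ≫ rr k := by
    intro T k l x y h t
    have h' : x ≫ Spec.map (b k) = y ≫ Spec.map (b l) := by simpa using h
    let τ := (D₁.φ x y h t).1
    let t₂ : Lifts (D.obj k) x := ⟨t.1 ≫ (Ω k).ι, (Category.assoc _ _ _).trans t.2⟩
    have hτ : τ ≫ (Ω l).ι = (D.φ x y h' t₂).1 := resMap_val D hst x y h' t
    have htw : (t.1 ≫ e₃₂ k) ≫ w₂ k = x := by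
      simp only [he₃₂, w₂, Category.assoc, Scheme.homOfLE_ι_assoc]
      exact t.2
    let u : T ⟶ P₂ k l := pullback.lift (t.1 ≫ e₃₂ k) y (by
      show (t.1 ≫ e₃₂ k) ≫ w₂ k ≫ Spec.map (b k) = _
      exact (Category.assoc _ _ _).symm.trans ((congrArg (· ≫ Spec.map (b k)) htw).trans h'))
    have e1 : u ≫ f₂ k l = t.1 ≫ e₃₂ k := pullback.lift_fst _ _ _
    have e2 : τ ≫ e₃₂ l ≫ e₂₁ l = u ≫ σ₂ k l := by
      rw [← cancel_mono (W₁ l).ι, Category.assoc, Category.assoc, Category.assoc, hσ₂,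
        σ_spec D k l (W₂ k) u x y (by
          show u ≫ f₂ k l ≫ w₂ k = _
          exact (Category.assoc _ _ _).symm.trans ((congrArg (· ≫ w₂ k) e1).trans htw))
          (pullback.lift_snd _ _ _) h' t₂ (by
          show _ = u ≫ f₂ k l ≫ (W₂ k).ι
          refine Eq.trans ?_ (((congrArg (· ≫ (W₂ k).ι) e1)).symm.trans (Category.assoc _ _ _))
          simp [t₂, he₃₂])]
      simpa [he₃₂, he₂₁] using hτ
    refine hom_ext_spec ?_
    simp only [i, rr, Category.assoc, ← Spec.map_comp]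
    rw [← Category.assoc, γ_toSpecΓ_map, ← Category.assoc, γ_toSpecΓ_map]
    ext ⟨x', a, rfl⟩
    have ha := (IndQAAlg.mem_G r φ).1 a.2 k l
    show ((τ ≫ e₃₂ l).appTop).hom (η l ((includeLeft : G' →ₐ[A] G' ⊗[A] B l) ⟨_, a, rfl⟩)) =
      ((t.1 ≫ e₃₂ k).appTop).hom (η k ((includeLeft : G' →ₐ[A] G' ⊗[A] B k) ⟨_, a, rfl⟩))
    have he : ∀ m, η m ((includeLeft : G' →ₐ[A] G' ⊗[A] B m) ⟨_, a, rfl⟩) =
        (e₂₁ m).appTop.hom (a.1 m) := fun m =>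
      (productMap_left_apply (IndQAAlg.proj r φ m) ((r m).comp (c₁ m)) _).trans rfl
    rw [he, he]
    have hk : (ρ₂ k l).hom.hom (φ k l (a.1 l)) = (ρ₂ k l).hom.hom (r k (a.1 k) ⊗ₜ[A] 1) := by rw [ha]
    have hl' : (σ₂ k l).appTop.hom (a.1 l) = (f₂ k l).appTop.hom ((e₂₁ k).appTop.hom (a.1 k)) := by
      rw [← hφρ, ← hρ₂l]
      exact hk
    calc (τ ≫ e₃₂ l).appTop.hom ((e₂₁ l).appTop.hom (a.1 l))
        = (τ ≫ e₃₂ l ≫ e₂₁ l).appTop.hom (a.1 l) := by simp only [Scheme.Hom.comp_appTop, Category.assoc]; rfl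
      _ = u.appTop.hom ((σ₂ k l).appTop.hom (a.1 l)) := by rw [e2, Scheme.Hom.comp_appTop]; rfl
      _ = (u ≫ f₂ k l).appTop.hom ((e₂₁ k).appTop.hom (a.1 k)) := by rw [hl', Scheme.Hom.comp_appTop]; rfl
      _ = _ := by rw [e1]
  obtain ⟨U, π, q, hq, hq'⟩ := hasAffineQuotient_of_opens (𝟙 (Spec A)) b hb hs D₁
    (Spec.map (CommRingCat.ofHom (algebraMap A G'))) rr zz
    (fun k => isPullback_SpecMap_of_isPushout _ _ _ _ (CommRingCat.isPushout_tensorProduct A G' (B k)))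
    i hi hinv
  exact ⟨⟨U, π, q, fun k => hq k, fun {T k l} x y h t τ τ' hτ hτ' => by
    have := hq' x y (by simpa using h) ⟨τ, by
      show τ ≫ (Ω k).ι ≫ (D.obj k).hom = x
      rw [reassoc_of% hτ]; exact t.2⟩
    refine Eq.trans ?_ this
    congr 1
    rw [← cancel_mono (Ω l).ι, hτ']
    refine Eq.trans ?_ (resMap_val D hst x y h _).symm
    congr 2
    exact Subtype.ext hτ.symm⟩⟩

theorem hasAffineQuotient_of_indQA {S : Scheme.{u}} {A : CommRingCat.{u}} (j : Spec A ⟶ S) [Mono j]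
    {κ : Type u} [Finite κ] {B : κ → CommRingCat.{u}} (b : ∀ k, A ⟶ B k) (hb : ∀ k, (b k).hom.Flat)
    (hs : ∀ y, ∃ k z, Spec.map (b k) z = y) (D : SchDDFam (fun k => Spec.map (b k) ≫ j))
    (hD : ∀ k, MoreMor.IsIndQuasiAffineHom (D.obj k).hom) : HasAffineQuotient j b D := by
  haveI : ∀ k, Flat (Spec.map (b k)) := fun k => (HasRingHomProperty.Spec_iff (P := @Flat)).2 (hb k)
  haveI : ∀ k, QuasiCompact (Spec.map (b k)) := fun k => inferInstance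
  refine hasAffineQuotient_of_isEffective j b D (SubQuotGlue.isEffective (Quot.finite_family_mem _ hs) fun k v => ?_)
  let D₀ := overAffine D
  obtain ⟨U, hU, hvU, -⟩ := exists_isAffineOpen_mem_and_subset (x := v) (U := (⊤ : (D₀.obj k).left.Opens)) trivial
  let T := satSet D₀ k U
  have hT : ∀ l, IsCompact (T l) := isCompact_satSet D₀ k U hU.isCompact
  choose W₀ hc₀ hT₀ _ using fun l => FlatMorIndQA.exists_compact_between (W := (⊤ : (D₀.obj l).left.Opens))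
    (hT l) fun _ _ => trivial
  choose W₁ hc₁ hT₁ h₁ using fun l => FlatMorIndQA.exists_compact_between (hT l) (satSet_le_core D₀ k U W₀ hT₀ l)
  choose W₂ hc₂ hT₂ h₂ using fun l => FlatMorIndQA.exists_compact_between (hT l) (satSet_le_core D₀ k U W₁ hT₁ l)
  exact ⟨⟨core D₀ W₂, stable_core D₀ W₂, nonempty_subQuot_core D₀ hb hs hD W₀ W₁ W₂ hc₀ hc₁ hc₂ h₁ h₂⟩,
    satSet_le_core D₀ k U W₂ hT₂ k ⟨v, hvU, rel_refl D₀ k v⟩⟩

end Groth.Agent.Desc19b.IndQA
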