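import Groth.Agent.Desc19b.EffAlg
import Groth.Prelude.Def_DescFam

/-! Descent data with affine pieces along a finite flat family of affine schemes have an affine quotient. -/

set_option autoImplicit false
set_option linter.style.haveILetI false
set_option backward.isDefEq.respectTransparency false
set_option backward.isDefEq.respectTransparency.types false

universe u

open CategoryTheory CategoryTheory.Limits AlgebraicGeometry Desc TensorProduct Algebra.TensorProduct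

namespace Groth.Agent.Desc19b

theorem exists_quotient_affine {S : Scheme.{u}} (A : CommRingCat.{u}) (j : Spec A ⟶ S) [Mono j] {κ : Type u}
    [Finite κ] (B : κ → CommRingCat.{u}) (b : ∀ k, A ⟶ B k) (hb : ∀ k, (b k).hom.Flat)
    (D : SchDDFam (fun k => Spec.map (b k) ≫ j)) (hD : ∀ k, IsAffine (D.obj k).left) :
    ∃ (U : Scheme.{u}) (π : U ⟶ Spec A) (q : ∀ k, (D.obj k).left ⟶ U), IsAffine U ∧
      (∀ k, IsPullback (q k) (D.obj k).hom π (Spec.map (b k))) ∧
      ∀ {T : Scheme.{u}} {k l : κ} (x : T ⟶ Spec (B k)) (y : T ⟶ Spec (B l))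
        (h : x ≫ Spec.map (b k) ≫ j = y ≫ Spec.map (b l) ≫ j) (t : Lifts (D.obj k) x),
        (D.φ x y h t).1 ≫ q l = t.1 ≫ q k := by
  classical
  let C : κ → CommRingCat.{u} := fun k => Γ((D.obj k).left, ⊤)
  let e : ∀ k, Spec (C k) ≅ (D.obj k).left := fun k => haveI := hD k; (D.obj k).left.isoSpec.symm
  let c : ∀ k, B k ⟶ C k := fun k => Spec.preimage ((e k).hom ≫ (D.obj k).hom)
  have hc : ∀ k, Spec.map (c k) = (e k).hom ≫ (D.obj k).hom := fun k => Spec.map_preimage _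
  letI : ∀ k, Algebra A (B k) := fun k => (b k).hom.toAlgebra
  letI : ∀ k, Algebra A (C k) := fun k => (b k ≫ c k).hom.toAlgebra
  haveI : ∀ k, Module.Flat A (B k) := fun k => hb k
  let cA : ∀ k, B k →ₐ[A] C k := fun k => { (c k).hom with commutes' := fun r => rfl }
  -- the overlaps
  let P : κ → κ → Scheme.{u} := fun k l => Spec (CommRingCat.of (C k ⊗[A] B l))
  let q₁ : ∀ k l, P k l ⟶ Spec (C k) := fun k l =>
    Spec.map (CommRingCat.ofHom (includeLeft : C k →ₐ[A] C k ⊗[A] B l).toRingHom)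
  let z₂ : ∀ k l, P k l ⟶ Spec (B l) := fun k l =>
    Spec.map (CommRingCat.ofHom (includeRight : B l →ₐ[A] C k ⊗[A] B l).toRingHom)
  have sqP : ∀ k l, IsPullback (q₁ k l) (z₂ k l) (Spec.map (b k ≫ c k)) (Spec.map (b l)) := fun k l =>
    isPullback_SpecMap_of_isPushout _ _ _ _ (CommRingCat.isPushout_tensorProduct A (C k) (B l))
  let x₁ : ∀ k l, P k l ⟶ Spec (B k) := fun k l => q₁ k l ≫ Spec.map (c k)
  have hP : ∀ k l, x₁ k l ≫ Spec.map (b k) ≫ j = z₂ k l ≫ Spec.map (b l) ≫ j := fun k l => by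
    simp only [x₁, Category.assoc, ← Spec.map_comp_assoc]
    exact (reassoc_of% (sqP k l).w) j
  let ξ : ∀ k l, Lifts (D.obj k) (x₁ k l) := fun k l =>
    ⟨q₁ k l ≫ (e k).hom, by simp only [x₁, hc, Category.assoc]⟩
  let Ψ : ∀ k l, Lifts (D.obj l) (z₂ k l) := fun k l => D.φ _ _ (hP k l) (ξ k l)
  have univ : ∀ {T : Scheme.{u}} {k l : κ} (x : T ⟶ Spec (B k)) (y : T ⟶ Spec (B l))
      (h : x ≫ Spec.map (b k) ≫ j = y ≫ Spec.map (b l) ≫ j) (t : Lifts (D.obj k) x),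
      ∃ g : T ⟶ P k l, g ≫ q₁ k l = t.1 ≫ (e k).inv ∧ g ≫ z₂ k l = y ∧ (D.φ x y h t).1 = g ≫ (Ψ k l).1 := by
    intro T k l x y h t
    have hw : (t.1 ≫ (e k).inv) ≫ Spec.map (b k ≫ c k) = y ≫ Spec.map (b l) := by
      rw [← cancel_mono j, Spec.map_comp, hc]
      simp only [Category.assoc, Iso.inv_hom_id_assoc]
      rw [reassoc_of% t.2]
      exact h
    let g := (sqP k l).lift _ _ hw
    have h1 : g ≫ q₁ k l = t.1 ≫ (e k).inv := (sqP k l).lift_fst _ _ _
    have h2 : g ≫ z₂ k l = y := (sqP k l).lift_snd _ _ _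
    refine ⟨g, h1, h2, D.φ_natural g _ _ (hP k l) x y ?_ h2 h _ t ?_⟩
    · simp only [x₁, reassoc_of% h1, hc, Iso.inv_hom_id_assoc, t.2]
    · simp only [ξ, reassoc_of% h1, Iso.inv_hom_id, Category.comp_id]
  let ψ₀ : ∀ k l, C l ⟶ CommRingCat.of (C k ⊗[A] B l) := fun k l => Spec.preimage ((Ψ k l).1 ≫ (e l).inv)
  have hψ : ∀ k l, Spec.map (ψ₀ k l) = (Ψ k l).1 ≫ (e l).inv := fun k l => Spec.map_preimage _
  have hcψ : ∀ k l, c l ≫ ψ₀ k l = CommRingCat.ofHom (includeRight : B l →ₐ[A] C k ⊗[A] B l).toRingHom :=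
    fun k l => Spec.map_injective (by
      rw [Spec.map_comp, hψ, hc, Category.assoc, Iso.inv_hom_id_assoc]
      exact (Ψ k l).2)
  let ψ : ∀ k l, C l →ₐ[A] C k ⊗[A] B l := fun k l =>
    { (ψ₀ k l).hom with
      commutes' := fun r => by
        have h1 := congrArg (fun φ => φ.hom (algebraMap A (B l) r)) (hcψ k l)
        exact h1.trans (AlgHom.commutes _ r) }
  have hB : ∀ k l x, ψ k l (cA l x) = (1 : C k) ⊗ₜ x := fun k l x => congrArg (fun φ => φ.hom x) (hcψ k l)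
  have hunit : ∀ k x, productMap (AlgHom.id A (C k)) (cA k) (ψ k k x) = x := by
    intro k x
    let μ := CommRingCat.ofHom (productMap (AlgHom.id A (C k)) (cA k)).toRingHom
    have h1 : Spec.map μ ≫ q₁ k k = 𝟙 _ := by
      rw [← Spec.map_comp, ← Spec.map_id]
      congr 1
      ext r
      simp [μ]
      rfl
    have h2 : Spec.map μ ≫ z₂ k k = Spec.map (c k) := by
      rw [← Spec.map_comp]
      congr 1
      ext r
      simp [μ, cA]
    have hy : Spec.map μ ≫ x₁ k k = Spec.map (c k) := by simp only [x₁, reassoc_of% h1]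
    let t : Lifts (D.obj k) (Spec.map (c k)) := ⟨(e k).hom, (hc k).symm⟩
    have h3 := D.φ_natural (Spec.map μ) _ _ (hP k k) _ _ hy h2 rfl (ξ k k) t
      (by simp only [t, ξ, reassoc_of% h1])
    rw [D.φ_self] at h3
    have h4 : ψ₀ k k ≫ μ = 𝟙 _ := Spec.map_injective (by
      rw [Spec.map_comp, hψ, ← Category.assoc, Spec.map_id]
      exact (congrArg (· ≫ (e k).inv) h3).symm.trans (e k).hom_inv_id)
    exact congrArg (fun φ => φ.hom x) h4
  have hassoc : ∀ k l m x, Algebra.TensorProduct.map (ψ k l) (AlgHom.id A (B m)) (ψ l m x) =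
      Algebra.TensorProduct.map (includeLeft : C k →ₐ[A] C k ⊗[A] B l) (AlgHom.id A (B m)) (ψ k m x) := by
    intro k l m x
    let p₁₂ := CommRingCat.ofHom
      (includeLeft : C k ⊗[A] B l →ₐ[A] (C k ⊗[A] B l) ⊗[A] B m).toRingHom
    let p₁₃ := CommRingCat.ofHom (Algebra.TensorProduct.map (includeLeft : C k →ₐ[A] C k ⊗[A] B l)
      (AlgHom.id A (B m))).toRingHom
    let p₂₃ := CommRingCat.ofHom (Algebra.TensorProduct.map (ψ k l) (AlgHom.id A (B m))).toRingHom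
    have e1 : Spec.map p₁₃ ≫ q₁ k m = Spec.map p₁₂ ≫ q₁ k l := by
      rw [← Spec.map_comp, ← Spec.map_comp]; refine congrArg Spec.map (CommRingCat.hom_ext (RingHom.ext fun r => ?_)); simp [p₁₂, p₁₃]
    have e2 : Spec.map p₂₃ ≫ q₁ l m = Spec.map p₁₂ ≫ Spec.map (ψ₀ k l) := by
      rw [← Spec.map_comp, ← Spec.map_comp]; refine congrArg Spec.map (CommRingCat.hom_ext (RingHom.ext fun r => ?_)); simp [p₁₂, p₂₃, ψ]
    have e3 : Spec.map p₁₃ ≫ z₂ k m = Spec.map p₂₃ ≫ z₂ l m := by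
      rw [← Spec.map_comp, ← Spec.map_comp]; congr 1; ext r; simp [p₁₃, p₂₃, Algebra.TensorProduct.one_def]
    let X₀ := Spec.map p₁₂ ≫ x₁ k l
    let X₁ := Spec.map p₁₂ ≫ z₂ k l
    let X₂ := Spec.map p₂₃ ≫ z₂ l m
    have a₀ : Spec.map p₁₃ ≫ x₁ k m = X₀ := by simp only [X₀, x₁, reassoc_of% e1]
    have a₁ : Spec.map p₂₃ ≫ x₁ l m = X₁ := by
      simp only [X₁, x₁, reassoc_of% e2, hψ, hc, Category.assoc, Iso.inv_hom_id_assoc]
      rw [(Ψ k l).2]
    have h01 : X₀ ≫ Spec.map (b k) ≫ j = X₁ ≫ Spec.map (b l) ≫ j := by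
      simp only [X₀, X₁, Category.assoc, hP k l]
    have h12 : X₁ ≫ Spec.map (b l) ≫ j = X₂ ≫ Spec.map (b m) ≫ j := by
      rw [← a₁]; simp only [X₂, Category.assoc, hP l m]
    let t₀ : Lifts (D.obj k) X₀ := ⟨Spec.map p₁₂ ≫ (ξ k l).1, by rw [Category.assoc, (ξ k l).2]⟩
    have k1 := D.φ_natural (Spec.map p₁₂) _ _ (hP k l) X₀ X₁ rfl rfl h01 (ξ k l) t₀ rfl
    have k2 := D.φ_natural (Spec.map p₂₃) _ _ (hP l m) X₁ X₂ a₁ rfl h12 (ξ l m) (D.φ X₀ X₁ h01 t₀)
      (by rw [k1]; simp only [ξ, reassoc_of% e2, hψ, Category.assoc, Iso.inv_hom_id, Category.comp_id]; rfl)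
    have k3 := D.φ_natural (Spec.map p₁₃) _ _ (hP k m) X₀ X₂ a₀ e3 (h01.trans h12) (ξ k m) t₀
      (by simp only [t₀, ξ, reassoc_of% e1])
    rw [D.φ_comp, k3] at k2
    have h4 : ψ₀ k m ≫ p₁₃ = ψ₀ l m ≫ p₂₃ := Spec.map_injective (by
      rw [Spec.map_comp, Spec.map_comp, hψ, hψ, ← Category.assoc, ← Category.assoc]
      exact congrArg (· ≫ (e m).inv) k2)
    exact (congrArg (fun φ => φ.hom x) h4).symm
  -- the quotient
  let C₀ := EffAlg.C₀ ψ
  let U := Spec (CommRingCat.of C₀)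
  let πA : U ⟶ Spec A := Spec.map (CommRingCat.ofHom (algebraMap A C₀))
  let pr : ∀ k, CommRingCat.of C₀ ⟶ C k := fun k => CommRingCat.ofHom (EffAlg.proj ψ k).toRingHom
  refine ⟨U, πA, fun k => (e k).inv ≫ Spec.map (pr k), inferInstance, fun k => ?_, fun {T k l} x y h t => ?_⟩
  · let Φ := AlgEquiv.ofBijective _ (EffAlg.bijective_descend cA ψ hB hunit hassoc k)
    have hpo : IsPushout (CommRingCat.ofHom (algebraMap A C₀)) (b k) (pr k) (c k) :=
      (CommRingCat.isPushout_tensorProduct A C₀ (B k)).of_iso (Iso.refl _) (Iso.refl _) (Iso.refl _)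
        Φ.toRingEquiv.toCommRingCatIso (by simp) (by simp; rfl)
        (by ext r; show productMap (EffAlg.proj ψ k) (cA k) (r ⊗ₜ 1) = _; simp [pr]; rfl)
        (by ext r; show productMap (EffAlg.proj ψ k) (cA k) (1 ⊗ₜ r) = _; simp [cA])
    refine (isPullback_SpecMap_of_isPushout _ _ _ _ hpo).of_iso (e k) (Iso.refl _) (Iso.refl _) (Iso.refl _)
      ?_ ?_ (by simp [πA]) (by simp)
    · simp
    · simp [hc]
  · obtain ⟨g, hg1, -, hg3⟩ := univ x y h t
    have h5 : pr l ≫ ψ₀ k l = pr k ≫ CommRingCat.ofHom (includeLeft : C k →ₐ[A] C k ⊗[A] B l).toRingHom := by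
      ext r
      exact AlgHom.congr_fun (EffAlg.ψ_proj ψ k l) r
    have h6 : Spec.map (ψ₀ k l) ≫ Spec.map (pr l) = q₁ k l ≫ Spec.map (pr k) := by
      rw [← Spec.map_comp, h5, Spec.map_comp]
    rw [hg3, ← Category.assoc t.1, ← hg1, Category.assoc g (q₁ k l), ← h6, hψ]
    simp only [Category.assoc]

end Groth.Agent.Desc19b
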