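import Groth.Agent.Desc19b.QuotGlue
import Groth.Agent.Desc19b.QuotPieces
import Groth.Agent.Desc19b.EffAffineCore

/-! Descent data whose structure morphisms are affine are effective. -/

set_option autoImplicit false
set_option linter.style.haveILetI false
set_option backward.isDefEq.respectTransparency false
set_option backward.isDefEq.respectTransparency.types false

universe u

open CategoryTheory CategoryTheory.Limits AlgebraicGeometry Desc

namespace Groth.Agent.Desc19b

variable {S : Scheme.{u}} {ι : Type u} {X : ι → Scheme.{u}} {f : ∀ i, X i ⟶ S}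

/-- Over an affine open, an fpqc family has a finite affine refinement. -/
theorem exists_affine_pieces (hf : Presieve.ofArrows X f ∈ Scheme.fpqcPrecoverage S) (W : S.affineOpens) :
    ∃ (n : ℕ) (a : ULift.{u} (Fin n) → ι) (V : ∀ k, (X (a k)).Opens) (_hV : ∀ k, IsAffineOpen (V k))
      (e : ∀ k, V k ≤ f (a k) ⁻¹ᵁ W.1),
      (∀ k, ((f (a k)).appLE W.1 (V k) (e k)).hom.Flat) ∧
      ∀ y : W.1.toScheme, ∃ k z, (Spec.map ((f (a k)).appLE W.1 (V k) (e k)) ≫ W.2.isoSpec.inv) z = y
        := by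
  have h1 := hf
  haveI : QuasiCompactCover (PreZeroHypercover.mk ι X f) := Scheme.presieve₀_mem_qcPrecoverage_iff.1 h1.1
  have hfl : ∀ i, Flat (f i) := ((Scheme.presieve₀_mem_precoverage_iff (PreZeroHypercover.mk ι X f)).1 h1.2).2
  obtain ⟨n, a, V, hV, heq⟩ :=
    QuasiCompactCover.exists_isAffineOpen_of_isCompact (PreZeroHypercover.mk ι X f) W.2.isCompact
  have e : ∀ k : ULift.{u} (Fin n), V k.down ≤ f (a k.down) ⁻¹ᵁ W.1 := fun k x hx => by
    show f (a k.down) x ∈ (W.1 : Set S)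
    rw [← heq]
    exact Set.mem_iUnion.2 ⟨k.down, x, hx, rfl⟩
  refine ⟨n, fun k => a k.down, fun k => V k.down, fun k => hV k.down, e, fun k => ?_, fun y => ?_⟩
  · exact HasRingHomProperty.appLE @Flat _ (hfl (a k.down)) W ⟨_, hV k.down⟩ _
  · have hy : W.1.ι y ∈ (W.1 : Set S) := y.2
    rw [← heq, Set.mem_iUnion] at hy
    obtain ⟨k, x, hx, hxy⟩ := hy
    obtain ⟨z, rfl⟩ : x ∈ Set.range (hV k).fromSpec := by rw [(hV k).range_fromSpec]; exact hx
    refine ⟨⟨k⟩, z, W.1.ι.isOpenEmbedding.injective ?_⟩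
    rw [← hxy, ← Scheme.Hom.comp_apply, ← Scheme.Hom.comp_apply, Category.assoc, IsAffineOpen.isoSpec_inv_ι,
      IsAffineOpen.SpecMap_appLE_fromSpec _ W.2 (hV k)]

theorem nonempty_quot_of_affine (hf : Presieve.ofArrows X f ∈ Scheme.fpqcPrecoverage S) (D : SchDDFam f)
    (hD : ∀ i, IsAffineHom (D.obj i).hom) (W : S.affineOpens) : Nonempty (Quot D W.1) := by
  obtain ⟨n, a, V, hV, e, hfl, hsurj⟩ := exists_affine_pieces hf W
  let B := fun k => Γ(X (a k), V k)
  let b : ∀ k, Γ(S, W.1) ⟶ B k := fun k => (f (a k)).appLE W.1 (V k) (e k)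
  let v : ∀ k, Spec (B k) ⟶ X (a k) := fun k => (hV k).fromSpec
  have hv : ∀ k, v k ≫ f (a k) = Spec.map (b k) ≫ W.2.fromSpec := fun k =>
    (IsAffineOpen.SpecMap_appLE_fromSpec _ W.2 (hV k) (e k)).symm
  let D' := PullRefine.PD (α := a) (g := v) (u₀ := fun k => Spec.map (b k) ≫ W.2.fromSpec) hv D
  have hD' : ∀ k, IsAffine (D'.obj k).left := fun k => by
    haveI := hD (a k)
    haveI : IsAffineHom (pullback.snd (D.obj (a k)).hom (v k)) := MorphismProperty.pullback_snd _ _ inferInstance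
    exact isAffine_of_isAffineHom (pullback.snd (D.obj (a k)).hom (v k))
  obtain ⟨U, π, q, -, hq, hinv⟩ := exists_quotient_affine Γ(S, W.1) W.2.fromSpec B b hfl D' hD'
  haveI : IsAffine W.1.toScheme := W.2
  let w : ∀ k, Spec (B k) ⟶ W.1.toScheme := fun k => Spec.map (b k) ≫ W.2.isoSpec.inv
  have hw : ∀ k, w k ≫ W.1.ι = v k ≫ f (a k) := fun k => by
    rw [hv, Category.assoc, IsAffineOpen.isoSpec_inv_ι]
  haveI : ∀ k, Flat (w k) := fun k => by
    haveI : Flat (Spec.map (b k)) := (HasRingHomProperty.Spec_iff (P := @Flat)).2 (hfl k)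
    infer_instance
  have hmem := Quot.finite_family_mem w fun y => by
    obtain ⟨k, z, hz⟩ := hsurj y
    exact ⟨k, z, hz⟩
  have hmemW : ∀ t, (π ≫ W.2.fromSpec) t ∈ W.1 := fun t => by
    have h : (π ≫ W.2.fromSpec) t ∈ Set.range W.2.fromSpec := ⟨π t, (Scheme.Hom.comp_apply _ _ _).symm⟩
    rw [W.2.range_fromSpec] at h
    exact h
  refine Quot.nonempty_of_pieces a v (fun s hs => Quot.cover_of_open w hw hmem s hs) (π ≫ W.2.fromSpec) hmemW q
    (fun k => ?_) (fun x y h t => ?_)
  · rw [hv]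
    exact ⟨⟨by rw [← Category.assoc, (hq k).w, Category.assoc]; rfl⟩,
      ⟨PullbackCone.IsLimit.mk _ (fun s => (hq k).lift s.fst s.snd
          (by rw [← cancel_mono W.2.fromSpec, Category.assoc, Category.assoc]; exact s.condition))
        (fun s => (hq k).lift_fst _ _ _) (fun s => (hq k).lift_snd _ _ _)
        (fun s m h1 h2 => (hq k).hom_ext (h1.trans ((hq k).lift_fst _ _ _).symm) (h2.trans ((hq k).lift_snd _ _ _).symm))⟩⟩
  · exact hinv x y (by rw [← hv, ← hv]; exact h) t

/-- Effective descent for schemes affine over the members of an fpqc family. -/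
theorem isEffective_of_isAffineHom (hf : Presieve.ofArrows X f ∈ Scheme.fpqcPrecoverage S) (D : SchDDFam f)
    (hD : ∀ i, IsAffineHom (D.obj i).hom) : D.IsEffective :=
  Quot.isEffective_of_affine hf fun W => (nonempty_quot_of_affine hf D hD W).some

end Groth.Agent.Desc19b
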