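import Groth.Agent.AlgSpLib.EtaleAscend
import Groth.Agent.AlgSpLib.FppfLocal
import Groth.Agent.AlgSpLib.NoethSource
import Groth.Agent.Desc19.Topology

/-! Descent of dominance, reducedness, noetherianness and separatedness. -/

set_option autoImplicit false
set_option backward.isDefEq.respectTransparency.types false

universe u

open CategoryTheory CategoryTheory.Limits AlgebraicGeometry

namespace Groth.Agent.Desc19b

theorem isDominant_of_isPullback {P X Y Y' : Scheme.{u}} {p : P ⟶ X} {f' : P ⟶ Y'} {f : X ⟶ Y} {q : Y' ⟶ Y}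
    (h : IsPullback p f' f q) (ho : IsOpenMap q) (hf : IsDominant f) : IsDominant f' := by
  refine ⟨dense_iff_closure_eq.2 ?_⟩
  have e : Set.range f' = q ⁻¹' Set.range f := by
    rw [← Set.image_univ, ← Set.image_univ]
    exact Scheme.image_preimage_eq_of_isPullback h Set.univ
  rw [e, ← ho.preimage_closure_eq_closure_preimage q.continuous, f.denseRange.closure_range, Set.preimage_univ]

theorem isDominant_of_pullback {P X Y Y' : Scheme.{u}} {p : P ⟶ X} {f' : P ⟶ Y'} {f : X ⟶ Y} {q : Y' ⟶ Y}
    (h : IsPullback p f' f q) (hq : IsDominant q) (hf : IsDominant f') : IsDominant f := by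
  have : IsDominant (p ≫ f) := h.w ▸ (inferInstance : IsDominant (f' ≫ q))
  exact IsDominant.of_comp p f

theorem isLocalAtTarget_isDominant :
    MorphismProperty.IsLocalAtTarget (@IsDominant : MorphismProperty Scheme.{u}) Scheme.fppfPrecoverage := by
  refine MorphismProperty.IsLocalAtTarget.mk_of_iff_of_zeroHypercover fun {X Y} f 𝒰 => ⟨fun h i => ?_, fun h => ⟨?_⟩⟩
  · obtain ⟨-, hp⟩ := (Scheme.presieve₀_mem_precoverage_iff (P := @Flat ⊓ @LocallyOfFinitePresentation) 𝒰.toPreZeroHypercover).1 𝒰.mem₀
    have := (hp i).1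
    have := (hp i).2
    exact isDominant_of_isPullback (IsPullback.of_hasPullback f (𝒰.f i)) (𝒰.f i).isOpenMap h
  · obtain ⟨hsurj, -⟩ := (Scheme.presieve₀_mem_precoverage_iff (P := @Flat ⊓ @LocallyOfFinitePresentation) 𝒰.toPreZeroHypercover).1 𝒰.mem₀
    intro y
    obtain ⟨i, x, rfl⟩ := hsurj y
    have hx : x ∈ closure (Set.range (pullback.snd f (𝒰.f i))) := (h i).denseRange x
    refine closure_mono ?_ (image_closure_subset_closure_image (𝒰.f i).continuous ⟨x, hx, rfl⟩)
    rintro _ ⟨_, ⟨z, rfl⟩, rfl⟩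
    exact ⟨pullback.fst f (𝒰.f i) z, by rw [← Scheme.Hom.comp_apply, pullback.condition, Scheme.Hom.comp_apply]⟩

/-- Dominance is insensitive to extension of the base field. -/
theorem isDominant_baseChange_field {k E : Type u} [Field k] [Field E] [Algebra k E]
    {X Y : Scheme.{u}} (f : X ⟶ Y) (q : Y ⟶ Spec (.of k)) :
    IsDominant f ↔
      IsDominant (pullback.snd f (pullback.fst q (Spec.map (CommRingCat.ofHom (algebraMap k E))))) := by
  let σ := Spec.map (CommRingCat.ofHom (algebraMap k E))
  have : Subsingleton ↥(Spec (CommRingCat.of k)) := inferInstanceAs (Subsingleton (PrimeSpectrum k))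
  have : UniversallyOpen σ := Desc19.universallyOpen_of_subsingleton σ
  have : Surjective σ := ⟨fun y => ⟨Classical.arbitrary (PrimeSpectrum E), Subsingleton.elim _ _⟩⟩
  have : UniversallyOpen (pullback.fst q σ) := MorphismProperty.pullback_fst (P := @UniversallyOpen) q σ inferInstance
  have : Surjective (pullback.fst q σ) := MorphismProperty.pullback_fst (P := @Surjective) q σ inferInstance
  exact ⟨isDominant_of_isPullback (IsPullback.of_hasPullback _ _) (pullback.fst q σ).isOpenMap,
    isDominant_of_pullback (IsPullback.of_hasPullback _ _) inferInstance⟩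

theorem isReduced_iff_of_smooth_cover {ι : Type u} {S : Scheme.{u}} {X : ι → Scheme.{u}} (f : ∀ i, X i ⟶ S)
    (hf : Presieve.ofArrows X f ∈ Scheme.precoverage @Smooth S) : IsReduced S ↔ ∀ i, IsReduced (X i) := by
  let E : PreZeroHypercover.{u} S := ⟨ι, X, f⟩
  obtain ⟨hsurj, hp⟩ := (Scheme.presieve₀_mem_precoverage_iff E).1 hf
  refine ⟨fun h i => ?_, fun h => ?_⟩
  · have : Smooth (f i) := hp i
    exact AlgSpLib.isReduced_of_smooth' (f i)
  · have hflat : Flat (Sigma.desc f) := IsZariskiLocalAtSource.sigmaDesc fun i => by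
      have : Smooth (f i) := hp i
      exact inferInstance
    have : Surjective (Sigma.desc f) := ⟨fun y => by
      obtain ⟨i, x, rfl⟩ := hsurj y
      exact ⟨Sigma.ι X i x, by rw [← Scheme.Hom.comp_apply, Sigma.ι_desc]⟩⟩
    have : IsReduced (∐ X) := by
      have : ∀ z : (∐ X : Scheme.{u}), _root_.IsReduced ((∐ X : Scheme.{u}).presheaf.stalk z) := fun z => by
        obtain ⟨i, x, rfl⟩ := (sigmaOpenCover X).exists_eq z
        have := h i
        exact isReduced_of_injective ((asIso ((Sigma.ι X i).stalkMap x)).commRingCatIsoToRingEquiv.toRingHom)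
          (asIso ((Sigma.ι X i).stalkMap x)).commRingCatIsoToRingEquiv.injective
      exact isReduced_of_isReduced_stalk _
    exact AlgSpLib.isReduced_of_flat_surjective (Sigma.desc f)

theorem isSeparated_iff_mapDesc {X Y S : Scheme.{u}} (f : X ⟶ Y) (q : Y ⟶ S)
    [Flat f] [Surjective f] [QuasiCompact f] :
    IsSeparated q ↔ IsClosedImmersion (pullback.mapDesc f f q) := by
  have sq := pullback_map_diagonal_isPullback f f q
  constructor
  · intro h
    exact MorphismProperty.of_isPullback (P := @IsClosedImmersion) sq (inferInstanceAs (IsClosedImmersion (pullback.diagonal q)))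
  · intro h
    have := Et18.descends_isClosedImmersion.{u}
    refine ⟨?_⟩
    have hmap : Et18.FPQC (pullback.map (f ≫ q) (f ≫ q) q q f f (𝟙 S) (Category.comp_id _) (Category.comp_id _)) := by
      refine ⟨⟨MorphismProperty.pullbackMap (P := @Surjective) ‹Surjective f› ‹Surjective f› rfl rfl,
        MorphismProperty.pullbackMap (P := @Flat) ‹Flat f› ‹Flat f› rfl rfl⟩,
        MorphismProperty.pullbackMap (P := @QuasiCompact) ‹QuasiCompact f› ‹QuasiCompact f› rfl rfl⟩
    exact MorphismProperty.of_isPullback_of_descendsAlong (P := @IsClosedImmersion) sq.flip hmap h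

theorem isLocallyNoetherian_of_fpqc {X Y : Scheme.{u}} (f : X ⟶ Y)
    [Flat f] [Surjective f] [QuasiCompact f] [IsLocallyNoetherian X] : IsLocallyNoetherian Y := by
  refine (isLocallyNoetherian_iff_of_affine_openCover Y.affineCover).2 fun i => ?_
  let U := Y.affineCover.X i
  let g := pullback.snd f (Y.affineCover.f i)
  have : IsLocallyNoetherian (pullback f (Y.affineCover.f i)) :=
    isLocallyNoetherian_of_isOpenImmersion (pullback.fst f (Y.affineCover.f i))
  have : CompactSpace (pullback f (Y.affineCover.f i) :) := QuasiCompact.compactSpace_of_compactSpace g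
  let 𝒰 := (pullback f (Y.affineCover.f i)).affineCover.finiteSubcover
  have : ∀ j, IsAffine (𝒰.X j) := fun j => by dsimp [𝒰]; infer_instance
  have : ∀ j, IsLocallyNoetherian (𝒰.X j) := fun j => isLocallyNoetherian_of_isOpenImmersion (𝒰.f j)
  let T := ∐ 𝒰.X
  let π : T ⟶ U := Sigma.desc (fun j => 𝒰.f j ≫ g)
  have hT : IsLocallyNoetherian T := (isLocallyNoetherian_iff_openCover (sigmaOpenCover 𝒰.X)).2
    fun j => inferInstanceAs (IsLocallyNoetherian (𝒰.X j))
  have hπf : Flat π := IsZariskiLocalAtSource.sigmaDesc (fun j => inferInstance)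
  have hπs : Surjective π := ⟨fun x => by
    obtain ⟨y, rfl⟩ := g.surjective x
    obtain ⟨j, z, rfl⟩ := 𝒰.exists_eq y
    refine ⟨Sigma.ι 𝒰.X j z, ?_⟩
    rw [← Scheme.Hom.comp_apply, Sigma.ι_desc]
    rfl⟩
  have : IsNoetherianRing Γ(T, ⊤) := IsLocallyNoetherian.component_noetherian ⟨⊤, isAffineOpen_top T⟩
  have hff : π.appTop.hom.FaithfullyFlat := by
    rw [RingHom.FaithfullyFlat.iff_flat_and_comap_surjective]
    refine ⟨(HasRingHomProperty.iff_of_isAffine (P := @Flat) (f := π)).1 inferInstance, ?_⟩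
    have : Surjective (Spec.map π.appTop) :=
      (MorphismProperty.arrow_mk_iso_iff @Surjective (arrowIsoSpecΓOfIsAffine π)).1 hπs
    exact (Spec.map π.appTop).surjective
  algebraize [π.appTop.hom]
  exact AlgSpLib.isNoetherianRing_of_ff Γ(U, ⊤) Γ(T, ⊤)

end Groth.Agent.Desc19b
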