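import Groth.Agent.AmpleLib.FTIdeal
import Groth.Agent.AmpleLib.Generated
import Groth.Agent.AmpleLib.Relative2
import Groth.Agent.PicLib.FlatSections
import Groth.Agent.DCat.PullTensor
import Groth.Agent.Coherent.TensorQcoh
import Groth.Agent.Coherent.SupportPullback

/-!
# Ampleness descends along a faithfully flat map of affine bases
-/

set_option autoImplicit false
set_option backward.isDefEq.respectTransparency.types false

universe u

open CategoryTheory CategoryTheory.Limits AlgebraicGeometry Opposite TopologicalSpace TensorProduct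
open Groth.Agent.Coherent Groth.Agent.PicLib Groth.Agent.AmpleLib

namespace Groth.Agent.Desc19b

variable {X X' : Scheme.{u}}

/-- Quasi-separatedness descends along surjective quasi-compact maps. -/
theorem quasiSeparatedSpace_of_surjective (π : X' ⟶ X) [Surjective π] [QuasiCompact π]
    [QuasiSeparatedSpace X'] : QuasiSeparatedSpace X := by
  refine ⟨fun U V hU hUc hV hVc => ?_⟩
  have hp : ∀ T : Set X, IsOpen T → IsCompact T → IsCompact (π ⁻¹' T) := fun T h1 h2 =>
    QuasiCompact.isCompact_preimage (f := π) T h1 h2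
  have h := QuasiSeparatedSpace.inter_isCompact _ _ (hU.preimage π.continuous) (hp U hU hUc)
    (hV.preimage π.continuous) (hp V hV hVc)
  rw [← Set.preimage_inter] at h
  simpa [Set.image_preimage_eq _ π.surjective] using h.image π.continuous

section Detect

variable {A B : CommRingCat.{u}} [Algebra A B] [Module.Flat A B] (π : X' ⟶ X) [IsAffineHom π]
  (f : X ⟶ Spec A) (f' : X' ⟶ Spec B)

/-- If the pullback of `M` is globally generated along a flat base change, a global section of `M`
already hits a generator of `N` at the given point. -/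
theorem exists_mem_glocus_of_pullback [CompactSpace X] [QuasiSeparatedSpace X]
    (H : IsPullback π f' f (Spec.map (CommRingCat.ofHom (algebraMap A B))))
    {M N : X.Modules} [Coh.IsQCoh M] (hN : PicF.IsInvertible N) (φ : M ⟶ N)
    (hgen : Curv2.IsGloballyGenerated ((Scheme.Modules.pullback π).obj M))
    (x' : X') (hφ : HitsAt φ (π x')) :
    ∃ z : Γ(M, ⊤), π x' ∈ glocus N (φ.app ⊤ z) := by
  let N' := (Scheme.Modules.pullback π).obj N
  let φ' := (Scheme.Modules.pullback π).map φ
  have hN' : PicF.IsInvertible N' := PicLoc.isInvertible_pullback π hN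
  have hφ' : HitsAt φ' x' := by
    obtain ⟨W, k, hxW, hk⟩ := hφ
    refine ⟨π ⁻¹ᵁ W, pullSec π k, hxW, ?_⟩
    rw [pullback_map_app_pullSec]
    exact isGen_pullSec π hk hN
  obtain ⟨ι, p₀, hp⟩ := hgen
  let p : freeMod X' ι ⟶ (Scheme.Modules.pullback π).obj M := p₀
  replace hp : Epi p := hp
  obtain ⟨i, hi⟩ := exists_mem_glocus_of_epi_free hN' φ' hφ' p
  by_contra h
  push Not at h
  let _ : X.Over (Spec (CommRingCat.of A)) := ⟨f⟩
  let _ : X'.Over (Spec (CommRingCat.of B)) := ⟨f'⟩
  have H' : IsPullback π (X' ↘ Spec (CommRingCat.of B)) (X ↘ Spec (CommRingCat.of A))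
      (Spec.map (CommRingCat.ofHom (algebraMap A B))) := H
  obtain ⟨E, hE⟩ := exists_baseChange_sections π (Coh.toGlobal (X ↘ Spec (CommRingCat.of A)))
    (Coh.toGlobal (X' ↘ Spec (CommRingCat.of B))) M (appTop_toGlobal π H')
    (fun U hU => isBCPushout_of_isPullback π H' hU)
  have hzero : ∀ w : Γ((Scheme.Modules.pullback π).obj M, ⊤),
      (atPoint N' x').app ⊤ (φ'.app ⊤ w) = 0 := fun w => by
    obtain ⟨t, rfl⟩ := E.surjective w
    induction t using TensorProduct.induction_on with
    | zero => rw [map_zero, map_zero, map_zero]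
    | tmul b x =>
      rw [hE, Scheme.Modules.Hom.app_smul, Scheme.Modules.Hom.app_smul]
      refine (congrArg _ ?_).trans (smul_zero _)
      show (atPoint N' x').app ⊤ (φ'.app (π ⁻¹ᵁ ⊤) (pullSec π (secTop _ M x))) = 0
      rw [pullback_map_app_pullSec]
      refine atPoint_eq_zero hN' _ fun W hW hxW hg => h (secTop _ M x) ?_
      have hx : x' ∈ glocus N' (pullSec π (φ.app ⊤ (secTop _ M x))) :=
        (le_glocus_iff _ W).2 hg hxW
      rw [glocus_pullSec π hN] at hx
      exact hx
    | add a b ha hb => rw [map_add, map_add, map_add, ha, hb, add_zero]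
  let v := φ'.app ⊤ (p.app ⊤ (freeBasisVec i ⊤))
  refine atPoint_ne_zero hN' hi (isGen_glocus v) ?_
  rw [app_resM, hzero, map_zero]

end Detect

/-- Ampleness descends along a faithfully flat map of affine bases. -/
theorem isAmple_of_pullback {X Y Y' : Scheme.{u}} [IsAffine Y] [IsAffine Y'] (f : X ⟶ Y) (g : Y' ⟶ Y)
    [QuasiCompact f] [Flat g] [Surjective g] {L : X.Modules} (hL : PicF.IsInvertible L)
    (h : CohB1.IsAmple ((Scheme.Modules.pullback (pullback.fst f g)).obj L)) :
    CohB1.IsAmple L := by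
  let π := pullback.fst f g
  have : IsAffineHom π := MorphismProperty.pullback_fst _ _ inferInstance
  have : Surjective π := MorphismProperty.pullback_fst _ _ inferInstance
  have : CompactSpace X := QuasiCompact.compactSpace_of_compactSpace f
  obtain ⟨hLi', hc', haff'⟩ := isAmple_iff_affGlocus.1 h
  have := quasiSeparatedSpace_of_affGlocus hLi' haff'
  have : QuasiSeparatedSpace X := quasiSeparatedSpace_of_surjective π
  let _ : Algebra Γ(Y, ⊤) Γ(Y', ⊤) := g.appTop.hom.toAlgebra
  have : Module.Flat Γ(Y, ⊤) Γ(Y', ⊤) :=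
    (HasRingHomProperty.iff_of_isAffine (P := @Flat) (f := g)).1 inferInstance
  have H : IsPullback π (pullback.snd f g ≫ Y'.isoSpec.hom) (f ≫ Y.isoSpec.hom)
      (Spec.map (CommRingCat.ofHom (algebraMap Γ(Y, ⊤) Γ(Y', ⊤)))) :=
    (IsPullback.of_hasPullback f g).of_iso (Iso.refl _) (Iso.refl _) Y'.isoSpec Y.isoSpec
      (by simp [π]) (by simp) (by simp) (Scheme.isoSpec_hom_naturality g).symm
  refine isAmple_iff_affGlocus.2 ⟨hL, inferInstance, fun x => ?_⟩
  obtain ⟨U, hU, hxU, -⟩ := exists_isAffineOpen_mem_and_subset (x := x) (U := ⊤) trivial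
  obtain ⟨I, -, hI, hO⟩ := exists_idealMod_compl hU
  have := hI.1
  obtain ⟨k, hk⟩ := eventually_globallyGenerated h _
    (⟨EGA43.InjFibre.isQCoh_pullback π _, isFT_pullback_qcoh π hI.1 hI.2⟩ :
      Coh.IsCoh ((Scheme.Modules.pullback π).obj (ClSub.idealMod I)))
  let n := k + 1
  have hN := isInvertible_tensorPow hL n
  have := isQCoh_of_isInvertible hN
  have : Coh.IsQCoh (CohB1.tensorMod (ClSub.idealMod I) (CohB1.tensorPow L n)) := isQCoh_tensorMod _ _
  obtain ⟨e, -⟩ := exists_pullPowIso π hL n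
  let e' : (Scheme.Modules.pullback π).obj (CohB1.tensorMod (ClSub.idealMod I) (CohB1.tensorPow L n)) ≅
      CohB1.tensorMod ((Scheme.Modules.pullback π).obj (ClSub.idealMod I))
        (CohB1.tensorPow ((Scheme.Modules.pullback π).obj L) n) :=
    (DCat.PullTensor.pullTensorIso π (ClSub.idealMod I) (CohB1.tensorPow L n) :
      (Scheme.Modules.pullback π).obj (CohB1.tensorMod (ClSub.idealMod I) (CohB1.tensorPow L n)) ≅
        CohB1.tensorMod ((Scheme.Modules.pullback π).obj (ClSub.idealMod I))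
          ((Scheme.Modules.pullback π).obj (CohB1.tensorPow L n))) ≪≫ AmpleLib.tensorIso (Iso.refl _) e
  obtain ⟨x', hx'⟩ := π.surjective x
  obtain ⟨z, hz⟩ := exists_mem_glocus_of_pullback π (f ≫ Y.isoSpec.hom) (pullback.snd f g ≫ Y'.isoSpec.hom) H
    hN (twistMul I _) (globallyGenerated_of_iso e'.symm (hk n k.le_succ)) x'
    (hitsAt_twistMul I hN (x := π x') (hx' ▸ hO.ge hxU))
  have hle := (glocus_twistMul_le I hN z).trans hO.le
  refine ⟨n, k.succ_pos, (twistMul I _).app ⊤ z, hx' ▸ hz, le_top, ?_⟩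
  have := isAffineOpen_glocus_inf hN ((twistMul I _).app ⊤ z) hU
  rwa [inf_eq_left.2 hle] at this

end Groth.Agent.Desc19b

namespace Groth.Agent.Desc19b

open Groth.Agent.AmpleLib

/-- Relative ampleness descends along quasi-compact faithfully flat maps. -/
theorem isRelAmple_of_baseChange {X S S' : Scheme.{u}} (f : X ⟶ S) {L : X.Modules} (hL : PicF.IsInvertible L)
    (g : S' ⟶ S) [QuasiCompact g] [Flat g] [Surjective g]
    (h : RelAmple.IsRelAmple (pullback.snd f g) ((Scheme.Modules.pullback (pullback.fst f g)).obj L)) :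
    RelAmple.IsRelAmple f L := by
  classical
  have := h.1
  have : Surjective (pullback.fst f g) := MorphismProperty.pullback_fst _ _ inferInstance
  have : QuasiCompact f := ⟨fun U hU hUc => by
    have hc : IsCompact (pullback.fst f g ⁻¹' (f ⁻¹' U)) := by
      rw [← Set.preimage_comp, show (f : X → S) ∘ pullback.fst f g = g ∘ pullback.snd f g from funext fun z => by
        rw [Function.comp_apply, Function.comp_apply, ← Scheme.Hom.comp_apply, pullback.condition, Scheme.Hom.comp_apply],
        Set.preimage_comp]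
      exact QuasiCompact.isCompact_preimage _ (hU.preimage g.continuous) (QuasiCompact.isCompact_preimage (f := g) U hU hUc)
    simpa [Set.image_preimage_eq _ (pullback.fst f g).surjective] using hc.image (pullback.fst f g).continuous⟩
  refine (isRelAmple_iff _).2 ⟨inferInstance, fun V => ?_⟩
  have hc : IsCompact ((g ⁻¹ᵁ V.1 : S'.Opens) : Set S') := g.isCompact_preimage V.2.isCompact
  obtain ⟨s, hs, hsV⟩ := isCompact_iff_finite_and_eq_biUnion_affineOpens.1 hc
  have := hs.to_subtype
  have hle : ∀ k : s, (k.1.1 : S'.Opens) ≤ g ⁻¹ᵁ V.1 := fun k =>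
    (le_iSup₂_of_le k.1 k.2 le_rfl).trans hsV.ge
  have : ∀ k : s, IsAffine (k.1.1 : Scheme.{u}) := fun k => k.1.2
  let τ : (∐ fun k : s => (k.1.1 : Scheme.{u})) ⟶ S' := Sigma.desc fun k => k.1.1.ι
  let t : (∐ fun k : s => (k.1.1 : Scheme.{u})) ⟶ V.1 := Sigma.desc fun k => g.resLE V.1 k.1.1 (hle k)
  have ht : t ≫ V.1.ι = τ ≫ g := Sigma.hom_ext _ _ fun k => by simp [t, τ]
  have : Flat t := IsZariskiLocalAtSource.sigmaDesc fun k => inferInstance
  have : Surjective t := ⟨fun y => by
    obtain ⟨x, hx⟩ := g.surjective (V.1.ι y)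
    have hxV : x ∈ g ⁻¹ᵁ V.1 := show g x ∈ V.1 from hx ▸ y.2
    rw [hsV] at hxV
    simp only [Opens.mem_iSup] at hxV
    obtain ⟨W, hW, hxW⟩ := hxV
    refine ⟨Sigma.ι (fun k : s => (k.1.1 : Scheme.{u})) ⟨W, hW⟩ ⟨x, hxW⟩, V.1.ι.isOpenEmbedding.injective ?_⟩
    rw [← Scheme.Hom.comp_apply, ← Scheme.Hom.comp_apply, ht, Sigma.ι_desc_assoc, ← hx]
    rfl⟩
  have : IsAffine (V.1 : Scheme.{u}) := V.2
  refine isAmple_of_pullback (f ∣_ V.1) t (PicLoc.isInvertible_pullback _ hL) ?_
  rw [isAmple_pullback_comp_iff]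
  have h2 := ((isRelAmple_iff _).1 (isRelAmple_baseChange (pullback.snd f g) τ h)).2 ⟨⊤, isAffineOpen_top _⟩
  rw [isAmple_pullback_comp_iff, isAmple_pullback_comp_iff] at h2
  have HZ := (IsPullback.of_hasPullback (f ∣_ V.1) t).paste_horiz (isPullback_morphismRestrict f V.1).flip
  have HQ := (IsPullback.of_hasPullback (pullback.snd f g) τ).paste_horiz (IsPullback.of_hasPullback f g)
  have HQ' : IsPullback (pullback.fst (pullback.snd f g) τ ≫ pullback.fst f g) (pullback.snd (pullback.snd f g) τ)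
      f (t ≫ V.1.ι) := ht ▸ HQ
  let P := pullback.snd (pullback.snd f g) τ ⁻¹ᵁ ⊤
  have : IsIso P.ι := (Scheme.topIso (pullback (pullback.snd f g) τ)).isIso_hom
  let ψ := (HZ.isoIsPullback _ _ HQ').hom ≫ inv P.ι
  have h3 := isAmple_pullback_of_isAffineHom ψ h2
  rw [isAmple_pullback_comp_iff] at h3
  exact isAmple_pullback_congr (by simp [ψ, P]) h3

end Groth.Agent.Desc19b
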