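import Groth.Agent.AmpleLib.Detect

/-! A scheme covered by affine loci of sections of globally generated invertible modules has an ample module. -/

set_option autoImplicit false
set_option backward.isDefEq.respectTransparency.types false

universe u

open CategoryTheory CategoryTheory.Limits AlgebraicGeometry Opposite TopologicalSpace
open Groth.Agent.Coherent Groth.Agent.PicLib Groth.Agent.AmpleLib

namespace Groth.Agent.Desc19b

variable {X : Scheme.{u}}

theorem exists_mem_glocus_of_gg {L : X.Modules} (hL : PicF.IsInvertible L) (hg : Curv2.IsGloballyGenerated L) (x : X) :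
    ∃ u : Γ(L, ⊤), x ∈ glocus L u := by
  obtain ⟨J, q, hq⟩ := hg
  let p : freeMod X J ⟶ L := q
  have : Epi p := hq
  obtain ⟨W, hxW, g, hgW⟩ := exists_isGen hL x
  obtain ⟨j, hj⟩ := exists_mem_glocus_of_epi_free hL (𝟙 L) (x := x) ⟨W, g, hxW, hgW⟩ p
  exact ⟨_, hj⟩

theorem exists_isAmple_of_affine_loci [CompactSpace X]
    (h : ∀ x : X, ∃ (L : X.Modules) (s : Coh.structureModule X ⟶ L), PicF.IsInvertible L ∧ Curv2.IsGloballyGenerated L ∧
      x ∈ CohB1.genLocus L s ∧ IsAffineOpen (CohB1.genLocus L s)) :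
    ∃ M : X.Modules, CohB1.IsAmple M := by
  classical
  choose L s hi hg hx ha using h
  let A : X → X.Opens := fun x => CohB1.genLocus (L x) (s x)
  obtain ⟨t, ht⟩ := isCompact_univ.elim_finite_subcover (fun x : X => (A x : Set X)) (fun x => (A x).2)
    fun x _ => Set.mem_iUnion.2 ⟨x, hx x⟩
  have key : ∀ t : Finset X, ∃ M : X.Modules, PicF.IsInvertible M ∧ (∀ y : X, ∃ u : Γ(M, ⊤), y ∈ glocus M u) ∧
      ∀ y : X, (∃ x ∈ t, y ∈ A x) → ∃ u : Γ(M, ⊤), y ∈ glocus M u ∧ ∃ x, glocus M u ≤ A x := fun t => by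
    induction t using Finset.induction_on with
    | empty =>
      exact ⟨_, isInvertible_structureModule, fun y => ⟨oneSec ⊤, by rw [glocus_oneSec]; trivial⟩,
        fun y hy => by simp at hy⟩
    | insert x t _ ih =>
      obtain ⟨M, hM, hMg, hMt⟩ := ih
      refine ⟨CohB1.tensorMod M (L x), isInvertible_tensorMod hM (hi x), fun y => ?_, fun y hy => ?_⟩
      · obtain ⟨u, hu⟩ := hMg y
        obtain ⟨v, hv⟩ := exists_mem_glocus_of_gg (hi x) (hg x) y
        exact ⟨tmul u v, by rw [glocus_tmul hM (hi x)]; exact ⟨hu, hv⟩⟩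
      · obtain ⟨x', hx', hyx'⟩ := hy
        rcases Finset.mem_insert.1 hx' with rfl | hmem
        · obtain ⟨u, hu⟩ := hMg y
          let v : Γ(L x', ⊤) := unitVal (s x') ⊤
          have hv : A x' = glocus (L x') v := genLocus_eq_glocus (s x')
          refine ⟨tmul u v, ?_, x', ?_⟩
          · rw [glocus_tmul hM (hi x'), ← hv]; exact ⟨hu, hyx'⟩
          · rw [glocus_tmul hM (hi x'), ← hv]; exact inf_le_right
        · obtain ⟨u, hu, x'', hle⟩ := hMt y ⟨x', hmem, hyx'⟩
          obtain ⟨v, hv⟩ := exists_mem_glocus_of_gg (hi x) (hg x) y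
          refine ⟨tmul u v, ?_, x'', ?_⟩
          · rw [glocus_tmul hM (hi x)]; exact ⟨hu, hv⟩
          · rw [glocus_tmul hM (hi x)]; exact inf_le_left.trans hle
  obtain ⟨M, hM, -, hMt⟩ := key t
  refine ⟨M, isAmple_iff_affGlocus.2 ⟨hM, inferInstance, fun y => ?_⟩⟩
  obtain ⟨x, hxt, hyx⟩ := Set.mem_iUnion₂.1 (ht (Set.mem_univ y))
  obtain ⟨u, hu, x', hle⟩ := hMt y ⟨x, hxt, hyx⟩
  have hb : glocus (CohB1.tensorPow M 1) (tmul (oneSec ⊤) u) = glocus M u :=
    (glocus_tmul isInvertible_structureModule hM _ _).trans (by rw [glocus_oneSec, top_inf_eq])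
  refine ⟨1, one_pos, tmul (oneSec ⊤) u, hb.ge hu, le_top, ?_⟩
  rw [hb, ← inf_eq_left.2 hle]
  exact isAffineOpen_glocus_inf hM u (ha x')

end Groth.Agent.Desc19b
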