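import Groth.Agent.AmpleLib.Generated
import Groth.Agent.Coherent.Existence.Contract
import Groth.Agent.VarietyLib.Dual
import Groth.Agent.MorProj.InvTensor

/-! Coherent modules on a scheme with an ample family are quotients of sums of negative powers. -/

set_option autoImplicit false
set_option backward.isDefEq.respectTransparency.types false

universe u

open CategoryTheory CategoryTheory.Limits AlgebraicGeometry Opposite TopologicalSpace
open Groth.Agent.Coherent Groth.Agent.PicLib Groth.Agent.AmpleLib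

namespace Groth.Agent.Desc19b

variable {X : Scheme.{u}}

local instance : HasFiniteBiproducts X.Modules := Abelian.hasFiniteBiproducts

/-- Affine loci of sections of invertible modules covering a quasi-compact scheme make it quasi-separated. -/
theorem quasiSeparatedSpace_of_affine_loci [CompactSpace X]
    (h : ∀ x : X, ∃ (P : X.Modules) (a : Γ(P, ⊤)), PicF.IsInvertible P ∧ x ∈ glocus P a ∧ IsAffineOpen (glocus P a)) :
    QuasiSeparatedSpace X := by
  rw [quasiSeparatedSpace_iff_forall_affineOpens]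
  intro A B
  choose P b hP hb ha using h
  obtain ⟨t, ht⟩ := isCompact_univ.elim_finite_subcover (fun x => (glocus _ (b x) : Set X))
    (fun x => (glocus _ (b x)).2) fun x _ => Set.mem_iUnion.2 ⟨x, hb x⟩
  have heq : (A.1 ∩ B.1 : Set X) = ⋃ x ∈ t, ((glocus _ (b x) ⊓ A.1 : X.Opens) : Set X) ∩ (glocus _ (b x) ⊓ B.1 : X.Opens) := by
    ext z
    simp only [Set.mem_iUnion, Set.mem_inter_iff]
    constructor
    · intro hz
      obtain ⟨x, hx, hzx⟩ := Set.mem_iUnion₂.1 (ht (Set.mem_univ z))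
      exact ⟨x, hx, ⟨hzx, hz.1⟩, hzx, hz.2⟩
    · rintro ⟨x, _, h1, h2⟩
      exact ⟨h1.2, h2.2⟩
  rw [heq]
  refine t.isCompact_biUnion fun x _ => ?_
  exact (ha x).isQuasiSeparated _ _ Set.inter_subset_left (glocus _ (b x) ⊓ A.1).2
    (isAffineOpen_glocus_inf (hP x) _ A.2).isCompact Set.inter_subset_left
    (glocus _ (b x) ⊓ B.1).2 (isAffineOpen_glocus_inf (hP x) _ B.2).isCompact

/-- A global section of a twist gives a map from the inverse twist hitting the untwisted section. -/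
theorem exists_hom_of_twist_section (F : X.Modules) {T P : X.Modules} (hT : PicF.IsInvertible T)
    (e : CohB1.tensorMod T P ≅ Coh.structureModule X) (u : Γ(CohB1.tensorMod F T, ⊤)) {A : X.Opens}
    (f : Γ(F, A)) (g : Γ(T, A)) (hg : IsGen T A g) (hu : resM _ (le_top : A ≤ ⊤) u = tmul f g) :
    ∃ ψ : CohB1.tensorMod (Coh.structureModule X) P ⟶ F, ∀ y ∈ A, ∃ (W : X.Opens) (hW : W ≤ A), y ∈ W ∧
      ∃ k, ψ.app W k = resM F hW f := by
  refine ⟨tensorMap (Coherent.unitDesc _ u) (𝟙 P) ≫ Existence.contract hT e F, fun y hy => ?_⟩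
  have hP : PicF.IsInvertible P := MorProj.isInvertible_of_tensor_iso (tensorComm _ _ ≪≫ e)
  obtain ⟨W₀, hyW₀, w, hw⟩ := exists_isGen hP y
  let W := A ⊓ W₀
  have hWA : W ≤ A := inf_le_left
  have hgen := isGen_map_iso e (isGen_tmul (hg.restrict hWA) (hw.restrict (inf_le_right : W ≤ W₀)))
  obtain ⟨d, hd⟩ := (hgen W le_rfl).2 (AmpleLib.oneSec W)
  simp only [resM_self] at hd
  refine ⟨W, hWA, ⟨hy, hyW₀⟩, tmul (AmpleLib.oneSec W) (d • resM P inf_le_right w), ?_⟩
  let w' : Γ(P, W) := d • resM P (inf_le_right : W ≤ W₀) w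
  have h1 : (Coherent.unitDesc _ u).app W (AmpleLib.oneSec W) = tmul (resM F hWA f) (resM T hWA g) := by
    refine (unitVal_unitDesc _ u W).trans ?_
    rw [← resM_resM _ (le_top : A ≤ ⊤) hWA, hu, resM_tmul]
  have h3 : (tensorMap (Coherent.unitDesc _ u) (𝟙 P)).app W (tmul (AmpleLib.oneSec W) w') =
      tmul (tmul (resM F hWA f) (resM T hWA g)) w' :=
    (tensorMap_tmul _ _ _ _).trans (congrArg (tmul · w') h1)
  rw [Scheme.Modules.Hom.comp_app, ConcreteCategory.comp_apply, h3, Existence.contract_tmul]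
  have h2 : e.hom.app W (tmul (resM T hWA g) w') = AmpleLib.oneSec W := by
    rw [tmul_smul_right, Scheme.Modules.Hom.app_smul]
    exact hd
  refine Eq.trans (congrArg (fun r : Γ(X, W) => r • resM F hWA f) h2) ?_
  exact one_smul _ _

/-- With an ample family, a finite type quasi-coherent module is a quotient of negative powers. -/
theorem exists_epi_negPow [CompactSpace X] (C : X.Modules → Prop)
    (h : ∀ x : X, ∃ (P : X.Modules) (a : Γ(P, ⊤)), C P ∧ PicF.IsInvertible P ∧ x ∈ glocus P a ∧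
      IsAffineOpen (glocus P a))
    (F : X.Modules) (hF : Coh.IsCoh F) :
    ∃ (n : ℕ) (N : Fin n → X.Modules) (π : ⨁ N ⟶ F), Epi π ∧ ∀ j, PicF.IsInvertible (N j) ∧
      ∃ (P : X.Modules) (k : ℕ), C P ∧ 0 < k ∧
        Nonempty (CohB1.tensorMod (N j) (CohB1.tensorPow P k) ≅ Coh.structureModule X) := by
  classical
  have := quasiSeparatedSpace_of_affine_loci fun x => let ⟨P, a, _, h⟩ := h x; ⟨P, a, h⟩
  obtain ⟨hq, hfin⟩ := (isCoh_iff_finite_sections F).1 hF
  have := hq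
  choose P a hC hPi hxa ha using h
  obtain ⟨t, ht⟩ := isCompact_univ.elim_finite_subcover (fun x : X => (glocus _ (a x) : Set X))
    (fun x => (glocus _ (a x)).2) fun x _ => Set.mem_iUnion.2 ⟨x, hxa x⟩
  choose r f hf using fun x : t => (hfin _ (ha x.1)).exists_fin
  have key : ∀ p : Σ x : t, Fin (r x), ∃ (k : ℕ) (N : X.Modules) (ψ : N ⟶ F), 0 < k ∧ PicF.IsInvertible N ∧
      Nonempty (CohB1.tensorMod N (CohB1.tensorPow (P p.1.1) k) ≅ Coh.structureModule X) ∧
      ∀ y ∈ glocus _ (a p.1.1), ∃ (W : X.Opens) (hW : W ≤ glocus _ (a p.1.1)), y ∈ W ∧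
        ∃ s, ψ.app W s = resM F hW (f p.1 p.2) := fun p => by
    let x := p.1.1
    let A := glocus _ (a x)
    let bA : Γ(P x, A) := resM _ le_top (a x)
    have hP1 := isInvertible_tensorPow (hPi x) 1
    have := isQCoh_tensor_invertible F hP1
    obtain ⟨k, u₀, hu₀⟩ := exists_extend (CohB1.tensorMod F (CohB1.tensorPow (P x) 1)) (a x) (hPi x)
      (tmul (f p.1 p.2) (powSec bA 1))
    obtain ⟨α, hα⟩ := exists_assocHom F (CohB1.tensorPow (P x) k) hP1
    obtain ⟨e, he⟩ := exists_powIso (hPi x) 1 k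
    let T := CohB1.tensorPow (P x) (1 + k)
    have hT : PicF.IsInvertible T := isInvertible_tensorPow (hPi x) _
    obtain ⟨Q, ⟨eQ⟩⟩ := VarietyLib.exists_isInverseOf hT
    have hu : resM _ (le_top : A ≤ ⊤) ((tensorIso (Iso.refl F) e).hom.app ⊤ (α.app ⊤ u₀)) =
        tmul (f p.1 p.2) (powSec bA (1 + k)) := by
      rw [← app_resM, ← app_resM, hu₀, hα, ← he A bA]
      exact tensorMap_tmul _ _ _ _
    obtain ⟨ψ, hψ⟩ := exists_hom_of_twist_section F hT eQ _ (f p.1 p.2) _
      (isGen_powSec (isGen_glocus (a x)) (1 + k)) hu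
    have hQ : PicF.IsInvertible Q := MorProj.isInvertible_of_tensor_iso (tensorComm _ _ ≪≫ eQ)
    exact ⟨1 + k, _, ψ, by omega, isInvertible_tensorMod isInvertible_structureModule hQ,
      ⟨tensorIso (unitTensorIso Q) (Iso.refl T) ≪≫ tensorComm _ _ ≪≫ eQ⟩, hψ⟩
  choose k N ψ hk hN hiso hψ using key
  let ι := Σ x : t, Fin (r x)
  let ε := Fintype.equivFin ι
  let π : ⨁ (fun j => N (ε.symm j)) ⟶ F := biproduct.desc fun j => ψ (ε.symm j)
  refine ⟨_, fun j => N (ε.symm j), π, ?_, fun j => ⟨hN _, _, _, hC _, hk _, hiso _⟩⟩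
  refine epi_of_locally_surjective _ fun W v y hy => ?_
  obtain ⟨x, hxt, hyx⟩ := Set.mem_iUnion₂.1 (ht (Set.mem_univ y))
  let A := glocus _ (a x)
  have hgen : GenOn F A fun i : ULift.{u} (Fin (r ⟨x, hxt⟩)) => f ⟨x, hxt⟩ i.down :=
    genOn_of_span_top F (ha x) _ (by
      rw [← hf ⟨x, hxt⟩]; congr 1; exact Equiv.ulift.surjective.range_comp _)
  obtain ⟨W', hle, hyW', c, hc⟩ := hgen (W ⊓ A) inf_le_right (resM F inf_le_left v) y ⟨hy, hyx⟩
  choose V hV hyV s hs using fun i : ULift.{u} (Fin (r ⟨x, hxt⟩)) =>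
    hψ ⟨⟨x, hxt⟩, i.down⟩ y hyx
  have hex : ∀ i : ULift.{u} (Fin (r ⟨x, hxt⟩)), ∃ z,
      π.app (V i) z = resM F (hV i) (f ⟨x, hxt⟩ i.down) := fun i => by
    obtain ⟨j, hj⟩ := ε.symm.surjective ⟨⟨x, hxt⟩, i.down⟩
    have hj' : ∃ z', (ψ (ε.symm j)).app (V i) z' = resM F (hV i) (f ⟨x, hxt⟩ i.down) := by
      rw [hj]; exact ⟨s i, hs i⟩
    obtain ⟨z', hz'⟩ := hj'
    refine ⟨(biproduct.ι (fun j => N (ε.symm j)) j).app (V i) z', ?_⟩
    show (biproduct.ι (fun j => N (ε.symm j)) j ≫ π).app (V i) z' = _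
    rw [biproduct.ι_desc, hz']
  choose z hz using hex
  let W'' : X.Opens := W' ⊓ Finset.univ.inf V
  have h1 : W'' ≤ W' := inf_le_left
  have h2 : ∀ i, W'' ≤ V i := fun i => inf_le_right.trans (Finset.inf_le (Finset.mem_univ i))
  refine ⟨W'', h1.trans (hle.trans inf_le_left), ⟨hyW', ?_⟩, ∑ i, res h1 (c i) • resM _ (h2 i) (z i), ?_⟩
  · exact Finset.inf_induction (p := fun O : X.Opens => y ∈ O) trivial (fun _ h _ h' => ⟨h, h'⟩) fun i _ => hyV i
  · rw [← resM_resM F ((hle.trans inf_le_left : W' ≤ W)) h1, ← resM_resM F (inf_le_left : W ⊓ A ≤ W) hle, hc, map_sum, map_sum]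
    refine Finset.sum_congr rfl fun i _ => ?_
    rw [Scheme.Modules.Hom.app_smul, app_resM, hz, resM_resM, resM_smul, resM_resM]

end Groth.Agent.Desc19b
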