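import Mathlib

/-! Amitsur complex in low degrees, descent of linear maps, pure maps via character modules, annihilators. -/

set_option autoImplicit false
set_option backward.isDefEq.respectTransparency.types false
set_option backward.isDefEq.respectTransparency false

universe u v w

open TensorProduct

namespace Groth.Agent.Desc19b

theorem mem_range_of_one_tmul_mem {R : Type u} [CommRing R] {A : Type u} [CommRing A] [Algebra R A]
    [Module.FaithfullyFlat R A] {M N : Type u} [AddCommGroup M] [AddCommGroup N] [Module R M] [Module R N]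
    (d : M →ₗ[R] N) {x : N} (h : (1 : A) ⊗ₜ[R] x ∈ LinearMap.range (d.lTensor A)) : x ∈ LinearMap.range d := by
  rw [← Submodule.Quotient.mk_eq_zero]
  refine (Module.FaithfullyFlat.one_tmul_eq_zero_iff R (N ⧸ LinearMap.range d) (A := A) _).1 ?_
  obtain ⟨t, ht⟩ := h
  have : (Submodule.mkQ (LinearMap.range d)).lTensor A ((1 : A) ⊗ₜ[R] x) = 0 := by
    rw [← ht, ← LinearMap.comp_apply, ← LinearMap.lTensor_comp, LinearMap.range_mkQ_comp]
    simp
  simpa using this

theorem amitsur_zero (R A : Type u) [CommRing R] [CommRing A] [Algebra R A] [Module.FaithfullyFlat R A]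
    (M : Type u) [AddCommGroup M] [Module R M] (x : A ⊗[R] M)
    (hx : TensorProduct.mk R A (A ⊗[R] M) 1 x = LinearMap.lTensor A (TensorProduct.mk R A M 1) x) :
    x ∈ LinearMap.range (TensorProduct.mk R A M 1) :=
  mem_range_of_one_tmul_mem (A := A) _ ⟨x, hx.symm⟩

theorem amitsur_one (R R' : Type u) [CommRing R] [CommRing R'] [Algebra R R']
    [Module.FaithfullyFlat R R'] (M : Type u) [AddCommGroup M] [Module R M] :
    Function.Exact
      (LinearMap.lTensor M (Algebra.TensorProduct.includeRight : R' →ₐ[R] R' ⊗[R] R').toLinearMap -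
        LinearMap.lTensor M
          (Algebra.TensorProduct.includeLeft : R' →ₐ[R] R' ⊗[R] R').toLinearMap)
      (LinearMap.lTensor M
          (Algebra.TensorProduct.includeRight : R' ⊗[R] R' →ₐ[R] R' ⊗[R] (R' ⊗[R] R')).toLinearMap -
        LinearMap.lTensor M
          (Algebra.TensorProduct.map (AlgHom.id R R')
            (Algebra.TensorProduct.includeRight : R' →ₐ[R] R' ⊗[R] R')).toLinearMap +
        LinearMap.lTensor M
          (Algebra.TensorProduct.map (AlgHom.id R R')
            (Algebra.TensorProduct.includeLeft : R' →ₐ[R] R' ⊗[R] R')).toLinearMap) := by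
  set d0 := LinearMap.lTensor M (Algebra.TensorProduct.includeRight : R' →ₐ[R] R' ⊗[R] R').toLinearMap -
        LinearMap.lTensor M (Algebra.TensorProduct.includeLeft : R' →ₐ[R] R' ⊗[R] R').toLinearMap with hd0
  set d1 := LinearMap.lTensor M
          (Algebra.TensorProduct.includeRight : R' ⊗[R] R' →ₐ[R] R' ⊗[R] (R' ⊗[R] R')).toLinearMap -
        LinearMap.lTensor M
          (Algebra.TensorProduct.map (AlgHom.id R R')
            (Algebra.TensorProduct.includeRight : R' →ₐ[R] R' ⊗[R] R')).toLinearMap +
        LinearMap.lTensor M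
          (Algebra.TensorProduct.map (AlgHom.id R R')
            (Algebra.TensorProduct.includeLeft : R' →ₐ[R] R' ⊗[R] R')).toLinearMap with hd1
  intro x
  refine ⟨fun hx => ?_, ?_⟩
  · rw [← LinearMap.coe_range]
    refine mem_range_of_one_tmul_mem (A := R') d0 ⟨(TensorProduct.leftComm R M R' R').toLinearMap x, ?_⟩
    have e : d0.lTensor R' ∘ₗ (TensorProduct.leftComm R M R' R').toLinearMap =
        TensorProduct.mk R R' (M ⊗[R] (R' ⊗[R] R')) 1 -
          (TensorProduct.leftComm R M R' (R' ⊗[R] R')).toLinearMap ∘ₗ d1 := by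
      ext m a b
      simp [hd0, hd1, TensorProduct.tmul_sub, TensorProduct.tmul_add]
      abel
    have := LinearMap.congr_fun e x
    simpa [hx] using this
  · rintro ⟨y, rfl⟩
    have e : d1 ∘ₗ d0 = 0 := by
      ext m a
      simp [hd0, hd1, TensorProduct.tmul_sub, TensorProduct.sub_tmul, Algebra.TensorProduct.one_def]
    exact LinearMap.congr_fun e y

theorem existsUnique_baseChange_eq (A A' : Type u) [CommRing A] [CommRing A'] [Algebra A A']
    [Module.FaithfullyFlat A A'] (M N : Type u) [AddCommGroup M] [Module A M] [AddCommGroup N] [Module A N]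
    (f : A' ⊗[A] M →ₗ[A'] A' ⊗[A] N)
    (hf : ∀ m : M,
      LinearMap.rTensor N (Algebra.TensorProduct.includeLeft : A' →ₐ[A] A' ⊗[A] A').toLinearMap (f (1 ⊗ₜ[A] m)) =
        LinearMap.rTensor N (Algebra.TensorProduct.includeRight : A' →ₐ[A] A' ⊗[A] A').toLinearMap (f (1 ⊗ₜ[A] m))) :
    ∃! h : M →ₗ[A] N, h.baseChange A' = f := by
  have hinj := Module.FaithfullyFlat.tensorProduct_mk_injective (A := A) (B := A') N
  let g : M →ₗ[A] A' ⊗[A] N := (f.restrictScalars A).comp (TensorProduct.mk A A' M 1)
  have hg : ∀ m, g m ∈ LinearMap.range (TensorProduct.mk A A' N 1) := fun m => by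
    refine amitsur_zero A A' N _ ?_
    have e1 : (TensorProduct.assoc A A' A' N).toLinearMap ∘ₗ
        LinearMap.rTensor N (Algebra.TensorProduct.includeRight : A' →ₐ[A] A' ⊗[A] A').toLinearMap =
        TensorProduct.mk A A' (A' ⊗[A] N) 1 := by
      ext a n; simp
    have e2 : (TensorProduct.assoc A A' A' N).toLinearMap ∘ₗ
        LinearMap.rTensor N (Algebra.TensorProduct.includeLeft : A' →ₐ[A] A' ⊗[A] A').toLinearMap =
        LinearMap.lTensor A' (TensorProduct.mk A A' N 1) := by
      ext a n; simp
    rw [← e1, ← e2]
    exact congrArg (TensorProduct.assoc A A' A' N) (hf m).symm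
  let e := LinearEquiv.ofInjective _ hinj
  let h : M →ₗ[A] N := e.symm.toLinearMap.comp (g.codRestrict _ hg)
  have hh : ∀ m, (1 : A') ⊗ₜ[A] h m = f (1 ⊗ₜ m) := fun m =>
    congrArg Subtype.val (e.apply_symm_apply ⟨g m, hg m⟩)
  refine ⟨h, ?_, fun h' hh' => ?_⟩
  · ext m
    simp [hh]
  · ext m
    apply hinj
    simp only [TensorProduct.mk_apply, hh, ← hh', LinearMap.baseChange_tmul]

theorem lTensor_injective_forall_iff {R : Type u} [CommRing R] {M N : Type u}
    [AddCommGroup M] [Module R M] [AddCommGroup N] [Module R N] (f : M →ₗ[R] N) :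
    (∀ (P : Type u) [AddCommGroup P] [Module R P], Function.Injective (f.lTensor P)) ↔
      ∃ g : CharacterModule M →ₗ[R] CharacterModule N, (CharacterModule.dual f).comp g = LinearMap.id := by
  constructor
  · intro h
    obtain ⟨c, hc⟩ := CharacterModule.dual_surjective_iff_injective.2 (h (CharacterModule M))
      (CharacterModule.uncurry LinearMap.id)
    refine ⟨CharacterModule.curry c, ?_⟩
    ext φ m
    exact congr($hc (φ ⊗ₜ m))
  · rintro ⟨g, hg⟩ P _ _
    refine (injective_iff_map_eq_zero _).2 fun x hx => CharacterModule.eq_zero_of_character_apply fun c => ?_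
    have key : c = CharacterModule.dual (f.lTensor P) (CharacterModule.uncurry (g.comp (CharacterModule.curry c))) := by
      refine DFunLike.ext _ _ fun y => ?_
      induction y using TensorProduct.induction_on with
      | zero => simp
      | tmul p m => exact congr($hg (CharacterModule.curry c p) m).symm
      | add a b ha hb => simp only [map_add, ha, hb]
    rw [key]
    show CharacterModule.uncurry (g.comp (CharacterModule.curry c)) (f.lTensor P x) = 0
    rw [hx, map_zero]

theorem annihilator_baseChange {A : Type u} {B : Type v} [CommRing A] [CommRing B] [Algebra A B]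
    [Module.Flat A B] (M : Type w) [AddCommGroup M] [Module A M] [Module.FinitePresentation A M] :
    Module.annihilator B (B ⊗[A] M) = (Module.annihilator A M).map (algebraMap A B) := by
  obtain ⟨n, s, hs⟩ := Module.Finite.exists_fin (R := A) (M := M)
  let u : A →ₗ[A] (Fin n → M) := LinearMap.pi fun i => LinearMap.toSpanSingleton A M (s i)
  have hex : Function.Exact (Submodule.subtype (Module.annihilator A M)) u := by
    intro r
    simp only [Submodule.coe_subtype, Subtype.range_coe_subtype, Module.mem_annihilator]
    refine ⟨fun hr m => ?_, fun hr => funext fun i => hr (s i)⟩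
    have hm : m ∈ Submodule.span A (Set.range s) := hs ▸ Submodule.mem_top
    induction hm using Submodule.span_induction with
    | mem x hx => obtain ⟨i, rfl⟩ := hx; exact congrFun hr i
    | zero => simp
    | add x y _ _ hx hy => simp [hx, hy]
    | smul a x _ hx => rw [smul_comm, hx, smul_zero]
  refine le_antisymm (fun b hb => ?_) (Ideal.map_le_iff_le_comap.2 fun r hr => ?_)
  · have h0 : u.lTensor B (b ⊗ₜ[A] 1) = 0 := by
      apply (TensorProduct.piRight A A B fun _ : Fin n => M).injective
      ext i
      have := Module.mem_annihilator.1 hb ((1 : B) ⊗ₜ[A] s i)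
      simpa [u, TensorProduct.smul_tmul'] using this
    obtain ⟨t, ht⟩ := (Module.Flat.lTensor_exact B hex _).1 h0
    rw [show b = TensorProduct.rid A B ((Module.annihilator A M).subtype.lTensor B t) by rw [ht]; simp]
    clear ht h0
    induction t using TensorProduct.induction_on with
    | zero => simp
    | tmul c j =>
      simp only [LinearMap.lTensor_tmul, TensorProduct.rid_tmul, Submodule.coe_subtype, Algebra.smul_def]
      exact Ideal.mul_mem_right _ _ (Ideal.mem_map_of_mem _ j.2)
    | add x y hx hy => simp only [map_add]; exact Ideal.add_mem _ hx hy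
  · rw [Ideal.mem_comap, Module.mem_annihilator]
    intro x
    induction x using TensorProduct.induction_on with
    | zero => simp
    | tmul c m => rw [algebraMap_smul, ← TensorProduct.tmul_smul, Module.mem_annihilator.1 hr, TensorProduct.tmul_zero]
    | add x y hx hy => simp [smul_add, hx, hy]

end Groth.Agent.Desc19b
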