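import Groth.Agent.Desc19b.QCohFpqc
import Groth.Agent.AmpleLib.Detect
import Groth.Agent.PicLib.FlatSections

/-! Global generation and faithfully flat base change. -/

set_option autoImplicit false
set_option backward.isDefEq.respectTransparency.types false

universe u

open CategoryTheory CategoryTheory.Limits AlgebraicGeometry Opposite TopologicalSpace TensorProduct
open Groth.Agent.Coherent Groth.Agent.PicLib Groth.Agent.AmpleLib

namespace Groth.Agent.Desc19b

variable {X X' : Scheme.{u}} (π : X' ⟶ X)

/-- A map killing a global generator family is zero. -/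
theorem eq_zero_of_app_top {N P : X.Modules} {J : Type u} (q : freeMod X J ⟶ N) [Epi q] (h : N ⟶ P)
    (hh : ∀ w : Γ(N, ⊤), h.app ⊤ w = 0) : h = 0 := by
  rw [← cancel_epi q, comp_zero]
  refine freeMod_hom_ext fun i => ?_
  rw [comp_zero]
  let ψ := freeInj i ≫ q ≫ h
  have h1 : unitVal ψ ⊤ = 0 := hh _
  refine Scheme.Modules.hom_ext _ _ fun W => ?_
  ext r
  show ψ.app W r = 0
  refine (app_unit ψ r).trans ?_
  rw [← resM_unitVal ψ (le_top : W ≤ ⊤), h1, map_zero, smul_zero]

/-- The tautological map from the free module on global sections. -/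
noncomputable def evalGlobal (M : X.Modules) : freeMod X Γ(M, ⊤) ⟶ M := freeDesc fun s => unitDesc M s

theorem evalGlobal_basis (M : X.Modules) (s : Γ(M, ⊤)) :
    (evalGlobal M).app ⊤ (freeBasisVec s ⊤) = s := by
  show (freeInj s ≫ evalGlobal M).app ⊤ (1 : Γ(X, ⊤)) = s
  rw [evalGlobal, freeInj_freeDesc]
  exact (unitVal_unitDesc M s ⊤).trans (resM_self M _ s)

theorem isGloballyGenerated_pullback {M : X.Modules} (hM : Curv2.IsGloballyGenerated M) :
    Curv2.IsGloballyGenerated ((Scheme.Modules.pullback π).obj M) := by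
  obtain ⟨J, q₀, hq⟩ := hM
  let q : freeMod X J ⟶ M := q₀
  replace hq : Epi q := hq
  let M' := (Scheme.Modules.pullback π).obj M
  refine ⟨Γ(M', ⊤), evalGlobal M', ?_⟩
  show Epi (evalGlobal M')
  have := (Scheme.Modules.pullbackPushforwardAdjunction π).left_adjoint_additive
  refine Preadditive.epi_of_cancel_zero _ fun {P} h hh => ?_
  have hw : ∀ w : Γ(M', ⊤), h.app ⊤ w = 0 := fun w => by
    have := congrArg (fun φ => Scheme.Modules.Hom.app φ ⊤ (freeBasisVec w ⊤)) hh
    simp only at this
    rw [← evalGlobal_basis M' w]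
    exact this
  let adj := Scheme.Modules.pullbackPushforwardAdjunction π
  refine (adj.homEquiv _ _).injective ?_
  rw [Adjunction.homEquiv_unit, Adjunction.homEquiv_unit, Functor.map_zero, comp_zero]
  exact eq_zero_of_app_top q _ fun w => hw (pullSec π w)

variable {A B : CommRingCat.{u}} [Algebra A B] [Module.Flat A B] [IsAffineHom π] [Flat π] [Surjective π]
  (f : X ⟶ Spec A) (f' : X' ⟶ Spec B)

/-- Global generation descends along a faithfully flat change of affine base. -/
theorem isGloballyGenerated_of_pullback [CompactSpace X] [QuasiSeparatedSpace X]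
    (H : IsPullback π f' f (Spec.map (CommRingCat.ofHom (algebraMap A B))))
    (M : X.Modules) [Coh.IsQCoh M] (hgen : Curv2.IsGloballyGenerated ((Scheme.Modules.pullback π).obj M)) :
    Curv2.IsGloballyGenerated M := by
  let _ : X.Over (Spec (CommRingCat.of A)) := ⟨f⟩
  let _ : X'.Over (Spec (CommRingCat.of B)) := ⟨f'⟩
  have H' : IsPullback π (X' ↘ Spec (CommRingCat.of B)) (X ↘ Spec (CommRingCat.of A))
      (Spec.map (CommRingCat.ofHom (algebraMap A B))) := H
  obtain ⟨E, hE⟩ := exists_baseChange_sections π (Coh.toGlobal (X ↘ Spec (CommRingCat.of A)))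
    (Coh.toGlobal (X' ↘ Spec (CommRingCat.of B))) M (appTop_toGlobal π H')
    (fun U hU => isBCPushout_of_isPullback π H' hU)
  obtain ⟨J, q₀, hq⟩ := hgen
  let q : freeMod X' J ⟶ (Scheme.Modules.pullback π).obj M := q₀
  replace hq : Epi q := hq
  let p := evalGlobal M
  refine ⟨Γ(M, ⊤), p, ?_⟩
  show Epi p
  have := (Scheme.Modules.pullbackPushforwardAdjunction π).left_adjoint_additive
  have hp : Epi ((Scheme.Modules.pullback π).map p) := Preadditive.epi_of_cancel_zero _ fun {P} h hh => by
    refine eq_zero_of_app_top q h fun w => ?_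
    obtain ⟨t, rfl⟩ := E.surjective w
    induction t using TensorProduct.induction_on with
    | zero => rw [map_zero, map_zero]
    | tmul b x =>
      rw [hE, Scheme.Modules.Hom.app_smul]
      refine (congrArg _ ?_).trans (smul_zero _)
      let z := secTop (Coh.toGlobal (X ↘ Spec (CommRingCat.of A))) M x
      show h.app (π ⁻¹ᵁ ⊤) (pullSec π z) = 0
      rw [← evalGlobal_basis M z, ← pullback_map_app_pullSec]
      exact congrArg (fun φ => Scheme.Modules.Hom.app φ (π ⁻¹ᵁ ⊤) (pullSec π (freeBasisVec z ⊤))) hh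
    | add a b ha hb => rw [map_add, map_add, ha, hb, add_zero]
  refine Preadditive.epi_of_isZero_cokernel _ ?_
  have hz : IsZero ((Scheme.Modules.pullback π).obj (cokernel p)) :=
    IsZero.of_iso (isZero_cokernel_of_epi _) (PreservesCokernel.iso (Scheme.Modules.pullback π) p)
  let z₀ : cokernel p ⟶ cokernel (𝟙 M) := 0
  have hz' : IsZero ((Scheme.Modules.pullback π).obj (cokernel (𝟙 M))) :=
    Functor.map_isZero _ (isZero_cokernel_of_epi (𝟙 M))
  have : IsIso ((Scheme.Modules.pullback π).map z₀) := ⟨0, hz.eq_of_src _ _, hz'.eq_of_src _ _⟩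
  have := QFpqc.isIso_of_isIso_pullback π z₀
  exact IsZero.of_iso (isZero_cokernel_of_epi (𝟙 M)) (asIso z₀)

end Groth.Agent.Desc19b
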