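import Groth.Agent.AmpleLib.CounitEpi
import Groth.Agent.Coherent.Serre.AmpleAffine
import Groth.Agent.Coherent.SubFTApps
import Groth.Agent.Coherent.Existence.Contract
import Groth.Agent.VarietyLib.Dual
import Groth.Agent.Coherent.ProjSpaceBC
import Groth.Agent.DCat.PerfTensor
import Groth.Agent.DCat.PullPerf
import Groth.Agent.Coherent.TensorQcoh
import Groth.Agent.EulerLib.Twist
import Groth.Prelude.Def_PerfAux

/-! The resolution property for sources of morphisms with a relatively ample module. -/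

set_option autoImplicit false
set_option backward.isDefEq.respectTransparency.types false

universe u

open CategoryTheory CategoryTheory.Limits AlgebraicGeometry Opposite TopologicalSpace
open Groth.Agent.Coherent Groth.Agent.PicLib Groth.Agent.AmpleLib

namespace Groth.Agent.Desc19b

variable {X Y : Scheme.{u}}

/-- A finitely many given sections over preimages of opens generate: the map from a module containing them is epi. -/
theorem epi_of_local_generators (f : X ⟶ Y) {N : X.Modules} {G : Y.Modules}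
    (g : G ⟶ (Scheme.Modules.pushforward f).obj N)
    (h : ∀ x : X, ∃ (V : Y.Opens) (I : Type u) (p : freeMod (f ⁻¹ᵁ V).toScheme I ⟶ N.restrict (f ⁻¹ᵁ V).ι),
      f x ∈ V ∧ Epi p ∧ ∀ i, ∃ s : Γ(G, V), (show Γ(N, f ⁻¹ᵁ V) from g.app V s) =
        resM N (Scheme.Opens.ι_image_top _).ge
          ((N.restrictAppIso (f ⁻¹ᵁ V).ι ⊤).hom (p.app ⊤ (freeBasisVec i ⊤)))) :
    Epi (((Scheme.Modules.pullbackPushforwardAdjunction f).homEquiv G N).symm g) := by
  refine ⟨fun {Q} q q' hqq => ?_⟩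
  rw [← sub_eq_zero]
  let d : N ⟶ Q := q - q'
  have hd : ((Scheme.Modules.pullbackPushforwardAdjunction f).homEquiv G N).symm g ≫ d = 0 := by
    rw [Preadditive.comp_sub, sub_eq_zero]; exact hqq
  have hkill : ∀ (V : Y.Opens) (s : Γ(G, V)), d.app (f ⁻¹ᵁ V) (show Γ(N, f ⁻¹ᵁ V) from g.app V s) = 0 :=
    fun V s => by
      rw [← PicLib.homEquiv_symm_app_pullSec f g s]
      exact ConcreteCategory.congr_hom (congrArg (fun φ => Scheme.Modules.Hom.app φ (f ⁻¹ᵁ V)) hd) _
  refine Scheme.Modules.hom_ext _ _ fun U => ?_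
  ext a
  show d.app U a = 0
  refine sec_ext _ _ _ fun x hx => ?_
  obtain ⟨V, I, p, hxV, hp, hgen⟩ := h x
  let P := f ⁻¹ᵁ V
  let dP : N.restrict P.ι ⟶ Q.restrict P.ι := (Scheme.Modules.restrictFunctor P.ι).map d
  have hzero : p ≫ dP = 0 := by
    refine freeMod_hom_ext fun i => ?_
    rw [comp_zero]
    let ψ := freeInj i ≫ p ≫ dP
    have h1 : unitVal ψ ⊤ = 0 := by
      show dP.app ⊤ (p.app ⊤ (freeBasisVec i ⊤)) = 0
      apply (ConcreteCategory.bijective_of_isIso (Q.restrictAppIso P.ι ⊤).hom).1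
      rw [map_zero]
      obtain ⟨s, hs⟩ := hgen i
      let g₀ : Γ(N, P) := resM N (Scheme.Opens.ι_image_top P).ge
        ((N.restrictAppIso P.ι ⊤).hom (p.app ⊤ (freeBasisVec i ⊤)))
      have hg := congrArg (resM Q (Scheme.Opens.ι_image_top P).le) (hkill V s)
      rw [← app_resM, map_zero, hs] at hg
      have hgv : resM N (Scheme.Opens.ι_image_top P).le g₀ = (N.restrictAppIso P.ι ⊤).hom (p.app ⊤ (freeBasisVec i ⊤)) :=
        (resM_resM N (Scheme.Opens.ι_image_top P).ge (Scheme.Opens.ι_image_top P).le _).trans (resM_self N _ _)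
      rw [hgv] at hg
      exact hg
    refine Scheme.Modules.hom_ext _ _ fun W => ?_
    ext r
    show ψ.app W r = 0
    refine (app_unit ψ r).trans ?_
    rw [← resM_unitVal ψ (le_top : W ≤ ⊤), h1, map_zero, smul_zero]
  have hdP : dP = 0 := by rw [← cancel_epi p, hzero, comp_zero]
  let T := P.ι ''ᵁ (P.ι ⁻¹ᵁ U)
  have hT : T ≤ U := Set.image_preimage_subset _ _
  refine ⟨T, hT, ⟨⟨x, hxV⟩, hx, rfl⟩, ?_⟩
  rw [map_zero, ← app_resM]
  have h2 : dP.app (P.ι ⁻¹ᵁ U) ((N.restrictAppIso P.ι (P.ι ⁻¹ᵁ U)).inv (resM N hT a)) = 0 := by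
    rw [hdP]; rfl
  exact h2

theorem hasResolutionProperty_of_isRelAmple (f : X ⟶ Y) [CompactSpace Y] [QuasiSeparatedSpace Y]
    (hY : PerfAux.HasResolutionProperty Y) {L : X.Modules} (hL : RelAmple.IsRelAmple f L) :
    PerfAux.HasResolutionProperty X := fun F hFq hFt => by
  classical
  have hLi := isInvertible_of_isRelAmple f hL
  obtain ⟨hqc, h2⟩ := (isRelAmple_iff f).1 hL
  have : CompactSpace X := QuasiCompact.compactSpace_of_compactSpace f
  have : QuasiSeparated f := by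
    refine IsZariskiLocalAtTarget.of_iSup_eq_top _ (iSup_affineOpens_eq_top Y) fun V => ?_
    have := V.2
    obtain ⟨hi, _, haff⟩ := isAmple_iff_affGlocus.1 (h2 V)
    have := quasiSeparatedSpace_of_affGlocus hi haff
    exact (HasAffineProperty.iff_of_isAffine (P := @QuasiSeparated)).2 this
  have key : ∀ V : Y.affineOpens, ∃ N : ℕ, ∀ n, N ≤ n → ∃ (I : Type u) (_ : Fintype I)
      (p : freeMod (f ⁻¹ᵁ V.1).toScheme I ⟶ (CohB1.tensorMod F (CohB1.tensorPow L n)).restrict (f ⁻¹ᵁ V.1).ι),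
      Epi p := fun V => by
    let P := f ⁻¹ᵁ V.1
    obtain ⟨N, hN⟩ := Coherent.Serre.exists_epi_free_twist (h2 V) _ (isCoh_restrict P.ι F ⟨hFq, hFt⟩)
    refine ⟨N, fun n hn => ?_⟩
    have := isIso_restrictTensorHom P.ι F (CohB1.tensorPow L n) (isInvertible_tensorPow hLi n)
    obtain ⟨e, -⟩ := exists_pullPowIso P.ι hLi n
    obtain ⟨I, hI, p, hp⟩ := hN n hn
    exact ⟨I, hI, p ≫ (AmpleLib.tensorIso (Iso.refl _) (e.symm ≪≫ (restrictIsoPullback P.ι _).symm) ≪≫
      asIso (restrictTensorHom P.ι F _)).hom, @epi_comp _ _ _ _ _ p hp _ inferInstance⟩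
  choose N hN using key
  obtain ⟨t, ht⟩ := isCompact_univ.elim_finite_subcover (fun V : Y.affineOpens => ((f ⁻¹ᵁ V.1 : X.Opens) : Set X))
    (fun V => (f ⁻¹ᵁ V.1).2) fun x _ => by
      obtain ⟨V, hV, hxV, -⟩ := exists_isAffineOpen_mem_and_subset (x := f x) (U := ⊤) trivial
      exact Set.mem_iUnion.2 ⟨⟨V, hV⟩, hxV⟩
  let n := t.sup N
  have hT := isInvertible_tensorPow hLi n
  let F' := CohB1.tensorMod F (CohB1.tensorPow L n)
  have := hFq
  have := isQCoh_tensor_invertible F hT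
  have : Coh.IsQCoh ((Scheme.Modules.pushforward f).obj F') := Coherent.isQCoh_push f F'
  choose I hI p hp using fun V : t => hN V.1 n (Finset.le_sup V.2)
  choose Q hQ hs using fun V : t => exists_good_containing_qcqs (F := (Scheme.Modules.pushforward f).obj F')
    V.1.2.isCompact (fun i : I V => resM F' (Scheme.Opens.ι_image_top _).ge
      ((F'.restrictAppIso (f ⁻¹ᵁ V.1.1).ι ⊤).hom ((p V).app ⊤ (freeBasisVec i ⊤))))
  let G := SubM.sum Q
  have hG : G.Good ⊤ := SubM.good_sum Q hQ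
  obtain ⟨E, π, hE, hπ⟩ := hY G.toMod (SubM.isQCoh hG) (SubM.isFT hG)
  let adj := Scheme.Modules.pullbackPushforwardAdjunction f
  let ψ : (Scheme.Modules.pullback f).obj G.toMod ⟶ F' := (adj.homEquiv _ _).symm G.toι
  have hψ : Epi ψ := epi_of_local_generators f G.toι fun x => by
    obtain ⟨V, hVt, hxV⟩ := Set.mem_iUnion₂.1 (ht (Set.mem_univ x))
    exact ⟨V.1, I ⟨V, hVt⟩, p ⟨V, hVt⟩, hxV, hp _,
      fun i => ⟨⟨_, SubM.le_sum Q ⟨V, hVt⟩ V.1 (hs ⟨V, hVt⟩ i)⟩, rfl⟩⟩
  obtain ⟨P, ⟨e⟩⟩ := VarietyLib.exists_isInverseOf hT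
  have hP : PicF.IsInvertible P := MorProj.isInvertible_of_tensor_iso (tensorComm _ _ ≪≫ e)
  have h1 : Epi ((Scheme.Modules.pullback f).map π) := inferInstance
  let π' := (Scheme.Modules.pullback f).map π ≫ ψ
  have h1' : Epi π' := epi_comp _ _
  refine ⟨_, tensorMap π' (𝟙 P) ≫ Existence.contract hT e F,
    DCat.PerfTensor.isFinLocFree_tensor (DCat.PullPerf.isFinLocFree_pullback f hE) (Coherent.isFinLocFree_of_invertible hP), ?_⟩
  have := EulerLib.epi_tensorMap hP π'
  have := Existence.epi_contract hT e F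
  exact epi_comp _ _

end Groth.Agent.Desc19b

namespace Groth.Agent.Desc19b

theorem hasResolutionProperty_of_isAffineHom {X Y : Scheme.{u}} (f : X ⟶ Y) [IsAffineHom f] [CompactSpace Y]
    [QuasiSeparatedSpace Y] (hY : PerfAux.HasResolutionProperty Y) : PerfAux.HasResolutionProperty X := by
  refine hasResolutionProperty_of_isRelAmple f hY ((isQuasiAffine_iff_isRelAmple (f := f)).1 ⟨inferInstance, fun V hV => ?_⟩)
  have : IsAffine (f ⁻¹ᵁ V).toScheme := hV.preimage f
  exact inferInstance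

end Groth.Agent.Desc19b
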