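import Mathlib.AlgebraicGeometry.Morphisms.Affine
import Mathlib.AlgebraicGeometry.Morphisms.QuasiCompact
import Mathlib.RingTheory.Ideal.MinimalPrime.Noetherian
import Mathlib.RingTheory.KrullDimension.Basic
import Mathlib.RingTheory.Localization.AtPrime.Basic

/-! Quasi-compact opens of an affine scheme whose local rings are Noetherian of dimension ≤ 1 are affine. -/

set_option autoImplicit false
universe u

open CategoryTheory AlgebraicGeometry TopologicalSpace

namespace Groth.Agent.Desc19b.AffineOpenDimOne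

/-- Near a prime with Noetherian local ring of dimension ≤ 1, the open `D(G)` is principal. -/
theorem exists_principal {R : Type u} [CommRing R] (p : Ideal R) [p.IsPrime] (A : Type u) [CommRing A]
    [Algebra R A] [IsLocalization.AtPrime A p] [IsNoetherianRing A] (hA : ringKrullDim A ≤ 1) (G : Finset R) :
    ∃ s h : R, s ∉ p ∧ ∀ q : Ideal R, q.IsPrime → s ∉ q → (h ∉ q ↔ ∃ f ∈ G, f ∉ q) := by
  classical
  haveI : IsLocalRing A := IsLocalization.AtPrime.isLocalRing A p
  haveI : Ring.KrullDimLE 1 A := Ring.krullDimLE_iff.mpr hA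
  have hPA : {Q : Ideal A | Q.IsPrime}.Finite := by
    refine ((minimalPrimes.finite_of_isNoetherianRing A).union (Set.finite_singleton (IsLocalRing.maximalIdeal A))).subset
      fun Q hQ => ?_
    rcases Ring.krullDimLE_one_iff.mp inferInstance Q hQ with h | h
    · exact Or.inl h
    · exact Or.inr (IsLocalRing.eq_maximalIdeal h)
  let P := hPA.toFinset.image (fun Q : Ideal A => Q.comap (algebraMap R A))
  have hPp : ∀ q ∈ P, q.IsPrime := by
    intro q hq
    obtain ⟨Q, hQ, rfl⟩ := Finset.mem_image.mp hq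
    haveI : Q.IsPrime := hPA.mem_toFinset.mp hQ
    infer_instance
  let F := P.filter (fun q => ∀ f ∈ G, f ∈ q)
  let T := P.filter (fun q => ¬ ∀ f ∈ G, f ∈ q)
  obtain ⟨h, hF, hT⟩ : ∃ h ∈ F.inf id, ∀ q ∈ T, h ∉ q := by
    by_contra! hc
    have hsub : ((F.inf id : Ideal R) : Set R) ⊆ ⋃ q ∈ (T : Set (Ideal R)), (q : Set R) := fun x hx => by
      obtain ⟨q, hq, hxq⟩ := hc x hx
      exact Set.mem_biUnion (Finset.mem_coe.mpr hq) hxq
    obtain ⟨q, hq, hle⟩ := (Ideal.subset_union_prime (f := fun q : Ideal R => q) ⊥ ⊥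
      (fun q hq _ _ => hPp q (Finset.mem_filter.mp hq).1)).mp hsub
    obtain ⟨q', hq', hle'⟩ := ((hPp q (Finset.mem_filter.mp hq).1).inf_le').mp hle
    exact (Finset.mem_filter.mp hq).2 fun f hf => hle' ((Finset.mem_filter.mp hq').2 f hf)
  have key : ∀ q ∈ P, (h ∈ q ↔ ∀ f ∈ G, f ∈ q) := fun q hq =>
    ⟨fun hh => by_contra fun hn => hT q (Finset.mem_filter.mpr ⟨hq, hn⟩) hh,
     fun hG => (Finset.inf_le (f := id) (Finset.mem_filter.mpr ⟨hq, hG⟩) : F.inf id ≤ q) hF⟩
  -- turn memberships at the primes below `p` into equations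
  have lift : ∀ (J : Ideal R) (x : R), (∀ q ∈ P, J ≤ q → x ∈ q) → ∃ (s : R) (n : ℕ), s ∉ p ∧ s * x ^ n ∈ J := by
    intro J x hx
    have : algebraMap R A x ∈ (J.map (algebraMap R A)).radical := by
      rw [Ideal.radical_eq_sInf]
      refine Ideal.mem_sInf.mpr fun Q hQ => ?_
      exact hx _ (Finset.mem_image_of_mem _ (hPA.mem_toFinset.mpr hQ.2)) (Ideal.map_le_iff_le_comap.mp hQ.1)
    obtain ⟨n, hn⟩ := this
    rw [← map_pow, IsLocalization.algebraMap_mem_map_algebraMap_iff p.primeCompl] at hn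
    obtain ⟨m, hm, hmx⟩ := hn
    exact ⟨m, n, hm, hmx⟩
  obtain ⟨s₀, n₀, hs₀, he₀⟩ := lift (Ideal.span G) h fun q hq hle =>
    (key q hq).mpr fun f hf => hle (Ideal.subset_span hf)
  have hl : ∀ f : {f // f ∈ G}, ∃ (s : R) (n : ℕ), s ∉ p ∧ s * f.1 ^ n ∈ Ideal.span {h} := fun f =>
    lift _ f.1 fun q hq hle => (key q hq).mp (hle (Ideal.mem_span_singleton_self h)) f.1 f.2
  choose s n hs he using hl
  refine ⟨s₀ * ∏ f ∈ G.attach, s f, h, fun hm => ?_, fun q hqp hsq => ?_⟩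
  · rcases Ideal.IsPrime.mem_or_mem ‹p.IsPrime› hm with hm | hm
    · exact hs₀ hm
    · obtain ⟨f, -, hf⟩ := Ideal.IsPrime.prod_mem_iff.mp hm
      exact hs f hf
  · have h0 : s₀ ∉ q := fun e => hsq (q.mul_mem_right _ e)
    constructor
    · intro hh
      by_contra! hG
      exact hh (hqp.mem_of_pow_mem n₀ ((hqp.mem_or_mem ((Ideal.span_le.mpr fun f hf => hG f hf) he₀)).resolve_left h0))
    · rintro ⟨f, hf, hfq⟩ hh
      have hf0 : s ⟨f, hf⟩ ∉ q := fun e =>
        hsq (q.mul_mem_left _ (q.prod_mem (Finset.mem_attach G ⟨f, hf⟩) e))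
      exact hfq (hqp.mem_of_pow_mem _ ((hqp.mem_or_mem
        ((Ideal.span_le.mpr (Set.singleton_subset_iff.mpr hh)) (he ⟨f, hf⟩))).resolve_left hf0))

theorem isAffineOpen (X : Scheme.{u}) [IsAffine X]
    (hX : ∀ x : X, IsNoetherianRing (X.presheaf.stalk x) ∧ ringKrullDim (X.presheaf.stalk x) ≤ 1)
    (U : X.Opens) (hU : IsCompact (U : Set X)) : IsAffineOpen U := by
  classical
  have hT := isAffineOpen_top X
  obtain ⟨G, hG, hUG⟩ := ((isBasis_basicOpen X).isCompact_open_iff_eq_finite_iUnion _ (fun r => (hT.basicOpen r).isCompact) U).mp ⟨hU, U.2⟩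
  have hmem : ∀ (y : X) (f : Γ(X, ⊤)), y ∈ X.basicOpen f ↔ f ∉ (hT.primeIdealOf ⟨y, trivial⟩).asIdeal := by
    intro y f
    rw [X.mem_basicOpen f y trivial]
    letI := TopCat.Presheaf.algebra_section_stalk X.presheaf (⟨y, trivial⟩ : (⊤ : X.Opens))
    haveI := hT.isLocalization_stalk ⟨y, trivial⟩
    exact IsLocalization.AtPrime.isUnit_to_map_iff (X.presheaf.stalk y) (hT.primeIdealOf ⟨y, trivial⟩).asIdeal f
  haveI : IsAffineHom U.ι := by
    refine isAffineHom_of_forall_exists_isAffineOpen U.ι fun x => ?_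
    letI := TopCat.Presheaf.algebra_section_stalk X.presheaf (⟨x, trivial⟩ : (⊤ : X.Opens))
    haveI := hT.isLocalization_stalk ⟨x, trivial⟩
    haveI := (hX x).1
    obtain ⟨s, h, hs, hsh⟩ := exists_principal (hT.primeIdealOf ⟨x, trivial⟩).asIdeal (X.presheaf.stalk x) (hX x).2 hG.toFinset
    refine ⟨X.basicOpen s, (hmem x s).mpr hs, hT.basicOpen s, ?_⟩
    rw [← U.ι.isAffineOpen_iff_of_isOpenImmersion, Scheme.Hom.image_preimage_eq_opensRange_inf, Scheme.Opens.opensRange_ι]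
    suffices e : U ⊓ X.basicOpen s = X.basicOpen (h * s) by rw [e]; exact hT.basicOpen _
    refine Opens.ext (Set.ext fun y => ?_)
    show (y ∈ (U : Set X) ∧ y ∈ X.basicOpen s) ↔ y ∈ X.basicOpen (h * s)
    rw [hUG, Scheme.basicOpen_mul]
    show _ ↔ (y ∈ X.basicOpen h ∧ y ∈ X.basicOpen s)
    refine and_congr_left fun hy => ?_
    rw [hmem y h, hsh _ (hT.primeIdealOf ⟨y, trivial⟩).2 ((hmem y s).mp hy)]
    simp [hmem]
  exact isAffine_of_isAffineHom U.ι

end Groth.Agent.Desc19b.AffineOpenDimOne
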