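import Mathlib

/-! Exactness of the Amitsur complex, realised as the Čech conerve, in all positive degrees. -/

set_option autoImplicit false
set_option backward.isDefEq.respectTransparency.types false
set_option backward.isDefEq.respectTransparency false

universe u

open TensorProduct CategoryTheory Limits Simplicial

namespace Groth.Agent.Desc19b.AmitsurCech

variable (R A : Type u) [CommRing R] [CommRing A] [Algebra R A]

/-- The structure map `R ⟶ A` as an arrow. -/
noncomputable abbrev arr : Arrow CommRingCat.{u} := Arrow.mk (CommRingCat.ofHom (algebraMap R A))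

/-- The `(n+1)`-fold pushout of `A` under `R`. -/
noncomputable abbrev T (n : ℕ) : CommRingCat.{u} := (arr R A).cechConerve.obj ⦋n⦌

/-- Structure map. -/
noncomputable abbrev hd (n : ℕ) : CommRingCat.of R ⟶ T R A n :=
  WidePushout.head (fun _ : Fin (n + 1) => CommRingCat.ofHom (algebraMap R A))

/-- Coprojections. -/
noncomputable abbrev inj (n : ℕ) (i : Fin (n + 1)) : CommRingCat.of A ⟶ T R A n :=
  WidePushout.ι (fun _ : Fin (n + 1) => CommRingCat.ofHom (algebraMap R A)) i

noncomputable instance algT (n : ℕ) : Algebra R (T R A n) := (hd R A n).hom.toAlgebra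

lemma inj_comp (n : ℕ) (i : Fin (n + 1)) (r : R) :
    (inj R A n i).hom (algebraMap R A r) = algebraMap R (T R A n) r :=
  congrArg (fun g : CommRingCat.of R ⟶ T R A n => g.hom r)
    (WidePushout.arrow_ι (fun _ : Fin (n + 1) => CommRingCat.ofHom (algebraMap R A)) i)

/-- Coprojection, as an algebra map. -/
noncomputable def injA (n : ℕ) (i : Fin (n + 1)) : A →ₐ[R] T R A n :=
  { (inj R A n i).hom with commutes' := inj_comp R A n i }

lemma hom_ext {n : ℕ} {S : Type u} [CommRing S] [Algebra R S] {f g : T R A n →ₐ[R] S}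
    (h : ∀ i a, f (injA R A n i a) = g (injA R A n i a)) : f = g := by
  have : CommRingCat.ofHom f.toRingHom = CommRingCat.ofHom g.toRingHom := by
    refine WidePushout.hom_ext _ _ _ (fun i => ?_) ?_
    · ext a; exact h i a
    · ext r; exact (f.commutes r).trans (g.commutes r).symm
  ext x
  exact congrArg (fun k : T R A n ⟶ CommRingCat.of S => k.hom x) this

lemma δ_inj (n : ℕ) (k : Fin (n + 2)) (i : Fin (n + 1)) :
    inj R A n i ≫ (arr R A).cechConerve.δ k = inj R A (n + 1) (k.succAbove i) := by
  simp [CosimplicialObject.δ, inj, SimplexCategory.δ]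

lemma δ_hd (n : ℕ) (k : Fin (n + 2)) :
    hd R A n ≫ (arr R A).cechConerve.δ k = hd R A (n + 1) := by
  simp [CosimplicialObject.δ, hd]

/-- Cofaces, as algebra maps. -/
noncomputable def δA (n : ℕ) (k : Fin (n + 2)) : T R A n →ₐ[R] T R A (n + 1) :=
  { ((arr R A).cechConerve.δ k).hom with
    commutes' := fun r => congrArg (fun g : CommRingCat.of R ⟶ T R A (n + 1) => g.hom r)
      (δ_hd R A n k) }

lemma δA_inj (n : ℕ) (k : Fin (n + 2)) (i : Fin (n + 1)) (a : A) :
    δA R A n k (injA R A n i a) = injA R A (n + 1) (k.succAbove i) a :=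
  congrArg (fun g : CommRingCat.of A ⟶ T R A (n + 1) => g.hom a) (δ_inj R A n k i)

/-- The component maps of `θ`. -/
noncomputable def θcomp (n : ℕ) (i : Fin (n + 2)) : A →ₐ[R] A ⊗[R] T R A n :=
  Fin.cases (Algebra.TensorProduct.includeLeft)
    (fun j => Algebra.TensorProduct.includeRight.comp (injA R A n j)) i

/-- Splitting off the zeroth tensor slot. -/
noncomputable def θ₀ (n : ℕ) : T R A (n + 1) ⟶ CommRingCat.of (A ⊗[R] T R A n) :=
  WidePushout.desc (CommRingCat.ofHom (algebraMap R (A ⊗[R] T R A n)))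
    (fun i => CommRingCat.ofHom (θcomp R A n i).toRingHom)
    (fun i => by ext r; exact (θcomp R A n i).commutes r)

/-- Splitting off the zeroth tensor slot, as an algebra map. -/
noncomputable def θ (n : ℕ) : T R A (n + 1) →ₐ[R] A ⊗[R] T R A n :=
  { (θ₀ R A n).hom with
    commutes' := fun r => congrArg
      (fun g : CommRingCat.of R ⟶ CommRingCat.of (A ⊗[R] T R A n) => g.hom r)
      (WidePushout.head_desc _ _ _ _) }

lemma θ_inj (n : ℕ) (i : Fin (n + 2)) (a : A) :
    θ R A n (injA R A (n + 1) i a) = θcomp R A n i a :=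
  show (inj R A (n + 1) i ≫ θ₀ R A n).hom a = _ from
  (congrArg (fun g : CommRingCat.of A ⟶ CommRingCat.of (A ⊗[R] T R A n) => g.hom a)
    (show inj R A (n + 1) i ≫ θ₀ R A n = CommRingCat.ofHom (θcomp R A n i).toRingHom from
      WidePushout.ι_desc _ _ _ _ i))

lemma θ_δ_zero (n : ℕ) :
    (θ R A n).comp (δA R A n 0) = Algebra.TensorProduct.includeRight := by
  refine hom_ext R A fun i a => ?_
  rw [AlgHom.comp_apply, δA_inj, θ_inj, Fin.succAbove_zero]
  simp [θcomp]

lemma θ_δ_succ (n : ℕ) (k : Fin (n + 2)) :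
    (θ R A (n + 1)).comp (δA R A (n + 1) k.succ)
      = (Algebra.TensorProduct.map (AlgHom.id R A) (δA R A n k)).comp (θ R A n) := by
  refine hom_ext R A fun i a => ?_
  rw [AlgHom.comp_apply, AlgHom.comp_apply, δA_inj, θ_inj, θ_inj]
  refine Fin.cases ?_ (fun j => ?_) i
  · simp [θcomp]
  · simp [θcomp, δA_inj]

/-- The Amitsur differential. -/
noncomputable def d (n : ℕ) : T R A n →ₗ[R] T R A (n + 1) :=
  ∑ i : Fin (n + 2), (-1 : ℤ) ^ (i : ℕ) • (δA R A n i).toLinearMap

/-- The homotopy. -/
noncomputable def h (n : ℕ) : A ⊗[R] T R A (n + 1) →ₗ[A] A ⊗[R] T R A n :=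
  (θ R A n).toLinearMap.liftBaseChange A

lemma h_tmul (n : ℕ) (a : A) (t : T R A (n + 1)) :
    h R A n (a ⊗ₜ t) = a • θ R A n t := by simp [h]

lemma h_δ_zero (n : ℕ) (x : A ⊗[R] T R A n) :
    h R A n ((δA R A n 0).toLinearMap.baseChange A x) = x := by
  induction x using TensorProduct.induction_on with
  | zero => simp
  | add x y hx hy => rw [map_add, map_add, hx, hy]
  | tmul a t =>
    rw [LinearMap.baseChange_tmul, AlgHom.toLinearMap_apply, h_tmul]
    rw [← AlgHom.comp_apply, θ_δ_zero]
    simp [TensorProduct.smul_tmul']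

lemma h_δ_succ (n : ℕ) (k : Fin (n + 2)) (x : A ⊗[R] T R A (n + 1)) :
    h R A (n + 1) ((δA R A (n + 1) k.succ).toLinearMap.baseChange A x)
      = (δA R A n k).toLinearMap.baseChange A (h R A n x) := by
  induction x using TensorProduct.induction_on with
  | zero => simp
  | add x y hx hy => simp only [map_add, hx, hy]
  | tmul a t =>
    rw [LinearMap.baseChange_tmul, AlgHom.toLinearMap_apply, h_tmul, h_tmul, map_smul,
      ← AlgHom.comp_apply, θ_δ_succ, AlgHom.comp_apply]
    congr 1

lemma baseChange_d (n : ℕ) :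
    (d R A n).baseChange A
      = ∑ i : Fin (n + 2), (-1 : ℤ) ^ (i : ℕ) • (δA R A n i).toLinearMap.baseChange A := by
  refine LinearMap.ext fun x => ?_
  induction x using TensorProduct.induction_on with
  | zero => simp
  | add x y hx hy => simp only [map_add, hx, hy]
  | tmul a t =>
    rw [LinearMap.baseChange_tmul, d, LinearMap.sum_apply, LinearMap.sum_apply,
      TensorProduct.tmul_sum]
    refine Finset.sum_congr rfl fun i _ => ?_
    rw [LinearMap.smul_apply, LinearMap.smul_apply, LinearMap.baseChange_tmul,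
      TensorProduct.tmul_smul]

lemma homotopy (n : ℕ) (x : A ⊗[R] T R A (n + 1)) :
    h R A (n + 1) ((d R A (n + 1)).baseChange A x) = x - (d R A n).baseChange A (h R A n x) := by
  rw [baseChange_d, baseChange_d, LinearMap.sum_apply, LinearMap.sum_apply, Fin.sum_univ_succ,
    map_add, map_sum, sub_eq_add_neg, ← Finset.sum_neg_distrib]
  congr 1
  · simp [h_δ_zero]
  · refine Finset.sum_congr rfl fun k _ => ?_
    rw [LinearMap.smul_apply, LinearMap.smul_apply, map_zsmul, h_δ_succ, Fin.val_succ, pow_succ,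
      mul_neg_one, neg_smul]

theorem exact_d [Module.FaithfullyFlat R A] (n : ℕ) {x : T R A (n + 1)}
    (hx : d R A (n + 1) x = 0) : ∃ y, d R A n y = x := by
  have h0 : (d R A n).baseChange A (h R A n ((1 : A) ⊗ₜ x)) = (1 : A) ⊗ₜ x := by
    have := homotopy R A n ((1 : A) ⊗ₜ x)
    rw [LinearMap.baseChange_tmul, hx, TensorProduct.tmul_zero, map_zero] at this
    exact (sub_eq_zero.1 this.symm).symm
  have hmem : x ∈ LinearMap.range (d R A n) := by
    rw [← Submodule.Quotient.mk_eq_zero]
    refine (Module.FaithfullyFlat.one_tmul_eq_zero_iff R _ (A := A) _).1 ?_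
    have key : (Submodule.mkQ (LinearMap.range (d R A n))).lTensor A ((1 : A) ⊗ₜ[R] x) = 0 := by
      rw [← h0, LinearMap.baseChange_eq_ltensor, ← LinearMap.comp_apply, ← LinearMap.lTensor_comp,
        LinearMap.range_mkQ_comp]
      simp
    simpa using key
  exact hmem

theorem exactAt [Module.FaithfullyFlat R A] (n : ℕ) :
    (AlgebraicTopology.AlternatingCofaceMapComplex.obj
      ((arr R A).cechConerve ⋙ forget₂ CommRingCat RingCat ⋙
        forget₂ RingCat AddCommGrpCat)).ExactAt (n + 1) := by
  rw [HomologicalComplex.exactAt_iff' _ n (n + 1) (n + 2) (by simp) (by simp),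
    ShortComplex.ab_exact_iff]
  intro x hx
  have key : ∀ (m : ℕ) (t : T R A m), ((AlgebraicTopology.AlternatingCofaceMapComplex.obj
      ((arr R A).cechConerve ⋙ forget₂ CommRingCat RingCat ⋙
        forget₂ RingCat AddCommGrpCat)).d m (m + 1)).hom t = d R A m t := by
    intro m t
    simp only [AlgebraicTopology.AlternatingCofaceMapComplex.obj, CochainComplex.of_d,
      AlgebraicTopology.AlternatingCofaceMapComplex.objD, d, LinearMap.sum_apply]
    refine Eq.trans (congrArg (fun g : _ →+ _ => g t) (map_sum AddCommGrpCat.homAddEquiv _ _)) ?_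
    rw [AddMonoidHom.finsetSum_apply]
    rfl
  obtain ⟨y, hy⟩ := exact_d R A n (x := x) ((key (n + 1) x).symm.trans hx)
  exact ⟨y, (key n y).trans hy⟩

end Groth.Agent.Desc19b.AmitsurCech
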