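import Groth.Agent.Stk19.Elem
import Mathlib.CategoryTheory.Sites.CoverPreserving
import Mathlib.CategoryTheory.Limits.Shapes.Pullback.Categorical.Basic
import Mathlib.CategoryTheory.Limits.Shapes.Pullback.IsPullback.Basic

/-! The 2-fibre product `C ×_D 𝒮` of a stack with a morphism of sites preserving pullbacks is a stack. -/

set_option autoImplicit false
set_option backward.isDefEq.respectTransparency false
set_option backward.isDefEq.respectTransparency.types false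

universe v₃ u₃ v₂ u₂ v u

open CategoryTheory CategoryTheory.Limits FibCat Groth.Agent.Stk19

namespace Groth.Agent.Desc19b.CatPbStack

variable {C : Type u} [Category.{v} C] {D : Type u₂} [Category.{v₂} D] (u : C ⥤ D)
  (𝒮 : BasedCategory.{v₃, u₃} D)

/-- The 2-fibre product over `C`. -/
abbrev PB := BasedCategory.ofFunctor (CategoricalPullback.π₁ u 𝒮.p)

variable {u 𝒮}

theorem isFibGrpd (h : IsFibGrpd 𝒮.p) : IsFibGrpd (PB u 𝒮).p where
  exists_lift := by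
    intro a V f
    obtain ⟨n, k, e, hk⟩ := fibGrpd_lift h a.snd (u.map f ≫ a.iso.hom)
    let b : CategoricalPullback u 𝒮.p := ⟨V, n, eqToIso e.symm⟩
    let φ : b ⟶ a := ⟨f, k, by simp [b, hk]⟩
    exact ⟨b, φ, IsHomLift.of_fac' _ _ _ rfl rfl (by simp [φ]; rfl)⟩
  isStronglyCartesian := by
    intro y x φ
    constructor
    intro z g ψ hψ
    have h1 : g ≫ φ.fst = ψ.fst :=
      IsHomLift.eq_of_isHomLift (PB u 𝒮).p (g ≫ (PB u 𝒮).p.map φ) ψ
    obtain ⟨c, ⟨hc, hcφ⟩, huniq⟩ := fibGrpd_fac h φ.snd ψ.snd (z.iso.inv ≫ u.map g ≫ y.iso.hom)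
      (by rw [Category.assoc, Category.assoc, ← φ.w, ← u.map_comp_assoc, h1, ψ.w, Iso.inv_hom_id_assoc])
    refine ⟨⟨g, c, by rw [hc, Iso.hom_inv_id_assoc]⟩, ⟨IsHomLift.of_fac' _ _ _ rfl rfl (by simp; rfl),
      CategoricalPullback.hom_ext h1 hcφ⟩, ?_⟩
    rintro π ⟨hπ, hπφ⟩
    have hg : g = π.fst := IsHomLift.eq_of_isHomLift (PB u 𝒮).p g π
    refine CategoricalPullback.hom_ext hg.symm (huniq _ ⟨?_, congrArg CategoricalPullback.Hom.snd hπφ⟩)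
    rw [hg, π.w, Iso.inv_hom_id_assoc]

variable [HasPullbacks C] [PreservesLimitsOfShape WalkingCospan u]

/-- `u` of a pullback. -/
theorem map_pb {A B U : C} (f : A ⟶ U) (g : B ⟶ U) :
    IsPullback (u.map (pullback.fst f g)) (u.map (pullback.snd f g)) (u.map f) (u.map g) :=
  Functor.map_isPullback u (IsPullback.of_hasPullback f g)

theorem homGlue (h : IsFibGrpd 𝒮.p) {U : C} (R : Sieve U)
    (hR : ∀ {W : D} (q : W ⟶ u.obj U), HomGlue 𝒮 ((R.functorPushforward u).pullback q)) :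
    HomGlue (PB u 𝒮) R := by
  intro x y hx hy t ht tn
  let q : 𝒮.p.obj x.snd ⟶ u.obj U := x.iso.inv ≫ u.map (eqToHom hx)
  obtain ⟨y', k, ey, hk⟩ := fibGrpd_lift h y.snd (q ≫ u.map (eqToHom hy.symm) ≫ y.iso.hom)
  haveI : IsIso k := by
    haveI := h.isStronglyCartesian k
    haveI : IsIso (𝒮.p.map k) := by rw [hk]; simp only [q]; infer_instance
    exact Functor.IsStronglyCartesian.isIso_of_base_isIso 𝒮.p (𝒮.p.map k) k
  have htf : ∀ w (νw : w ⟶ x) hw, (t w νw hw).fst = νw.fst ≫ eqToHom (hx.trans hy.symm) :=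
    fun w νw hw => ht w νw hw
  have agree : ∀ (z : 𝒮.obj) (w₁ w₂ : CategoricalPullback u 𝒮.p) (ν₁ : w₁ ⟶ x) (ν₂ : w₂ ⟶ x)
      (h₁ : R.arrows ((PB u 𝒮).p.map ν₁ ≫ eqToHom hx)) (h₂ : R.arrows ((PB u 𝒮).p.map ν₂ ≫ eqToHom hx))
      (j₁ : z ⟶ w₁.snd) (j₂ : z ⟶ w₂.snd), j₁ ≫ ν₁.snd = j₂ ≫ ν₂.snd →
      j₁ ≫ (t w₁ ν₁ h₁).snd = j₂ ≫ (t w₂ ν₂ h₂).snd := by
    intro z w₁ w₂ ν₁ ν₂ h₁ h₂ j₁ j₂ hj
    have hp := map_pb (u := u) ν₁.fst ν₂.fst
    obtain ⟨n, a, e, ha⟩ := fibGrpd_lift h w₁.snd (u.map (pullback.fst ν₁.fst ν₂.fst) ≫ w₁.iso.hom)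
    have hb0 : (eqToHom e ≫ u.map (pullback.snd ν₁.fst ν₂.fst) ≫ w₂.iso.hom) ≫ 𝒮.p.map ν₂.snd
        = 𝒮.p.map (a ≫ ν₁.snd) := by
      rw [Category.assoc, Category.assoc, ← ν₂.w, ← u.map_comp_assoc, ← pullback.condition,
        u.map_comp_assoc, ν₁.w, 𝒮.p.map_comp, ha, Category.assoc, Category.assoc]
    obtain ⟨b, ⟨hb, hbν⟩, -⟩ := fibGrpd_fac h ν₂.snd (a ≫ ν₁.snd) _ hb0
    let w : CategoricalPullback u 𝒮.p := ⟨pullback ν₁.fst ν₂.fst, n, eqToIso e.symm⟩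
    let A : w ⟶ w₁ := ⟨pullback.fst _ _, a, by simp [w, ha]⟩
    let B : w ⟶ w₂ := ⟨pullback.snd _ _, b, by simp [w, hb]⟩
    have hAB : A ≫ ν₁ = B ≫ ν₂ := CategoricalPullback.hom_ext pullback.condition hbν.symm
    have hcond : (𝒮.p.map j₁ ≫ w₁.iso.inv) ≫ u.map ν₁.fst = (𝒮.p.map j₂ ≫ w₂.iso.inv) ≫ u.map ν₂.fst := by
      rw [Category.assoc, Category.assoc, ← CategoricalPullback.Hom.w', ← CategoricalPullback.Hom.w',
        ← 𝒮.p.map_comp_assoc, hj, 𝒮.p.map_comp_assoc]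
    obtain ⟨γ, ⟨hγ, hγa⟩, -⟩ := fibGrpd_fac h a j₁ (hp.lift _ _ hcond ≫ eqToHom e.symm)
      (by rw [ha]; simp)
    have hγb : γ ≫ b = j₂ := by
      refine fibGrpd_ext h ν₂.snd ?_ (by rw [Category.assoc, hbν, ← Category.assoc, hγa, hj])
      rw [𝒮.p.map_comp, hγ, hb]
      simp
    have hw : R.arrows ((PB u 𝒮).p.map (A ≫ ν₁) ≫ eqToHom hx) := by
      rw [Functor.map_comp, Category.assoc]
      exact R.downward_closed h₁ _
    have e1 := tn w w₁ A ν₁ h₁ hw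
    have e2 := tn w w₂ B ν₂ h₂ (hAB ▸ hw)
    have e3 : ∀ (ν' : w ⟶ x) (_ : ν' = A ≫ ν₁) h', t w ν' h' = t w (A ≫ ν₁) hw := by
      rintro _ rfl _; rfl
    rw [e3 (B ≫ ν₂) hAB.symm, e1] at e2
    have e4 : a ≫ (t w₁ ν₁ h₁).snd = b ≫ (t w₂ ν₂ h₂).snd := congrArg CategoricalPullback.Hom.snd e2
    rw [← hγa, ← hγb, Category.assoc, Category.assoc, e4]
  have hsol : ∀ (z : 𝒮.obj) (ν : z ⟶ x.snd),
      ((R.functorPushforward u).pullback q).arrows (𝒮.p.map ν ≫ eqToHom rfl) →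
      ∃ (w : CategoricalPullback u 𝒮.p) (νw : w ⟶ x) (_ : R.arrows ((PB u 𝒮).p.map νw ≫ eqToHom hx))
        (j : z ⟶ w.snd), j ≫ νw.snd = ν := by
    intro z ν hν
    obtain ⟨V, g, h', hg, heq⟩ := hν
    simp only [eqToHom_refl, Category.comp_id] at heq
    obtain ⟨n, a, e, ha⟩ := fibGrpd_lift h x.snd (u.map (g ≫ eqToHom hx.symm) ≫ x.iso.hom)
    let w : CategoricalPullback u 𝒮.p := ⟨V, n, eqToIso e.symm⟩
    let νw : w ⟶ x := ⟨g ≫ eqToHom hx.symm, a, by simp [w, ha]⟩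
    obtain ⟨j, ⟨-, hj⟩, -⟩ := fibGrpd_fac h a ν (h' ≫ eqToHom e.symm) (by
      rw [ha]
      simp only [Category.assoc, eqToHom_trans_assoc, eqToHom_refl, Category.id_comp, u.map_comp]
      rw [← reassoc_of% heq]
      simp [q, eqToHom_map])
    exact ⟨w, νw, show R.arrows ((g ≫ eqToHom hx.symm) ≫ eqToHom hx) by simpa using hg, j, hj⟩
  choose W νW hW jW hjW using hsol
  let t₀ : ∀ z (ν : z ⟶ x.snd), ((R.functorPushforward u).pullback q).arrows (𝒮.p.map ν ≫ eqToHom rfl) →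
      (z ⟶ y') := fun z ν hν => jW z ν hν ≫ (t _ (νW z ν hν) (hW z ν hν)).snd ≫ inv k
  obtain ⟨χ', ⟨hχ', hspec⟩, huniq⟩ := hR q x.snd y' rfl ey t₀
    (fun z ν hν => by
      haveI : IsIso (𝒮.p.map k) := inferInstance
      rw [← cancel_mono (𝒮.p.map k), ← 𝒮.p.map_comp, hk]
      simp only [t₀, Category.assoc, IsIso.inv_hom_id, Category.comp_id]
      rw [𝒮.p.map_comp, ← Iso.inv_hom_id_assoc (W z ν hν).iso (𝒮.p.map (t _ _ _).snd),
        ← (t _ _ _).w, htf]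
      simp only [Functor.map_comp, eqToHom_map, Category.assoc, q]
      rw [← (νW z ν hν).w'_assoc, ← 𝒮.p.map_comp_assoc, hjW]
      simp)
    (fun z' z g ν hν hν' => by
      show jW _ _ hν' ≫ _ ≫ inv k = g ≫ jW z ν hν ≫ _ ≫ inv k
      rw [← Category.assoc (jW _ _ hν'), agree z' _ _ _ _ (hW _ _ hν') (hW z ν hν) (jW _ _ hν') (g ≫ jW z ν hν)
        (by rw [hjW, Category.assoc, hjW])]
      simp only [Category.assoc])
  have hχk : u.map (eqToHom (hx.trans hy.symm)) ≫ y.iso.hom = x.iso.hom ≫ 𝒮.p.map (χ' ≫ k) := by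
    rw [𝒮.p.map_comp, hχ', hk]
    simp [q, eqToHom_map]
  refine ⟨⟨eqToHom (hx.trans hy.symm), χ' ≫ k, hχk⟩, ⟨rfl, fun w νw hw => ?_⟩, ?_⟩
  · refine CategoricalPullback.hom_ext (htf w νw hw).symm ?_
    have hν : ((R.functorPushforward u).pullback q).arrows (𝒮.p.map νw.snd ≫ eqToHom rfl) := by
      refine ⟨w.fst, νw.fst ≫ eqToHom hx, w.iso.inv, hw, ?_⟩
      simp [q, ← CategoricalPullback.Hom.w'_assoc]
    show νw.snd ≫ χ' ≫ k = _
    rw [← Category.assoc, hspec _ _ hν]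
    simp only [t₀, Category.assoc, IsIso.inv_hom_id, Category.comp_id]
    exact (agree w.snd _ w _ νw (hW _ _ hν) hw (jW _ _ hν) (𝟙 _) (by rw [hjW, Category.id_comp])).trans
      (Category.id_comp _)
  · rintro χ ⟨hχ₁, hχ₂⟩
    refine CategoricalPullback.hom_ext hχ₁ ?_
    show χ.snd = χ' ≫ k
    rw [← huniq (χ.snd ≫ inv k) ⟨?_, fun z ν hν => ?_⟩, Category.assoc, IsIso.inv_hom_id, Category.comp_id]
    · haveI : IsIso (𝒮.p.map k) := inferInstance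
      rw [← cancel_mono (𝒮.p.map k), ← 𝒮.p.map_comp, Category.assoc, IsIso.inv_hom_id, Category.comp_id, hk,
        ← Iso.inv_hom_id_assoc x.iso (𝒮.p.map χ.snd), ← χ.w,
        show χ.fst = eqToHom (hx.trans hy.symm) from hχ₁]
      simp [q, eqToHom_map]
    · show ν ≫ χ.snd ≫ inv k = _
      simp only [t₀]
      rw [← hχ₂ _ (νW z ν hν) (hW z ν hν)]
      show _ = jW z ν hν ≫ ((νW z ν hν).snd ≫ χ.snd) ≫ inv k
      rw [Category.assoc, reassoc_of% (hjW z ν hν)]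

section Obj

variable {U : C} {R : Sieve U}

/-- An object of the sieve category from an arrow of the sieve. -/
abbrev arr {V : C} (g : V ⟶ U) (hg : R.arrows g) : (Stk.sieveCat R).obj := ⟨Over.mk g, hg⟩

variable (E : Stk.sieveCat R ⥤ᵇ PB u 𝒮)

/-- The `𝒮`-component of a descent datum. -/
abbrev P (a : (Stk.sieveCat R).obj) : 𝒮.obj := (E.toFunctor.obj a).snd

/-- Its identification over `D`. -/
def ι (a : (Stk.sieveCat R).obj) : u.obj a.obj.left ≅ 𝒮.p.obj (P E a) :=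
  eqToIso (congrArg u.obj (E.w_obj a).symm) ≪≫ (E.toFunctor.obj a).iso

omit [HasPullbacks C] [PreservesLimitsOfShape WalkingCospan u] in
theorem ι_nat {a b : (Stk.sieveCat R).obj} (φ : a ⟶ b) :
    u.map φ.hom.left ≫ (ι E b).hom = (ι E a).hom ≫ 𝒮.p.map (E.toFunctor.map φ).snd := by
  have h1 : (E.toFunctor.map φ).fst
      = eqToHom (E.w_obj a) ≫ φ.hom.left ≫ eqToHom (E.w_obj b).symm := based_map E φ
  have h2 := (E.toFunctor.map φ).w
  rw [h1] at h2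
  simp only [ι, Iso.trans_hom, eqToIso.hom, Category.assoc, ← h2, Functor.map_comp, eqToHom_map]
  simp

/-- Two representatives `(a₁, j₁)`, `(a₂, j₂)` have a common refinement. -/
def Agree {z : 𝒮.obj} (a₁ a₂ : (Stk.sieveCat R).obj) (j₁ : z ⟶ P E a₁) (j₂ : z ⟶ P E a₂) : Prop :=
  ∃ (a : (Stk.sieveCat R).obj) (m : z ⟶ P E a) (ψ₁ : a ⟶ a₁) (ψ₂ : a ⟶ a₂),
    m ≫ (E.toFunctor.map ψ₁).snd = j₁ ∧ m ≫ (E.toFunctor.map ψ₂).snd = j₂

/-- The image in `u U` of a representative. -/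
def cls {z : 𝒮.obj} (a : (Stk.sieveCat R).obj) (j : z ⟶ P E a) : 𝒮.p.obj z ⟶ u.obj U :=
  𝒮.p.map j ≫ (ι E a).inv ≫ u.map a.obj.hom

omit [HasPullbacks C] [PreservesLimitsOfShape WalkingCospan u] in
theorem cls_map {z : 𝒮.obj} {a b : (Stk.sieveCat R).obj} (φ : a ⟶ b) (m : z ⟶ P E a) :
    cls E b (m ≫ (E.toFunctor.map φ).snd) = cls E a m := by
  have e : 𝒮.p.map (E.toFunctor.map φ).snd ≫ (ι E b).inv = (ι E a).inv ≫ u.map φ.hom.left := by
    rw [Iso.comp_inv_eq, Category.assoc, ι_nat, Iso.inv_hom_id_assoc]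
  simp only [cls, 𝒮.p.map_comp, Category.assoc]
  rw [reassoc_of% e, ← u.map_comp]
  congr 3
  exact Over.w φ.hom

omit [HasPullbacks C] [PreservesLimitsOfShape WalkingCospan u] in
theorem Agree.cls_eq {z : 𝒮.obj} {a₁ a₂ : (Stk.sieveCat R).obj} {j₁ : z ⟶ P E a₁} {j₂ : z ⟶ P E a₂}
    (hA : Agree E a₁ a₂ j₁ j₂) : cls E a₁ j₁ = cls E a₂ j₂ := by
  obtain ⟨a, m, ψ₁, ψ₂, rfl, rfl⟩ := hA
  rw [cls_map, cls_map]

omit [HasPullbacks C] [PreservesLimitsOfShape WalkingCospan u] in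
theorem Agree.precomp {z z' : 𝒮.obj} {a₁ a₂ : (Stk.sieveCat R).obj} {j₁ : z ⟶ P E a₁} {j₂ : z ⟶ P E a₂}
    (hA : Agree E a₁ a₂ j₁ j₂) (g : z' ⟶ z) : Agree E a₁ a₂ (g ≫ j₁) (g ≫ j₂) := by
  obtain ⟨a, m, ψ₁, ψ₂, rfl, rfl⟩ := hA
  exact ⟨a, g ≫ m, ψ₁, ψ₂, Category.assoc _ _ _, Category.assoc _ _ _⟩

omit [HasPullbacks C] [PreservesLimitsOfShape WalkingCospan u] in
theorem Agree.symm {z : 𝒮.obj} {a₁ a₂ : (Stk.sieveCat R).obj} {j₁ : z ⟶ P E a₁} {j₂ : z ⟶ P E a₂}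
    (hA : Agree E a₁ a₂ j₁ j₂) : Agree E a₂ a₁ j₂ j₁ := by
  obtain ⟨a, m, ψ₁, ψ₂, h₁, h₂⟩ := hA
  exact ⟨a, m, ψ₂, ψ₁, h₂, h₁⟩

omit [HasPullbacks C] [PreservesLimitsOfShape WalkingCospan u] in
theorem agree_map {z : 𝒮.obj} {a b : (Stk.sieveCat R).obj} (φ : a ⟶ b) (m : z ⟶ P E a) :
    Agree E a b m (m ≫ (E.toFunctor.map φ).snd) :=
  ⟨a, m, 𝟙 a, φ, by rw [CategoryTheory.Functor.map_id]; exact Category.comp_id _, rfl⟩

variable (h : IsFibGrpd 𝒮.p)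

include h

/-- Lifting through a refinement. -/
theorem exists_refine {z : 𝒮.obj} {a b : (Stk.sieveCat R).obj} (φ : a ⟶ b) (j : z ⟶ P E b)
    (g : 𝒮.p.obj z ⟶ u.obj a.obj.left) (hg : g ≫ u.map φ.hom.left = 𝒮.p.map j ≫ (ι E b).inv) :
    ∃ m : z ⟶ P E a, 𝒮.p.map m = g ≫ (ι E a).hom ∧ m ≫ (E.toFunctor.map φ).snd = j := by
  obtain ⟨m, hm, -⟩ := fibGrpd_fac h (E.toFunctor.map φ).snd j (g ≫ (ι E a).hom) (by
    rw [Category.assoc, ← ι_nat, ← Category.assoc, hg, Category.assoc, Iso.inv_hom_id, Category.comp_id])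
  exact ⟨m, hm.1, hm.2⟩

theorem Agree.trans {z : 𝒮.obj} {a₁ a₂ a₃ : (Stk.sieveCat R).obj} {j₁ : z ⟶ P E a₁} {j₂ : z ⟶ P E a₂}
    {j₃ : z ⟶ P E a₃} (h₁ : Agree E a₁ a₂ j₁ j₂) (h₂ : Agree E a₂ a₃ j₂ j₃) :
    Agree E a₁ a₃ j₁ j₃ := by
  obtain ⟨a, m, ψ₁, ψ₂, hm₁, hm₂⟩ := h₁
  obtain ⟨b, n, χ₂, χ₃, hn₂, hn₃⟩ := h₂
  let c : (Stk.sieveCat R).obj :=
    arr (pullback.fst ψ₂.hom.left χ₂.hom.left ≫ a.obj.hom) (R.downward_closed a.property _)
  let f : c ⟶ a := ObjectProperty.homMk (Over.homMk (pullback.fst ψ₂.hom.left χ₂.hom.left) rfl)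
  let g : c ⟶ b := ObjectProperty.homMk (Over.homMk (pullback.snd ψ₂.hom.left χ₂.hom.left) (by
    show pullback.snd _ _ ≫ b.obj.hom = pullback.fst _ _ ≫ a.obj.hom
    rw [← Over.w χ₂.hom, ← Over.w ψ₂.hom, pullback.condition_assoc]))
  have hfg : f ≫ ψ₂ = g ≫ χ₂ := ObjectProperty.hom_ext _ (Over.OverMorphism.ext pullback.condition)
  have key : ∀ {e : (Stk.sieveCat R).obj} (φ : e ⟶ a₂) (s : z ⟶ P E e),
      (𝒮.p.map s ≫ (ι E e).inv) ≫ u.map φ.hom.left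
        = 𝒮.p.map (s ≫ (E.toFunctor.map φ).snd) ≫ (ι E a₂).inv := fun {e} φ s => by
    rw [𝒮.p.map_comp, Category.assoc, Category.assoc]
    congr 1
    rw [Iso.eq_comp_inv, Category.assoc, ι_nat, Iso.inv_hom_id_assoc]
  obtain ⟨m', hm', hm'a⟩ := exists_refine E h f m
    ((map_pb ψ₂.hom.left χ₂.hom.left).lift (𝒮.p.map m ≫ (ι E a).inv) (𝒮.p.map n ≫ (ι E b).inv)
      (by rw [key, key, hm₂, hn₂]))
    ((map_pb ψ₂.hom.left χ₂.hom.left).lift_fst _ _ _)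
  have hm'b : m' ≫ (E.toFunctor.map g).snd = n := by
    refine fibGrpd_ext h (E.toFunctor.map χ₂).snd ?_ ?_
    · rw [𝒮.p.map_comp, hm', Category.assoc, ← ι_nat]
      exact ((map_pb ψ₂.hom.left χ₂.hom.left).lift_snd_assoc _ _ _ _).trans (by simp)
    · rw [Category.assoc, ← CategoricalPullback.comp_snd, ← E.toFunctor.map_comp, ← hfg,
        E.toFunctor.map_comp, CategoricalPullback.comp_snd, reassoc_of% hm'a, hm₂, hn₂]
  refine ⟨c, m', f ≫ ψ₁, g ≫ χ₃, ?_, ?_⟩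
  · rw [E.toFunctor.map_comp, CategoricalPullback.comp_snd, reassoc_of% hm'a, hm₁]
  · rw [E.toFunctor.map_comp, CategoricalPullback.comp_snd, reassoc_of% hm'b, hn₃]

theorem Agree.ext {z : 𝒮.obj} {a₁ a₂ : (Stk.sieveCat R).obj} {j₁ : z ⟶ P E a₁} {j j' : z ⟶ P E a₂}
    (h₁ : Agree E a₁ a₂ j₁ j) (h₂ : Agree E a₁ a₂ j₁ j') (hp : 𝒮.p.map j = 𝒮.p.map j') : j = j' := by
  obtain ⟨a, m, ψ, ψ', rfl, rfl⟩ := Agree.trans E h h₁.symm h₂
  -- equalise `ψ` and `ψ'`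
  let δ : a₂.obj.left ⟶ pullback a₂.obj.hom a₂.obj.hom := pullback.lift (𝟙 _) (𝟙 _) rfl
  let γ : a.obj.left ⟶ pullback a₂.obj.hom a₂.obj.hom :=
    pullback.lift ψ.hom.left ψ'.hom.left ((Over.w ψ.hom).trans (Over.w ψ'.hom).symm)
  let c : (Stk.sieveCat R).obj := arr (pullback.fst γ δ ≫ a.obj.hom) (R.downward_closed a.property _)
  let f : c ⟶ a := ObjectProperty.homMk (Over.homMk (pullback.fst γ δ) rfl)
  have hf : f ≫ ψ = f ≫ ψ' := by
    refine ObjectProperty.hom_ext _ (Over.OverMorphism.ext ?_)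
    have e1 := congrArg (· ≫ pullback.fst _ _) (pullback.condition (f := γ) (g := δ))
    have e2 := congrArg (· ≫ pullback.snd _ _) (pullback.condition (f := γ) (g := δ))
    simp only [γ, δ, Category.assoc, pullback.lift_fst, pullback.lift_snd, Category.comp_id] at e1 e2
    exact e1.trans e2.symm
  have e : (𝒮.p.map m ≫ (ι E a).inv) ≫ u.map ψ.hom.left = (𝒮.p.map m ≫ (ι E a).inv) ≫ u.map ψ'.hom.left := by
    rw [← cancel_mono (ι E a₂).hom]
    simp only [Category.assoc, ι_nat, Iso.inv_hom_id_assoc]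
    rw [← 𝒮.p.map_comp, ← 𝒮.p.map_comp, hp]
  obtain ⟨m', -, hm'a⟩ := exists_refine E h f m
    ((map_pb γ δ).lift (𝒮.p.map m ≫ (ι E a).inv) ((𝒮.p.map m ≫ (ι E a).inv) ≫ u.map ψ.hom.left) (by
      refine (map_pb a₂.obj.hom a₂.obj.hom).hom_ext ?_ ?_ <;>
        simp only [Category.assoc, ← u.map_comp, γ, δ, pullback.lift_fst, pullback.lift_snd,
          u.map_id, Category.comp_id]
      exact (by simpa only [Category.assoc] using e.symm)))
    ((map_pb γ δ).lift_fst _ _ _)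
  rw [← hm'a, Category.assoc, Category.assoc, ← CategoricalPullback.comp_snd, ← E.toFunctor.map_comp, hf,
    E.toFunctor.map_comp, CategoricalPullback.comp_snd]

/-- Transport to another representative. -/
theorem exists_transport {z : 𝒮.obj} (a₁ a₂ : (Stk.sieveCat R).obj) (j₁ : z ⟶ P E a₁)
    (g : 𝒮.p.obj z ⟶ u.obj a₂.obj.left) (hg : g ≫ u.map a₂.obj.hom = cls E a₁ j₁) :
    ∃ j₂ : z ⟶ P E a₂, 𝒮.p.map j₂ = g ≫ (ι E a₂).hom ∧ Agree E a₁ a₂ j₁ j₂ := by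
  let c : (Stk.sieveCat R).obj :=
    arr (pullback.fst a₁.obj.hom a₂.obj.hom ≫ a₁.obj.hom) (R.downward_closed a₁.property _)
  let f : c ⟶ a₁ := ObjectProperty.homMk (Over.homMk (pullback.fst a₁.obj.hom a₂.obj.hom) rfl)
  let f' : c ⟶ a₂ := ObjectProperty.homMk (Over.homMk (pullback.snd a₁.obj.hom a₂.obj.hom)
    pullback.condition.symm)
  obtain ⟨m, hm, hma⟩ := exists_refine E h f j₁
    ((map_pb a₁.obj.hom a₂.obj.hom).lift (𝒮.p.map j₁ ≫ (ι E a₁).inv) g (by rw [hg, cls, Category.assoc]))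
    ((map_pb a₁.obj.hom a₂.obj.hom).lift_fst _ _ _)
  refine ⟨m ≫ (E.toFunctor.map f').snd, ?_, c, m, f, f', hma, rfl⟩
  rw [𝒮.p.map_comp, hm, Category.assoc, ← ι_nat]
  exact (map_pb a₁.obj.hom a₂.obj.hom).lift_snd_assoc _ _ _ _

theorem objGlue (hR : ObjGlue 𝒮 (R.functorPushforward u)) :
    ∃ (x : (PB u 𝒮).obj) (hx : (PB u 𝒮).p.obj x = U) (ν : ∀ a, E.toFunctor.obj a ⟶ x),
      (∀ a, (PB u 𝒮).p.map (ν a) = eqToHom (E.w_obj a) ≫ a.obj.hom ≫ eqToHom hx.symm) ∧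
      ∀ a b (φ : a ⟶ b), E.toFunctor.map φ ≫ ν b = ν a := by
  have hrep : ∀ b : (Stk.sieveCat (R.functorPushforward u)).obj,
      ∃ (a : (Stk.sieveCat R).obj) (g : b.obj.left ⟶ u.obj a.obj.left) (n : 𝒮.obj) (m : n ⟶ P E a)
        (e : 𝒮.p.obj n = b.obj.left),
        g ≫ u.map a.obj.hom = b.obj.hom ∧ 𝒮.p.map m = eqToHom e ≫ g ≫ (ι E a).hom := by
    intro b
    obtain ⟨V, g, h', hg, heq⟩ := b.property
    obtain ⟨n, m, e, hm⟩ := fibGrpd_lift h (P E (arr g hg)) (h' ≫ (ι E (arr g hg)).hom)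
    exact ⟨arr g hg, h', n, m, e, heq.symm, hm⟩
  choose a g n m e hga hm using hrep
  have hclsm : ∀ b, cls E (a b) (m b) = eqToHom (e b) ≫ b.obj.hom := fun b => by
    simp only [cls, hm, Category.assoc, Iso.hom_inv_id_assoc, hga]
  -- morphisms between the chosen objects
  have hmor : ∀ {b b' : (Stk.sieveCat (R.functorPushforward u)).obj} (φ : b ⟶ b'),
      ∃ q : n b ⟶ n b', 𝒮.p.map q = eqToHom (e b) ≫ φ.hom.left ≫ eqToHom (e b').symm ∧
        Agree E (a b) (a b') (m b) (q ≫ m b') := by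
    intro b b' φ
    obtain ⟨j, hj, hja⟩ := exists_transport E h (a b) (a b') (m b)
      (eqToHom (e b) ≫ φ.hom.left ≫ g b') (by
        rw [hclsm, Category.assoc, Category.assoc, hga]
        congr 1
        exact Over.w φ.hom)
    obtain ⟨q, ⟨hq, hqm⟩, -⟩ := fibGrpd_fac h (m b') j
      (eqToHom (e b) ≫ φ.hom.left ≫ eqToHom (e b').symm) (by rw [hm, hj]; simp)
    exact ⟨q, hq, by rw [hqm]; exact hja⟩
  choose q hq hqA using @hmor
  have quniq : ∀ {b b' : (Stk.sieveCat (R.functorPushforward u)).obj} (φ : b ⟶ b') (q' : n b ⟶ n b'),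
      𝒮.p.map q' = eqToHom (e b) ≫ φ.hom.left ≫ eqToHom (e b').symm →
        Agree E (a b) (a b') (m b) (q' ≫ m b') → q φ = q' := by
    intro b b' φ q' h1 h2
    refine fibGrpd_ext h (m b') ((hq φ).trans h1.symm) (Agree.ext E h (hqA φ) h2 ?_)
    rw [𝒮.p.map_comp, 𝒮.p.map_comp, hq φ, h1]
  let F : Stk.sieveCat (R.functorPushforward u) ⥤ᵇ 𝒮 :=
    { toFunctor :=
        { obj := n
          map := fun φ => q φ
          map_id := fun b => quniq (𝟙 b) _ (by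
            rw [show (𝟙 b : b ⟶ b).hom.left = 𝟙 _ from rfl]
            simp) (by
            rw [Category.id_comp]
            exact ⟨a b, m b, 𝟙 _, 𝟙 _, by rw [CategoryTheory.Functor.map_id]; exact Category.comp_id _,
              by rw [CategoryTheory.Functor.map_id]; exact Category.comp_id _⟩)
          map_comp := fun {b₁ b₂ b₃} φ ψ => quniq (φ ≫ ψ) _ (by
            rw [𝒮.p.map_comp, hq, hq, show (φ ≫ ψ).hom.left = φ.hom.left ≫ ψ.hom.left from rfl]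
            simp) (by
            rw [Category.assoc]
            exact Agree.trans E h (hqA φ) (Agree.precomp E (hqA ψ) (q φ))) }
      w := CategoryTheory.Functor.ext e fun b b' φ => hq φ }
  obtain ⟨x, hx, ν, hν, hνn⟩ := hR F
  let X : CategoricalPullback u 𝒮.p := ⟨U, x, eqToIso hx.symm⟩
  let bb : (Stk.sieveCat R).obj → (Stk.sieveCat (R.functorPushforward u)).obj := fun c =>
    ⟨Over.mk (u.map c.obj.hom), Sieve.image_mem_functorPushforward u R c.property⟩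
  have hto : ∀ c : (Stk.sieveCat R).obj, ∃ s : P E c ⟶ n (bb c),
      𝒮.p.map s = (ι E c).inv ≫ eqToHom (e (bb c)).symm ∧
        Agree E c (a (bb c)) (𝟙 _) (s ≫ m (bb c)) := by
    intro c
    obtain ⟨j, hj, hja⟩ := exists_transport E h c (a (bb c)) (𝟙 (P E c)) ((ι E c).inv ≫ g (bb c)) (by
      rw [Category.assoc, hga]
      simp [cls, bb])
    obtain ⟨s, ⟨hs, hsm⟩, -⟩ := fibGrpd_fac h (m (bb c)) j ((ι E c).inv ≫ eqToHom (e (bb c)).symm)
      (by rw [hm, hj]; simp [bb])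
    exact ⟨s, hs, by rw [hsm]; exact hja⟩
  choose s hs hsA using hto
  have hνm : ∀ c, 𝒮.p.map (s c ≫ ν (bb c)) = (ι E c).inv ≫ u.map c.obj.hom ≫ eqToHom hx.symm := by
    intro c
    rw [𝒮.p.map_comp, hs, hν]
    simp [bb, F]
  refine ⟨X, rfl, fun c => ⟨eqToHom (E.w_obj c) ≫ c.obj.hom, s c ≫ ν (bb c), ?_⟩, fun c => ?_, fun c c' φ => ?_⟩
  · rw [hνm]
    simp [X, ι, eqToHom_map]
  · show eqToHom (E.w_obj c) ≫ c.obj.hom = _
    simp [X]
  · refine CategoricalPullback.hom_ext ?_ ?_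
    · show (E.toFunctor.map φ).fst ≫ eqToHom (E.w_obj c') ≫ c'.obj.hom = _
      rw [show (E.toFunctor.map φ).fst = _ from based_map E φ]
      simp only [Category.assoc, eqToHom_trans_assoc, eqToHom_refl, Category.id_comp]
      congr 1
      exact Over.w φ.hom
    · show (E.toFunctor.map φ).snd ≫ s c' ≫ ν (bb c') = s c ≫ ν (bb c)
      let Φ : bb c ⟶ bb c' := ObjectProperty.homMk (Over.homMk (u.map φ.hom.left) (by
        show u.map φ.hom.left ≫ u.map c'.obj.hom = u.map c.obj.hom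
        rw [← u.map_comp]; congr 1; exact Over.w φ.hom))
      have key : (E.toFunctor.map φ).snd ≫ s c' = s c ≫ F.toFunctor.map Φ := by
        have hb : 𝒮.p.map ((E.toFunctor.map φ).snd ≫ s c') = 𝒮.p.map (s c ≫ F.toFunctor.map Φ) := by
          have e1 := ι_nat E φ
          rw [← Iso.inv_comp_eq] at e1
          rw [𝒮.p.map_comp, 𝒮.p.map_comp, hs, hs, show 𝒮.p.map (F.toFunctor.map Φ) = _ from hq Φ, ← e1]
          simp [Φ, bb]
        refine fibGrpd_ext h (m (bb c')) hb ?_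
        refine Agree.ext E h (a₁ := c) (j₁ := 𝟙 _) ?_ ?_ ?_
        · refine Agree.trans E h (agree_map E φ (𝟙 (P E c))) ?_
          rw [Category.id_comp, Category.assoc]
          have h2 := Agree.precomp E (hsA c') (E.toFunctor.map φ).snd
          rwa [Category.comp_id] at h2
        · rw [Category.assoc]
          exact Agree.trans E h (hsA c) (Agree.precomp E (hqA Φ) (s c))
        · rw [𝒮.p.map_comp, hb, ← 𝒮.p.map_comp]
      rw [← Category.assoc, key, Category.assoc, hνn]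

end Obj

theorem isStack (J : GrothendieckTopology C) (K : GrothendieckTopology D) (hu : CoverPreserving J K u)
    (h𝒮 : Stk.IsStack K 𝒮) : Stk.IsStack J (PB u 𝒮) := by
  refine ⟨isFibGrpd h𝒮.1, fun U R hR => ?_⟩
  have hT := hu.cover_preserve hR
  refine (isStackFor_iff_glue (isFibGrpd h𝒮.1) R).2 ⟨?_, ?_⟩
  · exact homGlue h𝒮.1 R fun {W} q =>
      ((isStackFor_iff_glue h𝒮.1 _).1 (h𝒮.2 _ (K.pullback_stable q hT))).1
  · exact fun E => objGlue E h𝒮.1 ((isStackFor_iff_glue h𝒮.1 _).1 (h𝒮.2 _ hT)).2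

end Groth.Agent.Desc19b.CatPbStack
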