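import Groth.Agent.Desc19b.EffAlg
import Groth.Prelude.Def_DescFam
import Groth.Agent.Et18.Descent

/-! The affinization of a descent datum with quasi-compact quasi-separated pieces along a finite flat family of
affine schemes descends to an affine scheme. -/

set_option autoImplicit false
set_option linter.style.haveILetI false
set_option backward.isDefEq.respectTransparency false
set_option backward.isDefEq.respectTransparency.types false

universe u

open CategoryTheory CategoryTheory.Limits AlgebraicGeometry Desc TensorProduct Algebra.TensorProduct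

namespace Groth.Agent.Desc19b

/-- The ring map of a morphism to a spectrum. -/
noncomputable def γ {T : Scheme.{u}} {R : CommRingCat.{u}} (z : T ⟶ Spec R) : R ⟶ Γ(T, ⊤) :=
  (Scheme.ΓSpecIso R).inv ≫ z.appTop

theorem γ_comp {T T' : Scheme.{u}} {R : CommRingCat.{u}} (k : T' ⟶ T) (z : T ⟶ Spec R) :
    γ (k ≫ z) = γ z ≫ k.appTop := by simp [γ]

theorem γ_specMap {T : Scheme.{u}} {R R' : CommRingCat.{u}} (z : T ⟶ Spec R) (g : R' ⟶ R) :
    γ (z ≫ Spec.map g) = g ≫ γ z := by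
  simp only [γ, Scheme.Hom.comp_appTop]
  rw [← Scheme.ΓSpecIso_inv_naturality_assoc]

theorem toSpecΓ_γ {T : Scheme.{u}} {R : CommRingCat.{u}} (z : T ⟶ Spec R) : T.toSpecΓ ≫ Spec.map (γ z) = z := by
  rw [γ, Spec.map_comp, ← Category.assoc, ← Scheme.toSpecΓ_naturality, Category.assoc, toSpecΓ_SpecMap_ΓSpecIso_inv,
    Category.comp_id]

/-- Functions on a flat base change of a quasi-compact quasi-separated scheme. -/
theorem exists_tensor_iso {A : Type u} [CommRing A] (C B : Type u) [CommRing C] [CommRing B] [Algebra A C]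
    [Algebra A B] [Module.Flat A B] {Y P : Scheme.{u}} [CompactSpace Y] [QuasiSeparatedSpace Y]
    {sY : Y ⟶ Spec (CommRingCat.of A)} (τ : CommRingCat.of C ≅ Γ(Y, ⊤))
    (hτ : CommRingCat.ofHom (algebraMap A C) ≫ τ.hom = γ sY) {p : P ⟶ Y} {z : P ⟶ Spec (CommRingCat.of B)}
    (sq : IsPullback p z sY (Spec.map (CommRingCat.ofHom (algebraMap A B)))) :
    ∃ ρ : CommRingCat.of (C ⊗[A] B) ≅ Γ(P, ⊤),
      CommRingCat.ofHom (includeLeft : C →ₐ[A] C ⊗[A] B).toRingHom ≫ ρ.hom = τ.hom ≫ p.appTop ∧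
      CommRingCat.ofHom (includeRight : B →ₐ[A] C ⊗[A] B).toRingHom ≫ ρ.hom = γ z := by
  haveI : Flat (Spec.map (CommRingCat.ofHom (algebraMap A B))) :=
    (HasRingHomProperty.Spec_iff (P := @Flat)).2 (RingHom.flat_algebraMap_iff.2 inferInstance)
  have h := (Et18.isPushout_appTop_of_flat sq).of_iso (Scheme.ΓSpecIso _) τ.symm (Scheme.ΓSpecIso _) (Iso.refl _)
    (f' := CommRingCat.ofHom (algebraMap A C)) (g' := CommRingCat.ofHom (algebraMap A B))
    (inl' := τ.hom ≫ p.appTop) (inr' := γ z)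
    (by rw [Iso.symm_hom, ← cancel_mono τ.hom, Category.assoc, Category.assoc, Iso.inv_hom_id, Category.comp_id, hτ,
      γ, Iso.hom_inv_id_assoc])
    (by simp [Scheme.ΓSpecIso_naturality]) (by simp) (by simp [γ])
  refine ⟨(CommRingCat.isPushout_tensorProduct A C B).isoIsPushout _ _ h, ?_, ?_⟩
  · exact IsPushout.inl_isoIsPushout_hom _ _ _ _
  · exact IsPushout.inr_isoIsPushout_hom _ _ _ _

theorem exists_affinization_quotient {S : Scheme.{u}} (A : CommRingCat.{u}) (j : Spec A ⟶ S) [Mono j] {κ : Type u}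
    [Finite κ] (B : κ → CommRingCat.{u}) (b : ∀ k, A ⟶ B k) (hb : ∀ k, (b k).hom.Flat)
    (D : SchDDFam (fun k => Spec.map (b k) ≫ j)) (hc : ∀ k, CompactSpace (D.obj k).left)
    (hq : ∀ k, QuasiSeparatedSpace (D.obj k).left) :
    ∃ (U : Scheme.{u}) (π : U ⟶ Spec A) (r : ∀ k, Spec Γ((D.obj k).left, ⊤) ⟶ U), IsAffine U ∧
      (∀ k, IsPullback (r k) (Spec.map (γ (D.obj k).hom)) π (Spec.map (b k))) ∧
      ∀ {T : Scheme.{u}} {k l : κ} (x : T ⟶ Spec (B k)) (y : T ⟶ Spec (B l))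
        (h : x ≫ Spec.map (b k) ≫ j = y ≫ Spec.map (b l) ≫ j) (t : Lifts (D.obj k) x),
        (D.φ x y h t).1 ≫ (D.obj l).left.toSpecΓ ≫ r l = t.1 ≫ (D.obj k).left.toSpecΓ ≫ r k := by
  classical
  let V : κ → Scheme.{u} := fun k => (D.obj k).left
  haveI : ∀ k, CompactSpace (V k) := hc
  haveI : ∀ k, QuasiSeparatedSpace (V k) := hq
  let C : κ → CommRingCat.{u} := fun k => Γ(V k, ⊤)
  let c : ∀ k, B k ⟶ C k := fun k => γ (D.obj k).hom
  letI : ∀ k, Algebra A (B k) := fun k => (b k).hom.toAlgebra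
  letI : ∀ k, Algebra A (C k) := fun k => (b k ≫ c k).hom.toAlgebra
  haveI : ∀ k, Module.Flat A (B k) := fun k => hb k
  let cA : ∀ k, B k →ₐ[A] C k := fun k => { (c k).hom with commutes' := fun r => rfl }
  -- the overlaps
  let s : ∀ k, V k ⟶ Spec A := fun k => (D.obj k).hom ≫ Spec.map (b k)
  let P : κ → κ → Scheme.{u} := fun k l => pullback (s k) (Spec.map (b l))
  let q₁ : ∀ k l, P k l ⟶ V k := fun k l => pullback.fst _ _
  let z₂ : ∀ k l, P k l ⟶ Spec (B l) := fun k l => pullback.snd _ _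
  let x₁ : ∀ k l, P k l ⟶ Spec (B k) := fun k l => q₁ k l ≫ (D.obj k).hom
  have hP : ∀ k l, x₁ k l ≫ Spec.map (b k) ≫ j = z₂ k l ≫ Spec.map (b l) ≫ j := fun k l => by
    simp only [x₁, Category.assoc]
    exact (by simp only [s, Category.assoc] : q₁ k l ≫ (D.obj k).hom ≫ Spec.map (b k) ≫ j = (q₁ k l ≫ s k) ≫ j).trans
      ((congrArg (· ≫ j) pullback.condition).trans (Category.assoc _ _ _))
  let ξ : ∀ k l, Lifts (D.obj k) (x₁ k l) := fun k l => ⟨q₁ k l, rfl⟩
  let Ψ : ∀ k l, Lifts (D.obj l) (z₂ k l) := fun k l => D.φ _ _ (hP k l) (ξ k l)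
  have univ : ∀ {T : Scheme.{u}} {k l : κ} (x : T ⟶ Spec (B k)) (y : T ⟶ Spec (B l))
      (h : x ≫ Spec.map (b k) ≫ j = y ≫ Spec.map (b l) ≫ j) (t : Lifts (D.obj k) x),
      ∃ g : T ⟶ P k l, g ≫ q₁ k l = t.1 ∧ g ≫ z₂ k l = y ∧ (D.φ x y h t).1 = g ≫ (Ψ k l).1 := by
    intro T k l x y h t
    have hw : t.1 ≫ s k = y ≫ Spec.map (b l) := by
      rw [← cancel_mono j]
      simp only [s, Category.assoc]
      rw [reassoc_of% t.2]
      exact h
    have h1 : pullback.lift t.1 y hw ≫ q₁ k l = t.1 := pullback.lift_fst _ _ _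
    refine ⟨pullback.lift t.1 y hw, h1, pullback.lift_snd _ _ _,
      D.φ_natural _ _ _ (hP k l) x y ?_ (pullback.lift_snd _ _ _) h _ t h1.symm⟩
    simp only [x₁, reassoc_of% h1, t.2]
  have hA : ∀ k, γ (s k) = CommRingCat.ofHom (algebraMap A (C k)) := fun k => γ_specMap _ _
  have hρex : ∀ k l, ∃ ρ : CommRingCat.of (C k ⊗[A] B l) ≅ Γ(P k l, ⊤),
      CommRingCat.ofHom (includeLeft : C k →ₐ[A] C k ⊗[A] B l).toRingHom ≫ ρ.hom = (q₁ k l).appTop ∧
      CommRingCat.ofHom (includeRight : B l →ₐ[A] C k ⊗[A] B l).toRingHom ≫ ρ.hom = γ (z₂ k l) := fun k l => by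
    obtain ⟨ρ, h1, h2⟩ := exists_tensor_iso (A := A) (C k) (B l) (sY := s k) (Iso.refl _)
      ((Category.comp_id _).trans (hA k).symm) (IsPullback.of_hasPullback (s k) (Spec.map (b l)))
    exact ⟨ρ, h1.trans (Category.id_comp _), h2⟩
  choose ρ hρ₁ hρ₂ using hρex
  let ψ₀ : ∀ k l, C l ⟶ CommRingCat.of (C k ⊗[A] B l) := fun k l => (Ψ k l).1.appTop ≫ (ρ k l).inv
  have hψρ : ∀ k l, ψ₀ k l ≫ (ρ k l).hom = (Ψ k l).1.appTop := fun k l => by simp [ψ₀]
  have hcψ : ∀ k l, c l ≫ ψ₀ k l = CommRingCat.ofHom (includeRight : B l →ₐ[A] C k ⊗[A] B l).toRingHom :=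
    fun k l => by
      rw [← cancel_mono (ρ k l).hom, Category.assoc, hψρ, hρ₂, ← γ_comp, (Ψ k l).2]
  let ψ : ∀ k l, C l →ₐ[A] C k ⊗[A] B l := fun k l =>
    { (ψ₀ k l).hom with
      commutes' := fun r => by
        have h1 := congrArg (fun φ => φ.hom (algebraMap A (B l) r)) (hcψ k l)
        exact h1.trans (AlgHom.commutes _ r) }
  have hψ : ∀ k l, CommRingCat.ofHom (ψ k l).toRingHom = ψ₀ k l := fun k l => rfl
  have hB : ∀ k l x, ψ k l (cA l x) = (1 : C k) ⊗ₜ x := fun k l x => congrArg (fun φ => φ.hom x) (hcψ k l)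
  have hunit : ∀ k x, productMap (AlgHom.id A (C k)) (cA k) (ψ k k x) = x := by
    intro k x
    let μ := CommRingCat.ofHom (productMap (AlgHom.id A (C k)) (cA k)).toRingHom
    let Δ : V k ⟶ P k k := pullback.lift (𝟙 _) (D.obj k).hom (by simp [s])
    have h1 : Δ ≫ q₁ k k = 𝟙 _ := pullback.lift_fst _ _ _
    have h2 : Δ ≫ z₂ k k = (D.obj k).hom := pullback.lift_snd _ _ _
    have hy : Δ ≫ x₁ k k = (D.obj k).hom := by simp only [x₁, reassoc_of% h1]
    let t : Lifts (D.obj k) (D.obj k).hom := ⟨𝟙 _, Category.id_comp _⟩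
    have h3 := D.φ_natural Δ _ _ (hP k k) _ _ hy h2 rfl (ξ k k) t h1.symm
    rw [D.φ_self] at h3
    have hμ : μ = (ρ k k).hom ≫ Δ.appTop := (CommRingCat.isPushout_tensorProduct A (C k) (B k)).hom_ext
      (by erw [reassoc_of% hρ₁, ← Scheme.Hom.comp_appTop, h1]; ext r; simp [μ]; rfl)
      (by erw [reassoc_of% hρ₂, ← γ_comp, h2]; ext r; simp [μ, cA, c])
    have h4 : ψ₀ k k ≫ μ = 𝟙 _ := by
      rw [hμ, reassoc_of% hψρ, ← Scheme.Hom.comp_appTop]
      exact (congrArg Scheme.Hom.appTop h3.symm).trans (Scheme.Hom.id_appTop)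
    exact congrArg (fun φ => φ.hom x) h4
  have hassoc : ∀ k l m x, Algebra.TensorProduct.map (ψ k l) (AlgHom.id A (B m)) (ψ l m x) =
      Algebra.TensorProduct.map (includeLeft : C k →ₐ[A] C k ⊗[A] B l) (AlgHom.id A (B m)) (ψ k m x) := by
    intro k l m x
    let s' : P k l ⟶ Spec A := q₁ k l ≫ s k
    have hs' : (Ψ k l).1 ≫ s l = s' := by
      rw [← cancel_mono j]
      simp only [s', s, Category.assoc]
      rw [reassoc_of% (Ψ k l).2, ← hP k l]
      simp only [x₁, Category.assoc]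
    let P₃ := pullback s' (Spec.map (b m))
    let p₁₂ : P₃ ⟶ P k l := pullback.fst _ _
    let z₃ : P₃ ⟶ Spec (B m) := pullback.snd _ _
    let p₁₃ : P₃ ⟶ P k m := pullback.lift (p₁₂ ≫ q₁ k l) z₃ (by rw [Category.assoc]; exact pullback.condition)
    let p₂₃ : P₃ ⟶ P l m := pullback.lift (p₁₂ ≫ (Ψ k l).1) z₃ (by rw [Category.assoc, hs']; exact pullback.condition)
    have e1 : p₁₃ ≫ q₁ k m = p₁₂ ≫ q₁ k l := pullback.lift_fst _ _ _
    have e2 : p₂₃ ≫ q₁ l m = p₁₂ ≫ (Ψ k l).1 := pullback.lift_fst _ _ _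
    have e3 : p₁₃ ≫ z₂ k m = z₃ := pullback.lift_snd _ _ _
    have e4 : p₂₃ ≫ z₂ l m = z₃ := pullback.lift_snd _ _ _
    let X₀ := p₁₂ ≫ x₁ k l
    let X₁ := p₁₂ ≫ z₂ k l
    have a₀ : p₁₃ ≫ x₁ k m = X₀ := by simp only [X₀, x₁, reassoc_of% e1]
    have a₁ : p₂₃ ≫ x₁ l m = X₁ := by
      simp only [X₁, x₁, reassoc_of% e2]
      rw [(Ψ k l).2]
    have h01 : X₀ ≫ Spec.map (b k) ≫ j = X₁ ≫ Spec.map (b l) ≫ j := by
      simp only [X₀, X₁, Category.assoc, hP k l]
    have h12 : X₁ ≫ Spec.map (b l) ≫ j = z₃ ≫ Spec.map (b m) ≫ j := by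
      rw [← a₁, ← e4]; simp only [Category.assoc, hP l m]
    let t₀ : Lifts (D.obj k) X₀ := ⟨p₁₂ ≫ (ξ k l).1, by rw [Category.assoc, (ξ k l).2]⟩
    have k1 := D.φ_natural p₁₂ _ _ (hP k l) X₀ X₁ rfl rfl h01 (ξ k l) t₀ rfl
    have k2 := D.φ_natural p₂₃ _ _ (hP l m) X₁ z₃ a₁ e4 h12 (ξ l m) (D.φ X₀ X₁ h01 t₀) (by rw [k1]; exact e2.symm)
    have k3 := D.φ_natural p₁₃ _ _ (hP k m) X₀ z₃ a₀ e3 (h01.trans h12) (ξ k m) t₀ e1.symm
    rw [D.φ_comp, k3] at k2
    haveI : CompactSpace (P k l) := by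
      haveI : QuasiCompact (s k) := (HasAffineProperty.iff_of_isAffine (P := @QuasiCompact)).2 inferInstance
      exact QuasiCompact.compactSpace_of_compactSpace (pullback.snd (s k) (Spec.map (b l)))
    haveI : QuasiSeparatedSpace (P k l) := by
      haveI : QuasiSeparated (s k) := (HasAffineProperty.iff_of_isAffine (P := @QuasiSeparated)).2 inferInstance
      exact quasiSeparatedSpace_of_quasiSeparated (pullback.snd (s k) (Spec.map (b l)))
    obtain ⟨ρ₃, h31, h32⟩ := exists_tensor_iso (A := A) (C k ⊗[A] B l) (B m) (sY := s') (ρ k l)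
      (by
        rw [show CommRingCat.ofHom (algebraMap A (C k ⊗[A] B l)) = CommRingCat.ofHom (algebraMap A (C k)) ≫
          CommRingCat.ofHom (includeLeft : C k →ₐ[A] C k ⊗[A] B l).toRingHom from by ext r; rfl,
          Category.assoc, hρ₁, ← hA, ← γ_comp])
      (IsPullback.of_hasPullback s' (Spec.map (b m)))
    have m13 : CommRingCat.ofHom (Algebra.TensorProduct.map (includeLeft : C k →ₐ[A] C k ⊗[A] B l)
        (AlgHom.id A (B m))).toRingHom ≫ ρ₃.hom = (ρ k m).hom ≫ p₁₃.appTop :=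
      (CommRingCat.isPushout_tensorProduct A (C k) (B m)).hom_ext
        (by
          erw [reassoc_of% hρ₁, ← Scheme.Hom.comp_appTop, e1, Scheme.Hom.comp_appTop, ← hρ₁, Category.assoc, ← h31]
          ext r; simp)
        (by erw [reassoc_of% hρ₂, ← γ_comp, e3, ← h32]; ext r; simp [Algebra.TensorProduct.one_def])
    have m23 : CommRingCat.ofHom (Algebra.TensorProduct.map (ψ k l) (AlgHom.id A (B m))).toRingHom ≫ ρ₃.hom =
        (ρ l m).hom ≫ p₂₃.appTop :=
      (CommRingCat.isPushout_tensorProduct A (C l) (B m)).hom_ext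
        (by
          erw [reassoc_of% hρ₁, ← Scheme.Hom.comp_appTop, e2, Scheme.Hom.comp_appTop, ← hψρ, Category.assoc, ← h31,
            ← hψ]
          ext r; simp)
        (by erw [reassoc_of% hρ₂, ← γ_comp, e4, ← h32]; ext r; simp [Algebra.TensorProduct.one_def])
    have h4 : ψ₀ l m ≫ CommRingCat.ofHom (Algebra.TensorProduct.map (ψ k l) (AlgHom.id A (B m))).toRingHom =
        ψ₀ k m ≫ CommRingCat.ofHom (Algebra.TensorProduct.map (includeLeft : C k →ₐ[A] C k ⊗[A] B l)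
          (AlgHom.id A (B m))).toRingHom := by
      simp only [← cancel_mono ρ₃.hom, Category.assoc]
      rw [m23, m13, reassoc_of% hψρ, reassoc_of% hψρ,
        ← Scheme.Hom.comp_appTop, ← Scheme.Hom.comp_appTop]
      exact congrArg Scheme.Hom.appTop k2.symm
    exact congrArg (fun φ => φ.hom x) h4
  -- the quotient
  let C₀ := EffAlg.C₀ ψ
  let pr : ∀ k, CommRingCat.of C₀ ⟶ C k := fun k => CommRingCat.ofHom (EffAlg.proj ψ k).toRingHom
  refine ⟨Spec (CommRingCat.of C₀), Spec.map (CommRingCat.ofHom (algebraMap A C₀)), fun k => Spec.map (pr k),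
    inferInstance, fun k => ?_, fun {T k l} x y h t => ?_⟩
  · let Φ := AlgEquiv.ofBijective _ (EffAlg.bijective_descend cA ψ hB hunit hassoc k)
    have hpo : IsPushout (CommRingCat.ofHom (algebraMap A C₀)) (b k) (pr k) (c k) :=
      (CommRingCat.isPushout_tensorProduct A C₀ (B k)).of_iso (Iso.refl _) (Iso.refl _) (Iso.refl _)
        Φ.toRingEquiv.toCommRingCatIso (by simp) (by simp; rfl)
        (by ext r; show productMap (EffAlg.proj ψ k) (cA k) (r ⊗ₜ 1) = _; simp [pr]; rfl)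
        (by ext r; show productMap (EffAlg.proj ψ k) (cA k) (1 ⊗ₜ r) = _; simp [cA])
    exact isPullback_SpecMap_of_isPushout _ _ _ _ hpo
  · obtain ⟨g, hg1, -, hg3⟩ := univ x y h t
    have h5 : pr l ≫ (Ψ k l).1.appTop = pr k ≫ (q₁ k l).appTop := by
      have h6 : pr l ≫ ψ₀ k l = pr k ≫ CommRingCat.ofHom (includeLeft : C k →ₐ[A] C k ⊗[A] B l).toRingHom := by
        ext r
        exact AlgHom.congr_fun (EffAlg.ψ_proj ψ k l) r
      exact ((congrArg (pr l ≫ ·) (hψρ k l)).symm.trans (Category.assoc _ _ _).symm).trans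
        ((congrArg (· ≫ (ρ k l).hom) h6).trans ((Category.assoc _ _ _).trans (congrArg (pr k ≫ ·) (hρ₁ k l))))
    rw [hg3, ← hg1, Category.assoc, Category.assoc]
    congr 1
    rw [← Category.assoc, ← Category.assoc, Scheme.toSpecΓ_naturality, Scheme.toSpecΓ_naturality, Category.assoc,
      Category.assoc, ← Spec.map_comp, ← Spec.map_comp, h5]

end Groth.Agent.Desc19b
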