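import Mathlib

/-! Algebra of effective descent for algebras along a finite flat family. -/

set_option autoImplicit false
set_option backward.isDefEq.respectTransparency.types false
set_option backward.isDefEq.respectTransparency false

universe u

set_option synthInstance.maxHeartbeats 100000

open TensorProduct Algebra.TensorProduct

namespace Groth.Agent.Desc19b.EffAlg

variable {A : Type u} [CommRing A] {κ : Type u} {B C : κ → Type u}
  [∀ k, CommRing (B k)] [∀ k, CommRing (C k)] [∀ k, Algebra A (B k)] [∀ k, Algebra A (C k)]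

/-- The algebra of invariant elements. -/
def C₀ (ψ : ∀ k l, C l →ₐ[A] C k ⊗[A] B l) : Subalgebra A (∀ k, C k) :=
  ⨅ p : κ × κ, AlgHom.equalizer ((ψ p.1 p.2).comp (Pi.evalAlgHom A C p.2))
    ((includeLeft : C p.1 →ₐ[A] C p.1 ⊗[A] B p.2).comp (Pi.evalAlgHom A C p.1))

theorem mem_C₀ {ψ : ∀ k l, C l →ₐ[A] C k ⊗[A] B l} {x : ∀ k, C k} :
    x ∈ C₀ ψ ↔ ∀ k l, ψ k l (x l) = x k ⊗ₜ 1 := by
  simp [C₀, Algebra.mem_iInf]

/-- The projection of the invariants to a factor. -/
def proj (ψ : ∀ k l, C l →ₐ[A] C k ⊗[A] B l) (m : κ) : C₀ ψ →ₐ[A] C m :=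
  (Pi.evalAlgHom A C m).comp (C₀ ψ).val

theorem ψ_proj (ψ : ∀ k l, C l →ₐ[A] C k ⊗[A] B l) (k l : κ) :
    (ψ k l).comp (proj ψ l) = (includeLeft : C k →ₐ[A] C k ⊗[A] B l).comp (proj ψ k) :=
  AlgHom.ext fun x => mem_C₀.1 x.2 k l

theorem bijective_descend [Finite κ] [∀ k, Module.Flat A (B k)] (c : ∀ k, B k →ₐ[A] C k)
    (ψ : ∀ k l, C l →ₐ[A] C k ⊗[A] B l)
    (hB : ∀ k l b, ψ k l (c l b) = (1 : C k) ⊗ₜ b)
    (unit : ∀ k x, productMap (AlgHom.id A (C k)) (c k) (ψ k k x) = x)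
    (assoc : ∀ k l m x, Algebra.TensorProduct.map (ψ k l) (AlgHom.id A (B m)) (ψ l m x) =
      Algebra.TensorProduct.map (includeLeft : C k →ₐ[A] C k ⊗[A] B l) (AlgHom.id A (B m)) (ψ k m x)) (m : κ) :
    Function.Bijective (productMap (proj ψ m) (c m)) := by
  classical
  cases nonempty_fintype κ
  let d : (∀ k, C k) →ₗ[A] ∀ p : κ × κ, C p.1 ⊗[A] B p.2 := LinearMap.pi fun p =>
    (ψ p.1 p.2).toLinearMap ∘ₗ LinearMap.proj p.2 -
      (includeLeft : C p.1 →ₐ[A] C p.1 ⊗[A] B p.2).toLinearMap ∘ₗ LinearMap.proj p.1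
  let ι₀ : C₀ ψ →ₗ[A] ∀ k, C k := (C₀ ψ).val.toLinearMap
  have hex : Function.Exact ι₀ d := fun x => by
    constructor
    · intro h
      exact ⟨⟨x, mem_C₀.2 fun k l => sub_eq_zero.1 (congrFun h (k, l))⟩, rfl⟩
    · rintro ⟨x, rfl⟩
      exact funext fun p => sub_eq_zero.2 (mem_C₀.1 x.2 p.1 p.2)
  have hexB := Module.Flat.rTensor_exact (B m) hex
  have hinjB := Module.Flat.rTensor_preserves_injective_linearMap (M := B m) ι₀ Subtype.val_injective
  let Φ := TensorProduct.piLeft (R := A) (N := B m) (M := C) (ι := κ)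
  let Φ₂ := TensorProduct.piLeft (R := A) (N := B m) (M := fun p : κ × κ => C p.1 ⊗[A] B p.2) (ι := κ × κ)
  have hΦ : ∀ z k, Φ z k = LinearMap.rTensor (B m) (LinearMap.proj k) z := by
    intro z k
    induction z with
    | zero => simp
    | tmul f b => simp [Φ]
    | add a b ha hb => simp [ha, hb]
  have hΦ₂ : ∀ z p, Φ₂ z p = LinearMap.rTensor (B m) (LinearMap.proj p) z := by
    intro z p
    induction z with
    | zero => simp
    | tmul f b => simp [Φ₂]
    | add a b ha hb => simp [ha, hb]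
  have hd : ∀ z k l, Φ₂ (d.rTensor (B m) z) (k, l) =
      Algebra.TensorProduct.map (ψ k l) (AlgHom.id A (B m)) (Φ z l) -
      Algebra.TensorProduct.map (includeLeft : C k →ₐ[A] C k ⊗[A] B l) (AlgHom.id A (B m)) (Φ z k) := by
    intro z k l
    rw [hΦ₂, hΦ, hΦ]
    induction z with
    | zero => simp
    | tmul f b => simp [d, TensorProduct.sub_tmul]
    | add a b ha hb => simp only [map_add, Pi.add_apply, ha, hb]; abel
  -- the retraction
  let μ : ∀ k, C k ⊗[A] B k →ₐ[A] C k := fun k => productMap (AlgHom.id A (C k)) (c k)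
  have hs : ∀ z : C₀ ψ ⊗[A] B m, μ m (Φ (ι₀.rTensor (B m) z) m) = productMap (proj ψ m) (c m) z := by
    intro z
    rw [hΦ]
    induction z with
    | zero => simp
    | tmul f b => simp [μ, ι₀, proj]
    | add a b ha hb => simp [ha, hb]
  have hker : ∀ z, d.rTensor (B m) z = 0 → ∀ k, Φ z k = ψ k m (μ m (Φ z m)) := by
    intro z hz k
    have h := congrFun (congrArg Φ₂ hz) (k, m)
    rw [hd, Φ₂.map_zero, Pi.zero_apply, sub_eq_zero] at h
    let μ₂ : (C k ⊗[A] B m) ⊗[A] B m →ₐ[A] C k ⊗[A] B m := productMap (AlgHom.id A _) includeRight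
    have h2 := congrArg μ₂ h
    have e1 : ∀ w, μ₂ (Algebra.TensorProduct.map (includeLeft : C k →ₐ[A] C k ⊗[A] B m) (AlgHom.id A (B m)) w) = w := by
      intro w
      induction w with
      | zero => simp
      | tmul a b => simp [μ₂, Algebra.TensorProduct.tmul_mul_tmul]
      | add a b ha hb => simp [ha, hb]
    have e2 : ∀ w, μ₂ (Algebra.TensorProduct.map (ψ k m) (AlgHom.id A (B m)) w) = ψ k m (μ m w) := by
      intro w
      induction w with
      | zero => simp
      | tmul a b => simp [μ₂, μ, hB]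
      | add a b ha hb => simp [ha, hb]
    rw [e1, e2] at h2
    exact h2.symm
  refine ⟨fun z z' h => ?_, fun y => ?_⟩
  · refine hinjB (Φ.injective (funext fun k => ?_))
    rw [hker _ (hexB.apply_apply_eq_zero z) k, hker _ (hexB.apply_apply_eq_zero z') k, hs, hs, h]
  · have hy : d.rTensor (B m) (Φ.symm fun k => ψ k m y) = 0 := Φ₂.injective (funext fun ⟨k, l⟩ => by
      rw [hd, Φ₂.map_zero, Pi.zero_apply, LinearEquiv.apply_symm_apply, assoc, sub_self])
    obtain ⟨z, hz⟩ := (hexB _).1 hy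
    refine ⟨z, ?_⟩
    rw [← hs, hz, LinearEquiv.apply_symm_apply]
    exact unit m y

end Groth.Agent.Desc19b.EffAlg
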