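import Groth.Agent.Desc19b.QuotPieces
import Groth.Agent.Desc19b.CoverLocal
import Groth.Agent.Desc19b.ToDDFamFF
import Mathlib.AlgebraicGeometry.Gluing

/-! Descent data covered by stable opens with quotients are effective. -/

set_option autoImplicit false
set_option linter.style.haveILetI false
set_option backward.isDefEq.respectTransparency false
set_option backward.isDefEq.respectTransparency.types false

universe u

open CategoryTheory CategoryTheory.Limits AlgebraicGeometry Desc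

namespace Groth.Agent.Desc19b

variable {S : Scheme.{u}} {ι : Type u} {X : ι → Scheme.{u}} {f : ∀ i, X i ⟶ S} {D : SchDDFam f}

/-- A family of opens stable under the bijections of a descent datum. -/
def Stable (D : SchDDFam f) (O : ∀ i, (D.obj i).left.Opens) : Prop :=
  ∀ {T : Scheme.{u}} {i j : ι} (x : T ⟶ X i) (y : T ⟶ X j) (h : x ≫ f i = y ≫ f j) (t : Lifts (D.obj i) x),
    InW (O i) t.1 → InW (O j) (D.φ x y h t).1

theorem Stable.inf {O O' : ∀ i, (D.obj i).left.Opens} (h : Stable D O) (h' : Stable D O') : Stable D (O ⊓ O') :=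
  fun x y e t ht z => ⟨h x y e t (fun z => (ht z).1) z, h' x y e t (fun z => (ht z).2) z⟩

/-- A quotient of a stable family of opens. -/
structure SubQuot (D : SchDDFam f) (O : ∀ i, (D.obj i).left.Opens) where
  /-- the scheme -/
  U : Scheme.{u}
  /-- its structure map -/
  π : U ⟶ S
  /-- the quotient maps -/
  q : ∀ i, (O i).toScheme ⟶ U
  sq : ∀ i, IsPullback (q i) ((O i).ι ≫ (D.obj i).hom) π (f i)
  inv : ∀ {T : Scheme.{u}} {i j : ι} (x : T ⟶ X i) (y : T ⟶ X j) (h : x ≫ f i = y ≫ f j) (t : Lifts (D.obj i) x)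
    (τ : T ⟶ (O i).toScheme) (τ' : T ⟶ (O j).toScheme),
    τ ≫ (O i).ι = t.1 → τ' ≫ (O j).ι = (D.φ x y h t).1 → τ' ≫ q j = τ ≫ q i

namespace SubQuot

variable {O O' O'' : ∀ i, (D.obj i).left.Opens}
variable (hf : Presieve.ofArrows X f ∈ Scheme.fpqcPrecoverage S)

include hf in
theorem q_mem (R : SubQuot D O) : Presieve.ofArrows (fun i => (O i).toScheme) R.q ∈ Scheme.fpqcPrecoverage R.U :=
  Precoverage.mem_coverings_of_isPullback f hf R.π R.q (fun i => (O i).ι ≫ (D.obj i).hom) R.sq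

include hf in
theorem q_surjective (R : SubQuot D O) (z : R.U) : ∃ i x, R.q i x = z :=
  ((Scheme.presieve₀_mem_precoverage_iff (PreZeroHypercover.mk ι (fun i => (O i).toScheme) R.q)).1 (q_mem hf R).2).1 z

include hf in
theorem isSheafFor (R : SubQuot D O) (Z : Scheme.{u}) :
    Presieve.IsSheafFor (yoneda.obj Z) (Presieve.ofArrows (fun i => (O i).toScheme) R.q) :=
  (GrothendieckTopology.Subcanonical.isSheaf_of_isRepresentable (J := Scheme.fpqcTopology) (yoneda.obj Z)).isSheafFor _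
    (Precoverage.generate_mem_toGrothendieck (q_mem hf R))

include hf in
theorem hom_ext (R : SubQuot D O) {Z : Scheme.{u}} (m n : R.U ⟶ Z) (h : ∀ i, R.q i ≫ m = R.q i ≫ n) : m = n := by
  obtain ⟨t, -, hu⟩ := (Presieve.isSheafFor_arrows_iff _ _).1 (isSheafFor hf R Z) (fun i => R.q i ≫ m)
    fun i j T g₁ g₂ e => by
      show g₁ ≫ R.q i ≫ m = g₂ ≫ R.q j ≫ m
      rw [reassoc_of% e]
  exact (hu m fun k => rfl).trans (hu n fun k => (h k).symm).symm

/-- Two points with the same image in a quotient correspond under the bijections of the datum. -/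
theorem φ_eq (R : SubQuot D O) (hO : Stable D O) {T : Scheme.{u}} {i j : ι} (g₁ : T ⟶ (O i).toScheme)
    (g₂ : T ⟶ (O j).toScheme) (e : g₁ ≫ R.q i = g₂ ≫ R.q j) :
    ∃ h : (g₁ ≫ (O i).ι ≫ (D.obj i).hom) ≫ f i = (g₂ ≫ (O j).ι ≫ (D.obj j).hom) ≫ f j,
      (D.φ _ _ h ⟨g₁ ≫ (O i).ι, Category.assoc _ _ _⟩).1 = g₂ ≫ (O j).ι := by
  have h : (g₁ ≫ (O i).ι ≫ (D.obj i).hom) ≫ f i = (g₂ ≫ (O j).ι ≫ (D.obj j).hom) ≫ f j := by
    rw [Category.assoc g₁, Category.assoc g₂, ← (R.sq i).w, ← (R.sq j).w, reassoc_of% e]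
  refine ⟨h, ?_⟩
  let t : Lifts (D.obj i) (g₁ ≫ (O i).ι ≫ (D.obj i).hom) := ⟨g₁ ≫ (O i).ι, Category.assoc _ _ _⟩
  have hin : InW (O j) (D.φ _ _ h t).1 := hO _ _ h t fun z => by
    show (g₁ ≫ (O i).ι) z ∈ O i
    rw [Scheme.Hom.comp_apply]
    exact (g₁ z).2
  let τ' : T ⟶ (O j).toScheme := IsOpenImmersion.lift (O j).ι (D.φ _ _ h t).1
    (by rw [Scheme.Opens.range_ι]; rintro _ ⟨z, rfl⟩; exact hin z)
  have hτ' : τ' ≫ (O j).ι = (D.φ _ _ h t).1 := IsOpenImmersion.lift_fac _ _ _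
  have h1 : τ' = g₂ := by
    refine (R.sq j).hom_ext ((R.inv _ _ h t g₁ τ' rfl hτ').trans e) ?_
    rw [reassoc_of% hτ', (D.φ _ _ h t).2]
  rw [← hτ', h1]

include hf in
theorem existsUnique_cmp (R : SubQuot D O) (R' : SubQuot D O') (hO : Stable D O) (hle : O ≤ O') :
    ∃! m : R.U ⟶ R'.U, ∀ i, R.q i ≫ m = (D.obj i).left.homOfLE (hle i) ≫ R'.q i := by
  refine (Presieve.isSheafFor_arrows_iff _ _).1 (isSheafFor hf R R'.U)
    (fun i => (D.obj i).left.homOfLE (hle i) ≫ R'.q i) fun i j T g₁ g₂ e => ?_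
  show g₁ ≫ _ ≫ _ = g₂ ≫ _ ≫ _
  obtain ⟨h, h2⟩ := φ_eq R hO g₁ g₂ e
  rw [← Category.assoc, ← Category.assoc]
  refine (R'.inv _ _ h ⟨g₁ ≫ (O i).ι, Category.assoc _ _ _⟩ (g₁ ≫ (D.obj i).left.homOfLE (hle i))
    (g₂ ≫ (D.obj j).left.homOfLE (hle j)) (by simp) ?_).symm
  rw [Category.assoc, Scheme.homOfLE_ι, h2]

/-- The comparison of quotients. -/
noncomputable def cmp (R : SubQuot D O) (R' : SubQuot D O') (hO : Stable D O) (hle : O ≤ O') : R.U ⟶ R'.U :=
  (existsUnique_cmp hf R R' hO hle).choose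

theorem q_cmp (R : SubQuot D O) (R' : SubQuot D O') (hO : Stable D O) (hle : O ≤ O') (i : ι) :
    R.q i ≫ cmp hf R R' hO hle = (D.obj i).left.homOfLE (hle i) ≫ R'.q i :=
  (existsUnique_cmp hf R R' hO hle).choose_spec.1 i

theorem cmp_π (R : SubQuot D O) (R' : SubQuot D O') (hO : Stable D O) (hle : O ≤ O') :
    cmp hf R R' hO hle ≫ R'.π = R.π :=
  hom_ext hf R _ _ fun i => by
    rw [reassoc_of% (q_cmp hf R R' hO hle i), (R.sq i).w, (R'.sq i).w]
    simp

theorem cmp_self (R : SubQuot D O) (hO : Stable D O) : cmp hf R R hO le_rfl = 𝟙 _ :=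
  hom_ext hf R _ _ fun i => by simp [q_cmp]

theorem cmp_comp (R : SubQuot D O) (R' : SubQuot D O') (R'' : SubQuot D O'') (hO : Stable D O) (hO' : Stable D O')
    (hle : O ≤ O') (hle' : O' ≤ O'') :
    cmp hf R R' hO hle ≫ cmp hf R' R'' hO' hle' = cmp hf R R'' hO (hle.trans hle') :=
  hom_ext hf R _ _ fun i => by
    rw [reassoc_of% (q_cmp hf R R' hO hle i), q_cmp, q_cmp, Scheme.homOfLE_homOfLE_assoc]

include hf in
theorem exists_restrict (R' : SubQuot D O') (hO' : Stable D O') (hO : Stable D O) (hle : O ≤ O') :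
    ∃ (V : R'.U.Opens) (R : SubQuot D O) (e : R.U ⟶ V.toScheme),
      IsIso e ∧ (∀ i, R'.q i ⁻¹ᵁ V = (O' i).ι ⁻¹ᵁ O i) ∧
      ∀ i, R.q i ≫ e ≫ V.ι = (D.obj i).left.homOfLE (hle i) ≫ R'.q i := by
  obtain ⟨V, hV, -⟩ := existsUnique_opens_preimage_eq R'.q (q_mem hf R') (fun i => (O' i).ι ⁻¹ᵁ O i) fun i j =>
    TopologicalSpace.Opens.ext (Set.ext fun z => by
      have key : ∀ {i j : ι} (z : ↑(pullback (R'.q i) (R'.q j))),
          (O' i).ι (pullback.fst (R'.q i) (R'.q j) z) ∈ O i → (O' j).ι (pullback.snd (R'.q i) (R'.q j) z) ∈ O j := by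
        intro i j z hz
        let G := (pullback.fst (R'.q i) (R'.q j) ≫ (O' i).ι) ⁻¹ᵁ O i
        obtain ⟨h, h2⟩ := φ_eq R' hO' (G.ι ≫ pullback.fst (R'.q i) (R'.q j)) (G.ι ≫ pullback.snd (R'.q i) (R'.q j))
          (by simp only [Category.assoc, pullback.condition])
        have hz' : z ∈ G := by show (pullback.fst (R'.q i) (R'.q j) ≫ (O' i).ι) z ∈ O i; rwa [Scheme.Hom.comp_apply]
        have := hO _ _ h ⟨(G.ι ≫ pullback.fst (R'.q i) (R'.q j)) ≫ (O' i).ι, Category.assoc _ _ _⟩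
          (fun y => by
            show ((G.ι ≫ pullback.fst (R'.q i) (R'.q j)) ≫ (O' i).ι) y ∈ O i
            rw [Category.assoc, Scheme.Hom.comp_apply]
            exact y.2) ⟨z, hz'⟩
        rw [h2, Scheme.Hom.comp_apply, Scheme.Hom.comp_apply] at this
        exact this
      refine ⟨key z, fun hz => ?_⟩
      have h := key ((pullbackSymmetry (R'.q i) (R'.q j)).hom z)
        (by rw [← Scheme.Hom.comp_apply (pullbackSymmetry (R'.q i) (R'.q j)).hom, pullbackSymmetry_hom_comp_fst]; exact hz)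
      rw [← Scheme.Hom.comp_apply (pullbackSymmetry (R'.q i) (R'.q j)).hom, pullbackSymmetry_hom_comp_snd] at h
      exact h)
  let q : ∀ i, (O i).toScheme ⟶ V.toScheme := fun i =>
    IsOpenImmersion.lift V.ι ((D.obj i).left.homOfLE (hle i) ≫ R'.q i) (by
      rw [Scheme.Opens.range_ι]
      rintro _ ⟨y, rfl⟩
      rw [Scheme.Hom.comp_apply]
      have : (D.obj i).left.homOfLE (hle i) y ∈ R'.q i ⁻¹ᵁ V := by
        rw [hV]
        show ((D.obj i).left.homOfLE (hle i) ≫ (O' i).ι) y ∈ O i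
        rw [Scheme.homOfLE_ι]
        exact y.2
      exact this)
  have hq : ∀ i, q i ≫ V.ι = (D.obj i).left.homOfLE (hle i) ≫ R'.q i := fun i => IsOpenImmersion.lift_fac _ _ _
  refine ⟨V, ⟨V.toScheme, V.ι ≫ R'.π, q, fun i => ?_, fun {T i j} x y h t τ τ' hτ hτ' => ?_⟩, 𝟙 _,
    inferInstance, hV, fun i => by rw [Category.id_comp, hq]⟩
  · have h1 : IsPullback (q i) ((D.obj i).left.homOfLE (hle i)) V.ι (R'.q i) :=
      IsOpenImmersion.isPullback _ _ _ _ (hq i).symm (by rw [Scheme.Opens.opensRange_ι, hV, Scheme.opensRange_homOfLE])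
    have h2 := h1.paste_vert (R'.sq i)
    rwa [Scheme.homOfLE_ι_assoc] at h2
  · rw [← cancel_mono V.ι, Category.assoc, Category.assoc, hq, hq, ← Category.assoc, ← Category.assoc]
    exact R'.inv x y h t _ _ (by simp [hτ]) (by simp [hτ'])

theorem cmp_spec (R : SubQuot D O) (R' : SubQuot D O') (hO : Stable D O) (hO' : Stable D O') (hle : O ≤ O') :
    IsOpenImmersion (cmp hf R R' hO hle) ∧
      ∀ i (v : (O' i).toScheme), R'.q i v ∈ Set.range (cmp hf R R' hO hle) → (O' i).ι v ∈ O i := by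
  obtain ⟨V, R₀, e, he, hV, hR₀⟩ := exists_restrict hf R' hO' hO hle
  have h : cmp hf R R' hO hle = cmp hf R R₀ hO le_rfl ≫ e ≫ V.ι := hom_ext hf R _ _ fun i => by
    rw [q_cmp, reassoc_of% (q_cmp hf R R₀ hO le_rfl i)]
    simp only [Scheme.homOfLE_rfl, Category.id_comp, hR₀]
  haveI : IsIso (cmp hf R R₀ hO le_rfl) :=
    ⟨cmp hf R₀ R hO le_rfl, by rw [cmp_comp, cmp_self], by rw [cmp_comp, cmp_self]⟩
  refine ⟨h ▸ inferInstance, fun i v ⟨y, hy⟩ => ?_⟩
  rw [h, Scheme.Hom.comp_apply, Scheme.Hom.comp_apply] at hy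
  have : v ∈ R'.q i ⁻¹ᵁ V := by show R'.q i v ∈ V; rw [← hy]; exact (e _).2
  rwa [hV] at this

end SubQuot

namespace SubQuotGlue

variable (hf : Presieve.ofArrows X f ∈ Scheme.fpqcPrecoverage S) (D)

/-- The stable families of opens with a quotient. -/
abbrev Idx : Type u := {O : ∀ i, (D.obj i).left.Opens // Stable D O ∧ Nonempty (SubQuot D O)}

variable {D}

/-- The chosen quotient. -/
noncomputable def R (A : Idx D) : SubQuot D A.1 := A.2.2.some

/-- The diagram of quotients. -/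
@[simps]
noncomputable def diagram : Idx D ⥤ Scheme.{u} where
  obj A := (R A).U
  map {A B} h := SubQuot.cmp hf (R A) (R B) A.2.1 (leOfHom h)
  map_id A := SubQuot.cmp_self hf (R A) A.2.1
  map_comp {A B C} h h' := (SubQuot.cmp_comp hf (R A) (R B) (R C) A.2.1 B.2.1 (leOfHom h) (leOfHom h')).symm

instance {A B : Idx D} (h : A ⟶ B) : IsOpenImmersion ((diagram hf).map h) :=
  (SubQuot.cmp_spec hf (R A) (R B) A.2.1 B.2.1 (leOfHom h)).1

include hf in
theorem inf_mem (A B : Idx D) : Stable D (A.1 ⊓ B.1) ∧ Nonempty (SubQuot D (A.1 ⊓ B.1)) := by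
  refine ⟨Stable.inf A.2.1 B.2.1, ?_⟩
  obtain ⟨-, R₀, -⟩ := SubQuot.exists_restrict hf (R A) A.2.1 (Stable.inf A.2.1 B.2.1) inf_le_left
  exact ⟨R₀⟩

instance : (diagram (D := D) hf ⋙ Scheme.forget).IsLocallyDirected where
  cond {A B C} h h' xa xb hx := by
    simp only [Functor.comp_obj, Functor.comp_map, Scheme.forget_map, diagram_map, Scheme.forget_obj,
      ConcreteCategory.hom_ofHom, TypeCat.Fun.coe_mk] at hx
    obtain ⟨i, v, hv⟩ := SubQuot.q_surjective hf (R C) (SubQuot.cmp hf (R A) (R C) A.2.1 (leOfHom h) xa)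
    have ha := (SubQuot.cmp_spec hf (R A) (R C) A.2.1 C.2.1 (leOfHom h)).2 i v ⟨xa, hv.symm⟩
    have hb := (SubQuot.cmp_spec hf (R B) (R C) B.2.1 C.2.1 (leOfHom h')).2 i v ⟨xb, (hv.trans hx).symm⟩
    let L : Idx D := ⟨A.1 ⊓ B.1, inf_mem hf A B⟩
    let y : (L.1 i).toScheme := ⟨(C.1 i).ι v, ha, hb⟩
    have key : ∀ (E : Idx D) (hLE : L ≤ E) (hEC : E ≤ C),
        SubQuot.cmp hf (R E) (R C) E.2.1 hEC (SubQuot.cmp hf (R L) (R E) L.2.1 hLE ((R L).q i y)) = (R C).q i v := by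
      intro E hLE hEC
      rw [← Scheme.Hom.comp_apply, SubQuot.cmp_comp, ← Scheme.Hom.comp_apply, SubQuot.q_cmp, Scheme.Hom.comp_apply]
      congr 1
      apply (C.1 i).ι.isOpenEmbedding.injective
      rw [← Scheme.Hom.comp_apply, Scheme.homOfLE_ι]
      rfl
    refine ⟨L, homOfLE (show L.1 ≤ A.1 from inf_le_left), homOfLE (show L.1 ≤ B.1 from inf_le_right), (R L).q i y, ?_, ?_⟩
    · exact ((diagram hf).map h).isOpenEmbedding.injective ((key A (show L.1 ≤ A.1 from inf_le_left) (leOfHom h)).trans hv)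
    · exact ((diagram hf).map h').isOpenEmbedding.injective ((key B (show L.1 ≤ B.1 from inf_le_right) (leOfHom h')).trans (hv.trans hx))

include hf in
/-- A descent datum covered by stable opens with quotients is effective. -/
theorem isEffective (hcov : ∀ i (v : (D.obj i).left), ∃ A : Idx D, v ∈ A.1 i) : D.IsEffective := by
  let U : Scheme.{u} := colimit (diagram (D := D) hf)
  have hnat : ∀ {A B : Idx D} (h : A ⟶ B), (diagram hf).map h ≫ (R B).π = (R A).π ≫ 𝟙 S := fun {A B} h => by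
    rw [Category.comp_id]
    exact SubQuot.cmp_π hf (R A) (R B) A.2.1 (leOfHom h)
  let π : U ⟶ S := colimit.desc _ { pt := S, ι := { app := fun A => (R A).π, naturality := fun A B h => hnat h } }
  let inc : ∀ A : Idx D, (R A).U ⟶ U := fun A => colimit.ι (diagram hf) A
  have hπ : ∀ A, inc A ≫ π = (R A).π := fun A => colimit.ι_desc _ _
  have hinc : ∀ {A B : Idx D} (h : A ≤ B), SubQuot.cmp hf (R A) (R B) A.2.1 h ≫ inc B = inc A := fun {A B} h =>
    colimit.w (diagram hf) (homOfLE h)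
  let piece : ∀ i, (D.obj i).left.OpenCover := fun i => (D.obj i).left.openCoverOfIsOpenCover
    (fun A : Idx D => A.1 i) (eq_top_iff.2 fun v _ => TopologicalSpace.Opens.mem_iSup.2 (hcov i v))
  have hglue : ∀ (i : ι) (A B : Idx D), pullback.fst (A.1 i).ι (B.1 i).ι ≫ (R A).q i ≫ inc A =
      pullback.snd (A.1 i).ι (B.1 i).ι ≫ (R B).q i ≫ inc B := fun i A B => by
    rw [← cancel_epi (isPullback_opens_inf (A.1 i) (B.1 i)).isoPullback.hom, IsPullback.isoPullback_hom_fst_assoc,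
      IsPullback.isoPullback_hom_snd_assoc]
    let L : Idx D := ⟨A.1 ⊓ B.1, inf_mem hf A B⟩
    exact ((congrArg (· ≫ inc A) (SubQuot.q_cmp hf (R L) (R A) L.2.1 inf_le_left i)).symm.trans
      (by rw [Category.assoc, hinc, ← hinc (show L ≤ B from (inf_le_right : A.1 ⊓ B.1 ≤ B.1)), ← Category.assoc, SubQuot.q_cmp])).trans
      (Category.assoc _ _ _) |> (Category.assoc _ _ _).symm.trans
  let q : ∀ i, (D.obj i).left ⟶ U := fun i =>
    (piece i).glueMorphisms (fun A => (R A).q i ≫ inc A) (fun A B => hglue i A B)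
  have hq : ∀ (i : ι) (A : Idx D), (A.1 i).ι ≫ q i = (R A).q i ≫ inc A := fun i A =>
    (piece i).ι_glueMorphisms (fun A => (R A).q i ≫ inc A) (fun A B => hglue i A B) A
  have hrange : ∀ (i : ι) (A : Idx D) (v : (D.obj i).left), q i v ∈ Set.range (inc A) → v ∈ A.1 i := by
    intro i A v ⟨z, hz⟩
    obtain ⟨B, hB⟩ := hcov i v
    have h1 : inc B ((R B).q i ⟨v, hB⟩) = inc A z := by
      rw [hz, ← Scheme.Hom.comp_apply, ← hq i B, Scheme.Hom.comp_apply]
      rfl
    obtain ⟨L, hLB, hLA, y, hy, -⟩ := (Scheme.IsLocallyDirected.ι_eq_ι_iff (diagram hf)).1 h1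
    exact leOfHom hLA i ((SubQuot.cmp_spec hf (R L) (R B) L.2.1 B.2.1 (leOfHom hLB)).2 i ⟨v, hB⟩ ⟨y, hy⟩)
  have hqπ : ∀ i, q i ≫ π = (D.obj i).hom ≫ f i := fun i => Scheme.Cover.hom_ext (piece i) _ _ fun A => by
    show (A.1 i).ι ≫ _ = (A.1 i).ι ≫ _
    rw [reassoc_of% (hq i A), hπ, ((R A).sq i).w, Category.assoc]
  have sq : ∀ i, IsPullback (q i) (D.obj i).hom π (f i) := fun i => by
    refine Scheme.isPullback_of_openCover _ _ _ _ (Scheme.IsLocallyDirected.openCover (diagram hf)) fun A => ?_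
    have hpre : q i ⁻¹ᵁ (inc A).opensRange = A.1 i := by
      refine le_antisymm (fun v hv => hrange i A v hv) fun v hv => ⟨(R A).q i ⟨v, hv⟩, ?_⟩
      rw [← Scheme.Hom.comp_apply, ← hq i A, Scheme.Hom.comp_apply]
      rfl
    have h1 : IsPullback ((R A).q i) (A.1 i).ι (inc A) (q i) :=
      IsOpenImmersion.isPullback _ _ _ _ (hq i A) (by rw [Scheme.Opens.opensRange_ι]; exact hpre)
    let e := h1.flip.isoPullback
    refine ((R A).sq i).of_iso e (Iso.refl _) (Iso.refl _) (Iso.refl _) ?_ ?_ ?_ (by simp)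
    · exact (h1.flip.isoPullback_hom_snd).symm
    · exact (congrArg (· ≫ (D.obj i).hom) h1.flip.isoPullback_hom_fst).symm.trans (Category.assoc _ _ _)
    · simp [← hπ, inc]
  have qinv : ∀ {T : Scheme.{u}} {i j : ι} (x : T ⟶ X i) (y : T ⟶ X j) (h : x ≫ f i = y ≫ f j)
      (t : Lifts (D.obj i) x), (D.φ x y h t).1 ≫ q j = t.1 ≫ q i := by
    intro T i j x y h t
    refine Scheme.Cover.hom_ext (T.openCoverOfIsOpenCover (fun A : Idx D => t.1 ⁻¹ᵁ A.1 i)
      (eq_top_iff.2 fun z _ => TopologicalSpace.Opens.mem_iSup.2 (hcov i (t.1 z)))) _ _ fun A => ?_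
    let G := t.1 ⁻¹ᵁ A.1 i
    show G.ι ≫ _ = G.ι ≫ _
    have h' : (G.ι ≫ x) ≫ f i = (G.ι ≫ y) ≫ f j := by rw [Category.assoc, h, Category.assoc]
    let t' : Lifts (D.obj i) (G.ι ≫ x) := Quot.rest G.ι t
    have ht' := D.φ_natural G.ι x y h _ _ rfl rfl h' t t' rfl
    have hin : InW (A.1 i) t'.1 := fun z => by
      show (G.ι ≫ t.1) z ∈ _
      rw [Scheme.Hom.comp_apply]; exact z.2
    let τ := IsOpenImmersion.lift (A.1 i).ι t'.1 (by rw [Scheme.Opens.range_ι]; rintro _ ⟨z, rfl⟩; exact hin z)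
    let τ' := IsOpenImmersion.lift (A.1 j).ι (D.φ _ _ h' t').1
      (by rw [Scheme.Opens.range_ι]; rintro _ ⟨z, rfl⟩; exact A.2.1 _ _ h' t' hin z)
    have e1 : τ ≫ (A.1 i).ι = t'.1 := IsOpenImmersion.lift_fac _ _ _
    have e2 : τ' ≫ (A.1 j).ι = (D.φ _ _ h' t').1 := IsOpenImmersion.lift_fac _ _ _
    rw [← Category.assoc, ← Category.assoc, ← ht', show G.ι ≫ t.1 = t'.1 from rfl, ← e1, ← e2, Category.assoc,
      Category.assoc, hq, hq, reassoc_of% ((R A).inv _ _ h' t' τ τ' e1 e2)]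
  obtain ⟨Q⟩ := Quot.nonempty_of_pieces (D := D) (W := (⊤ : S.Opens)) (κ := ι) (Z := X) id (fun i => 𝟙 (X i))
    (fun {T} s _ => by
      refine Precoverage.mem_coverings_of_isPullback f hf s _ (fun k => pullback.snd s (𝟙 (X k) ≫ f k)) fun k => ?_
      have h := IsPullback.of_hasPullback s (𝟙 (X k) ≫ f k)
      exact h.of_iso (Iso.refl _) (Iso.refl _) (Iso.refl _) (Iso.refl _) (by simp) (by simp) (by simp) (by simp))
    π (inW_top π) (fun i => pullback.fst _ _ ≫ q i)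
    (fun i => by
      haveI : IsIso (pullback.fst (D.obj i).hom (𝟙 (X i))) := inferInstance
      refine (sq i).of_iso (asIso (pullback.fst (D.obj i).hom (𝟙 (X i)))).symm (Iso.refl _) (Iso.refl _) (Iso.refl _)
        (by simp) ?_ (by simp) (by simp)
      simp [pullback.condition])
    (fun {T i j} x y h t => by
      simp only [PullRefine.PD, pullDDFam, pullDDFamObj, Equiv.trans_apply, liftsPullbackEquiv, Equiv.coe_fn_mk,
        Equiv.coe_fn_symm_mk]
      rw [pullback.lift_fst_assoc]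
      erw [qinv]
      simp)
  exact Quot.isEffective Q

end SubQuotGlue

namespace SubQuot

/-- An effective datum openly immersed in `D` gives a stable family of opens with a quotient. -/
theorem exists_of_open_sub {D' : SchDDFam f} (a : D' ⟶ D) [∀ i, IsOpenImmersion (a.hom i).left]
    (h : D'.IsEffective) :
    Stable D (fun i => (a.hom i).left.opensRange) ∧ Nonempty (SubQuot D (fun i => (a.hom i).left.opensRange)) := by
  obtain ⟨V, ⟨e⟩⟩ := h
  let O := fun i => (a.hom i).left.opensRange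
  have lift : ∀ {T : Scheme.{u}} {i : ι} {x : T ⟶ X i} (t : Lifts (D.obj i) x), InW (O i) t.1 →
      ∃ v : Lifts (D'.obj i) x, a.push v = t := fun {T i x} t ht => by
    let v := IsOpenImmersion.lift (a.hom i).left t.1 (by rintro _ ⟨z, rfl⟩; exact ht z)
    have hv : v ≫ (a.hom i).left = t.1 := IsOpenImmersion.lift_fac _ _ _
    refine ⟨⟨v, ?_⟩, Subtype.ext hv⟩
    rw [← Over.w (a.hom i), reassoc_of% hv]
    exact t.2
  refine ⟨fun {T i j} x y hxy t ht z => ?_, ?_⟩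
  · obtain ⟨v, rfl⟩ := lift t ht
    rw [a.comm x y hxy v _ rfl, Scheme.Hom.comp_apply]
    exact ⟨_, rfl⟩
  let qi : ∀ i, (O i).toScheme ⟶ (D'.obj i).left := fun i => (a.hom i).left.isoOpensRange.inv
  let g : ∀ i, (D'.obj i).left ⟶ pullback (f i) V.hom := fun i => (e.inv.hom i).left
  have hg : ∀ i, g i ≫ (e.hom.hom i).left = 𝟙 _ := fun i =>
    (Over.comp_left _ _ _ (e.inv.hom i) (e.hom.hom i)).symm.trans (congrArg (fun c : D' ⟶ D' => (c.hom i).left) e.inv_hom_id)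
  have hg' : ∀ i, (e.hom.hom i).left ≫ g i = 𝟙 _ := fun i =>
    (Over.comp_left _ _ _ (e.hom.hom i) (e.inv.hom i)).symm.trans
      (congrArg (fun c : (toDDFam f).obj V ⟶ (toDDFam f).obj V => (c.hom i).left) e.hom_inv_id)
  have hw : ∀ i, g i ≫ pullback.fst (f i) V.hom = (D'.obj i).hom := fun i => Over.w (e.inv.hom i)
  refine ⟨⟨V.left, V.hom, fun i => qi i ≫ g i ≫ pullback.snd (f i) V.hom, fun i => ?_, ?_⟩⟩
  · let ε : pullback (f i) V.hom ≅ (O i).toScheme :=
      ⟨(e.hom.hom i).left ≫ (a.hom i).left.isoOpensRange.hom, qi i ≫ g i,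
        by simp [qi, hg']; rfl, by simp [qi, reassoc_of% (hg i)]⟩
    refine (IsPullback.of_hasPullback (f i) V.hom).flip.of_iso ε (Iso.refl _) (Iso.refl _) (Iso.refl _) ?_ ?_
      (by simp) (by simp)
    · simp [ε, qi, reassoc_of% (hg' i)]
    · simp only [ε, Iso.refl_hom, Category.comp_id, Category.assoc, Scheme.Hom.isoOpensRange_hom_ι_assoc, Over.w]
      rfl
  intro T i j x y hxy t τ τ' hτ hτ'
  have h0 : (τ ≫ qi i) ≫ (a.hom i).left = t.1 := by simp [qi, hτ]
  have hx : (τ ≫ qi i) ≫ (D'.obj i).hom = x := by rw [← Over.w (a.hom i), ← Category.assoc, h0, t.2]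
  let v : Lifts (D'.obj i) x := ⟨τ ≫ qi i, hx⟩
  have hv : a.push v = t := Subtype.ext h0
  have hφ : (D.φ x y hxy t).1 = (D'.φ x y hxy v).1 ≫ (a.hom j).left := by rw [← hv]; exact a.comm x y hxy v _ rfl
  have h1 : τ' ≫ qi j = (D'.φ x y hxy v).1 := by
    rw [← cancel_mono (a.hom j).left, ← hφ, ← hτ']
    simp [qi]
  have h2 := e.inv.comm x y hxy v (e.inv.push v) rfl
  simp only [toDDFam, canonicalDDFam, Equiv.coe_fn_mk, canMapFam_val, SchDDFam.Hom.push] at h2
  rw [reassoc_of% h1, ← Category.assoc (D'.φ x y hxy v).1]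
  erw [← h2, pullback.lift_snd]
  simp only [v, g, Category.assoc]

end SubQuot

end Groth.Agent.Desc19b
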