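import Groth.Agent.Desc19b.EffQuasiAffine
import Groth.Agent.Desc19b.SubQuot
import Groth.Agent.FEtDesc.Fpqc

/-!
# Effective fppf descent for separated locally quasi-finite schemes

A descent datum with separated locally quasi-finite members over a flat covering of finite presentation of
an affine scheme is covered by stable quasi-compact opens (saturations of quasi-compact opens); these are
quasi-affine over the members, so their data are effective, and the quotients glue.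
-/

set_option autoImplicit false
set_option linter.style.haveILetI false
set_option backward.isDefEq.respectTransparency false
set_option backward.isDefEq.respectTransparency.types false

universe u

open CategoryTheory CategoryTheory.Limits AlgebraicGeometry Desc
open Groth.Agent.Desc19b

noncomputable section

namespace Groth.Agent.Desc19b.EffSepLqf

variable {S : Scheme.{u}} {ι : Type u} {X : ι → Scheme.{u}} {f : ∀ i, X i ⟶ S} (D : SchDDFam f)

theorem φ_congr {T : Scheme.{u}} {i j : ι} {x x' : T ⟶ X i} {y y' : T ⟶ X j} (hx : x = x') (hy : y = y')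
    (h : x ≫ f i = y ≫ f j) (h' : x' ≫ f i = y' ≫ f j) (t : Lifts (D.obj i) x) (t' : Lifts (D.obj i) x')
    (ht : t.1 = t'.1) : (D.φ x y h t).1 = (D.φ x' y' h' t').1 := by
  subst hx hy
  rw [Subtype.ext ht]

theorem φ_self' {T : Scheme.{u}} {i : ι} {x y : T ⟶ X i} (hxy : x = y) (h : x ≫ f i = y ≫ f i)
    (t : Lifts (D.obj i) x) : (D.φ x y h t).1 = t.1 := by
  subst hxy
  rw [D.φ_self]

section restr

variable {O : ∀ i, (D.obj i).left.Opens} (hO : Stable D O)

/-- The member of the restricted datum. -/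
abbrev robj (i : ι) : Over (X i) := Over.mk ((O i).ι ≫ (D.obj i).hom)

include hO in
theorem φ_range {T : Scheme.{u}} {i j : ι} (x : T ⟶ X i) (y : T ⟶ X j) (h : x ≫ f i = y ≫ f j)
    (t : Lifts (robj D (O := O) i) x) :
    Set.range (D.φ x y h ⟨t.1 ≫ (O i).ι, (Category.assoc _ _ _).trans t.2⟩).1 ⊆ Set.range (O j).ι := by
  rintro _ ⟨z, rfl⟩
  rw [Scheme.Opens.range_ι]
  exact hO x y h _ (fun w => (inW_ι (O i)).comp t.1 w) z

/-- The gluing map of the restricted datum. -/
def resMap {T : Scheme.{u}} {i j : ι} (x : T ⟶ X i) (y : T ⟶ X j) (h : x ≫ f i = y ≫ f j)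
    (t : Lifts (robj D (O := O) i) x) : Lifts (robj D (O := O) j) y :=
  ⟨IsOpenImmersion.lift (O j).ι _ (φ_range D hO x y h t), by
    show _ ≫ (O j).ι ≫ (D.obj j).hom = y
    rw [IsOpenImmersion.lift_fac_assoc]
    exact (D.φ x y h _).2⟩

theorem resMap_val {T : Scheme.{u}} {i j : ι} (x : T ⟶ X i) (y : T ⟶ X j) (h : x ≫ f i = y ≫ f j)
    (t : Lifts (robj D (O := O) i) x) :
    (resMap D hO x y h t).1 ≫ (O j).ι = (D.φ x y h ⟨t.1 ≫ (O i).ι, (Category.assoc _ _ _).trans t.2⟩).1 :=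
  IsOpenImmersion.lift_fac _ _ _

omit hO in
theorem resMap_ext {T : Scheme.{u}} {i : ι} {x : T ⟶ X i} {a b : Lifts (robj D (O := O) i) x}
    (h : a.1 ≫ (O i).ι = b.1 ≫ (O i).ι) : a = b :=
  Subtype.ext ((cancel_mono (O i).ι).mp h)

theorem resMap_comp {T : Scheme.{u}} {i j k : ι} (x : T ⟶ X i) (y : T ⟶ X j) (w : T ⟶ X k)
    (h : x ≫ f i = y ≫ f j) (h' : y ≫ f j = w ≫ f k) (t : Lifts (robj D (O := O) i) x) :
    resMap D hO y w h' (resMap D hO x y h t) = resMap D hO x w (h.trans h') t := by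
  refine resMap_ext D ?_
  rw [resMap_val D hO y w, resMap_val D hO x w, ← D.φ_comp x y w h h']
  congr 2
  exact Subtype.ext (resMap_val D hO x y h t)

theorem resMap_self {T : Scheme.{u}} {i : ι} (x : T ⟶ X i) (t : Lifts (robj D (O := O) i) x) :
    resMap D hO x x rfl t = t :=
  resMap_ext D (by rw [resMap_val, D.φ_self])

/-- Restriction of a descent datum to a stable family of opens. -/
def restr : SchDDFam f where
  obj i := robj D (O := O) i
  φ T i j x₀ x₁ h :=
    { toFun := resMap D hO x₀ x₁ h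
      invFun := resMap D hO x₁ x₀ h.symm
      left_inv := fun t => (resMap_comp D hO _ _ _ h h.symm t).trans (resMap_self D hO x₀ t)
      right_inv := fun t => (resMap_comp D hO _ _ _ h.symm h t).trans (resMap_self D hO x₁ t) }
  φ_natural T T' k i j x₀ x₁ h y₀ y₁ hy₀ hy₁ h' v v' hv' := by
    refine (cancel_mono (O j).ι).mp ?_
    show (resMap D hO _ _ h' v').1 ≫ (O j).ι = (k ≫ (resMap D hO x₀ x₁ h v).1) ≫ (O j).ι
    refine ((resMap_val D hO _ _ h' v').trans ?_).trans
      ((congrArg (k ≫ ·) (resMap_val D hO x₀ x₁ h v)).symm.trans (Category.assoc _ _ _).symm)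
    exact D.φ_natural k x₀ x₁ h y₀ y₁ hy₀ hy₁ h' ⟨v.1 ≫ (O i).ι, (Category.assoc _ _ _).trans v.2⟩ _
      ((congrArg (· ≫ (O i).ι) hv').trans (Category.assoc _ _ _))
  φ_self T i x v := resMap_self D hO x v
  φ_comp T i j k x₀ x₁ x₂ h₀₁ h₁₂ v := resMap_comp D hO _ _ _ h₀₁ h₁₂ v

/-- The inclusion of the restriction. -/
def restrι : restr D hO ⟶ D :=
  ⟨fun i => Over.homMk (O i).ι rfl, fun T i j x₀ x₁ h v w hw => by
    show _ = (resMap D hO x₀ x₁ h v).1 ≫ (O j).ι
    rw [resMap_val]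
    congr 2
    exact Subtype.ext hw⟩

end restr

section saturation

variable (k l : ι)

/-- The two pullbacks of the members over the base. -/
abbrev Src : Scheme.{u} := pullback ((D.obj k).hom ≫ f k) (f l)
/-- See `Src`. -/
abbrev Tgt : Scheme.{u} := pullback (f k) ((D.obj l).hom ≫ f l)

theorem src_cond : (pullback.fst ((D.obj k).hom ≫ f k) (f l) ≫ (D.obj k).hom) ≫ f k =
    pullback.snd ((D.obj k).hom ≫ f k) (f l) ≫ f l := by
  rw [Category.assoc, pullback.condition]

theorem tgt_cond : (pullback.snd (f k) ((D.obj l).hom ≫ f l) ≫ (D.obj l).hom) ≫ f l =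
    pullback.fst (f k) ((D.obj l).hom ≫ f l) ≫ f k := by
  rw [Category.assoc, pullback.condition]

/-- The gluing map on the universal point. -/
def toTgt : Src D k l ⟶ Tgt D k l :=
  pullback.lift (pullback.fst _ _ ≫ (D.obj k).hom) (D.φ _ _ (src_cond D k l) ⟨pullback.fst _ _, rfl⟩).1
    ((src_cond D k l).trans ((congrArg (· ≫ f l) (D.φ _ _ (src_cond D k l) ⟨pullback.fst _ _, rfl⟩).2.symm).trans
      (Category.assoc _ _ _)))

/-- Its inverse. -/
def toSrc : Tgt D k l ⟶ Src D k l :=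
  pullback.lift (D.φ _ _ (tgt_cond D k l) ⟨pullback.snd _ _, rfl⟩).1 (pullback.snd _ _ ≫ (D.obj l).hom)
    (by rw [← Category.assoc, (D.φ _ _ (tgt_cond D k l) ⟨pullback.snd _ _, rfl⟩).2]; exact (tgt_cond D k l).symm)

theorem toTgt_fst : toTgt D k l ≫ pullback.fst _ _ = pullback.fst _ _ ≫ (D.obj k).hom := pullback.lift_fst _ _ _

theorem toTgt_snd : toTgt D k l ≫ pullback.snd _ _ = (D.φ _ _ (src_cond D k l) ⟨pullback.fst _ _, rfl⟩).1 :=
  pullback.lift_snd _ _ _

theorem toSrc_fst : toSrc D k l ≫ pullback.fst _ _ = (D.φ _ _ (tgt_cond D k l) ⟨pullback.snd _ _, rfl⟩).1 :=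
  pullback.lift_fst _ _ _

theorem toSrc_snd : toSrc D k l ≫ pullback.snd _ _ = pullback.snd _ _ ≫ (D.obj l).hom := pullback.lift_snd _ _ _

theorem toTgt_snd_hom : (toTgt D k l ≫ pullback.snd _ _) ≫ (D.obj l).hom = pullback.snd _ _ :=
  (congrArg (· ≫ (D.obj l).hom) (toTgt_snd D k l)).trans (D.φ _ _ (src_cond D k l) ⟨pullback.fst _ _, rfl⟩).2

theorem toSrc_fst_hom : (toSrc D k l ≫ pullback.fst _ _) ≫ (D.obj k).hom = pullback.fst _ _ :=
  (congrArg (· ≫ (D.obj k).hom) (toSrc_fst D k l)).trans (D.φ _ _ (tgt_cond D k l) ⟨pullback.snd _ _, rfl⟩).2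

theorem toTgt_toSrc : toTgt D k l ≫ toSrc D k l = 𝟙 _ := by
  refine pullback.hom_ext ?_ ?_
  · rw [Category.id_comp, Category.assoc, toSrc_fst,
      ← D.φ_natural (toTgt D k l) _ _ (tgt_cond D k l) (pullback.snd _ _) (pullback.fst _ _ ≫ (D.obj k).hom)
        (by rw [← Category.assoc, toTgt_snd_hom]) (toTgt_fst D k l) (src_cond D k l).symm
        ⟨pullback.snd _ _, rfl⟩ ⟨toTgt D k l ≫ pullback.snd _ _, toTgt_snd_hom D k l⟩ rfl,
      show (⟨toTgt D k l ≫ pullback.snd _ _, toTgt_snd_hom D k l⟩ : Lifts (D.obj l) _) =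
        D.φ _ _ (src_cond D k l) ⟨pullback.fst _ _, rfl⟩ from Subtype.ext (toTgt_snd D k l),
      D.φ_comp, D.φ_self]
  · rw [Category.id_comp, Category.assoc, toSrc_snd, ← Category.assoc, toTgt_snd_hom]

theorem toSrc_toTgt : toSrc D k l ≫ toTgt D k l = 𝟙 _ := by
  refine pullback.hom_ext ?_ ?_
  · rw [Category.id_comp, Category.assoc, toTgt_fst, ← Category.assoc, toSrc_fst_hom]
  · rw [Category.id_comp, Category.assoc, toTgt_snd,
      ← D.φ_natural (toSrc D k l) _ _ (src_cond D k l) (pullback.fst _ _) (pullback.snd _ _ ≫ (D.obj l).hom)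
        (by rw [← Category.assoc, toSrc_fst_hom]) (toSrc_snd D k l) (tgt_cond D k l).symm
        ⟨pullback.fst _ _, rfl⟩ ⟨toSrc D k l ≫ pullback.fst _ _, toSrc_fst_hom D k l⟩ rfl,
      show (⟨toSrc D k l ≫ pullback.fst _ _, toSrc_fst_hom D k l⟩ : Lifts (D.obj k) _) =
        D.φ _ _ (tgt_cond D k l) ⟨pullback.snd _ _, rfl⟩ from Subtype.ext (toSrc_fst D k l),
      D.φ_comp, D.φ_self]

instance : IsIso (toTgt D k l) := ⟨⟨toSrc D k l, toTgt_toSrc D k l, toSrc_toTgt D k l⟩⟩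

variable (W : (D.obj k).left.Opens)

/-- The points over `W`. -/
abbrev P : Scheme.{u} := pullback ((W.ι ≫ (D.obj k).hom) ≫ f k) (f l)

theorem P_cond : (pullback.fst ((W.ι ≫ (D.obj k).hom) ≫ f k) (f l) ≫ W.ι ≫ (D.obj k).hom) ≫ f k =
    pullback.snd ((W.ι ≫ (D.obj k).hom) ≫ f k) (f l) ≫ f l :=
  (Category.assoc _ _ _).trans (pullback.condition (f := (W.ι ≫ (D.obj k).hom) ≫ f k) (g := f l))

/-- The translates of `W`. -/
def σ : P D k l W ⟶ (D.obj l).left :=
  (D.φ _ _ (P_cond D k l W) ⟨pullback.fst _ _ ≫ W.ι, Category.assoc _ _ _⟩).1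

theorem σ_spec {T : Scheme.{u}} (u : T ⟶ P D k l W) (x : T ⟶ X k) (y : T ⟶ X l) (hx : u ≫ pullback.fst _ _ ≫ W.ι ≫ (D.obj k).hom = x)
    (hy : u ≫ pullback.snd _ _ = y) (h : x ≫ f k = y ≫ f l) (w : Lifts (D.obj k) x)
    (hw : w.1 = u ≫ pullback.fst _ _ ≫ W.ι) : u ≫ σ D k l W = (D.φ x y h w).1 :=
  (D.φ_natural u _ _ (P_cond D k l W) x y hx hy h ⟨pullback.fst _ _ ≫ W.ι, Category.assoc _ _ _⟩ w hw).symm

/-- The inclusion of the points over `W`. -/
def incl : P D k l W ⟶ Src D k l :=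
  pullback.map _ _ _ _ W.ι (𝟙 _) (𝟙 _) (by simp) (by simp)

instance : IsOpenImmersion (incl D k l W) :=
  MorphismProperty.pullbackMap (P := @IsOpenImmersion) (inferInstance : IsOpenImmersion W.ι)
    (inferInstance : IsOpenImmersion (𝟙 (X l))) (by simp) (by simp)

theorem σ_eq : σ D k l W = (incl D k l W ≫ toTgt D k l) ≫ pullback.snd _ _ := by
  have e1 : incl D k l W ≫ pullback.fst ((D.obj k).hom ≫ f k) (f l) =
      pullback.fst ((W.ι ≫ (D.obj k).hom) ≫ f k) (f l) ≫ W.ι := pullback.lift_fst _ _ _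
  rw [Category.assoc, toTgt_snd]
  exact D.φ_natural (incl D k l W) _ _ (src_cond D k l) _ _
    (by rw [← Category.assoc, e1, Category.assoc]) ((pullback.lift_snd _ _ _).trans (Category.comp_id _))
    (P_cond D k l W) ⟨pullback.fst _ _, rfl⟩ ⟨pullback.fst _ _ ≫ W.ι, Category.assoc _ _ _⟩ e1.symm

theorem isOpen_range_σ [Flat (f k)] [LocallyOfFinitePresentation (f k)] : IsOpen (Set.range (σ D k l W)) := by
  rw [σ_eq]
  have h1 : IsOpenMap (incl D k l W ≫ toTgt D k l) := (incl D k l W ≫ toTgt D k l).isOpenEmbedding.isOpenMap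
  have : Flat (pullback.snd (f k) ((D.obj l).hom ≫ f l)) := MorphismProperty.pullback_snd _ _ ‹_›
  have : LocallyOfFinitePresentation (pullback.snd (f k) ((D.obj l).hom ≫ f l)) :=
    MorphismProperty.pullback_snd _ _ ‹_›
  have h2 : IsOpenMap (pullback.snd (f k) ((D.obj l).hom ≫ f l)) := Scheme.Hom.isOpenMap _
  simpa using (h2.comp h1).isOpen_range

variable [∀ i, Flat (f i)] [∀ i, LocallyOfFinitePresentation (f i)]

/-- The saturation of an open of a member. -/
def sat : ∀ i, (D.obj i).left.Opens := fun i => ⟨Set.range (σ D k i W), isOpen_range_σ D k i W⟩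

theorem stable_sat : Stable D (sat D k W) := by
  intro T i j x y h t ht z
  obtain ⟨w, hw⟩ : t.1 z ∈ Set.range (σ D k i W) := ht z
  obtain ⟨z', hz', -⟩ := Scheme.Pullback.exists_preimage_pullback (f := t.1) (g := σ D k i W) z w hw.symm
  let π := pullback.fst t.1 (σ D k i W)
  let u := pullback.snd t.1 (σ D k i W)
  let x₀ := u ≫ pullback.fst _ _ ≫ W.ι ≫ (D.obj k).hom
  let w₀ : Lifts (D.obj k) x₀ := ⟨u ≫ pullback.fst _ _ ≫ W.ι, by simp [x₀]⟩
  let y₀ := u ≫ pullback.snd ((W.ι ≫ (D.obj k).hom) ≫ f k) (f i)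
  have h₀ : x₀ ≫ f k = y₀ ≫ f i := by simp only [x₀, y₀, Category.assoc]; rw [← P_cond D k i W]; simp
  have hu : u ≫ σ D k i W = (D.φ x₀ y₀ h₀ w₀).1 := σ_spec D k i W u _ _ rfl rfl h₀ w₀ rfl
  have hπt : π ≫ t.1 = (D.φ x₀ y₀ h₀ w₀).1 := pullback.condition.trans hu
  have hy₀ : π ≫ x = y₀ := (congrArg (π ≫ ·) t.2).symm.trans ((Category.assoc _ _ _).symm.trans
    ((congrArg (· ≫ (D.obj i).hom) hπt).trans (D.φ x₀ y₀ h₀ w₀).2))
  have hh : y₀ ≫ f i = (π ≫ y) ≫ f j := by rw [← hy₀, Category.assoc, h, Category.assoc]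
  have key : π ≫ (D.φ x y h t).1 = (D.φ x₀ (π ≫ y) (h₀.trans hh) w₀).1 := by
    rw [← D.φ_natural π x y h y₀ (π ≫ y) hy₀ rfl hh t (D.φ x₀ y₀ h₀ w₀) hπt.symm, D.φ_comp]
  let u' : pullback t.1 (σ D k i W) ⟶ P D k j W :=
    pullback.lift (u ≫ pullback.fst _ _) (π ≫ y)
      ((by simp [x₀] : (u ≫ pullback.fst _ _) ≫ (W.ι ≫ (D.obj k).hom) ≫ f k = x₀ ≫ f k).trans (h₀.trans hh))
  have hu' : u' ≫ σ D k j W = π ≫ (D.φ x y h t).1 := by
    rw [key]
    exact σ_spec D k j W u' _ _ (by simp [x₀, u']) (pullback.lift_snd _ _ _) _ w₀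
      (by show u ≫ _ = _; simp [u'])
  refine ⟨u' z', ?_⟩
  rw [← Scheme.Hom.comp_apply, hu', Scheme.Hom.comp_apply, hz']

theorem le_sat : W ≤ sat D k W k := by
  intro v hv
  let u : W.toScheme ⟶ P D k k W := pullback.lift (𝟙 _) (W.ι ≫ (D.obj k).hom) (by simp)
  have huf : u ≫ pullback.fst ((W.ι ≫ (D.obj k).hom) ≫ f k) (f k) = 𝟙 _ := pullback.lift_fst _ _ _
  have h : u ≫ σ D k k W = W.ι := by
    rw [σ_spec D k k W u (W.ι ≫ (D.obj k).hom) (W.ι ≫ (D.obj k).hom)
      ((Category.assoc _ _ _).symm.trans ((congrArg (· ≫ W.ι ≫ (D.obj k).hom) huf).trans (Category.id_comp _)))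
      (pullback.lift_snd _ _ _) rfl ⟨W.ι, rfl⟩
      ((Category.assoc _ _ _).symm.trans ((congrArg (· ≫ W.ι) huf).trans (Category.id_comp _))).symm, D.φ_self]
  refine ⟨u ⟨v, hv⟩, ?_⟩
  rw [← Scheme.Hom.comp_apply, h]
  rfl

end saturation

/-- Effectivity over an affine base for a family of affine schemes, flat and of finite presentation. -/
theorem isEffective_of_affine_family [IsAffine S] [∀ i, IsAffine (X i)] [∀ i, Flat (f i)]
    [∀ i, LocallyOfFinitePresentation (f i)] [∀ i, IsSeparated (D.obj i).hom]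
    [∀ i, LocallyQuasiFinite (D.obj i).hom] [∀ i, LocallyOfFiniteType (D.obj i).hom]
    (hf : Presieve.ofArrows X f ∈ Scheme.fpqcPrecoverage S) : D.IsEffective := by
  refine SubQuotGlue.isEffective hf fun k v => ?_
  obtain ⟨_, ⟨(W : (D.obj k).left.Opens), hW, rfl⟩, hv, -⟩ :=
    (D.obj k).left.isBasis_affineOpens.exists_subset_of_mem_open (Set.mem_univ v) isOpen_univ
  haveI : IsAffine W.toScheme := hW
  have hst : Stable D (sat D k W) := stable_sat D k W
  have hqa : ∀ i, Mor2.IsQuasiAffine ((restr D hst).obj i).hom := fun i => by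
    show Mor2.IsQuasiAffine ((sat D k W i).ι ≫ (D.obj i).hom)
    have hP : CompactSpace ↥(P D k i W) :=
      QuasiCompact.compactSpace_of_compactSpace (pullback.fst ((W.ι ≫ (D.obj k).hom) ≫ f k) (f i))
    have : CompactSpace (sat D k W i).toScheme :=
      isCompact_iff_compactSpace.mp (isCompact_range (σ D k i W).continuous)
    exact FEtDesc.isQuasiAffine_of_lqf _
  have heff := isEffective_of_isQuasiAffine hf (restr D hst) hqa
  haveI : ∀ i, IsOpenImmersion ((restrι D hst).hom i).left := fun i =>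
    inferInstanceAs (IsOpenImmersion (sat D k W i).ι)
  obtain ⟨h1, h2⟩ := SubQuot.exists_of_open_sub (restrι D hst) heff
  exact ⟨⟨_, h1, h2⟩, ⟨⟨v, le_sat D k W hv⟩, rfl⟩⟩

/-- A datum relative to a monomorphism into the base, over the affine scheme itself. -/
def overAffine {A : CommRingCat.{u}} {j : Spec A ⟶ S} [Mono j] {κ : Type u} {B : κ → CommRingCat.{u}}
    {b : ∀ k, A ⟶ B k} (D : SchDDFam (fun k => Spec.map (b k) ≫ j)) : SchDDFam (fun k => Spec.map (b k)) where
  obj := D.obj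
  φ T k l x₀ x₁ h := D.φ x₀ x₁ (by rw [← Category.assoc, h, Category.assoc])
  φ_natural T T' g k l x₀ x₁ h y₀ y₁ hy₀ hy₁ h' v v' hv' := D.φ_natural g x₀ x₁ _ y₀ y₁ hy₀ hy₁ _ v v' hv'
  φ_self T k x v := D.φ_self x v
  φ_comp T k l m x₀ x₁ x₂ h₀₁ h₁₂ v := D.φ_comp x₀ x₁ x₂ _ _ v

theorem hasAffineQuotient_of_isEffective {A : CommRingCat.{u}} (j : Spec A ⟶ S) [Mono j] {κ : Type u}
    {B : κ → CommRingCat.{u}} (b : ∀ k, A ⟶ B k) (D : SchDDFam (fun k => Spec.map (b k) ≫ j))
    (heff : (overAffine D).IsEffective) : HasAffineQuotient j b D := by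
  obtain ⟨V, ⟨e⟩⟩ := heff
  let g : ∀ k, (D.obj k).left ⟶ pullback (Spec.map (b k)) V.hom := fun k => (e.inv.hom k).left
  have hg : ∀ k, g k ≫ (e.hom.hom k).left = 𝟙 _ := fun k =>
    (Over.comp_left _ _ _ (e.inv.hom k) (e.hom.hom k)).symm.trans
      (congrArg (fun c : overAffine D ⟶ overAffine D => (c.hom k).left) e.inv_hom_id)
  have hg' : ∀ k, (e.hom.hom k).left ≫ g k = 𝟙 _ := fun k =>
    (Over.comp_left _ _ _ (e.hom.hom k) (e.inv.hom k)).symm.trans
      (congrArg (fun c : (toDDFam (fun k => Spec.map (b k))).obj V ⟶ (toDDFam (fun k => Spec.map (b k))).obj V =>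
        (c.hom k).left) e.hom_inv_id)
  have hw : ∀ k, g k ≫ pullback.fst (Spec.map (b k)) V.hom = (D.obj k).hom := fun k => Over.w (e.inv.hom k)
  refine ⟨V.left, V.hom, fun k => g k ≫ pullback.snd _ _, fun k => ?_, fun {T k l} x y h t => ?_⟩
  · haveI : IsIso (g k) := ⟨⟨(e.hom.hom k).left, hg k, hg' k⟩⟩
    exact (IsPullback.of_hasPullback (Spec.map (b k)) V.hom).flip.of_iso (asIso (g k)).symm (Iso.refl _)
      (Iso.refl _) (Iso.refl _) (by simp) (by simp [hw]) (by simp) (by simp)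
  · have h' : x ≫ Spec.map (b k) = y ≫ Spec.map (b l) := by
      rw [← cancel_mono j, Category.assoc, Category.assoc]; exact h
    have h2 := e.inv.comm x y h' t (e.inv.push t) rfl
    simp only [toDDFam, canonicalDDFam, Equiv.coe_fn_mk, canMapFam_val, SchDDFam.Hom.push] at h2
    have h3 := congrArg (· ≫ pullback.snd (Spec.map (b l)) V.hom) h2
    simp only [pullback.lift_snd, Category.assoc] at h3
    exact h3.symm

theorem hasAffineQuotient_of_sep_lqf {A : CommRingCat.{u}} (j : Spec A ⟶ S) [Mono j] {κ : Type u} [Finite κ]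
    {B : κ → CommRingCat.{u}} (b : ∀ k, A ⟶ B k) (hb : ∀ k, (b k).hom.Flat)
    (hp : ∀ k, (b k).hom.FinitePresentation)
    (hs : ∀ y, ∃ k z, Spec.map (b k) z = y) (D : SchDDFam (fun k => Spec.map (b k) ≫ j))
    [∀ k, IsSeparated (D.obj k).hom] [∀ k, LocallyQuasiFinite (D.obj k).hom]
    [∀ k, LocallyOfFiniteType (D.obj k).hom] : HasAffineQuotient j b D := by
  haveI : ∀ k, Flat (Spec.map (b k)) := fun k => (HasRingHomProperty.Spec_iff (P := @Flat)).2 (hb k)
  haveI : ∀ k, LocallyOfFinitePresentation (Spec.map (b k)) := fun k =>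
    (HasRingHomProperty.Spec_iff (P := @LocallyOfFinitePresentation)).2 (hp k)
  haveI : ∀ k, IsSeparated ((overAffine D).obj k).hom := fun k => inferInstanceAs (IsSeparated (D.obj k).hom)
  haveI : ∀ k, LocallyQuasiFinite ((overAffine D).obj k).hom := fun k =>
    inferInstanceAs (LocallyQuasiFinite (D.obj k).hom)
  haveI : ∀ k, LocallyOfFiniteType ((overAffine D).obj k).hom := fun k =>
    inferInstanceAs (LocallyOfFiniteType (D.obj k).hom)
  exact hasAffineQuotient_of_isEffective j b D (isEffective_of_affine_family (overAffine D) (Quot.finite_family_mem _ hs))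

/-- Effective fppf descent for separated, locally quasi-finite schemes. -/
theorem isEffective_of_sep_lqf [∀ i, Flat (f i)] [∀ i, LocallyOfFinitePresentation (f i)]
    [∀ i, IsSeparated (D.obj i).hom] [∀ i, LocallyQuasiFinite (D.obj i).hom]
    [∀ i, LocallyOfFiniteType (D.obj i).hom] (hf : Presieve.ofArrows X f ∈ Scheme.fpqcPrecoverage S) :
    D.IsEffective := by
  refine Quot.isEffective_of_affine hf fun W => Classical.choice ?_
  obtain ⟨n, a, V, hV, e, hfl, hsurj⟩ := exists_affine_pieces hf W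
  let B := fun k => Γ(X (a k), V k)
  let b : ∀ k, Γ(S, W.1) ⟶ B k := fun k => (f (a k)).appLE W.1 (V k) (e k)
  let v : ∀ k, Spec (B k) ⟶ X (a k) := fun k => (hV k).fromSpec
  have hv : ∀ k, v k ≫ f (a k) = Spec.map (b k) ≫ W.2.fromSpec := fun k =>
    (IsAffineOpen.SpecMap_appLE_fromSpec _ W.2 (hV k) (e k)).symm
  let D' := PullRefine.PD (α := a) (g := v) (u₀ := fun k => Spec.map (b k) ≫ W.2.fromSpec) hv D
  haveI : ∀ k, IsSeparated (D'.obj k).hom := fun k =>
    MorphismProperty.pullback_snd (P := @IsSeparated) (D.obj (a k)).hom (v k) inferInstance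
  haveI : ∀ k, LocallyQuasiFinite (D'.obj k).hom := fun k =>
    MorphismProperty.pullback_snd (P := @LocallyQuasiFinite) (D.obj (a k)).hom (v k) inferInstance
  haveI : ∀ k, LocallyOfFiniteType (D'.obj k).hom := fun k =>
    MorphismProperty.pullback_snd (P := @LocallyOfFiniteType) (D.obj (a k)).hom (v k) inferInstance
  have hs : ∀ y, ∃ k z, Spec.map (b k) z = y := fun y => by
    obtain ⟨k, z, hz⟩ := hsurj (W.2.isoSpec.inv y)
    exact ⟨k, z, W.2.isoSpec.inv.isOpenEmbedding.injective (by rw [← hz, Scheme.Hom.comp_apply])⟩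
  obtain ⟨U, π, q, hq, hinv⟩ := hasAffineQuotient_of_sep_lqf W.2.fromSpec b hfl
    (fun k => HasRingHomProperty.appLE @LocallyOfFinitePresentation (f (a k)) inferInstance W ⟨_, hV k⟩ (e k)) hs D'
  haveI : IsAffine W.1.toScheme := W.2
  let w : ∀ k, Spec (B k) ⟶ W.1.toScheme := fun k => Spec.map (b k) ≫ W.2.isoSpec.inv
  have hw : ∀ k, w k ≫ W.1.ι = v k ≫ f (a k) := fun k => by
    rw [hv, Category.assoc, IsAffineOpen.isoSpec_inv_ι]
  haveI : ∀ k, Flat (w k) := fun k => by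
    haveI : Flat (Spec.map (b k)) := (HasRingHomProperty.Spec_iff (P := @Flat)).2 (hfl k)
    infer_instance
  have hmem := Quot.finite_family_mem w fun y => hsurj y
  have hmemW : ∀ t, (π ≫ W.2.fromSpec) t ∈ W.1 := fun t => by
    have h : (π ≫ W.2.fromSpec) t ∈ Set.range W.2.fromSpec := ⟨π t, (Scheme.Hom.comp_apply _ _ _).symm⟩
    rw [W.2.range_fromSpec] at h
    exact h
  refine Quot.nonempty_of_pieces a v (fun s hs => Quot.cover_of_open w hw hmem s hs) (π ≫ W.2.fromSpec) hmemW q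
    (fun k => ?_) (fun x y h t => ?_)
  · rw [hv]
    exact ⟨⟨by rw [← Category.assoc, (hq k).w, Category.assoc]; rfl⟩,
      ⟨PullbackCone.IsLimit.mk _ (fun s => (hq k).lift s.fst s.snd
          (by rw [← cancel_mono W.2.fromSpec, Category.assoc, Category.assoc]; exact s.condition))
        (fun s => (hq k).lift_fst _ _ _) (fun s => (hq k).lift_snd _ _ _)
        (fun s m h1 h2 => (hq k).hom_ext (h1.trans ((hq k).lift_fst _ _ _).symm) (h2.trans ((hq k).lift_snd _ _ _).symm))⟩⟩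
  · exact hinv x y (by rw [← hv, ← hv]; exact h) t

/-- Effective fppf descent along one morphism. -/
theorem schDD_effective {X S : Scheme.{u}} (p : X ⟶ S) [Flat p] [Surjective p] [LocallyOfFinitePresentation p]
    (D : Desc.SchDD p) [IsSeparated D.obj.hom] [LocallyQuasiFinite D.obj.hom] [LocallyOfFiniteType D.obj.hom] :
    ∃ U : Over S, Nonempty ((Desc.toDD p).obj U ≅ D) := by
  have hf : Presieve.ofArrows (fun _ : PUnit.{u + 1} => X) (fun _ => p) ∈ Scheme.fpqcPrecoverage S := by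
    rw [Presieve.ofArrows_pUnit]
    exact Scheme.fppfPrecoverage_le_fpqcPrecoverage _ p.singleton_mem_fppfPrecoverage
  let E : SchDDFam (fun _ : PUnit.{u + 1} => p) := (SchDDFam.ofSchDD p).obj D
  haveI : ∀ i, IsSeparated (E.obj i).hom := fun _ => inferInstanceAs (IsSeparated D.obj.hom)
  haveI : ∀ i, LocallyQuasiFinite (E.obj i).hom := fun _ => inferInstanceAs (LocallyQuasiFinite D.obj.hom)
  haveI : ∀ i, LocallyOfFiniteType (E.obj i).hom := fun _ => inferInstanceAs (LocallyOfFiniteType D.obj.hom)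
  obtain ⟨U, ⟨e⟩⟩ := isEffective_of_sep_lqf E hf
  exact ⟨U, ⟨(SchDDFam.toSchDD p).mapIso e⟩⟩

end Groth.Agent.Desc19b.EffSepLqf
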