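import Groth.Agent.FEtDesc.EtaleHom
import Groth.Prelude.Def_Desc

/-! # Morphisms submersive over etale schemes are descent morphisms for etale schemes -/

set_option autoImplicit false
set_option backward.isDefEq.respectTransparency false
set_option backward.isDefEq.respectTransparency.types false

universe u

open CategoryTheory CategoryTheory.Limits AlgebraicGeometry
open Groth.Agent.FEtDesc

namespace Groth.Agent.Desc19b.EtaleFull

variable {S S' X Y : Scheme.{u}}

theorem isQuotientMap_fst (g : S' ⟶ S)
    (hg : ∀ U : Over S, Etale U.hom → Topology.IsQuotientMap (pullback.snd g U.hom).base)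
    (U : Over S) (hU : Etale U.hom) {P : Scheme.{u}} {a : P ⟶ U.left} {b : P ⟶ S'}
    (sq : IsPullback a b U.hom g) : Topology.IsQuotientMap a.base := by
  have h : a = sq.flip.isoPullback.hom ≫ pullback.snd g U.hom := (sq.flip.isoPullback_hom_snd).symm
  rw [h]
  exact (hg U hU).comp sq.flip.isoPullback.hom.homeomorph.isQuotientMap

/-- A morphism whose base changes to étale schemes are quotient maps is a descent morphism for étale schemes. -/
theorem existsUnique_hom_descend' (g : S' ⟶ S)
    (hg : ∀ U : Over S, Etale U.hom → Topology.IsQuotientMap (pullback.snd g U.hom).base)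
    (p : X ⟶ S) (q : Y ⟶ S) [Etale p] [Etale q] (f' : pullback p g ⟶ pullback q g) (hf' : f' ≫ pullback.snd q g = pullback.snd p g)
    (hcoc : ∀ {T : Scheme.{u}} (a b : T ⟶ pullback p g), a ≫ pullback.fst p g = b ≫ pullback.fst p g →
      a ≫ f' ≫ pullback.fst q g = b ≫ f' ≫ pullback.fst q g) :
    ∃! u : X ⟶ Y, u ≫ q = p ∧ f' ≫ pullback.fst q g = pullback.fst p g ≫ u := by
  let pg := pullback.fst p g
  have hpg : Topology.IsQuotientMap pg.base :=
    isQuotientMap_fst g hg (Over.mk p) ‹Etale p› (IsPullback.of_hasPullback p g)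
  haveI : Surjective pg := ⟨hpg.surjective⟩
  let z₁ := pullback.fst p q
  let z₂ := pullback.snd p q
  let v' : pullback p g ⟶ Y := f' ≫ pullback.fst q g
  have hv' : pg ≫ p = v' ≫ q := by
    rw [pullback.condition (f := p), ← hf', Category.assoc, Category.assoc, pullback.condition]
  let u'' : pullback p g ⟶ pullback p q := pullback.lift pg v' hv'
  have hu1 : u'' ≫ z₁ = pg := pullback.lift_fst _ _ _
  let π := pullback.fst z₁ pg
  let σ : pullback p g ⟶ pullback z₁ pg := pullback.lift u'' (𝟙 _) (by rw [hu1, Category.id_comp])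
  have hπ : Topology.IsQuotientMap π.base :=
    isQuotientMap_fst g hg (Over.mk (z₁ ≫ p)) (inferInstanceAs (Etale (pullback.fst p q ≫ p)))
      ((IsPullback.of_hasPullback z₁ pg).paste_vert (IsPullback.of_hasPullback p g).flip.flip)
  haveI : IsOpenImmersion σ := by
    haveI : Etale (σ ≫ pullback.snd z₁ pg) := by rw [pullback.lift_snd]; infer_instance
    haveI : Etale σ := Etale.of_comp σ (pullback.snd z₁ pg)
    haveI : Mono σ := by
      haveI : Mono (σ ≫ pullback.snd z₁ pg) := by rw [pullback.lift_snd]; infer_instance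
      exact mono_of_mono σ (pullback.snd z₁ pg)
    exact Groth.Agent.FEtLib.isOpenImmersion_of_etale_universallyInjective σ
  have hpre : π ⁻¹' Set.range u'' = Set.range σ := by
    ext z
    constructor
    · rintro ⟨x, hx⟩
      obtain ⟨w, hw, -⟩ := Scheme.Pullback.exists_preimage_pullback (f := π) (g := u'') z x hx.symm
      let a := pullback.fst π u''
      let b := pullback.snd π u''
      let x' := a ≫ pullback.snd z₁ pg
      have h1 : x' ≫ pg = b ≫ pg := by
        calc x' ≫ pg = (a ≫ π) ≫ z₁ := by simp only [x', π, Category.assoc, pullback.condition]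
          _ = (b ≫ u'') ≫ z₁ := by rw [pullback.condition]
          _ = b ≫ pg := by rw [Category.assoc, hu1]
      have h2 : x' ≫ u'' = a ≫ π := by
        rw [pullback.condition (f := π) (g := u'')]
        apply pullback.hom_ext
        · show (x' ≫ u'') ≫ z₁ = (b ≫ u'') ≫ z₁
          rw [Category.assoc x', Category.assoc b, hu1]; exact h1
        · simp only [u'', Category.assoc, pullback.lift_snd]; exact hcoc x' b h1
      have h3 : x' ≫ σ = a := by
        apply pullback.hom_ext
        · rw [Category.assoc, pullback.lift_fst]; exact h2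
        · rw [Category.assoc, pullback.lift_snd, Category.comp_id]
      exact ⟨x' w, by rw [← Scheme.Hom.comp_apply, h3]; exact hw⟩
    · rintro ⟨x, rfl⟩
      exact ⟨x, by rw [← Scheme.Hom.comp_apply, pullback.lift_fst]⟩
  have hopen : IsOpen (Set.range u'') := by
    rw [← hπ.isOpen_preimage, hpre]
    exact σ.isOpenEmbedding.isOpen_range
  let R : (pullback p q).Opens := ⟨Set.range u'', hopen⟩
  let r : R.toScheme ⟶ X := R.ι ≫ z₁
  haveI : IsIso (pullback.snd r pg) := by
    let l : pullback r pg ⟶ pullback z₁ pg :=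
      pullback.lift (pullback.fst r pg ≫ R.ι) (pullback.snd r pg) (by rw [Category.assoc]; exact pullback.condition)
    let lR : pullback p g ⟶ R.toScheme := IsOpenImmersion.lift R.ι u'' (by rw [Scheme.Opens.range_ι]; rfl)
    have hlR : lR ≫ R.ι = u'' := IsOpenImmersion.lift_fac _ _ _
    let m : pullback p g ⟶ pullback r pg :=
      pullback.lift lR (𝟙 _) (by rw [Category.id_comp, reassoc_of% hlR, hu1])
    let l' : pullback r pg ⟶ pullback p g := IsOpenImmersion.lift σ l (by
      rintro _ ⟨t, rfl⟩
      rw [← hpre]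
      show π (l t) ∈ Set.range u''
      rw [← Scheme.Hom.comp_apply, pullback.lift_fst, Scheme.Hom.comp_apply]
      exact (pullback.fst r pg t).2)
    have hl' : l' ≫ σ = l := IsOpenImmersion.lift_fac _ _ _
    have hl'' : l' = pullback.snd r pg := by
      have := congrArg (· ≫ pullback.snd z₁ pg) hl'
      simpa [σ, l] using this
    refine ⟨m, ?_, pullback.lift_snd _ _ _⟩
    apply pullback.hom_ext
    · rw [Category.assoc, pullback.lift_fst, Category.id_comp, ← cancel_mono R.ι, Category.assoc, hlR]
      have := congrArg (· ≫ π) hl'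
      simpa [σ, l, π, hl''] using this
    · rw [Category.assoc, pullback.lift_snd, Category.id_comp, Category.comp_id]
  haveI : IsIso r := isIso_of_etale_of_pullback r pg
  refine ⟨inv r ≫ R.ι ≫ z₂, ⟨?_, ?_⟩, ?_⟩
  · rw [Category.assoc, Category.assoc, ← pullback.condition]
    exact (congrArg (inv r ≫ ·) (Category.assoc R.ι z₁ p).symm).trans (IsIso.inv_hom_id_assoc r p)
  · let lR : pullback p g ⟶ R.toScheme := IsOpenImmersion.lift R.ι u'' (by rw [Scheme.Opens.range_ι]; rfl)
    have hlR : lR ≫ R.ι = u'' := IsOpenImmersion.lift_fac _ _ _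
    have h : lR = pg ≫ inv r := by rw [IsIso.eq_comp_inv, reassoc_of% hlR, hu1]
    show v' = pg ≫ inv r ≫ R.ι ≫ z₂
    rw [← reassoc_of% h, reassoc_of% hlR, pullback.lift_snd]
  · rintro v ⟨hv1, hv2⟩
    let h : X ⟶ pullback p q := pullback.lift (𝟙 _) v (by rw [Category.id_comp, hv1])
    have hh : pg ≫ h = u'' := by
      apply pullback.hom_ext
      · simp [h, u'']
      · simp only [h, u'', Category.assoc, pullback.lift_snd]; exact hv2.symm
    let hR : X ⟶ R.toScheme := IsOpenImmersion.lift R.ι h (by
      rw [Scheme.Opens.range_ι]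
      rintro _ ⟨x, rfl⟩
      obtain ⟨x', rfl⟩ := pg.surjective x
      exact ⟨x', by rw [← hh, Scheme.Hom.comp_apply]⟩)
    have hhR : hR ≫ R.ι = h := IsOpenImmersion.lift_fac _ _ _
    have : hR = inv r := IsIso.eq_inv_of_inv_hom_id (by rw [reassoc_of% hhR, pullback.lift_fst])
    rw [← this, reassoc_of% hhR, pullback.lift_snd]

/-- Fullness of the descent functor on etale schemes. -/
theorem toDD_map_surjective (p : X ⟶ S)
    (hp : ∀ U : Over S, Etale U.hom → Topology.IsQuotientMap (pullback.snd p U.hom).base) (U₁ U₂ : Over S)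
    [Etale U₁.hom] [Etale U₂.hom] : Function.Surjective ((Desc.toDD p).map : (U₁ ⟶ U₂) → _) := by
  intro β
  let s₁ := pullbackSymmetry U₁.hom p
  let s₂ := pullbackSymmetry p U₂.hom
  let f' : pullback U₁.hom p ⟶ pullback U₂.hom p := s₁.hom ≫ β.hom.left ≫ s₂.hom
  have hw : β.hom.left ≫ pullback.fst p U₂.hom = pullback.fst p U₁.hom := Over.w β.hom
  have hf' : f' ≫ pullback.snd U₂.hom p = pullback.snd U₁.hom p := by
    simp only [f', s₁, s₂, Category.assoc, pullbackSymmetry_hom_comp_snd]
    rw [hw, pullbackSymmetry_hom_comp_fst]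
  obtain ⟨u, ⟨hu1, hu2⟩, -⟩ := existsUnique_hom_descend' p hp U₁.hom U₂.hom f' hf' fun {T} a b hab => by
    let x₀ := a ≫ pullback.snd U₁.hom p
    let x₁ := b ≫ pullback.snd U₁.hom p
    have h : x₀ ≫ p = x₁ ≫ p := by
      simp only [x₀, x₁, Category.assoc, ← pullback.condition]
      rw [reassoc_of% hab]
    let v : Desc.Lifts ((Desc.toDD p).obj U₁).obj x₀ := ⟨a ≫ s₁.hom, by
      show (a ≫ s₁.hom) ≫ pullback.fst p U₁.hom = x₀
      simp [x₀, s₁]⟩
    have key := β.comm x₀ x₁ h v (β.push v) rfl
    simp only [Desc.toDD, Desc.canonicalDD, Equiv.coe_fn_mk, Desc.canMap_val, Desc.SchDD.Hom.push] at key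
    have key2 := congrArg (· ≫ pullback.snd p U₂.hom) key
    simp only [pullback.lift_snd, v] at key2
    have hb : pullback.lift x₁ ((a ≫ s₁.hom) ≫ pullback.snd p U₁.hom)
        (by simp only [x₁, s₁, Category.assoc, pullbackSymmetry_hom_comp_snd, ← pullback.condition]; rw [← reassoc_of% hab]) =
        b ≫ s₁.hom := by
      apply pullback.hom_ext
      · simp [x₁, s₁]
      · simp [s₁, hab]
    rw [hb] at key2
    simp only [f', s₂, Category.assoc, pullbackSymmetry_hom_comp_fst] at key2 ⊢
    exact key2
  refine ⟨Over.homMk u hu1, ?_⟩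
  refine Desc.SchDD.hom_ext (Over.OverMorphism.ext ?_)
  simp only [Desc.toDD, Over.homMk_left]
  apply pullback.hom_ext
  · rw [pullback.lift_fst, Category.comp_id, hw]
  · rw [pullback.lift_snd]
    have h2 := congrArg (s₁.inv ≫ ·) hu2
    simp only [f', s₁, s₂, Category.assoc, pullbackSymmetry_hom_comp_fst, Iso.inv_hom_id_assoc, pullbackSymmetry_inv_comp_fst_assoc] at h2
    exact h2.symm

end Groth.Agent.Desc19b.EtaleFull
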