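import Groth.Agent.Desc19b.FamilyDescent
import Groth.Agent.EGA43.QcohFP
import Groth.Agent.Coherent.FinitePres
import Groth.Agent.AmpleLib.Local

/-! Finite presentation of quasi-coherent modules descends along fpqc morphisms. -/

set_option autoImplicit false
set_option backward.isDefEq.respectTransparency false

universe u

open CategoryTheory CategoryTheory.Limits AlgebraicGeometry

namespace Groth.Agent.Desc19b

theorem isFP_of_fpqc {X X' : Scheme.{u}} (f : X' ⟶ X) [Flat f] [Surjective f] [QuasiCompact f]
    (M : X.Modules) [Coh.IsQCoh M] (h : CohB1.IsFP ((Scheme.Modules.pullback f).obj M)) : CohB1.IsFP M := by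
  haveI : Coh.IsQCoh ((Scheme.Modules.pullback f).obj M) := EGA43.InjFibre.isQCoh_pullback f M
  have hsec : ∀ U : X.affineOpens, Module.FinitePresentation Γ(X, U) Γ(M, U) := by
    rintro ⟨U, hU⟩
    obtain ⟨n, V, hV, e, hcov⟩ := exists_affine_family f hU
    letI : ∀ k, Algebra Γ(X, U) Γ(X', V k) := fun k => (f.appLE U (V k) (e k)).hom.toAlgebra
    haveI : ∀ k, Module.Flat Γ(X, U) Γ(X', V k) := fun k =>
      HasRingHomProperty.appLE @Flat f inferInstance ⟨U, hU⟩ ⟨V k, hV k⟩ (e k)
    refine finitePresentation_of_family (fun k => Γ(X', V k)) hcov _ fun k => ?_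
    haveI := EGA43.QcohFP.finitePresentation_sections _ h (hV k)
    obtain ⟨E⟩ := Flatn12.nonempty_pullback_sections_equiv f M hU (hV k) (e k)
    exact Module.FinitePresentation.of_equiv E.symm
  have key : ∀ U : X.affineOpens,
      ∃ p : SheafOfModules.Presentation.{u} (R := U.1.toScheme.ringCatSheaf)
        (M.restrict U.1.ι), p.IsFinite := by
    rintro ⟨U, hU⟩
    have : IsAffine U.toScheme := hU
    let e : U.ι ⁻¹ᵁ U = ⊤ := U.ι_preimage_self
    letI := (U.ι.appLE U ⊤ e.ge).hom.toAlgebra
    haveI := hsec ⟨U, hU⟩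
    obtain ⟨E⟩ := Flatn12.nonempty_pullback_sections_equiv U.ι M hU (isAffineOpen_top U.toScheme) e.ge
    haveI := Module.FinitePresentation.of_equiv E
    have : Coh.IsQCoh (M.restrict U.ι) := inferInstance
    let i := AmpleLib.restrictIsoPullback U.ι M
    refine Coherent.exists_finite_presentation _ ?_
    exact Module.FinitePresentation.of_equiv
      ({ toFun := i.inv.app ⊤, invFun := i.hom.app ⊤,
         map_add' := map_add _, map_smul' := fun r x => Scheme.Modules.Hom.app_smul i.inv r x,
         left_inv := fun x => congr(($(i.inv_hom_id)).app ⊤ x),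
         right_inv := fun x => congr(($(i.hom_inv_id)).app ⊤ x) } :
        Γ((Scheme.Modules.pullback U.ι).obj M, ⊤) ≃ₗ[Γ(U.toScheme, ⊤)] Γ(M.restrict U.ι, ⊤))
  choose p hp using key
  refine Coherent.isFP_of_finite_presentations M (fun U : X.affineOpens => U.1) ?_ p hp
  rw [TopologicalSpace.IsOpenCover]
  exact iSup_affineOpens_eq_top X

end Groth.Agent.Desc19b
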