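import Groth.Agent.OmegaLib.StalkCompat
import Groth.Agent.Coherent.FiniteType
import Mathlib.RingTheory.Flat.FaithfullyFlat.Basic
import Mathlib.AlgebraicGeometry.Morphisms.Flat

/-!
# Finite type descends along flat surjective open morphisms, for arbitrary modules
-/

set_option autoImplicit false
set_option backward.isDefEq.respectTransparency false
set_option backward.isDefEq.respectTransparency.types false

universe u

open CategoryTheory CategoryTheory.Limits AlgebraicGeometry TopologicalSpace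
open scoped TensorProduct
open Groth.Agent.OmegaLib

noncomputable section

namespace Groth.Agent.Desc19b.FTFlatOpen

variable {X Y : Scheme.{u}}

theorem span_gm_eq_top {M : X.Modules} {U : X.Opens} {I : Type u} [Fintype I] {s : I → Γ(M, U)}
    (h : Coherent.GenOn M U s) {x : X} (hx : x ∈ U) :
    Submodule.span (X.presheaf.stalk x) (Set.range fun i => gm M U x hx (s i)) = ⊤ := by
  refine eq_top_iff.2 fun z _ => ?_
  obtain ⟨V, hV, a, rfl⟩ := exists_gm M z
  obtain ⟨W', hW', hxW', c, hc⟩ :=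
    h (V ⊓ U) inf_le_right (Coherent.resM M inf_le_left a) x ⟨hV, hx⟩
  rw [← gm_res M hV inf_le_left (show x ∈ V ⊓ U from ⟨hV, hx⟩) a,
    ← gm_res M (show x ∈ V ⊓ U from ⟨hV, hx⟩) hW' hxW']
  show gm M W' x hxW' (Coherent.resM M hW' (Coherent.resM M inf_le_left a)) ∈ _
  rw [hc]
  have : gm M W' x hxW' (∑ i, c i • Coherent.resM M (hW'.trans inf_le_right) (s i)) =
      ∑ i, X.presheaf.germ W' x hxW' (c i) • gm M U x hx (s i) :=
    (map_sum (M.presheaf.germ W' x hxW').hom _ _).trans (Finset.sum_congr rfl fun i _ =>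
      (gm_smul M hxW' _ _).trans (congrArg (_ • ·) (gm_res M hx (hW'.trans inf_le_right) hxW' (s i))))
  rw [this]
  exact Submodule.sum_mem _ fun i _ => Submodule.smul_mem _ _ (Submodule.subset_span ⟨i, rfl⟩)

theorem genOn_of_span {M : X.Modules} {U : X.Opens} {I : Type u} [Fintype I] (s : I → Γ(M, U))
    (h : ∀ (x : X) (hx : x ∈ U),
      Submodule.span (X.presheaf.stalk x) (Set.range fun i => gm M U x hx (s i)) = ⊤) :
    Coherent.GenOn M U s := by
  classical
  intro W hW a y hy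
  obtain ⟨c, hc⟩ := (Submodule.mem_span_range_iff_exists_fun _).1
    ((h y (hW hy)).ge (Submodule.mem_top (x := gm M W y hy a)))
  choose O hO r hr using fun i => X.presheaf.exists_germ_eq (x := y) (c i)
  let W1 : X.Opens := W ⊓ ⟨⋂ i, (O i : Set X), isOpen_iInter_of_finite fun i => (O i).2⟩
  have hy1 : y ∈ W1 := ⟨hy, Set.mem_iInter.2 hO⟩
  have hW1 : ∀ i, W1 ≤ O i := fun i z hz => Set.mem_iInter.1 hz.2 i
  let r' : I → Γ(X, W1) := fun i => X.presheaf.map (homOfLE (hW1 i)).op (r i)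
  let a1 := Coherent.resM M (inf_le_left : W1 ≤ W) a
  let b1 := ∑ i, r' i • Coherent.resM M ((inf_le_left : W1 ≤ W).trans hW) (s i)
  have e : gm M W1 y hy1 a1 = gm M W1 y hy1 b1 := by
    rw [show gm M W1 y hy1 a1 = gm M W y hy a from gm_res M hy inf_le_left hy1 a, ← hc]
    refine ((map_sum (M.presheaf.germ W1 y hy1).hom _ _).trans (Finset.sum_congr rfl fun i _ => ?_)).symm
    refine (gm_smul M hy1 _ _).trans ?_
    rw [show X.presheaf.germ W1 y hy1 (r' i) = c i from (X.presheaf.germ_res_apply _ y hy1 _).trans (hr i),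
      show gm M W1 y hy1 (Coherent.resM M ((inf_le_left : W1 ≤ W).trans hW) (s i)) = gm M U y (hW hy) (s i) from
        gm_res M (hW hy) _ hy1 (s i)]
  obtain ⟨W', hyW', i₁, i₂, he⟩ := TopCat.Presheaf.germ_eq M.presheaf (U := W1) (V := W1) y hy1 hy1 a1 b1 e
  refine ⟨W', (leOfHom i₁).trans inf_le_left, hyW', fun i => X.presheaf.map i₁.op (r' i), ?_⟩
  rw [← Coherent.resM_resM M (inf_le_left : W1 ≤ W) (leOfHom i₁) a]
  refine Eq.trans (show Coherent.resM M (leOfHom i₁) a1 = Coherent.resM M (leOfHom i₁) b1 from he) ?_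
  rw [map_sum]
  exact Finset.sum_congr rfl fun i _ => by rw [Coherent.resM_smul, Coherent.resM_resM]; rfl

theorem isFT_of_pullback (f : X ⟶ Y) [Flat f] [Surjective f] (hf : IsOpenMap f.base) (F : Y.Modules)
    (h : CohB1.IsFT ((Scheme.Modules.pullback f).obj F)) : CohB1.IsFT F := by
  classical
  refine Coherent.isFT_of_locallyFinGen fun y => ?_
  obtain ⟨x, rfl⟩ := f.surjective y
  let G := (Scheme.Modules.pullback f).obj F
  obtain ⟨U, I, _, t, hxU, ht⟩ := Coherent.locallyFinGen_of_isFT G h x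
  have hspan : ∀ z : (DerSch.stalkFunctor X x).obj G,
      ∃ (n : ℕ) (V : Fin n → Y.Opens) (hV : ∀ j, f x ∈ V j) (s : ∀ j, Γ(F, V j)) (b : Fin n → X.presheaf.stalk x),
        z = ∑ j, b j • gm G (f ⁻¹ᵁ V j) x (hV j) (OmegaSh.pullSect f F (V j) (s j)) := by
    intro z
    letI := (f.stalkMap x).hom.toAlgebra
    obtain ⟨E, hE⟩ := exists_pullback_stalk_equiv f F x
    obtain ⟨S, hS⟩ := TensorProduct.exists_finset (E.symm z)
    choose V hV s hs using fun p : {p // p ∈ S} => exists_gm F p.1.2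
    let e := S.equivFin.symm
    refine ⟨S.card, fun j => V (e j), fun j => hV (e j), fun j => s (e j), fun j => (e j).1.1, ?_⟩
    rw [e.sum_comp (fun p => p.1.1 • gm G (f ⁻¹ᵁ V p) x (hV p) (OmegaSh.pullSect f F (V p) (s p)))]
    apply E.symm.injective
    rw [hS, map_sum, ← Finset.sum_coe_sort S]
    refine Finset.sum_congr rfl fun p _ => ?_
    rw [map_smul, ← hE (V p) (hV p) (s p), E.symm_apply_apply, TensorProduct.smul_tmul', smul_eq_mul, mul_one, hs]
  choose n V hV s b hb using fun k : I => hspan (gm G U x hxU (t k))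
  let κ := Σ k : I, Fin (n k)
  let V₀ : Y.Opens := ⟨⋂ p : κ, (V p.1 p.2 : Set Y), isOpen_iInter_of_finite fun p => (V p.1 p.2).2⟩
  have hV₀ : ∀ p : κ, V₀ ≤ V p.1 p.2 := fun p z hz => Set.mem_iInter.1 hz p
  choose O hO r hr using fun p : κ => X.presheaf.exists_germ_eq (x := x) (b p.1 p.2)
  let U₁ : X.Opens := U ⊓ (f ⁻¹ᵁ V₀) ⊓ ⟨⋂ p : κ, (O p : Set X), isOpen_iInter_of_finite fun p => (O p).2⟩
  have hx₁ : x ∈ U₁ := ⟨⟨hxU, Set.mem_iInter.2 fun p => hV p.1 p.2⟩, Set.mem_iInter.2 hO⟩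
  have h1U : U₁ ≤ U := fun z hz => hz.1.1
  have h1V : ∀ p : κ, U₁ ≤ f ⁻¹ᵁ V p.1 p.2 := fun p z hz => hV₀ p hz.1.2
  have h1O : ∀ p : κ, U₁ ≤ O p := fun p z hz => Set.mem_iInter.1 hz.2 p
  let T : κ → Γ(G, U₁) := fun p => Coherent.resM G (h1V p) (OmegaSh.pullSect f F (V p.1 p.2) (s p.1 p.2))
  let rhs : I → Γ(G, U₁) := fun k => ∑ j, X.presheaf.map (homOfLE (h1O ⟨k, j⟩)).op (r ⟨k, j⟩) • T ⟨k, j⟩
  have heq : ∀ k, gm G U₁ x hx₁ (Coherent.resM G h1U (t k)) = gm G U₁ x hx₁ (rhs k) := fun k => by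
    rw [show gm G U₁ x hx₁ (Coherent.resM G h1U (t k)) = gm G U x hxU (t k) from gm_res G hxU h1U hx₁ _, hb k]
    refine ((map_sum (G.presheaf.germ U₁ x hx₁).hom _ _).trans (Finset.sum_congr rfl fun j _ => ?_)).symm
    refine (gm_smul G hx₁ _ _).trans ?_
    rw [X.presheaf.germ_res_apply, hr, show gm G U₁ x hx₁ (T ⟨k, j⟩) = _ from gm_res G (hV k j) (h1V ⟨k, j⟩) hx₁ _]
  choose W hxW i₁ i₂ hW using fun k =>
    TopCat.Presheaf.germ_eq G.presheaf (U := U₁) (V := U₁) x hx₁ hx₁ _ _ (heq k)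
  let U₂ : X.Opens := U₁ ⊓ ⟨⋂ k : I, (W k : Set X), isOpen_iInter_of_finite fun k => (W k).2⟩
  have hx₂ : x ∈ U₂ := ⟨hx₁, Set.mem_iInter.2 hxW⟩
  let V' : Y.Opens := ⟨f '' (U₂ : Set X), hf _ U₂.2⟩
  have hV'V : ∀ p : κ, V' ≤ V p.1 p.2 := fun p => by
    rintro _ ⟨z, hz, rfl⟩
    exact h1V p hz.1
  refine ⟨V', κ, inferInstance, fun p => Coherent.resM F (hV'V p) (s p.1 p.2), ⟨x, hx₂, rfl⟩, genOn_of_span _ ?_⟩
  rintro _ ⟨x', hx', rfl⟩
  have hx'1 : x' ∈ U₁ := hx'.1
  letI := (f.stalkMap x').hom.toAlgebra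
  haveI : IsLocalHom (algebraMap (Y.presheaf.stalk (f x')) (X.presheaf.stalk x')) :=
    inferInstanceAs (IsLocalHom (f.stalkMap x').hom)
  haveI : Module.Flat (Y.presheaf.stalk (f x')) (X.presheaf.stalk x') := Flat.stalkMap f x'
  haveI : Module.FaithfullyFlat (Y.presheaf.stalk (f x')) (X.presheaf.stalk x') :=
    Module.FaithfullyFlat.of_flat_of_isLocalHom
  obtain ⟨E, hE⟩ := exists_pullback_stalk_equiv f F x'
  have h1 : Submodule.span (X.presheaf.stalk x') (Set.range fun p => gm G U₁ x' hx'1 (T p)) = ⊤ := by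
    rw [eq_top_iff, ← span_gm_eq_top ht (h1U hx'1)]
    refine Submodule.span_le.2 ?_
    rintro _ ⟨k, rfl⟩
    have hk : x' ∈ W k := Set.mem_iInter.1 hx'.2 k
    have e1 := congrArg (gm G (W k) x' hk) (hW k)
    have e2 : gm G U x' (h1U hx'1) (t k) = gm G U₁ x' hx'1 (rhs k) :=
      ((gm_res G (h1U hx'1) h1U hx'1 (t k)).symm.trans (gm_res G hx'1 (leOfHom (i₁ k)) hk _).symm).trans
        (e1.trans (gm_res G hx'1 (leOfHom (i₂ k)) hk _))
    show gm G U x' (h1U hx'1) (t k) ∈ _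
    rw [e2, show gm G U₁ x' hx'1 (rhs k) = _ from map_sum (G.presheaf.germ U₁ x' hx'1).hom _ _]
    refine Submodule.sum_mem _ fun j _ => ?_
    show gm G U₁ x' hx'1 (_ • T ⟨k, j⟩) ∈ _
    rw [gm_smul]
    exact Submodule.smul_mem _ _ (Submodule.subset_span ⟨⟨k, j⟩, rfl⟩)
  let N := Submodule.span (Y.presheaf.stalk (f x'))
    (Set.range fun p : κ => gm F V' (f x') ⟨x', hx', rfl⟩ (Coherent.resM F (hV'V p) (s p.1 p.2)))
  let π := N.mkQ.baseChange (X.presheaf.stalk x')
  have hzero : ∀ z, π (E.symm z) = 0 := by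
    intro z
    have hz := h1.ge (Submodule.mem_top (x := z))
    induction hz using Submodule.span_induction with
    | mem z hz =>
      obtain ⟨p, rfl⟩ := hz
      show π (E.symm (gm G U₁ x' hx'1 (T p))) = 0
      rw [show gm G U₁ x' hx'1 (T p) = _ from gm_res G (h1V p hx'1) (h1V p) hx'1 _,
        ← hE (V p.1 p.2) (h1V p hx'1) (s p.1 p.2), E.symm_apply_apply, LinearMap.baseChange_tmul,
        show N.mkQ (gm F (V p.1 p.2) (f x') (h1V p hx'1) (s p.1 p.2)) = 0 from
          (Submodule.Quotient.mk_eq_zero N).2 (Submodule.subset_span ⟨p, gm_res F _ (hV'V p) _ _⟩),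
        TensorProduct.tmul_zero]
    | zero => simp only [map_zero]
    | add a c _ _ ha hc => simp only [map_add, ha, hc, add_zero]
    | smul a c _ hc => simp only [map_smul, hc, smul_zero]
  have hs : Subsingleton (X.presheaf.stalk x' ⊗[Y.presheaf.stalk (f x')]
      ((DerSch.stalkFunctor Y (f x')).obj F ⧸ N)) := by
    refine subsingleton_of_forall_eq 0 fun q => ?_
    obtain ⟨w, rfl⟩ := LinearMap.lTensor_surjective (X.presheaf.stalk x') (Submodule.mkQ_surjective N) q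
    have := hzero (E w)
    rwa [E.symm_apply_apply] at this
  haveI := Module.FaithfullyFlat.lTensor_reflects_triviality (Y.presheaf.stalk (f x')) (X.presheaf.stalk x')
    ((DerSch.stalkFunctor Y (f x')).obj F ⧸ N)
  exact Submodule.Quotient.subsingleton_iff.1 this

end Groth.Agent.Desc19b.FTFlatOpen
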