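import Groth.Prelude.Def_W4stkcategoriessitesFib
import Mathlib.CategoryTheory.FiberedCategory.Fibered
import Mathlib.CategoryTheory.Adjunction.Basic

/-!
# Factorisation of a 1-morphism of fibred categories as a fully faithful right adjoint followed by a fibration
-/

set_option autoImplicit false
set_option backward.isDefEq.respectTransparency false
set_option backward.isDefEq.respectTransparency.types false

universe v u

open CategoryTheory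

namespace Groth.Agent.Desc19b.FibFactor

theorem sc_map {B E : Type*} [Category B] [Category E] {p : E ⥤ B} {R S : B} (f : R ⟶ S) {a b : E}
    (g : a ⟶ b) [h : p.IsStronglyCartesian f g] : p.IsStronglyCartesian (p.map g) g := by
  subst_hom_lift p f g
  exact h

variable {C : Type u} [Category.{v} C] {𝒳 𝒴 : BasedCategory.{v, max u v} C} (F : 𝒳 ⥤ᵇ 𝒴)

/-- Triples `(x, y, a : y ⟶ F x)` with `a` over an identity. -/
structure Obj where
  x : 𝒳.obj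
  y : 𝒴.obj
  a : y ⟶ F.toFunctor.obj x
  ha : 𝒴.p.IsHomLift (𝟙 (𝒳.p.obj x)) a

variable {F}

/-- Morphisms of triples. -/
@[ext]
structure Hom (A B : Obj F) where
  g : A.x ⟶ B.x
  h : A.y ⟶ B.y
  hl : 𝒴.p.IsHomLift (𝒳.p.map g) h
  w : h ≫ B.a = A.a ≫ F.toFunctor.map g

instance : Category (Obj F) where
  Hom := Hom
  id A := ⟨𝟙 _, 𝟙 _, by
    haveI := A.ha
    rw [Functor.map_id]; exact IsHomLift.id (IsHomLift.domain_eq 𝒴.p (𝟙 (𝒳.p.obj A.x)) A.a),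
    by simp⟩
  comp f g := ⟨f.g ≫ g.g, f.h ≫ g.h, by
    haveI := f.hl; haveI := g.hl
    rw [Functor.map_comp]; infer_instance,
    by rw [Category.assoc, g.w, ← Category.assoc, f.w, Category.assoc, Functor.map_comp]⟩
  id_comp f := Hom.ext (Category.id_comp _) (Category.id_comp _)
  comp_id f := Hom.ext (Category.comp_id _) (Category.comp_id _)
  assoc f g h := Hom.ext (Category.assoc _ _ _) (Category.assoc _ _ _)

@[ext] theorem hom_ext {A B : Obj F} {f f' : A ⟶ B} (h₁ : f.g = f'.g) (h₂ : f.h = f'.h) : f = f' :=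
  Hom.ext h₁ h₂

@[simp] theorem id_g (A : Obj F) : (𝟙 A : A ⟶ A).g = 𝟙 A.x := rfl
@[simp] theorem id_h (A : Obj F) : (𝟙 A : A ⟶ A).h = 𝟙 A.y := rfl
@[simp] theorem comp_g {A B E : Obj F} (f : A ⟶ B) (f' : B ⟶ E) : (f ≫ f').g = f.g ≫ f'.g := rfl
@[simp] theorem comp_h {A B E : Obj F} (f : A ⟶ B) (f' : B ⟶ E) : (f ≫ f').h = f.h ≫ f'.h := rfl

variable (F)

/-- The structure functor. -/
def proj : Obj F ⥤ C where
  obj A := 𝒳.p.obj A.x
  map f := 𝒳.p.map f.g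
  map_id A := by simp
  map_comp f g := by simp

/-- The category of triples, over `C`. -/
abbrev tot : BasedCategory.{v, max u v} C := BasedCategory.ofFunctor (proj F)

/-- The first projection. -/
def w : tot F ⥤ᵇ 𝒳 where
  obj A := A.x
  map f := f.g
  w := rfl

/-- The second projection. -/
def v : tot F ⥤ᵇ 𝒴 where
  obj A := A.y
  map f := f.h
  w := CategoryTheory.Functor.ext
    (fun A => haveI := A.ha; IsHomLift.domain_eq 𝒴.p (𝟙 (𝒳.p.obj A.x)) A.a)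
    (fun A B f => haveI := f.hl; IsHomLift.fac' 𝒴.p (𝒳.p.map f.g) f.h)

lemma isHomLift_map {a b : 𝒳.obj} (g : a ⟶ b) :
    𝒴.p.IsHomLift (𝒳.p.map g) (F.toFunctor.map g) :=
  BasedFunctor.preserves_isHomLift F (𝒳.p.map g) g

/-- The section `x ↦ (x, F x, 𝟙)`. -/
def uSec : 𝒳 ⥤ᵇ tot F where
  obj x := ⟨x, F.toFunctor.obj x, 𝟙 _, IsHomLift.id (F.w_obj x)⟩
  map g := ⟨g, F.toFunctor.map g, isHomLift_map F g, by simp⟩
  map_id x := hom_ext rfl (F.toFunctor.map_id x)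
  map_comp f g := hom_ext rfl (F.toFunctor.map_comp f g)
  w := rfl

theorem comp_uSec_v : BasedFunctor.comp (uSec F) (v F) = F := rfl

/-- `w ⊣ uSec`. -/
def adj : (w F).toFunctor ⊣ (uSec F).toFunctor :=
  Adjunction.mkOfHomEquiv
    { homEquiv := fun A x =>
        { toFun := fun g => ⟨g, A.a ≫ F.toFunctor.map g,
            @IsHomLift.comp_lift_id_left _ _ _ _ 𝒴.p _ _ _ (𝒳.p.obj A.x) _ (𝒳.p.map g)
              (F.toFunctor.map g) (isHomLift_map F g) A.a A.ha,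
            Category.comp_id _⟩
          invFun := fun f => f.g
          left_inv := fun g => rfl
          right_inv := fun f => hom_ext rfl (f.w.symm.trans (Category.comp_id _)) }
      homEquiv_naturality_left_symm := fun _ _ => rfl
      homEquiv_naturality_right := fun {A x x'} g g' => hom_ext rfl (by
        show A.a ≫ F.toFunctor.map (g ≫ g') = (A.a ≫ F.toFunctor.map g) ≫ F.toFunctor.map g'
        rw [Functor.map_comp, Category.assoc]) }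

instance : (uSec F).toFunctor.Faithful := ⟨fun e => congrArg Hom.g e⟩

instance : (uSec F).toFunctor.Full :=
  ⟨fun {a b} f => ⟨f.g, hom_ext rfl (by
    have := f.w
    show F.toFunctor.map f.g = f.h
    simpa [uSec] using this.symm)⟩⟩

variable [𝒳.p.IsFibered] [𝒴.p.IsFibered] (hF : FibCat.PreservesStronglyCartesian F)

theorem stronglyCartesian_of_components {A B : Obj F} (φ : A ⟶ B)
    (hg : 𝒳.p.IsStronglyCartesian (𝒳.p.map φ.g) φ.g)
    (hh : 𝒴.p.IsStronglyCartesian (𝒳.p.map φ.g) φ.h)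
    (hF : FibCat.PreservesStronglyCartesian F) :
    (tot F).p.IsStronglyCartesian (𝒳.p.map φ.g) φ := by
  haveI : (tot F).p.IsHomLift (𝒳.p.map φ.g) φ := IsHomLift.map (proj F) φ
  constructor
  intro Z χ ψ hψ
  have hψ' : χ ≫ 𝒳.p.map φ.g = 𝒳.p.map ψ.g :=
    IsHomLift.eq_of_isHomLift (tot F).p (χ ≫ 𝒳.p.map φ.g) ψ
  haveI := ψ.hl
  haveI := Z.ha
  haveI := A.ha
  let g₁ := Functor.IsStronglyCartesian.map 𝒳.p (𝒳.p.map φ.g) φ.g hψ'.symm ψ.g
  let h₁ := Functor.IsStronglyCartesian.map 𝒴.p (𝒳.p.map φ.g) φ.h hψ'.symm ψ.h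
  have hg₁ : 𝒳.p.map g₁ = χ := (IsHomLift.eq_of_isHomLift 𝒳.p χ g₁).symm
  haveI hFg := hF (𝒳.p.map φ.g) φ.g hg
  haveI : 𝒴.p.IsHomLift χ (F.toFunctor.map g₁) := hg₁ ▸ isHomLift_map F g₁
  haveI : 𝒴.p.IsHomLift χ (Z.a ≫ F.toFunctor.map g₁) :=
    @IsHomLift.comp_lift_id_left _ _ _ _ 𝒴.p _ _ _ (𝒳.p.obj Z.x) _ χ (F.toFunctor.map g₁) ‹_› Z.a Z.ha
  have hw : h₁ ≫ A.a = Z.a ≫ F.toFunctor.map g₁ := by
    refine Functor.IsStronglyCartesian.ext 𝒴.p (𝒳.p.map φ.g) (F.toFunctor.map φ.g) χ ?_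
    rw [Category.assoc, Category.assoc, ← φ.w, ← Category.assoc, ← F.toFunctor.map_comp]
    simp only [h₁, g₁, Functor.IsStronglyCartesian.fac]
    exact ψ.w
  refine ⟨⟨g₁, h₁, by rw [hg₁]; infer_instance, hw⟩, ⟨?_, hom_ext ?_ ?_⟩, ?_⟩
  · refine IsHomLift.of_fac' (proj F) _ _ rfl rfl ?_
    simpa [proj] using hg₁
  · exact Functor.IsStronglyCartesian.fac 𝒳.p (𝒳.p.map φ.g) φ.g hψ'.symm ψ.g
  · exact Functor.IsStronglyCartesian.fac 𝒴.p (𝒳.p.map φ.g) φ.h hψ'.symm ψ.h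
  · rintro π ⟨hπ₁, hπ₂⟩
    have hπg : χ = 𝒳.p.map π.g := IsHomLift.eq_of_isHomLift (tot F).p χ π
    haveI : 𝒳.p.IsHomLift χ π.g := hπg ▸ IsHomLift.map 𝒳.p π.g
    haveI : 𝒴.p.IsHomLift χ π.h := hπg ▸ π.hl
    exact hom_ext
      (Functor.IsStronglyCartesian.map_uniq 𝒳.p (𝒳.p.map φ.g) φ.g hψ'.symm ψ.g π.g (congrArg Hom.g hπ₂))
      (Functor.IsStronglyCartesian.map_uniq 𝒴.p (𝒳.p.map φ.g) φ.h hψ'.symm ψ.h π.h (congrArg Hom.h hπ₂))

include hF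

theorem exists_lift (B : Obj F) {R : C} (f : R ⟶ 𝒳.p.obj B.x) :
    ∃ (A : Obj F) (φ : A ⟶ B) (e : 𝒳.p.obj A.x = R), 𝒳.p.map φ.g = eqToHom e ≫ f ∧
      𝒳.p.IsStronglyCartesian (𝒳.p.map φ.g) φ.g ∧ 𝒴.p.IsStronglyCartesian (𝒳.p.map φ.g) φ.h := by
  obtain ⟨x', g, hg⟩ := Functor.IsPreFibered.exists_isCartesian' (p := 𝒳.p) f
  have e : 𝒳.p.obj x' = R := IsHomLift.domain_eq 𝒳.p f g
  subst e
  obtain rfl := IsHomLift.eq_of_isHomLift 𝒳.p f g
  haveI := B.ha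
  obtain ⟨y', h, hh⟩ := CategoryTheory.IsPreFibered.exists_isCartesian 𝒴.p
    (IsHomLift.domain_eq 𝒴.p (𝟙 (𝒳.p.obj B.x)) B.a) (𝒳.p.map g)
  haveI hFg := hF (𝒳.p.map g) g inferInstance
  refine ⟨⟨x', y', Functor.IsStronglyCartesian.map 𝒴.p (𝒳.p.map g) (F.toFunctor.map g)
    (g := 𝟙 _) (f' := 𝒳.p.map g) (Category.id_comp _).symm (h ≫ B.a), inferInstance⟩,
    ⟨g, h, inferInstance, (Functor.IsStronglyCartesian.fac 𝒴.p (𝒳.p.map g) (F.toFunctor.map g) (g := 𝟙 _) (f' := 𝒳.p.map g) (Category.id_comp _).symm (h ≫ B.a)).symm⟩, rfl,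
    by simp, inferInstance, inferInstance⟩

theorem isFibered : (tot F).p.IsFibered := by
  apply Functor.IsFibered.of_exists_isStronglyCartesian
  intro B R f
  obtain ⟨A, φ, e, he, hg, hh⟩ := exists_lift F hF B f
  subst e
  simp only [eqToHom_refl, Category.id_comp] at he
  exact ⟨A, φ, he ▸ stronglyCartesian_of_components F φ hg hh hF⟩

theorem components {A B : Obj F} (φ : A ⟶ B)
    (h : (tot F).p.IsStronglyCartesian (𝒳.p.map φ.g) φ) :
    𝒳.p.IsStronglyCartesian (𝒳.p.map φ.g) φ.g ∧ 𝒴.p.IsStronglyCartesian (𝒳.p.map φ.g) φ.h := by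
  obtain ⟨A', φ', e, he, hg, hh⟩ := exists_lift F hF B (𝒳.p.map φ.g)
  haveI := stronglyCartesian_of_components F φ' hg hh hF
  let i := Functor.IsStronglyCartesian.domainIsoOfBaseIso (tot F).p
    (g := eqToIso e.symm) (f' := 𝒳.p.map φ.g) (f := 𝒳.p.map φ'.g) (by simp [he]) φ' φ
  have hi : i.hom ≫ φ' = φ := by
    simp [i, Functor.IsStronglyCartesian.domainIsoOfBaseIso]
  haveI : (tot F).p.IsHomLift (eqToHom e.symm) i.hom :=
    inferInstanceAs ((tot F).p.IsHomLift (eqToIso e.symm).hom i.hom)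
  haveI : IsIso i.hom.g := inferInstanceAs (IsIso ((w F).toFunctor.map i.hom))
  haveI : IsIso i.hom.h := inferInstanceAs (IsIso ((v F).toFunctor.map i.hom))
  haveI := i.hom.hl
  haveI : 𝒳.p.IsStronglyCartesian (𝒳.p.map i.hom.g) i.hom.g :=
    Functor.IsStronglyCartesian.of_isIso _ _ _
  haveI : 𝒴.p.IsStronglyCartesian (𝒳.p.map i.hom.g) i.hom.h :=
    Functor.IsStronglyCartesian.of_isIso _ _ _
  rw [← hi]
  refine ⟨?_, ?_⟩
  · rw [comp_g, Functor.map_comp]; infer_instance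
  · rw [comp_g, comp_h, Functor.map_comp]; infer_instance

theorem w_preserves : FibCat.PreservesStronglyCartesian (w F) := by
  intro R S f A B φ h
  haveI := h
  subst_hom_lift (tot F).p f φ
  exact (components F hF φ h).1

theorem v_preserves : FibCat.PreservesStronglyCartesian (v F) := by
  intro R S f A B φ h
  haveI := h
  subst_hom_lift (tot F).p f φ
  exact (components F hF φ h).2

theorem u_preserves : FibCat.PreservesStronglyCartesian (uSec F) := by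
  intro R S f a b g h
  haveI := h
  subst_hom_lift 𝒳.p f g
  exact stronglyCartesian_of_components F ((uSec F).toFunctor.map g) h (hF _ g h) hF

theorem v_isFibered : (v F).toFunctor.IsFibered := by
  apply Functor.IsFibered.of_exists_isStronglyCartesian
  intro B y₁ b
  haveI := B.ha
  have hy : 𝒴.p.obj B.y = 𝒳.p.obj B.x := IsHomLift.domain_eq 𝒴.p (𝟙 (𝒳.p.obj B.x)) B.a
  obtain ⟨x', g, hg⟩ := CategoryTheory.IsPreFibered.exists_isCartesian 𝒳.p (a := B.x) rfl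
    (𝒴.p.map b ≫ eqToHom hy)
  have e : 𝒳.p.obj x' = 𝒴.p.obj y₁ := IsHomLift.domain_eq 𝒳.p (𝒴.p.map b ≫ eqToHom hy) g
  have hpg : 𝒳.p.map g = eqToHom e ≫ 𝒴.p.map b ≫ eqToHom hy := by
    simpa using IsHomLift.fac' 𝒳.p (𝒴.p.map b ≫ eqToHom hy) g
  haveI : 𝒴.p.IsHomLift (𝒳.p.map g) b := IsHomLift.of_fac' 𝒴.p _ _ e.symm hy (by simp [hpg])
  haveI : 𝒳.p.IsStronglyCartesian (𝒳.p.map g) g := by
    haveI : 𝒳.p.IsStronglyCartesian (𝒴.p.map b ≫ eqToHom hy) g := inferInstance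
    exact sc_map (p := 𝒳.p) (𝒴.p.map b ≫ eqToHom hy) g
  haveI hFg := hF (𝒳.p.map g) g inferInstance
  let a₁ := Functor.IsStronglyCartesian.map 𝒴.p (𝒳.p.map g) (F.toFunctor.map g)
    (g := 𝟙 _) (f' := 𝒳.p.map g) (Category.id_comp _).symm (b ≫ B.a)
  let A : Obj F := ⟨x', y₁, a₁, inferInstance⟩
  let φ : A ⟶ B := ⟨g, b, inferInstance, (Functor.IsStronglyCartesian.fac 𝒴.p (𝒳.p.map g) (F.toFunctor.map g) (g := 𝟙 _) (f' := 𝒳.p.map g) (Category.id_comp _).symm (b ≫ B.a)).symm⟩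
  refine ⟨A, φ, ?_⟩
  haveI : (v F).toFunctor.IsHomLift b φ := IsHomLift.map (v F).toFunctor φ
  constructor
  intro Z h₁ ψ hψ
  have hψh : ψ.h = h₁ ≫ b := (IsHomLift.eq_of_isHomLift (v F).toFunctor (h₁ ≫ b) ψ).symm
  haveI := Z.ha
  haveI := A.ha
  have hz : 𝒴.p.obj Z.y = 𝒳.p.obj Z.x := IsHomLift.domain_eq 𝒴.p (𝟙 (𝒳.p.obj Z.x)) Z.a
  let χ : 𝒳.p.obj Z.x ⟶ 𝒳.p.obj x' := eqToHom hz.symm ≫ 𝒴.p.map h₁ ≫ eqToHom e.symm
  haveI hχ : 𝒴.p.IsHomLift χ h₁ := IsHomLift.of_fac 𝒴.p _ _ hz e.symm (by simp [χ])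
  haveI := ψ.hl
  have hbase : 𝒳.p.map ψ.g = χ ≫ 𝒳.p.map g := by
    haveI : 𝒴.p.IsHomLift (χ ≫ 𝒳.p.map g) ψ.h := hψh ▸ inferInstance
    have h1 := IsHomLift.fac 𝒴.p (𝒳.p.map ψ.g) ψ.h
    rw [h1]
    exact (IsHomLift.fac 𝒴.p (χ ≫ 𝒳.p.map g) ψ.h).symm
  let g₁ := Functor.IsStronglyCartesian.map 𝒳.p (𝒳.p.map g) g hbase ψ.g
  have hg₁ : 𝒳.p.map g₁ = χ := (IsHomLift.eq_of_isHomLift 𝒳.p χ g₁).symm
  haveI : 𝒴.p.IsHomLift χ (F.toFunctor.map g₁) := hg₁ ▸ isHomLift_map F g₁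
  haveI : 𝒴.p.IsHomLift χ (Z.a ≫ F.toFunctor.map g₁) :=
    @IsHomLift.comp_lift_id_left _ _ _ _ 𝒴.p _ _ _ (𝒳.p.obj Z.x) _ χ (F.toFunctor.map g₁) ‹_› Z.a Z.ha
  have hw : h₁ ≫ a₁ = Z.a ≫ F.toFunctor.map g₁ := by
    refine Functor.IsStronglyCartesian.ext 𝒴.p (𝒳.p.map g) (F.toFunctor.map g) χ ?_
    rw [Category.assoc, Category.assoc, ← F.toFunctor.map_comp]
    simp only [a₁, g₁, Functor.IsStronglyCartesian.fac]
    rw [← Category.assoc, ← hψh]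
    exact ψ.w
  refine ⟨⟨g₁, h₁, hg₁.symm ▸ hχ, hw⟩, ⟨?_, hom_ext ?_ hψh.symm⟩, ?_⟩
  · exact IsHomLift.of_fac' (v F).toFunctor _ _ rfl rfl (by simp [v])
  · exact Functor.IsStronglyCartesian.fac 𝒳.p (𝒳.p.map g) g hbase ψ.g
  · rintro π ⟨hπ₁, hπ₂⟩
    have hπh : π.h = h₁ := (IsHomLift.eq_of_isHomLift (v F).toFunctor (a := Z) (b := A) h₁ π).symm
    haveI := π.hl
    have hπg : 𝒳.p.map π.g = χ := by
      haveI : 𝒴.p.IsHomLift χ π.h := hπh ▸ hχ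
      have h1 := IsHomLift.fac 𝒴.p (𝒳.p.map π.g) π.h
      rw [h1]
      exact (IsHomLift.fac 𝒴.p χ π.h).symm
    haveI : 𝒳.p.IsHomLift χ π.g := hπg ▸ IsHomLift.map 𝒳.p π.g
    exact hom_ext
      (Functor.IsStronglyCartesian.map_uniq 𝒳.p (𝒳.p.map g) g hbase ψ.g π.g (congrArg Hom.g hπ₂)) hπh

end Groth.Agent.Desc19b.FibFactor
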