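import Groth.Agent.FlatMorStrata.BaseChange

/-! Base change of the condition that the fibres of a quasi-coherent module are nonzero. -/

set_option autoImplicit false
set_option linter.style.haveILetI false
set_option backward.isDefEq.respectTransparency false
set_option backward.isDefEq.respectTransparency.types false

universe u

open CategoryTheory CategoryTheory.Limits AlgebraicGeometry TopologicalSpace TensorProduct
open Groth.Agent.EGA43

namespace Groth.Agent.Desc19b.FibreNonzero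

section Algebra

theorem exists_smul_eq_of_mem {A M N : Type*} [CommRing A] [AddCommGroup M] [Module A M] [AddCommGroup N]
    [Module A N] (S : Submonoid A) (φ : M →ₗ[A] N) [IsLocalizedModule S φ] (J : Ideal A) {n : N}
    (hn : n ∈ J • (⊤ : Submodule A N)) :
    ∃ s : S, ∃ y ∈ J • (⊤ : Submodule A M), s • n = φ y := by
  refine Submodule.smul_induction_on hn (fun r hr n _ => ?_) (fun a b ha hb => ?_)
  · obtain ⟨⟨y, s⟩, hy⟩ := IsLocalizedModule.surj S φ n
    exact ⟨s, r • y, Submodule.smul_mem_smul hr trivial, by rw [smul_comm, hy, map_smul]⟩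
  · obtain ⟨s, y, hy, e⟩ := ha
    obtain ⟨s', y', hy', e'⟩ := hb
    refine ⟨s' * s, s' • y + s • y', add_mem (Submodule.smul_mem _ _ hy) (Submodule.smul_mem _ _ hy'), ?_⟩
    simp only [Submonoid.smul_def, Submonoid.coe_mul, mul_smul, smul_add, map_add, map_smul] at e e' ⊢
    rw [e, smul_comm (s' : A) (s : A), e']

theorem smul_top_ne_top_iff {A M N : Type*} [CommRing A] [AddCommGroup M] [Module A M] [AddCommGroup N]
    [Module A N] (S : Submonoid A) (φ : M →ₗ[A] N) [IsLocalizedModule S φ] (J : Ideal A) :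
    J • (⊤ : Submodule A N) ≠ ⊤ ↔ ∃ m : M, ∀ t ∈ S, t • m ∉ J • (⊤ : Submodule A M) := by
  have hmap : ∀ y ∈ J • (⊤ : Submodule A M), φ y ∈ J • (⊤ : Submodule A N) := fun y hy => by
    have := Submodule.mem_map_of_mem (f := φ) hy
    rw [Submodule.map_smul''] at this
    exact Submodule.smul_mono le_rfl le_top this
  have hdiv : ∀ (s : S) (n : N), s • n ∈ J • (⊤ : Submodule A N) → n ∈ J • (⊤ : Submodule A N) := by
    intro s n h
    obtain ⟨v, hv⟩ := (Module.End.isUnit_iff _).1 (IsLocalizedModule.map_units φ s) |>.2 n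
    let g : N →ₗ[A] N := (↑(IsLocalizedModule.map_units φ s).unit⁻¹ : Module.End A N)
    have hg : g (s • n) = n := by
      show ((↑(IsLocalizedModule.map_units φ s).unit⁻¹ : Module.End A N) * algebraMap A (Module.End A N) s) n = n
      rw [IsUnit.val_inv_mul]
      rfl
    have := Submodule.mem_map_of_mem (f := g) h
    rw [Submodule.map_smul'', hg] at this
    exact Submodule.smul_mono le_rfl le_top this
  constructor
  · intro h
    obtain ⟨n, hn⟩ : ∃ n, n ∉ J • (⊤ : Submodule A N) := by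
      by_contra hc
      push Not at hc
      exact h (eq_top_iff.2 fun n _ => hc n)
    obtain ⟨⟨m, s⟩, hm⟩ := IsLocalizedModule.surj S φ n
    refine ⟨m, fun t ht htm => hn (hdiv s n ?_)⟩
    rw [hm]
    refine hdiv ⟨t, ht⟩ _ ?_
    rw [Submonoid.smul_def, ← map_smul]
    exact hmap _ htm
  · rintro ⟨m, hm⟩ h
    obtain ⟨s, y, hy, e⟩ := exists_smul_eq_of_mem S φ J (n := φ m) (by rw [h]; trivial)
    rw [Submonoid.smul_def, ← map_smul] at e
    obtain ⟨c, hc⟩ := IsLocalizedModule.exists_of_eq (S := S) e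
    refine hm ((c : A) * s) (S.mul_mem c.2 s.2) ?_
    rw [mul_smul]
    rw [Submonoid.smul_def, Submonoid.smul_def] at hc
    rw [hc]
    exact Submodule.smul_mem _ _ hy

variable {R R' M M' : Type u} [CommRing R] [CommRing R'] [Algebra R R'] [AddCommGroup M] [Module R M]
  [AddCommGroup M'] [Module R M'] [Module R' M'] [IsScalarTower R R' M']

theorem nontrivial_residueField_tensor (p : Ideal R) [p.IsPrime] (m : M)
    (hm : ∀ r ∈ p.primeCompl, r • m ∉ p • (⊤ : Submodule R M)) :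
    Nontrivial (p.ResidueField ⊗[R] M) := by
  refine ⟨⟨(1 : p.ResidueField) ⊗ₜ m, 0, fun h => ?_⟩⟩
  let L := Localization.AtPrime p
  let φ := TensorProduct.mk R L M 1
  haveI : IsLocalizedModule p.primeCompl φ :=
    (isLocalizedModule_iff_isBaseChange p.primeCompl L φ).2 (TensorProduct.isBaseChange R M L)
  let g : L →ₗ[R] p.ResidueField := (IsScalarTower.toAlgHom R L p.ResidueField).toLinearMap
  have hg : g.rTensor M (φ m) = 0 := by
    show g 1 ⊗ₜ[R] m = 0
    simpa [g] using h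
  have hex : Function.Exact ((IsLocalRing.maximalIdeal L).subtype.restrictScalars R) g := fun x => by
    constructor
    · intro hx
      exact ⟨⟨x, (IsLocalRing.residue_eq_zero_iff x).1 hx⟩, rfl⟩
    · rintro ⟨y, rfl⟩
      exact (IsLocalRing.residue_eq_zero_iff _).2 y.2
  obtain ⟨y, hy⟩ := (rTensor_exact M hex IsLocalRing.residue_surjective (φ m)).1 hg
  have hmem : φ m ∈ IsLocalRing.maximalIdeal L • (⊤ : Submodule L (L ⊗[R] M)) := by
    rw [← hy]
    clear hy hg
    induction y using TensorProduct.induction_on with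
    | zero => simp
    | add a b ha hb => rw [map_add]; exact add_mem ha hb
    | tmul a b =>
      show (a : L) ⊗ₜ[R] b ∈ _
      rw [show (a : L) ⊗ₜ[R] b = (a : L) • ((1 : L) ⊗ₜ[R] b) by rw [TensorProduct.smul_tmul', smul_eq_mul, mul_one]]
      exact Submodule.smul_mem_smul a.2 trivial
  rw [← IsLocalization.AtPrime.map_eq_maximalIdeal p L] at hmem
  have h2 := Ideal.smul_restrictScalars (S := L) p (⊤ : Submodule L (L ⊗[R] M))
  rw [Submodule.restrictScalars_top] at h2
  have hmem' : φ m ∈ p • (⊤ : Submodule R (L ⊗[R] M)) := by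
    rw [← h2]; exact hmem
  obtain ⟨s, z, hz, e⟩ := exists_smul_eq_of_mem p.primeCompl φ p hmem'
  rw [Submonoid.smul_def, ← map_smul] at e
  obtain ⟨c, hc⟩ := IsLocalizedModule.exists_of_eq (S := p.primeCompl) e
  rw [Submonoid.smul_def, Submonoid.smul_def] at hc
  exact hm ((c : R) * s) (p.primeCompl.mul_mem c.2 s.2) (by
    rw [mul_smul, hc]; exact Submodule.smul_mem _ _ hz)

theorem nontrivial_field_tensor {k K : Type u} [Field k] [Field K] [Algebra k K] (V : Type u)
    [AddCommGroup V] [Module k V] [Nontrivial V] : Nontrivial (K ⊗[k] V) :=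
  inferInstance

theorem nontrivial_tower {k K N : Type u} [Field k] [Field K] [Algebra R k] [Algebra R K] [Algebra k K]
    [IsScalarTower R k K] [AddCommGroup N] [Module R N] (h : Nontrivial (k ⊗[R] N)) :
    Nontrivial (K ⊗[R] N) :=
  haveI := nontrivial_field_tensor (k := k) (K := K) (k ⊗[R] N)
  (AlgebraTensorModule.cancelBaseChange R k K K N).symm.toEquiv.nontrivial

theorem nontrivial_baseChange (μ : M →ₗ[R] M') (hμ : IsBaseChange R' μ) (p : Ideal R) [p.IsPrime]
    (p' : Ideal R') [p'.IsPrime] (hp : p = p'.under R) (h : Nontrivial (p.ResidueField ⊗[R] M)) :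
    Nontrivial (p'.ResidueField ⊗[R'] M') := by
  letI : Algebra p.ResidueField p'.ResidueField :=
    (Ideal.ResidueField.map p p' (algebraMap R R') hp).toAlgebra
  haveI : IsScalarTower R p.ResidueField p'.ResidueField := .of_algebraMap_eq fun r => by
    show algebraMap R p'.ResidueField r = Ideal.ResidueField.map p p' (algebraMap R R') hp (algebraMap R p.ResidueField r)
    rw [IsScalarTower.algebraMap_apply R R' p'.ResidueField]
    exact (Ideal.ResidueField.map_algebraMap p p' (algebraMap R R') hp r).symm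
  have e1 : p'.ResidueField ⊗[R'] M' ≃ p'.ResidueField ⊗[R] M :=
    ((AlgebraTensorModule.congr (LinearEquiv.refl R' p'.ResidueField) hμ.equiv.symm).trans
      (AlgebraTensorModule.cancelBaseChange R R' R' p'.ResidueField M)).toEquiv
  haveI := nontrivial_tower (R := R) (k := p.ResidueField) (K := p'.ResidueField) (N := M) h
  exact e1.nontrivial

theorem exists_of_nontrivial (p' : Ideal R') [p'.IsPrime] (h : Nontrivial (p'.ResidueField ⊗[R'] M')) :
    ∃ m' : M', ∀ r ∈ p'.primeCompl, r • m' ∉ p' • (⊤ : Submodule R' M') := by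
  by_contra hc
  push Not at hc
  obtain ⟨z, hz⟩ := exists_ne (0 : p'.ResidueField ⊗[R'] M')
  refine hz ?_
  clear hz
  induction z using TensorProduct.induction_on with
  | zero => rfl
  | add a b ha hb => rw [ha, hb, add_zero]
  | tmul k m' =>
    obtain ⟨r, hr, hrm⟩ := hc m'
    have hunit : algebraMap R' p'.ResidueField r ≠ 0 := by
      rw [Ne, Ideal.algebraMap_residueField_eq_zero]
      exact hr
    have h1 : (1 : p'.ResidueField) ⊗ₜ[R'] (r • m') = 0 := by
      refine Submodule.smul_induction_on hrm (fun a ha b _ => ?_) (fun a b ha hb => ?_)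
      · rw [← TensorProduct.smul_tmul, Algebra.smul_def,
          (Ideal.algebraMap_residueField_eq_zero).2 ha, zero_mul, TensorProduct.zero_tmul]
      · rw [TensorProduct.tmul_add, ha, hb, add_zero]
    calc k ⊗ₜ[R'] m' = (k * (algebraMap R' p'.ResidueField r)⁻¹) • ((1 : p'.ResidueField) ⊗ₜ[R'] (r • m')) := by
          rw [← TensorProduct.smul_tmul, TensorProduct.smul_tmul', smul_eq_mul, Algebra.smul_def, mul_one,
            mul_assoc, inv_mul_cancel₀ hunit, mul_one]
      _ = 0 := by rw [h1, smul_zero]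

theorem exists_of_baseChange (μ : M →ₗ[R] M') (hμ : IsBaseChange R' μ) (p : Ideal R) [p.IsPrime]
    (p' : Ideal R') [p'.IsPrime] (hp : p = p'.under R)
    (m : M) (hm : ∀ r ∈ p.primeCompl, r • m ∉ p • (⊤ : Submodule R M)) :
    ∃ m' : M', ∀ r ∈ p'.primeCompl, r • m' ∉ p' • (⊤ : Submodule R' M') :=
  exists_of_nontrivial p' (nontrivial_baseChange μ hμ p p' hp (nontrivial_residueField_tensor p m hm))

theorem exists_prime {T : Type u} [CommRing T] [Algebra R' T] [Module T M'] [IsScalarTower R' T M']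
    (p' : Ideal R') [p'.IsPrime] (m : M') (hm : ∀ r ∈ p'.primeCompl, r • m ∉ p' • (⊤ : Submodule R' M')) :
    ∃ Q : PrimeSpectrum T, Q.asIdeal.under R' = p' ∧ ∀ t ∈ Q.asIdeal.primeCompl,
      t • m ∉ p'.map (algebraMap R' T) • (⊤ : Submodule T M') := by
  set K : Submodule T M' := p'.map (algebraMap R' T) • ⊤ with hK
  have hKmem : ∀ x, x ∈ K ↔ x ∈ p' • (⊤ : Submodule R' M') := by
    intro x
    have := Ideal.smul_restrictScalars (S := T) p' (⊤ : Submodule T M')
    rw [Submodule.restrictScalars_top] at this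
    rw [← this]
    rfl
  let I : Ideal T :=
    { carrier := {t | ∃ r ∈ p'.primeCompl, r • t • m ∈ K}
      add_mem' := by
        rintro a b ⟨r, hr, ha⟩ ⟨r', hr', hb⟩
        refine ⟨r * r', p'.primeCompl.mul_mem hr hr', ?_⟩
        rw [add_smul, smul_add]
        refine add_mem ?_ ?_
        · rw [mul_comm, mul_smul, ← algebraMap_smul T r' (r • a • m)]
          exact K.smul_mem _ ha
        · rw [mul_smul, ← algebraMap_smul T r (r' • b • m)]
          exact K.smul_mem _ hb
      zero_mem' := ⟨1, p'.primeCompl.one_mem, by simp⟩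
      smul_mem' := by
        rintro c a ⟨r, hr, ha⟩
        refine ⟨r, hr, ?_⟩
        rw [smul_eq_mul, mul_smul, smul_comm]
        exact K.smul_mem _ ha }
  have hdisj : Disjoint (I : Set T) (Algebra.algebraMapSubmonoid T p'.primeCompl : Set T) := by
    rw [Set.disjoint_left]
    rintro _ ⟨r, hr, h⟩ ⟨s, hs, rfl⟩
    rw [algebraMap_smul, ← mul_smul, hKmem] at h
    exact hm _ (p'.primeCompl.mul_mem hr hs) h
  obtain ⟨Q, hQ, hIQ, hQd⟩ := Ideal.exists_le_prime_disjoint I _ hdisj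
  refine ⟨⟨Q, hQ⟩, le_antisymm (fun r hr => ?_) (fun r hr => ?_), fun t ht h => ht (hIQ ?_)⟩
  · by_contra h
    exact Set.disjoint_left.1 hQd hr ⟨r, h, rfl⟩
  · refine hIQ ⟨1, p'.primeCompl.one_mem, ?_⟩
    rw [one_smul]
    exact Submodule.smul_mem_smul (Ideal.mem_map_of_mem _ hr) trivial
  · exact ⟨1, p'.primeCompl.one_mem, by rw [one_smul]; exact h⟩

end Algebra

variable {X Y : Scheme.{u}}

theorem stalk_criterion (f : X ⟶ Y) (M : X.Modules) [Coh.IsQCoh M] {V : Y.Opens} (hV : IsAffineOpen V)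
    {U : X.Opens} (hU : IsAffineOpen U) (e : U ≤ f ⁻¹ᵁ V) {x : X} (hx : x ∈ U) :
    (letI := FlatMod.moduleStalkOver f M x
     IsLocalRing.maximalIdeal (Y.presheaf.stalk (f x)) •
      (⊤ : Submodule (Y.presheaf.stalk (f x)) (M.presheaf.stalk x)) ≠ ⊤) ↔
    ∃ m : Γ(M, U), ∀ t ∈ (hU.primeIdealOf ⟨x, hx⟩).asIdeal.primeCompl,
      t • m ∉ (hV.primeIdealOf ⟨f x, e hx⟩).asIdeal.map (f.appLE V U e).hom •
        (⊤ : Submodule Γ(X, U) Γ(M, U)) := by
  let := FlatMod.moduleStalkOver f M x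
  let := (X.presheaf.germ U x hx).hom.toAlgebra
  let := Module.compHom (M.presheaf.stalk x) (X.presheaf.germ U x hx).hom
  let := (Y.presheaf.germ V (f x) (e hx)).hom.toAlgebra
  let := (f.stalkMap x).hom.toAlgebra
  have : IsScalarTower (Y.presheaf.stalk (f x)) (X.presheaf.stalk x) (M.presheaf.stalk x) :=
    IsScalarTower.of_algebraMap_smul fun _ _ => rfl
  have : IsScalarTower Γ(X, U) (X.presheaf.stalk x) (M.presheaf.stalk x) :=
    IsScalarTower.of_algebraMap_smul fun _ _ => rfl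
  have hgerm : (X.presheaf.germ U x hx).hom.comp (f.appLE V U e).hom =
      (f.stalkMap x).hom.comp (Y.presheaf.germ V (f x) (e hx)).hom := by
    rw [← CommRingCat.hom_comp, ← CommRingCat.hom_comp]
    congr 1
    rw [Scheme.Hom.appLE, Category.assoc, TopCat.Presheaf.germ_res, Scheme.Hom.germ_stalkMap]
  let φ : Γ(M, U) →ₗ[Γ(X, U)] M.presheaf.stalk x :=
    { toFun := fun m => M.presheaf.germ U x hx m
      map_add' := fun a b => map_add _ a b
      map_smul' := fun r m => QCohLoc.germ_smul' M hx r m }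
  have := QcohFP.isLocalizedModule_germ M hU hx φ fun _ => rfl
  have hloc := hV.isLocalization_stalk ⟨f x, e hx⟩
  rw [← smul_top_ne_top_iff (hU.primeIdealOf ⟨x, hx⟩).asIdeal.primeCompl φ]
  have h1 : (IsLocalRing.maximalIdeal (Y.presheaf.stalk (f x))).map (f.stalkMap x).hom
      = ((hV.primeIdealOf ⟨f x, e hx⟩).asIdeal.map (f.appLE V U e).hom).map (X.presheaf.germ U x hx).hom := by
    rw [← IsLocalization.AtPrime.map_eq_maximalIdeal (hV.primeIdealOf ⟨f x, e hx⟩).asIdeal
      (Y.presheaf.stalk (f x)), Ideal.map_map, Ideal.map_map, hgerm]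
    rfl
  have h2 := Ideal.smul_restrictScalars (S := X.presheaf.stalk x)
    (IsLocalRing.maximalIdeal (Y.presheaf.stalk (f x))) (⊤ : Submodule (X.presheaf.stalk x) (M.presheaf.stalk x))
  have h3 := Ideal.smul_restrictScalars (S := X.presheaf.stalk x)
    ((hV.primeIdealOf ⟨f x, e hx⟩).asIdeal.map (f.appLE V U e).hom)
    (⊤ : Submodule (X.presheaf.stalk x) (M.presheaf.stalk x))
  rw [Submodule.restrictScalars_top] at h2 h3
  rw [← h2, ← h3]
  simp only [ne_eq, Submodule.restrictScalars_eq_top_iff]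
  rw [show (IsLocalRing.maximalIdeal (Y.presheaf.stalk (f x))).map (algebraMap _ (X.presheaf.stalk x)) = _ from h1]
  rfl

theorem exists_point {X' Y' : Scheme.{u}} {f : X ⟶ Y} {f' : X' ⟶ Y'} {g' : X' ⟶ X} {g : Y' ⟶ Y}
    (H : IsPullback g' f' f g) (F : X.Modules) [Coh.IsQCoh F] (y' : Y') (x : X) (hx : f x = g y')
    (h : letI := FlatMod.moduleStalkOver f F x
     IsLocalRing.maximalIdeal (Y.presheaf.stalk (f x)) •
      (⊤ : Submodule (Y.presheaf.stalk (f x)) (F.presheaf.stalk x)) ≠ ⊤) :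
    ∃ x' : X', f' x' = y' ∧
      letI := FlatMod.moduleStalkOver f' ((Scheme.Modules.pullback g').obj F) x'
      IsLocalRing.maximalIdeal (Y'.presheaf.stalk (f' x')) •
        (⊤ : Submodule (Y'.presheaf.stalk (f' x')) (((Scheme.Modules.pullback g').obj F).presheaf.stalk x')) ≠ ⊤ := by
  have : Coh.IsQCoh ((Scheme.Modules.pullback g').obj F) := InjFibre.isQCoh_pullback g' F
  obtain ⟨T, hT, hsT, -⟩ := Opens.isBasis_iff_nbhd.mp Y.isBasis_affineOpens (Opens.mem_top (f x))
  obtain ⟨U, hU, hxU, eU⟩ := Opens.isBasis_iff_nbhd.mp X.isBasis_affineOpens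
    (show x ∈ f ⁻¹ᵁ T from hsT)
  obtain ⟨T', hT', hsT', eT'⟩ := Opens.isBasis_iff_nbhd.mp Y'.isBasis_affineOpens
    (show y' ∈ g ⁻¹ᵁ T from (hx ▸ hsT : g y' ∈ T))
  obtain ⟨W, hW⟩ : ∃ W, W = g' ⁻¹ᵁ U ⊓ f' ⁻¹ᵁ T' := ⟨_, rfl⟩
  have hWa : IsAffineOpen W := hW ▸ InjFibre.isAffineOpen_inf_preimage H hT hU hT' eU eT'
  have eW : W ≤ g' ⁻¹ᵁ U := hW.trans_le inf_le_left
  have eW' : W ≤ f' ⁻¹ᵁ T' := hW.trans_le inf_le_right
  obtain ⟨E⟩ := Flatn12.nonempty_pullback_sections_equiv g' F hU hWa eW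
  have hp := (isIso_pushoutSection_iff H eT' eU hW).1
    (isIso_pushoutSection_of_isAffineOpen H eT' eU hW hT hT' hU)
  let _ := (f.appLE T U eU).hom.toAlgebra
  let _ := (g.appLE T T' eT').hom.toAlgebra
  let _ := (g'.appLE U W eW).hom.toAlgebra
  let _ := (f'.appLE T' W eW').hom.toAlgebra
  let _ : Algebra Γ(Y, T) Γ(X', W) :=
    ((g'.appLE U W eW).hom.comp (f.appLE T U eU).hom).toAlgebra
  have : IsScalarTower Γ(Y, T) Γ(X, U) Γ(X', W) := .of_algebraMap_eq fun _ => rfl
  have : IsScalarTower Γ(Y, T) Γ(Y', T') Γ(X', W) :=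
    .of_algebraMap_eq fun r => ConcreteCategory.congr_hom hp.w r
  have : Algebra.IsPushout Γ(Y, T) Γ(X, U) Γ(Y', T') Γ(X', W) :=
    CommRingCat.isPushout_iff_isPushout.1 hp
  have : Algebra.IsPushout Γ(Y, T) Γ(Y', T') Γ(X, U) Γ(X', W) := Algebra.IsPushout.symm inferInstance
  let _ := QcohFlat.overModule f F T U eU
  have : IsScalarTower Γ(Y, T) Γ(X, U) Γ(F, U) := IsScalarTower.of_algebraMap_smul fun _ _ => rfl
  let P := (Scheme.Modules.pullback g').obj F
  let _ : Module Γ(X, U) Γ(P, W) := Module.compHom Γ(P, W) (g'.appLE U W eW).hom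
  let _ : Module Γ(Y', T') Γ(P, W) := QcohFlat.overModule f' P T' W eW'
  let _ : Module Γ(Y, T) Γ(P, W) :=
    Module.compHom Γ(P, W) ((g'.appLE U W eW).hom.comp (f.appLE T U eU).hom)
  have : IsScalarTower Γ(X, U) Γ(X', W) Γ(P, W) := IsScalarTower.of_algebraMap_smul fun _ _ => rfl
  have : IsScalarTower Γ(Y', T') Γ(X', W) Γ(P, W) :=
    IsScalarTower.of_algebraMap_smul fun _ _ => rfl
  have : IsScalarTower Γ(Y, T) Γ(X, U) Γ(P, W) := IsScalarTower.of_algebraMap_smul fun _ _ => rfl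
  have : IsScalarTower Γ(Y, T) Γ(X', W) Γ(P, W) := IsScalarTower.of_algebraMap_smul fun _ _ => rfl
  have : IsScalarTower Γ(Y, T) Γ(Y', T') Γ(P, W) := IsScalarTower.of_algebraMap_smul fun r m => by
    show (f'.appLE T' W eW').hom ((g.appLE T T' eT').hom r) • m = _
    exact congrArg (· • m) (ConcreteCategory.congr_hom hp.w r).symm
  let μ₀ : Γ(F, U) →ₗ[Γ(X, U)] Γ(P, W) :=
    (E.toLinearMap.restrictScalars Γ(X, U)) ∘ₗ (TensorProduct.mk Γ(X, U) Γ(X', W) Γ(F, U) 1)
  have hμ₀ : IsBaseChange Γ(X', W) μ₀ := IsBaseChange.of_equiv E fun _ => rfl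
  have hμ : IsBaseChange Γ(Y', T') (μ₀.restrictScalars Γ(Y, T)) :=
    (Cons.isBaseChange_iff_of_isPushout (R := Γ(Y, T)) (T := Γ(Y', T')) (R' := Γ(X, U))
      (T' := Γ(X', W)) μ₀).1 hμ₀
  set p' := (hT'.primeIdealOf ⟨y', hsT'⟩).asIdeal with hp'
  have hpp : p'.under Γ(Y, T) = (hT.primeIdealOf ⟨f x, eU hxU⟩).asIdeal := by
    have := congrArg PrimeSpectrum.asIdeal (InjFibre.comap_primeIdealOf g hT hT' eT' hsT')
    refine this.trans ?_
    congr 2
    exact Subtype.ext hx.symm
  obtain ⟨m, hm⟩ := (stalk_criterion f F hT hU eU hxU).1 h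
  obtain ⟨m', hm'⟩ := exists_of_baseChange (μ₀.restrictScalars Γ(Y, T)) hμ _ p' hpp.symm m
    (fun r hr hmem => by
    have h2 := Ideal.smul_restrictScalars (S := Γ(X, U)) (hT.primeIdealOf ⟨f x, eU hxU⟩).asIdeal
      (⊤ : Submodule Γ(X, U) Γ(F, U))
    rw [Submodule.restrictScalars_top] at h2
    rw [← h2, Submodule.restrictScalars_mem, ← algebraMap_smul Γ(X, U) r m] at hmem
    refine hm _ ?_ hmem
    have := congrArg PrimeSpectrum.asIdeal (InjFibre.comap_primeIdealOf f hT hU eU hxU)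
    exact fun hh => hr ((SetLike.ext_iff.1 this r).1 hh))
  obtain ⟨Q, hQ, hQm⟩ := exists_prime (T := Γ(X', W)) p' m' hm'
  have hxW : hWa.fromSpec Q ∈ W := by
    have : hWa.fromSpec Q ∈ Set.range hWa.fromSpec := ⟨Q, rfl⟩
    rwa [hWa.range_fromSpec] at this
  have hQeq : hWa.primeIdealOf ⟨hWa.fromSpec Q, hxW⟩ = Q :=
    hWa.fromSpec.isOpenEmbedding.injective (hWa.fromSpec_primeIdealOf _)
  have hcomap := InjFibre.comap_primeIdealOf f' hT' hWa eW' hxW
  rw [hQeq] at hcomap
  have hy : f' (hWa.fromSpec Q) = y' := by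
    have h1 := congrArg hT'.fromSpec (hcomap.symm.trans (PrimeSpectrum.ext hQ))
    rwa [hT'.fromSpec_primeIdealOf, hT'.fromSpec_primeIdealOf] at h1
  refine ⟨hWa.fromSpec Q, hy, (stalk_criterion f' P hT' hWa eW' hxW).2 ⟨m', fun t ht => ?_⟩⟩
  rw [hQeq] at ht
  rw [← hcomap]
  show t • m' ∉ (Q.asIdeal.under Γ(Y', T')).map (algebraMap _ _) • ⊤
  rw [hQ]
  exact hQm t ht

end Groth.Agent.Desc19b.FibreNonzero
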