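import Groth.Agent.Desc19b.Amitsur

/-! Mesablishvili: along a universally injective ring map the descent fork stays exact after tensoring. -/

set_option autoImplicit false
set_option backward.isDefEq.respectTransparency.types false
set_option backward.isDefEq.respectTransparency false

universe u

open TensorProduct

namespace Groth.Agent.Desc19b.ForkExact

variable {R S : Type u} [CommRing R] [CommRing S] [Algebra R S]
  (σ : CharacterModule R →ₗ[R] CharacterModule S)

/-- The natural section of `C(η_X)` induced by a section `σ` of `C(R → S)`. -/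
noncomputable def tau (X : Type u) [AddCommGroup X] [Module R X] :
    CharacterModule X →ₗ[R] CharacterModule (S ⊗[R] X) :=
  CharacterModule.dual (TensorProduct.comm R S X).toLinearMap ∘ₗ CharacterModule.uncurry ∘ₗ
    LinearMap.compRight R σ ∘ₗ CharacterModule.curry ∘ₗ
      CharacterModule.dual (TensorProduct.rid R X).toLinearMap

theorem tau_apply {X : Type u} [AddCommGroup X] [Module R X] (c : CharacterModule X) (s : S) (x : X) :
    tau σ X c (s ⊗ₜ x)
      = σ (CharacterModule.curry (CharacterModule.dual (TensorProduct.rid R X).toLinearMap c) x) s := rfl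

theorem tau_natural {X Y : Type u} [AddCommGroup X] [Module R X] [AddCommGroup Y] [Module R Y]
    (g : X →ₗ[R] Y) (c : CharacterModule Y) :
    tau σ X (CharacterModule.dual g c) = CharacterModule.dual (g.lTensor S) (tau σ Y c) := by
  refine DFunLike.ext _ _ fun z => ?_
  induction z using TensorProduct.induction_on with
  | zero => simp only [map_zero]
  | add a b ha hb => simp only [map_add, ha, hb]
  | tmul s x =>
    show tau σ X (CharacterModule.dual g c) (s ⊗ₜ x) = tau σ Y c (s ⊗ₜ g x)
    rw [tau_apply, tau_apply]
    congr 2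
    refine DFunLike.ext _ _ fun r => ?_
    show c (g (r • x)) = c (r • g x)
    rw [map_smul]

theorem dual_eta_tau (hσ : (CharacterModule.dual (Algebra.linearMap R S)).comp σ = LinearMap.id)
    {X : Type u} [AddCommGroup X] [Module R X] (c : CharacterModule X) :
    CharacterModule.dual (TensorProduct.mk R S X 1) (tau σ X c) = c := by
  refine DFunLike.ext _ _ fun x => ?_
  show tau σ X c ((1 : S) ⊗ₜ x) = c x
  rw [tau_apply]
  have h := LinearMap.congr_fun hσ
    (CharacterModule.curry (CharacterModule.dual (TensorProduct.rid R X).toLinearMap c) x)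
  have h' := congrArg (fun q : CharacterModule R => q 1) h
  simp only [LinearMap.comp_apply, LinearMap.id_coe, id_eq] at h'
  refine Eq.trans ?_ (h'.trans ?_)
  · exact (congrArg (σ (CharacterModule.curry (CharacterModule.dual (TensorProduct.rid R X).toLinearMap c) x) ·)
      (map_one (algebraMap R S))).symm
  · show c ((1 : R) • x) = c x
    rw [one_smul]

variable (hσ : (CharacterModule.dual (Algebra.linearMap R S)).comp σ = LinearMap.id)
  {N : Type u} [AddCommGroup N] [Module R N] (θ : N →ₗ[R] S ⊗[R] N)
  (hθ : θ.lTensor S ∘ₗ θ = (TensorProduct.mk R S N 1).lTensor S ∘ₗ θ)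

/-- The difference map of the fork. -/
noncomputable abbrev dd : N →ₗ[R] S ⊗[R] N := θ - TensorProduct.mk R S N 1

/-- The idempotent. -/
noncomputable def e : CharacterModule N →ₗ[R] CharacterModule N :=
  CharacterModule.dual θ ∘ₗ tau σ N

include hθ in
theorem e_dual_dd (χ : CharacterModule (S ⊗[R] N)) : e σ θ (CharacterModule.dual (dd θ) χ) = 0 := by
  have h : CharacterModule.dual (dd θ) χ = CharacterModule.dual θ χ - CharacterModule.dual (TensorProduct.mk R S N 1) χ := by
    refine DFunLike.ext _ _ fun x => ?_
    show χ (θ x - _) = χ (θ x) - χ _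
    rw [map_sub]
    rfl
  rw [h, map_sub, sub_eq_zero]
  simp only [e, LinearMap.comp_apply, tau_natural]
  refine DFunLike.ext _ _ fun x => ?_
  exact congrArg (tau σ (S ⊗[R] N) χ) (LinearMap.congr_fun hθ x)

include hσ in
theorem sub_e (ψ : CharacterModule N) : ψ - e σ θ ψ = - CharacterModule.dual (dd θ) (tau σ N ψ) := by
  have h := dual_eta_tau σ hσ ψ
  refine DFunLike.ext _ _ fun x => ?_
  show ψ x - tau σ N ψ (θ x) = - tau σ N ψ (θ x - (1 : S) ⊗ₜ x)
  rw [map_sub, neg_sub, sub_left_inj]
  exact (DFunLike.congr_fun h x).symm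

include hθ in
theorem e_eq_zero {ψ : CharacterModule N} (h : CharacterModule.dual (LinearMap.ker (dd θ)).subtype ψ = 0) :
    e σ θ ψ = 0 := by
  set M := LinearMap.ker (dd θ)
  let ψ' : CharacterModule (N ⧸ M) :=
    QuotientAddGroup.lift M.toAddSubgroup ψ fun x hx => AddMonoidHom.mem_ker.2 (DFunLike.congr_fun h ⟨x, hx⟩)
  let d' : (N ⧸ M) →ₗ[R] S ⊗[R] N := M.liftQ (dd θ) le_rfl
  have hd : Function.Injective d' := LinearMap.ker_eq_bot.1 (Submodule.ker_liftQ_eq_bot _ _ _ le_rfl)
  obtain ⟨χ, hχ⟩ := CharacterModule.dual_surjective_of_injective d' hd ψ'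
  have : ψ = CharacterModule.dual (dd θ) χ := by
    refine DFunLike.ext _ _ fun x => ?_
    exact (DFunLike.congr_fun hχ (Submodule.Quotient.mk x)).symm
  rw [this]
  exact e_dual_dd σ θ hθ χ

include hσ hθ in
theorem exists_section :
    ∃ s : CharacterModule (LinearMap.ker (dd θ)) →ₗ[R] CharacterModule N,
      (CharacterModule.dual (LinearMap.ker (dd θ)).subtype).comp s = LinearMap.id := by
  set M := LinearMap.ker (dd θ)
  have hsurj := CharacterModule.dual_surjective_of_injective M.subtype M.injective_subtype
  choose l hl using hsurj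
  have key : ∀ a b, CharacterModule.dual M.subtype a = CharacterModule.dual M.subtype b →
      e σ θ a = e σ θ b := fun a b hab => by
    rw [← sub_eq_zero, ← map_sub]
    exact e_eq_zero σ θ hθ (by rw [map_sub, hab, sub_self])
  have hres : ∀ a, CharacterModule.dual M.subtype (e σ θ a) = CharacterModule.dual M.subtype a := by
    intro a
    symm
    rw [← sub_eq_zero, ← map_sub, sub_e σ hσ θ]
    refine DFunLike.ext _ _ fun x => ?_
    show - tau σ N a (dd θ x.1) = 0
    rw [show dd θ x.1 = 0 from x.2, map_zero, neg_zero]
  refine ⟨{ toFun := fun c => e σ θ (l c), map_add' := fun c c' => ?_, map_smul' := fun r c => ?_ }, ?_⟩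
  · rw [← map_add]
    exact key _ _ (by rw [map_add, hl, hl, hl])
  · rw [RingHom.id_apply, ← map_smul]
    exact key _ _ (by rw [map_smul, hl, hl])
  · refine LinearMap.ext fun c => ?_
    exact (hres (l c)).trans (hl c)

include hσ hθ in
theorem lTensor_subtype_injective (P : Type u) [AddCommGroup P] [Module R P] :
    Function.Injective ((LinearMap.ker (dd θ)).subtype.lTensor P) :=
  (lTensor_injective_forall_iff _).2 (exists_section σ hσ θ hθ) P

include hσ hθ in
theorem mem_range_of_eq_zero {P : Type u} [AddCommGroup P] [Module R P] {x : P ⊗[R] N}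
    (hx : (dd θ).lTensor P x = 0) : x ∈ LinearMap.range ((LinearMap.ker (dd θ)).subtype.lTensor P) := by
  set M := LinearMap.ker (dd θ)
  rw [← Submodule.Quotient.mk_eq_zero]
  refine CharacterModule.eq_zero_of_character_apply fun c => ?_
  let c' : CharacterModule (P ⊗[R] N) :=
    CharacterModule.dual (Submodule.mkQ (LinearMap.range (M.subtype.lTensor P))) c
  let χ : CharacterModule (P ⊗[R] (S ⊗[R] N)) :=
    CharacterModule.uncurry (tau σ N ∘ₗ CharacterModule.curry c')
  have key : ∀ z : P ⊗[R] N, c' z = - χ ((dd θ).lTensor P z) := by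
    intro z
    induction z using TensorProduct.induction_on with
    | zero => simp only [map_zero, neg_zero]
    | add a b ha hb => simp only [map_add, ha, hb, neg_add]
    | tmul p n =>
      have he : e σ θ (CharacterModule.curry c' p) = 0 := by
        refine e_eq_zero σ θ hθ (DFunLike.ext _ _ fun m => ?_)
        show c (Submodule.Quotient.mk (p ⊗ₜ[R] m.1)) = 0
        exact (congrArg c ((Submodule.Quotient.mk_eq_zero _).2 (LinearMap.mem_range.2 ⟨p ⊗ₜ m, rfl⟩))).trans (map_zero c)
      have h := DFunLike.congr_fun (sub_e σ hσ θ (CharacterModule.curry c' p)) n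
      rw [he, sub_zero] at h
      exact h
  show c' x = 0
  rw [key, hx, map_zero, neg_zero]

end Groth.Agent.Desc19b.ForkExact
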