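import Groth.Agent.Desc19b.FTFlatOpen
import Groth.Agent.Desc19b.FamilyDescent
import Groth.Agent.Desc19b.EffAffine
import Mathlib.RingTheory.LocalRing.Module

/-! Bounds on the number of local generators descend along fpqc coverings. -/

set_option autoImplicit false
set_option linter.style.haveILetI false
set_option backward.isDefEq.respectTransparency false
set_option backward.isDefEq.respectTransparency.types false

universe u

open CategoryTheory CategoryTheory.Limits AlgebraicGeometry TopologicalSpace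
open scoped TensorProduct
open Groth.Agent.OmegaLib

noncomputable section

namespace Groth.Agent.Desc19b

theorem exists_span_of_baseChange {R S M : Type u} [CommRing R] [IsLocalRing R] [CommRing S] [IsLocalRing S]
    [Algebra R S] [IsLocalHom (algebraMap R S)] [AddCommGroup M] [Module R M] [Module.Finite R M]
    {I : Type*} [Fintype I] (t : I → S ⊗[R] M) (ht : Submodule.span S (Set.range t) = ⊤)
    {r : ℕ} (hr : Fintype.card I ≤ r) : ∃ g : Fin r → M, Submodule.span R (Set.range g) = ⊤ := by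
  let k := IsLocalRing.ResidueField R
  let K := IsLocalRing.ResidueField S
  let d := Module.finrank k (k ⊗[R] M)
  have hd : d ≤ r := by
    let q : S ⊗[R] M →ₗ[S] K ⊗[R] M :=
      TensorProduct.AlgebraTensorModule.map (Algebra.linearMap S K) LinearMap.id
    have hq : Function.Surjective q :=
      LinearMap.rTensor_surjective M (g := ((Algebra.linearMap S K).restrictScalars R))
        IsLocalRing.residue_surjective
    have h1 : Submodule.span S (Set.range (q ∘ t)) = ⊤ := by
      rw [Set.range_comp, ← Submodule.map_span, ht, Submodule.map_top, LinearMap.range_eq_top.2 hq]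
    have h2 : Submodule.span K (Set.range (q ∘ t)) = ⊤ := by
      refine eq_top_iff.2 fun z _ => ?_
      exact Submodule.span_subset_span S K _ (h1.ge (Submodule.mem_top (x := z)))
    have h3 : Module.finrank K (K ⊗[R] M) ≤ Fintype.card I := by
      have := finrank_range_le_card (R := K) (q ∘ t)
      rwa [Set.finrank, h2, finrank_top] at this
    have h4 : Module.finrank K (K ⊗[R] M) = d := by
      rw [← (TensorProduct.AlgebraTensorModule.cancelBaseChange R k K K M).finrank_eq,
        Module.finrank_baseChange]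
    omega
  let b := Module.finBasis k (k ⊗[R] M)
  have hs : ∀ i : Fin d, ∃ m : M, (1 : k) ⊗ₜ[R] m = b i := fun i =>
    TensorProduct.mk_surjective R M k IsLocalRing.residue_surjective (b i)
  choose m hm using hs
  have hsp : Submodule.span R (Set.range m) = ⊤ := IsLocalRing.span_eq_top_of_tmul_eq_basis m b hm
  refine ⟨fun i => if h : (i : ℕ) < d then m ⟨i, h⟩ else 0, eq_top_iff.2 (hsp.ge.trans ?_)⟩
  refine Submodule.span_mono ?_
  rintro _ ⟨j, rfl⟩
  exact ⟨⟨j, lt_of_lt_of_le j.2 hd⟩, by simp⟩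

variable {X : Scheme.{u}}

theorem exists_genOn_of_span {F : X.Modules} (hF : Coherent.LocallyFinGen F) (x : X) {r : ℕ}
    (g : Fin r → (DerSch.stalkFunctor X x).obj F)
    (hg : Submodule.span (X.presheaf.stalk x) (Set.range g) = ⊤) :
    ∃ (V : X.Opens) (s : ULift.{u} (Fin r) → Γ(F, V)), x ∈ V ∧ Coherent.GenOn F V s := by
  classical
  obtain ⟨U, I, _, t, hxU, ht⟩ := hF x
  choose O hxO s hs using fun j => exists_gm F (g j)
  choose c hc using fun k : I => (Submodule.mem_span_range_iff_exists_fun _).1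
    (hg.ge (Submodule.mem_top (x := gm F U x hxU (t k))))
  choose P hxP a ha using fun p : I × Fin r => X.presheaf.exists_germ_eq (x := x) (c p.1 p.2)
  let U₁ : X.Opens := U ⊓ ⟨⋂ j, (O j : Set X), isOpen_iInter_of_finite fun j => (O j).2⟩ ⊓
    ⟨⋂ p, (P p : Set X), isOpen_iInter_of_finite fun p => (P p).2⟩
  have hx₁ : x ∈ U₁ := ⟨⟨hxU, Set.mem_iInter.2 hxO⟩, Set.mem_iInter.2 hxP⟩
  have h1U : U₁ ≤ U := fun z hz => hz.1.1
  have h1O : ∀ j, U₁ ≤ O j := fun j z hz => Set.mem_iInter.1 hz.1.2 j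
  have h1P : ∀ p, U₁ ≤ P p := fun p z hz => Set.mem_iInter.1 hz.2 p
  let rhs : I → Γ(F, U₁) := fun k =>
    ∑ j, X.presheaf.map (homOfLE (h1P (k, j))).op (a (k, j)) • Coherent.resM F (h1O j) (s j)
  have heq : ∀ k, gm F U₁ x hx₁ (Coherent.resM F h1U (t k)) = gm F U₁ x hx₁ (rhs k) := fun k => by
    rw [show gm F U₁ x hx₁ (Coherent.resM F h1U (t k)) = gm F U x hxU (t k) from gm_res F hxU h1U hx₁ _, ← hc k]
    refine ((map_sum (F.presheaf.germ U₁ x hx₁).hom _ _).trans (Finset.sum_congr rfl fun j _ => ?_)).symm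
    refine (gm_smul F hx₁ _ _).trans ?_
    rw [X.presheaf.germ_res_apply, ha, show gm F U₁ x hx₁ (Coherent.resM F (h1O j) (s j)) = gm F (O j) x (hxO j) (s j) from
      gm_res F (hxO j) (h1O j) hx₁ _, hs]
  choose W hxW i₁ i₂ hW using fun k =>
    TopCat.Presheaf.germ_eq F.presheaf (U := U₁) (V := U₁) x hx₁ hx₁ _ _ (heq k)
  let U₂ : X.Opens := U₁ ⊓ ⟨⋂ k, (W k : Set X), isOpen_iInter_of_finite fun k => (W k).2⟩
  refine ⟨U₂, fun j => Coherent.resM F ((inf_le_left : U₂ ≤ U₁).trans (h1O j.down)) (s j.down),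
    ⟨hx₁, Set.mem_iInter.2 hxW⟩, FTFlatOpen.genOn_of_span _ fun z hz => ?_⟩
  rw [eq_top_iff, ← FTFlatOpen.span_gm_eq_top ht (h1U hz.1)]
  refine Submodule.span_le.2 ?_
  rintro _ ⟨k, rfl⟩
  have hk : z ∈ W k := Set.mem_iInter.1 hz.2 k
  have e1 := congrArg (gm F (W k) z hk) (hW k)
  have e2 : gm F U z (h1U hz.1) (t k) = gm F U₁ z hz.1 (rhs k) :=
    ((gm_res F (h1U hz.1) h1U hz.1 (t k)).symm.trans (gm_res F hz.1 (leOfHom (i₁ k)) hk _).symm).trans
      (e1.trans (gm_res F hz.1 (leOfHom (i₂ k)) hk _))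
  show gm F U z (h1U hz.1) (t k) ∈ _
  rw [e2, show gm F U₁ z hz.1 (rhs k) = _ from map_sum (F.presheaf.germ U₁ z hz.1).hom _ _]
  refine Submodule.sum_mem _ fun j _ => ?_
  show gm F U₁ z hz.1 (_ • Coherent.resM F (h1O j) (s j)) ∈ _
  rw [gm_smul]
  refine Submodule.smul_mem _ _ (Submodule.subset_span ⟨⟨j⟩, ?_⟩)
  exact (gm_res F (h1O j hz.1) _ hz _).trans (gm_res F (h1O j hz.1) (h1O j) hz.1 _).symm

/-- Generators data give generating sections around each point, of bounded number. -/
theorem exists_genOn_of_localGeneratorsData (F : X.Modules)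
    (σ : SheafOfModules.LocalGeneratorsData.{u} (R := X.ringCatSheaf) F) {r : ℕ}
    (hσ : ∀ k, Finite (σ.generators k).I ∧ Nat.card (σ.generators k).I ≤ r) (x : X) :
    ∃ (U : X.Opens) (I : Type u) (_ : Fintype I) (s : I → Γ(F, U)),
      x ∈ U ∧ Fintype.card I ≤ r ∧ Coherent.GenOn F U s := by
  have hcov : IsOpenCover σ.X := (Opens.coversTop_iff _ σ.X).1 σ.coversTop
  obtain ⟨i, hi⟩ := hcov.exists_mem x
  obtain ⟨V, hV⟩ : ∃ V : X.Opens, V = σ.X i := ⟨_, rfl⟩
  have hG : ∃ G : SheafOfModules.GeneratingSections.{u} (R := X.ringCatSheaf.over V)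
      (SheafOfModules.over F V), Finite G.I ∧ Nat.card G.I ≤ r := by
    subst hV; exact ⟨σ.generators i, hσ i⟩
  rw [← hV] at hi
  obtain ⟨G₀, hfin, hcard⟩ := hG
  let Φ : SheafOfModules.{u} (X.ringCatSheaf.over V) ⥤
      SheafOfModules.{u} V.toScheme.ringCatSheaf :=
    (Scheme.Modules.overEquiv V).functor
  have : PreservesColimitsOfSize.{u, u} Φ :=
    (Scheme.Modules.overEquiv V).toAdjunction.leftAdjoint_preservesColimits
  let G := G₀.map Φ (V.sheafOfModulesEquivOverUnit X.ringCatSheaf).symm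
  let e := (Scheme.Modules.overFunctorEquiv V).app F
  let φ : Coherent.freeMod V.toScheme G.I ⟶ F.restrict V.ι := G.π ≫ e.hom
  haveI : Finite G.I := hfin
  letI := Fintype.ofFinite G.I
  have : Epi φ := by
    have : IsIso e.hom := e.isIso_hom
    let e' : (show V.toScheme.Modules from Φ.obj (SheafOfModules.over F V)) ≅ F.restrict V.ι := e
    have : Epi e'.hom := inferInstance
    have hπ : Epi (C := V.toScheme.Modules) G.π := G.epi
    exact epi_comp (C := V.toScheme.Modules) G.π e'.hom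
  exact ⟨V.ι ''ᵁ ⊤, G.I, inferInstance, _, ⟨⟨x, hi⟩, trivial, rfl⟩, by rw [← Nat.card_eq_fintype_card]; exact hcard,
    Coherent.genOn_of_restrict V.ι F (Coherent.genOn_of_epi φ)⟩

theorem exists_localGeneratorsData_of_genOn (F : X.Modules) {r : ℕ}
    (h : ∀ x : X, ∃ (U : X.Opens) (s : ULift.{u} (Fin r) → Γ(F, U)), x ∈ U ∧ Coherent.GenOn F U s) :
    ∃ σ : SheafOfModules.LocalGeneratorsData.{u} (R := X.ringCatSheaf) F,
      ∀ k, Finite (σ.generators k).I ∧ Nat.card (σ.generators k).I ≤ r := by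
  choose U s hxU hs using h
  let t : ∀ x, ULift.{u} (Fin r) → Γ(F.restrict (U x).ι, ⊤) := fun x i =>
    (F.restrictAppIso (U x).ι ⊤).inv (Coherent.resM F (Scheme.Opens.ι_image_top (U x)).le (s x i))
  have hgen : ∀ x, Coherent.GenOn (F.restrict (U x).ι) ⊤ (t x) := fun x =>
    Coherent.genOn_restrict_of_genOn (U x).ι F ((hs x).res _)
  let π : ∀ x, Coherent.freeMod (U x).toScheme (ULift.{u} (Fin r)) ⟶ F.restrict (U x).ι := fun x =>
    Coherent.freeDesc fun i => Coherent.unitDesc (F.restrict (U x).ι) (t x i)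
  haveI : ∀ x, Epi (π x) := fun x => Coherent.epi_of_genOn_top (hgen x)
  let G : ∀ x, SheafOfModules.GeneratingSections.{u} (R := (U x).toScheme.ringCatSheaf)
      (F.restrict (U x).ι) := fun x =>
    { I := ULift.{u} (Fin r)
      s := SheafOfModules.freeHomEquiv _ (π x)
      epi := by erw [Equiv.symm_apply_apply]; exact inferInstanceAs (Epi (π x)) }
  let Φ : ∀ x, SheafOfModules.{u} (U x).toScheme.ringCatSheaf ⥤
      SheafOfModules.{u} (X.ringCatSheaf.over (U x)) := fun x =>
    (Scheme.Modules.overEquiv (U x)).inverse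
  have : ∀ x, PreservesColimitsOfSize.{u, u} (Φ x) := fun x =>
    (Scheme.Modules.overEquiv (U x)).symm.toAdjunction.leftAdjoint_preservesColimits
  let e : ∀ x, (Φ x).obj (F.restrict (U x).ι) ≅ SheafOfModules.over F (U x) := fun x =>
    (Scheme.Modules.overEquiv (U x)).inverse.mapIso
        ((Scheme.Modules.overFunctorEquiv (U x)).symm.app F) ≪≫
      ((Scheme.Modules.overEquiv (U x)).unitIso.app
        ((SheafOfModules.overFunctor X.ringCatSheaf (U x)).obj F)).symm
  refine ⟨{ I := X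
            X := U
            coversTop := (Opens.coversTop_iff _ U).2 (eq_top_iff.2 fun x _ => Opens.mem_iSup.2 ⟨x, hxU x⟩)
            generators := fun x =>
              haveI : Epi (e x).hom := inferInstance
              ((G x).map (Φ x) ((U x).sheafOfModulesEquivOverInverseUnit X.ringCatSheaf).symm).ofEpi
                (e x).hom }, fun x => ⟨(inferInstance : Finite (ULift.{u} (Fin r))), ?_⟩⟩
  exact (show Nat.card (ULift.{u} (Fin r)) ≤ r by simp)

/-- Being locally generated by at most `r` sections descends along fpqc families. -/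
theorem exists_localGeneratorsData_of_fpqc {ι : Type u} {Xi : ι → Scheme.{u}} (f : ∀ i, Xi i ⟶ X)
    (hf : Presieve.ofArrows Xi f ∈ Scheme.fpqcPrecoverage X) (F : X.Modules) [Coh.IsQCoh F] (r : ℕ)
    (h : ∀ i, ∃ σ : SheafOfModules.LocalGeneratorsData.{u} (R := (Xi i).ringCatSheaf) ((Scheme.Modules.pullback (f i)).obj F),
      ∀ k, Finite (σ.generators k).I ∧ Nat.card (σ.generators k).I ≤ r) :
    ∃ σ : SheafOfModules.LocalGeneratorsData.{u} (R := X.ringCatSheaf) F,
      ∀ k, Finite (σ.generators k).I ∧ Nat.card (σ.generators k).I ≤ r := by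
  classical
  choose σ hσ using h
  have hflat : ∀ i, Flat (f i) := ((Scheme.presieve₀_mem_precoverage_iff (PreZeroHypercover.mk ι Xi f)).1 hf.2).2
  haveI : ∀ i, Coh.IsQCoh ((Scheme.Modules.pullback (f i)).obj F) := fun i =>
    EGA43.InjFibre.isQCoh_pullback (f i) F
  have hfg : ∀ i, Coherent.LocallyFinGen ((Scheme.Modules.pullback (f i)).obj F) := fun i z => by
    obtain ⟨U, I, _, s, hz, -, hs⟩ := exists_genOn_of_localGeneratorsData _ (σ i) (hσ i) z
    exact ⟨U, I, inferInstance, s, hz, hs⟩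
  have hpieces : ∀ W : X.affineOpens, Module.Finite Γ(X, W.1) Γ(F, W.1) := fun W => by
    obtain ⟨n, a, V, hV, e, hfl, hsurj⟩ := exists_affine_pieces hf W
    letI : ∀ k, Algebra Γ(X, W.1) Γ(Xi (a k), V k) := fun k => ((f (a k)).appLE W.1 (V k) (e k)).hom.toAlgebra
    haveI : ∀ k, Module.Flat Γ(X, W.1) Γ(Xi (a k), V k) := hfl
    refine finite_of_family (fun k => Γ(Xi (a k), V k)) (fun p => ?_) _ fun k => ?_
    · obtain ⟨k, z, hz⟩ := hsurj (W.2.isoSpec.inv p)
      refine ⟨k, z, W.2.isoSpec.inv.homeomorph.injective ?_⟩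
      exact hz
    · haveI := Coherent.finite_sections _ (hfg (a k)) (hV k)
      obtain ⟨E⟩ := Flatn12.nonempty_pullback_sections_equiv (f (a k)) F W.2 (hV k) (e k)
      exact Module.Finite.equiv E.symm
  have hfinF : Coherent.LocallyFinGen F := Coherent.locallyFinGen_of_finite_sections F
    (fun U : X.affineOpens => U.1) (fun U => U.2) (fun x => by
      obtain ⟨V, hV, hxV, -⟩ := Opens.isBasis_iff_nbhd.mp X.isBasis_affineOpens (Opens.mem_top x)
      exact ⟨⟨V, hV⟩, hxV⟩) hpieces
  refine exists_localGeneratorsData_of_genOn F fun x => ?_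
  have hz : ∃ i z, f i z = x := by
    obtain ⟨U, hU, hxU, -⟩ := Opens.isBasis_iff_nbhd.mp X.isBasis_affineOpens (Opens.mem_top x)
    obtain ⟨n, a, V, hV, e, -, hsurj⟩ := exists_affine_pieces hf ⟨U, hU⟩
    obtain ⟨k, z, hz⟩ := hsurj ⟨x, hxU⟩
    refine ⟨a k, (hV k).fromSpec z, ?_⟩
    have := congrArg (Scheme.Opens.ι (X := X) U) hz
    rw [← Scheme.Hom.comp_apply, Category.assoc, IsAffineOpen.isoSpec_inv_ι] at this
    rw [← Scheme.Hom.comp_apply, ← IsAffineOpen.SpecMap_appLE_fromSpec (f (a k)) hU (hV k) (e k)]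
    exact this
  obtain ⟨i, z, rfl⟩ := hz
  obtain ⟨U, I, _, t, hzU, hcard, ht⟩ := exists_genOn_of_localGeneratorsData _ (σ i) (hσ i) z
  letI := ((f i).stalkMap z).hom.toAlgebra
  haveI : IsLocalHom (algebraMap (X.presheaf.stalk (f i z)) ((Xi i).presheaf.stalk z)) :=
    inferInstanceAs (IsLocalHom ((f i).stalkMap z).hom)
  haveI : Module.Finite (X.presheaf.stalk (f i z)) ((DerSch.stalkFunctor X (f i z)).obj F) := by
    obtain ⟨U', I', _, t', hx', ht'⟩ := hfinF (f i z)
    exact ⟨⟨Finset.univ.image fun k => gm F U' (f i z) hx' (t' k), by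
      rw [Finset.coe_image, Finset.coe_univ, Set.image_univ]; exact FTFlatOpen.span_gm_eq_top ht' hx'⟩⟩
  obtain ⟨E, -⟩ := exists_pullback_stalk_equiv (f i) F z
  obtain ⟨g, hg⟩ := exists_span_of_baseChange (R := X.presheaf.stalk (f i z)) (S := (Xi i).presheaf.stalk z)
    (M := (DerSch.stalkFunctor X (f i z)).obj F)
    (fun k => E.symm (gm _ U z hzU (t k))) (by
      rw [show (fun k => E.symm (gm _ U z hzU (t k))) = E.symm ∘ (fun k => gm _ U z hzU (t k)) from rfl,
        Set.range_comp, ← LinearEquiv.coe_coe, ← Submodule.map_span, FTFlatOpen.span_gm_eq_top ht hzU,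
        Submodule.map_top, LinearEquiv.range]) hcard
  exact exists_genOn_of_span hfinF _ g hg

end Groth.Agent.Desc19b
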