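import Groth.Agent.CAlgH.RegularSmooth
import Mathlib.FieldTheory.IsAlgClosed.AlgebraicClosure
import Mathlib.FieldTheory.Perfect
import Mathlib.FieldTheory.Minpoly.Field
import Mathlib.RingTheory.Smooth.Basic
import Mathlib.LinearAlgebra.TensorProduct.Pi

/-! Integral elements of smooth algebras over a field are separable. -/

set_option autoImplicit false

universe u

open Polynomial TensorProduct

namespace Groth.Agent.Desc19b

theorem separable_minpoly_of_smooth {k A : Type u} [Field k] [CommRing A] [Algebra k A] [Algebra.Smooth k A] [Nontrivial A]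
    {a : A} (ha : IsIntegral k a) : (minpoly k a).Separable := by
  let K := AlgebraicClosure k
  haveI : _root_.IsReduced (K ⊗[k] A) := CAlgH.isReduced_of_smooth K (K ⊗[k] A)
  let q := (minpoly k a).map (algebraMap k K)
  have hq : q.Monic := (minpoly.monic ha).map _
  rw [← separable_map (algebraMap k K), PerfectField.separable_iff_squarefree]
  refine IsRadical.squarefree hq.ne_zero fun n r hr => ?_
  let b : K ⊗[k] A := 1 ⊗ₜ a
  have hqb : aeval b q = 0 := by
    rw [aeval_map_algebraMap, show b = Algebra.TensorProduct.includeRight a from rfl,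
      aeval_algHom_apply, minpoly.aeval, map_zero]
  rw [← modByMonic_eq_zero_iff_dvd hq]
  have hb : aeval b (r %ₘ q) = 0 := by
    rw [aeval_modByMonic_eq_self_of_root hqb]
    refine IsNilpotent.eq_zero ⟨n, ?_⟩
    obtain ⟨s, hs⟩ := hr
    rw [← map_pow, hs, map_mul, hqb, zero_mul]
  let d := (minpoly k a).natDegree
  have hd : q.natDegree = d := (minpoly.monic ha).natDegree_map _
  let φ : (Fin d → k) →ₗ[k] A := Fintype.linearCombination k fun i : Fin d => a ^ (i : ℕ)
  have hφ : Function.Injective φ := (linearIndependent_pow (K := k) a).fintypeLinearCombination_injective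
  let t : K ⊗[k] (Fin d → k) := ∑ i : Fin d, (r %ₘ q).coeff i ⊗ₜ Pi.single i (1 : k)
  have ht : φ.lTensor K t = aeval b (r %ₘ q) := by
    rw [aeval_eq_sum_range' (n := d) (by
      rw [← hd]
      refine natDegree_modByMonic_lt r hq fun h1 => ?_
      exact (minpoly.natDegree_pos ha).ne' (hd.symm.trans (by rw [h1, natDegree_one]))) b,
      Finset.sum_range, map_sum]
    refine Finset.sum_congr rfl fun i _ => ?_
    rw [LinearMap.lTensor_tmul, Fintype.linearCombination_apply_single, one_smul]
    simp [b, Algebra.TensorProduct.tmul_pow, TensorProduct.smul_tmul']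
  have ht0 : t = 0 := Module.Flat.lTensor_preserves_injective_linearMap (M := K) φ hφ
    (by rw [ht, hb, map_zero])
  ext i
  rw [coeff_zero]
  rcases lt_or_ge i d with hi | hi
  · have h := congrArg (fun z => TensorProduct.piScalarRight k K K (Fin d) z ⟨i, hi⟩) ht0
    simpa [t, Pi.single_apply, Finset.sum_apply] using h
  · refine coeff_eq_zero_of_natDegree_lt (lt_of_lt_of_le ?_ hi)
    rw [← hd]
    refine natDegree_modByMonic_lt r hq fun h1 => ?_
    exact (minpoly.natDegree_pos ha).ne' (hd.symm.trans (by rw [h1, natDegree_one]))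

end Groth.Agent.Desc19b
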