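import Groth.Agent.Desc19b.EffSepLqf
import Groth.Agent.H8Top.SchemeBasic

/-!
# The point relation of a descent datum and stable interiors of opens

For a finite quasi-compact flat family the points of a descent datum related to the complement of an open
have a closure consisting of specializations; its complement is the largest stable open inside the given one
that contains every stable set which is stable under generalization.
-/

set_option autoImplicit false
set_option linter.style.haveILetI false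
set_option backward.isDefEq.respectTransparency false
set_option backward.isDefEq.respectTransparency.types false

universe u

open CategoryTheory CategoryTheory.Limits AlgebraicGeometry Desc
open Groth.Agent.Desc19b Groth.Agent.Desc19b.EffSepLqf

noncomputable section

namespace Groth.Agent.Desc19b.IndQA

variable {S : Scheme.{u}} {ι : Type u} {X : ι → Scheme.{u}} {f : ∀ i, X i ⟶ S} (D : SchDDFam f)

/-- The gluing map on the universal point. -/
def Φ (k l : ι) : Src D k l ⟶ (D.obj l).left := toTgt D k l ≫ pullback.snd _ _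

theorem Φ_hom (k l : ι) : Φ D k l ≫ (D.obj l).hom = pullback.snd _ _ := toTgt_snd_hom D k l

theorem comp_Φ {T : Scheme.{u}} {k l : ι} (u : T ⟶ Src D k l) (x : T ⟶ X k) (y : T ⟶ X l)
    (hx : u ≫ pullback.fst _ _ ≫ (D.obj k).hom = x) (hy : u ≫ pullback.snd _ _ = y) (h : x ≫ f k = y ≫ f l)
    (w : Lifts (D.obj k) x) (hw : w.1 = u ≫ pullback.fst _ _) : u ≫ Φ D k l = (D.φ x y h w).1 := by
  rw [Φ, toTgt_snd]
  exact (D.φ_natural u _ _ (src_cond D k l) x y hx hy h ⟨pullback.fst _ _, rfl⟩ w hw).symm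

/-- Two points of the members are related by the datum. -/
def Rel (k l : ι) (a : (D.obj k).left) (b : (D.obj l).left) : Prop :=
  ∃ p : ↑(Src D k l), pullback.fst ((D.obj k).hom ≫ f k) (f l) p = a ∧ Φ D k l p = b

theorem rel_refl (k : ι) (a : (D.obj k).left) : Rel D k k a a := by
  let u : (D.obj k).left ⟶ Src D k k := pullback.lift (𝟙 _) (D.obj k).hom (by simp)
  have h1 : u ≫ pullback.fst _ _ = 𝟙 _ := pullback.lift_fst _ _ _
  have h2 : u ≫ Φ D k k = 𝟙 _ := by
    rw [comp_Φ D u (D.obj k).hom (D.obj k).hom (by rw [reassoc_of% h1]) (pullback.lift_snd _ _ _) rfl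
      ⟨𝟙 _, Category.id_comp _⟩ h1.symm, D.φ_self]
  exact ⟨u a, by rw [← Scheme.Hom.comp_apply, h1]; rfl, by rw [← Scheme.Hom.comp_apply, h2]; rfl⟩

theorem rel_symm {k l : ι} {a : (D.obj k).left} {b : (D.obj l).left} (h : Rel D k l a b) : Rel D l k b a := by
  obtain ⟨p, hpa, hpb⟩ := h
  let u : Src D k l ⟶ Src D l k := pullback.lift (Φ D k l) (pullback.fst _ _ ≫ (D.obj k).hom)
    (by rw [← Category.assoc, Φ_hom, Category.assoc, pullback.condition])
  have h1 : u ≫ pullback.fst _ _ = Φ D k l := pullback.lift_fst _ _ _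
  have e : (D.φ _ _ (src_cond D k l) ⟨pullback.fst _ _, rfl⟩).1 = Φ D k l :=
    (toTgt_snd D k l).symm
  have h2 : u ≫ Φ D l k = pullback.fst _ _ := by
    rw [comp_Φ D u _ _ (by rw [reassoc_of% h1, Φ_hom]) (pullback.lift_snd _ _ _) (src_cond D k l).symm
      (D.φ _ _ (src_cond D k l) ⟨pullback.fst _ _, rfl⟩) (e.trans h1.symm), D.φ_comp, D.φ_self]
  exact ⟨u p, by rw [← Scheme.Hom.comp_apply, h1]; exact hpb, by rw [← Scheme.Hom.comp_apply, h2]; exact hpa⟩

theorem rel_trans {k l m : ι} {a : (D.obj k).left} {b : (D.obj l).left} {c : (D.obj m).left}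
    (h : Rel D k l a b) (h' : Rel D l m b c) : Rel D k m a c := by
  obtain ⟨p, hpa, hpb⟩ := h
  obtain ⟨q, hqb, hqc⟩ := h'
  obtain ⟨z, hzp, hzq⟩ := Scheme.Pullback.exists_preimage_pullback (f := Φ D k l)
    (g := pullback.fst ((D.obj l).hom ≫ f l) (f m)) p q (hpb.trans hqb.symm)
  let π₁ := pullback.fst (Φ D k l) (pullback.fst ((D.obj l).hom ≫ f l) (f m))
  let π₂ := pullback.snd (Φ D k l) (pullback.fst ((D.obj l).hom ≫ f l) (f m))
  let X₀ := π₁ ≫ pullback.fst _ _ ≫ (D.obj k).hom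
  let X₁ := π₁ ≫ pullback.snd ((D.obj k).hom ≫ f k) (f l)
  let X₂ := π₂ ≫ pullback.snd ((D.obj l).hom ≫ f l) (f m)
  have hmid : π₁ ≫ Φ D k l = π₂ ≫ pullback.fst _ _ := pullback.condition
  have hX₁ : π₂ ≫ pullback.fst _ _ ≫ (D.obj l).hom = X₁ := by
    rw [← reassoc_of% hmid, Φ_hom]
  have h01 : X₀ ≫ f k = X₁ ≫ f l := by
    simp only [X₀, X₁, Category.assoc, pullback.condition]
  have h12 : X₁ ≫ f l = X₂ ≫ f m := by
    rw [← hX₁]; simp only [X₂, Category.assoc, pullback.condition]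
  let t : Lifts (D.obj k) X₀ := ⟨π₁ ≫ pullback.fst _ _, Category.assoc _ _ _⟩
  have e1 := comp_Φ D π₁ X₀ X₁ rfl rfl h01 t rfl
  have e2 := comp_Φ D π₂ X₁ X₂ hX₁ rfl h12 (D.φ X₀ X₁ h01 t) (e1.symm.trans hmid)
  let u := pullback.lift (f := (D.obj k).hom ≫ f k) (g := f m) (π₁ ≫ pullback.fst _ _) X₂
    ((by simp [X₀] : (π₁ ≫ pullback.fst _ _) ≫ (D.obj k).hom ≫ f k = X₀ ≫ f k).trans (h01.trans h12))
  have h1 : u ≫ pullback.fst _ _ = π₁ ≫ pullback.fst _ _ := pullback.lift_fst _ _ _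
  have h3 : u ≫ Φ D k m = π₂ ≫ Φ D l m := by
    rw [e2, D.φ_comp]
    exact comp_Φ D u X₀ X₂ (by rw [reassoc_of% h1]) (pullback.lift_snd _ _ _) _ t h1.symm
  refine ⟨u z, ?_, ?_⟩
  · rw [← Scheme.Hom.comp_apply, h1, Scheme.Hom.comp_apply, hzp]; exact hpa
  · rw [← Scheme.Hom.comp_apply, h3, Scheme.Hom.comp_apply, hzq]; exact hqc

theorem stable_of_rel (O : ∀ i, (D.obj i).left.Opens)
    (h : ∀ {k l : ι} {a : (D.obj k).left} {b : (D.obj l).left}, Rel D k l a b → a ∈ O k → b ∈ O l) :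
    Stable D O := by
  intro T i j x y e t ht z
  let u : T ⟶ Src D i j := pullback.lift t.1 y (by rw [← Category.assoc, t.2, e])
  have h1 : u ≫ pullback.fst _ _ = t.1 := pullback.lift_fst _ _ _
  have h2 : u ≫ Φ D i j = (D.φ x y e t).1 :=
    comp_Φ D u x y (by rw [reassoc_of% h1]; exact t.2) (pullback.lift_snd _ _ _) e t h1.symm
  refine h ⟨u z, ?_, ?_⟩ (ht z)
  · rw [← Scheme.Hom.comp_apply, h1]
  · rw [← Scheme.Hom.comp_apply, h2]

theorem rel_σ {k l : ι} (W : (D.obj k).left.Opens) (z : P D k l W) :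
    ∃ a ∈ W, Rel D k l a (σ D k l W z) := by
  have h1 : incl D k l W ≫ pullback.fst _ _ = pullback.fst _ _ ≫ W.ι := pullback.lift_fst _ _ _
  have h2 : incl D k l W ≫ Φ D k l = σ D k l W := by rw [σ_eq, Φ, Category.assoc]
  let w := pullback.fst ((W.ι ≫ (D.obj k).hom) ≫ f k) (f l) z
  refine ⟨W.ι w, w.2, incl D k l W z, ?_, ?_⟩
  · rw [← Scheme.Hom.comp_apply, h1, Scheme.Hom.comp_apply]
  · rw [← Scheme.Hom.comp_apply, h2]

section interior

variable [∀ i, Flat (f i)] [∀ i, QuasiCompact (f i)]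

instance (k l : ι) : Flat (Φ D k l) := by
  have : Flat (pullback.snd (f k) ((D.obj l).hom ≫ f l)) := MorphismProperty.pullback_snd _ _ inferInstance
  delta Φ; infer_instance

instance (k l : ι) : QuasiCompact (Φ D k l) := by
  have : QuasiCompact (pullback.snd (f k) ((D.obj l).hom ≫ f l)) :=
    MorphismProperty.pullback_snd _ _ inferInstance
  delta Φ; infer_instance

/-- The saturation of the complement of `W`, closed under specialization. -/
def hull (W : ∀ i, (D.obj i).left.Opens) (l : ι) : Set (D.obj l).left :=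
  {b | ∃ k, ∃ a : (D.obj k).left, a ∉ W k ∧ ∃ e, Rel D k l a e ∧ e ⤳ b}

theorem hull_invariant (W : ∀ i, (D.obj i).left.Opens) {l m : ι} {b : (D.obj l).left} {c : (D.obj m).left}
    (h : Rel D l m b c) (hb : b ∈ hull D W l) : c ∈ hull D W m := by
  obtain ⟨k, a, ha, e, hae, heb⟩ := hb
  obtain ⟨p, hpb, hpc⟩ := h
  haveI : Flat (pullback.fst ((D.obj l).hom ≫ f l) (f m)) := MorphismProperty.pullback_fst _ _ inferInstance
  obtain ⟨p', hp', hp'e⟩ := Flat.generalizingMap (pullback.fst ((D.obj l).hom ≫ f l) (f m)) (hpb ▸ heb)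
  refine ⟨k, a, ha, Φ D l m p', rel_trans D hae ⟨p', hp'e, rfl⟩, ?_⟩
  rw [← hpc]
  exact hp'.map (Φ D l m).continuous

theorem isClosed_hull [Finite ι] (W : ∀ i, (D.obj i).left.Opens) (l : ι) : IsClosed (hull D W l) := by
  refine isClosed_of_closure_subset fun b hb => ?_
  let Z : ∀ k, Set ↑(Src D k l) := fun k => pullback.fst ((D.obj k).hom ≫ f k) (f l) ⁻¹' (W k : Set (D.obj k).left)ᶜ
  have hsub : hull D W l ⊆ closure (⋃ k, Φ D k l '' Z k) := by
    rintro c ⟨k, a, ha, e, ⟨p, hpa, hpe⟩, hec⟩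
    exact hec.mem_closed isClosed_closure (subset_closure (Set.mem_iUnion.2 ⟨k, p, by
      show _ ∈ (W k : Set (D.obj k).left)ᶜ
      rw [hpa]; exact ha, hpe⟩))
  have hb' := closure_minimal hsub isClosed_closure hb
  rw [closure_iUnion_of_finite, Set.mem_iUnion] at hb'
  obtain ⟨k, hk⟩ := hb'
  let I := Scheme.IdealSheafData.vanishingIdeal (⟨Z k, (W k).isOpen.isClosed_compl.preimage
    (pullback.fst ((D.obj k).hom ≫ f k) (f l)).continuous⟩ : TopologicalSpace.Closeds ↑(Src D k l))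
  have hI : Set.range I.subschemeι = Z k := by
    rw [Scheme.IdealSheafData.range_subschemeι, Scheme.IdealSheafData.coe_support_vanishingIdeal]; rfl
  rw [← hI, ← Set.range_comp] at hk
  have hk' : b ∈ closure (Set.range (I.subschemeι ≫ Φ D k l)) := by
    simpa [Function.comp_def] using hk
  obtain ⟨z, hz⟩ := Groth.Agent.H8Top.exists_specializes_of_mem_closure_range _ hk'
  have hzZ : I.subschemeι z ∈ Z k := by rw [← hI]; exact ⟨z, rfl⟩
  refine ⟨k, _, hzZ, _, ⟨I.subschemeι z, rfl, rfl⟩, ?_⟩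
  rwa [Scheme.Hom.comp_apply] at hz

variable [Finite ι]

/-- The stable interior of a family of opens. -/
def core (W : ∀ i, (D.obj i).left.Opens) : ∀ i, (D.obj i).left.Opens :=
  fun i => ⟨(hull D W i)ᶜ, (isClosed_hull D W i).isOpen_compl⟩

theorem core_le (W : ∀ i, (D.obj i).left.Opens) : core D W ≤ W := fun i a ha => by
  by_contra hW
  exact ha ⟨i, a, hW, a, rel_refl D i a, specializes_rfl⟩

theorem rel_core (W : ∀ i, (D.obj i).left.Opens) {k l : ι} {a : (D.obj k).left} {b : (D.obj l).left}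
    (h : Rel D k l a b) (ha : a ∈ core D W k) : b ∈ core D W l :=
  fun hb => ha (hull_invariant D W (rel_symm D h) hb)

theorem stable_core (W : ∀ i, (D.obj i).left.Opens) : Stable D (core D W) :=
  stable_of_rel D _ (rel_core D W)

/-- The saturation of an open of a member. -/
def satSet (k : ι) (U : (D.obj k).left.Opens) (l : ι) : Set (D.obj l).left :=
  {b | ∃ a ∈ U, Rel D k l a b}

omit [Finite ι] [∀ i, Flat (f i)] in
theorem isCompact_satSet (k : ι) (U : (D.obj k).left.Opens) (hU : IsCompact (U : Set (D.obj k).left)) (l : ι) :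
    IsCompact (satSet D k U l) := by
  haveI : QuasiCompact (pullback.fst ((D.obj k).hom ≫ f k) (f l)) :=
    MorphismProperty.pullback_fst _ _ inferInstance
  have h := ((pullback.fst ((D.obj k).hom ≫ f k) (f l)).isCompact_preimage hU).image (Φ D k l).continuous
  convert h using 1
  ext b
  constructor
  · rintro ⟨a, ha, p, hpa, hpb⟩
    exact ⟨p, by show _ ∈ U; rw [hpa]; exact ha, hpb⟩
  · rintro ⟨p, hp, rfl⟩
    exact ⟨_, hp, p, rfl, rfl⟩

theorem satSet_le_core (k : ι) (U : (D.obj k).left.Opens) (W : ∀ i, (D.obj i).left.Opens)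
    (h : ∀ l, satSet D k U l ⊆ W l) (l : ι) : satSet D k U l ⊆ core D W l := by
  rintro b ⟨a, ha, p, hpa, hpb⟩ ⟨k', a', ha', e, hae, heb⟩
  obtain ⟨p', hp', hp'e⟩ := Flat.generalizingMap (Φ D k l) (hpb ▸ heb)
  have haU : pullback.fst ((D.obj k).hom ≫ f k) (f l) p' ∈ U :=
    (hp'.map (pullback.fst ((D.obj k).hom ≫ f k) (f l)).continuous).mem_open U.isOpen
      (by rw [hpa]; exact ha)
  exact ha' (h k' ⟨_, haU, rel_trans D ⟨p', rfl, hp'e⟩ (rel_symm D hae)⟩)

end interior

end Groth.Agent.Desc19b.IndQA
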