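import Mathlib
import Groth.Prelude.Def_W4c5stacksedinertiaGpd

/-! The inertia operators on finite groupoids: `inertiaR r` is the falling factorial of `inertia`. -/

set_option autoImplicit false
set_option linter.style.haveILetI false
set_option backward.isDefEq.respectTransparency false
set_option backward.isDefEq.respectTransparency.types false

open W4c5stacksedinertia Polynomial

namespace Groth.Agent.Desc19b.InertiaOps

variable {G H : Type} [Group G] [Group H] [Finite G] [Finite H]

theorem idx_of_eq (e : G ≃* H) : Idx.of G = Idx.of H :=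
  let a := Nat.equivFinOfCardPos (α := G) Nat.card_pos.ne'
  let b := Nat.equivFinOfCardPos (α := H) Nat.card_pos.ne'
  Quotient.sound ⟨{
    toEquiv := (a.symm.trans e.toEquiv).trans b
    map_mul' := fun x y => by
      change Fin (Nat.card G) at x y
      show b (e (a.symm (a (a.symm x * a.symm y)))) = b (b.symm (b (e (a.symm x))) * b.symm (b (e (a.symm y))))
      rw [Equiv.symm_apply_apply, Equiv.symm_apply_apply, Equiv.symm_apply_apply, map_mul] }⟩

theorem cl_congr (e : G ≃* H) : cl G = cl H := by rw [cl, cl, idx_of_eq e]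

theorem nonempty_rep_equiv (G : Type) [Group G] [Finite G] : Nonempty ((Idx.of G).rep ≃* G) := by
  obtain ⟨e⟩ := Quotient.mk_out (s := FinGrp.setoid) (FinGrp.of G)
  let f : (FinGrp.of G).carrier ≃* G :=
    { toEquiv := (Nat.equivFinOfCardPos (α := G) Nat.card_pos.ne').symm
      map_mul' := fun x y => by
        change Fin (Nat.card G) at x y
        exact Equiv.symm_apply_apply _ _ }
  exact ⟨e.trans f⟩

theorem idx_of_rep (i : Idx) : Idx.of i.rep = i := by
  obtain ⟨e⟩ := Quotient.mk_out (s := FinGrp.setoid) (FinGrp.of i.rep)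
  have h : Nonempty ((FinGrp.of i.rep).carrier ≃* i.rep) :=
    ⟨{ toEquiv := (Nat.equivFinOfCardPos (α := i.rep) Nat.card_pos.ne').symm
       map_mul' := fun x y => by
        change Fin (Nat.card i.rep) at x y
        exact Equiv.symm_apply_apply _ _ }⟩
  exact (Quotient.sound (s := FinGrp.setoid) h).trans (Quotient.out_eq _)

theorem cl_rep (i : Idx) : cl i.rep = Finsupp.single i 1 := by rw [cl, idx_of_rep]

theorem card_of (G : Type) [Group G] [Finite G] : (Idx.of G).card = Nat.card G :=
  Nat.card_congr (nonempty_rep_equiv G).some.toEquiv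

theorem centerCard_of (G : Type) [Group G] [Finite G] : (Idx.of G).centerCard = Nat.card (Subgroup.center G) :=
  Nat.card_congr (Subgroup.centerCongr (nonempty_rep_equiv G).some).toEquiv

/-- The centralizer of a tuple. -/
abbrev Z {r : ℕ} (s : Fin r → G) : Subgroup G := Subgroup.centralizer (Set.range s)

instance {r : ℕ} : Finite (CommTuple G r) := Subtype.finite

instance {r : ℕ} : Finite (CommTuple.Orbit G r) := Quotient.finite _

instance conjTuple {r : ℕ} : MulAction G (CommTuple G r) where
  smul g s := ⟨fun i => g * s.1 i * g⁻¹, fun i j h => s.2.1 (by simpa using h),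
    fun i j => by
      show _ = _
      simp only [mul_assoc, inv_mul_cancel_left]
      rw [← mul_assoc (s.1 i), (s.2.2 i j).eq, mul_assoc]⟩
  one_smul s := Subtype.ext (funext fun i => show 1 * s.1 i * 1⁻¹ = _ by simp)
  mul_smul g h s := Subtype.ext (funext fun i => show g * h * s.1 i * (g * h)⁻¹ = g * (h * s.1 i * h⁻¹) * g⁻¹ by group)

theorem smul_val {r : ℕ} (g : G) (s : CommTuple G r) (i : Fin r) : (g • s).1 i = g * s.1 i * g⁻¹ := rfl

theorem stabilizer_eq {r : ℕ} (s : CommTuple G r) : MulAction.stabilizer G s = Z s.1 := by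
  ext g
  rw [MulAction.mem_stabilizer_iff, Subgroup.mem_centralizer_iff]
  constructor
  · rintro h _ ⟨i, rfl⟩
    have := congrFun (congrArg Subtype.val h) i
    rw [smul_val, mul_inv_eq_iff_eq_mul] at this
    exact this.symm
  · intro h
    refine Subtype.ext (funext fun i => ?_)
    rw [smul_val, mul_inv_eq_iff_eq_mul]
    exact (h _ ⟨i, rfl⟩).symm

/-- The weighted term of a tuple. -/
noncomputable def term {r : ℕ} (s : Fin r → G) : K := (Nat.card (Z s) : ℚ) • cl (Z s)

theorem weight_congr {S T : Subgroup G} (h : S = T) :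
    ((Nat.card S : ℚ) • cl S : K) = (Nat.card T : ℚ) • cl T := by
  subst h
  rfl

theorem term_eq_of_top {r : ℕ} (s : Fin r → G) (h : Z s = ⊤) : term s = (Nat.card G : ℚ) • cl G := by
  rw [term, weight_congr h, Nat.card_congr Subgroup.topEquiv.toEquiv,
    cl_congr (Subgroup.topEquiv : (⊤ : Subgroup G) ≃* G)]

theorem term_conj {r : ℕ} (g : G) (s : Fin r → G) : term (fun i => g * s i * g⁻¹) = term s := by
  have e : (Z s).map (MulAut.conj g).toMonoidHom = Z (fun i => g * s i * g⁻¹) := by
    ext x
    simp only [Subgroup.mem_map_equiv, Subgroup.mem_centralizer_iff, Set.forall_mem_range, MulAut.conj_symm_apply]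
    refine forall_congr' fun i => ?_
    constructor
    · intro h
      have := congrArg (fun y => g * y * g⁻¹) h
      simpa [mul_assoc] using this
    · intro h
      have := congrArg (fun y => g⁻¹ * y * g) h
      simpa [mul_assoc] using this
  let f : Z s ≃* Z (fun i => g * s i * g⁻¹) :=
    ((Z s).equivMapOfInjective _ (MulAut.conj g).injective).trans (MulEquiv.subgroupCongr e)
  rw [term, term, cl_congr f, Nat.card_congr f.toEquiv]

theorem inertiaROf_eq_average (r : ℕ) (G : Type) [Group G] [Finite G] [Fintype (CommTuple G r)] :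
    inertiaROf r G = (Nat.card G : ℚ)⁻¹ • ∑ s : CommTuple G r, term s.1 := by
  classical
  haveI : Fintype (CommTuple.Orbit G r) := Fintype.ofFinite _
  let mk : CommTuple G r → CommTuple.Orbit G r := Quotient.mk (CommTuple.setoid G r)
  let out : CommTuple.Orbit G r → CommTuple G r := Quotient.out (s := CommTuple.setoid G r)
  rw [inertiaROf, finsum_eq_sum_of_fintype, ← Fintype.sum_fiberwise mk, Finset.smul_sum]
  refine Finset.sum_congr rfl fun O _ => ?_
  have h1 : ∀ s, mk s = O ↔ s ∈ MulAction.orbit G (out O) := by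
    intro s
    refine ⟨fun h => ?_, ?_⟩
    · obtain ⟨g, hg⟩ := Quotient.exact ((Quotient.out_eq O).trans h.symm)
      exact ⟨g, Subtype.ext (funext hg)⟩
    · rintro ⟨g, rfl⟩
      exact (Quotient.sound (s := CommTuple.setoid G r) (a := out O) (b := g • out O) ⟨g, fun i => rfl⟩).symm.trans
        (Quotient.out_eq O)
  have h2 : ∀ s : {s // mk s = O}, term s.1.1 = term (out O).1 := by
    rintro ⟨s, hs⟩
    obtain ⟨g, rfl⟩ := (h1 s).1 hs
    exact term_conj g _
  rw [Fintype.sum_congr _ _ h2, Finset.sum_const, Finset.card_univ, ← Nat.cast_smul_eq_nsmul ℚ, smul_smul,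
    ← Nat.card_eq_fintype_card, Nat.card_congr (Equiv.subtypeEquivRight h1), term, smul_smul]
  have h3 := (MulAction.stabilizer G (out O)).card_mul_index
  rw [MulAction.index_stabilizer, stabilizer_eq] at h3
  have h3' : (Nat.card (Z (out O).1) : ℚ) * (Nat.card (MulAction.orbit G (out O)) : ℚ) = (Nat.card G : ℚ) := by
    exact_mod_cast h3
  rw [mul_assoc, mul_comm (Nat.card (MulAction.orbit G (out O)) : ℚ), h3',
    inv_mul_cancel₀ (Nat.cast_ne_zero.2 Nat.card_pos.ne'), one_smul]

theorem inertiaROf_congr (r : ℕ) (e : G ≃* H) : inertiaROf r G = inertiaROf r H := by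
  classical
  haveI := Fintype.ofFinite (CommTuple G r)
  haveI := Fintype.ofFinite (CommTuple H r)
  rw [inertiaROf_eq_average, inertiaROf_eq_average, Nat.card_congr e.toEquiv]
  congr 1
  let E : CommTuple G r ≃ CommTuple H r :=
    { toFun := fun s => ⟨fun i => e (s.1 i), e.injective.comp s.2.1, fun i j => (s.2.2 i j).map e⟩
      invFun := fun s => ⟨fun i => e.symm (s.1 i), e.symm.injective.comp s.2.1, fun i j => (s.2.2 i j).map e.symm⟩
      left_inv := fun s => Subtype.ext (funext fun i => e.symm_apply_apply _)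
      right_inv := fun s => Subtype.ext (funext fun i => e.apply_symm_apply _) }
  refine Fintype.sum_equiv E _ _ fun s => ?_
  have h : (Z s.1).map e.toMonoidHom = Z (E s).1 := by
    ext x
    simp only [Subgroup.mem_map_equiv, Subgroup.mem_centralizer_iff, Set.forall_mem_range]
    refine forall_congr' fun i => ?_
    show _ ↔ e (s.1 i) * x = x * e (s.1 i)
    rw [← e.symm.injective.eq_iff (a := e (s.1 i) * x), map_mul, map_mul, e.symm_apply_apply]
  let f : Z s.1 ≃* Z (E s).1 := ((Z s.1).equivMapOfInjective _ e.injective).trans (MulEquiv.subgroupCongr h)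
  rw [term, term, cl_congr f, Nat.card_congr f.toEquiv]

theorem inertiaR_cl (r : ℕ) (G : Type) [Group G] [Finite G] : inertiaR r (cl G) = inertiaROf r G := by
  rw [inertiaR, cl, Finsupp.linearCombination_single, one_smul]
  exact inertiaROf_congr r (nonempty_rep_equiv G).some

theorem linearMap_ext {f g : K →ₗ[ℚ] K} (h : ∀ (G : Type) [Group G] [Finite G], f (cl G) = g (cl G)) : f = g := by
  refine Finsupp.lhom_ext fun i c => ?_
  rw [show Finsupp.single i c = c • cl i.rep by rw [cl_rep, Finsupp.smul_single, smul_eq_mul, mul_one],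
    map_smul, map_smul, h]

theorem inertiaR_zero : inertiaR 0 = LinearMap.id := by
  refine linearMap_ext fun G _ _ => ?_
  classical
  haveI : Unique (CommTuple G 0) :=
    { default := ⟨Fin.elim0, fun i => i.elim0, fun i => i.elim0⟩, uniq := fun s => Subtype.ext (funext fun i => i.elim0) }
  haveI := Fintype.ofFinite (CommTuple G 0)
  have h : Z (default : CommTuple G 0).1 = ⊤ := by ext; simp [Subgroup.mem_centralizer_iff]
  rw [inertiaR_cl, inertiaROf_eq_average, Fintype.sum_unique, term_eq_of_top _ h, smul_smul,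
    inv_mul_cancel₀ (Nat.cast_ne_zero.2 Nat.card_pos.ne'), one_smul, LinearMap.id_apply]

theorem inertiaR_eq_zero (r : ℕ) (G : Type) [Group G] [Finite G] (h : Nat.card G < r) : inertiaR r (cl G) = 0 := by
  classical
  haveI : IsEmpty (CommTuple G r) := ⟨fun s => by
    have := Nat.card_le_card_of_injective _ s.2.1
    rw [Nat.card_fin] at this
    omega⟩
  haveI := Fintype.ofFinite (CommTuple G r)
  rw [inertiaR_cl, inertiaROf_eq_average, Fintype.sum_empty, smul_zero]

/-- Equivalence between one-element tuples and elements. -/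
def oneTuple (G : Type) [Group G] : CommTuple G 1 ≃ G where
  toFun s := s.1 0
  invFun t := ⟨fun _ => t, fun i j _ => Subsingleton.elim i j, fun _ _ => Commute.refl t⟩
  left_inv s := Subtype.ext (funext fun i => congrArg s.1 (Subsingleton.elim 0 i))
  right_inv _ := rfl

theorem inertia_cl_average (H : Type) [Group H] [Finite H] [Fintype H] :
    inertia (cl H) = (Nat.card H : ℚ)⁻¹ • ∑ t : H, term (fun _ : Fin 1 => t) := by
  classical
  haveI := Fintype.ofFinite (CommTuple H 1)
  rw [inertiaR_cl, inertiaROf_eq_average]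
  congr 1
  exact Fintype.sum_equiv (oneTuple H) _ _ fun s => by
    rw [show (fun _ : Fin 1 => oneTuple H s) = s.1 from funext fun i => congrArg s.1 (Subsingleton.elim 0 i)]

theorem term_sub (S : Subgroup G) {r : ℕ} (s : Fin r → G) (hS : S = Z s) (t : S) :
    term (fun _ : Fin 1 => t) = term (Fin.cons (t : G) s) := by
  subst hS
  have h : (Z (fun _ : Fin 1 => t)).map (Z s).subtype = Z (Fin.cons (t : G) s) := by
    ext x
    simp only [Subgroup.mem_map, Subgroup.mem_centralizer_iff, Set.forall_mem_range, Fin.forall_fin_succ,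
      Fin.cons_zero, Fin.cons_succ]
    constructor
    · rintro ⟨y, hy, rfl⟩
      exact ⟨congrArg Subtype.val hy.1, fun i => y.2 _ ⟨i, rfl⟩⟩
    · rintro ⟨h0, hi⟩
      exact ⟨⟨x, Subgroup.mem_centralizer_iff.2 (by rintro _ ⟨i, rfl⟩; exact hi i)⟩,
        ⟨Subtype.ext h0, fun i => i.elim0⟩, rfl⟩
  let f : Z (fun _ : Fin 1 => t) ≃* Z (Fin.cons (t : G) s) :=
    ((Z (fun _ : Fin 1 => t)).equivMapOfInjective _ (Z s).subtype_injective).trans (MulEquiv.subgroupCongr h)
  rw [term, term, cl_congr f, Nat.card_congr f.toEquiv]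

set_option maxHeartbeats 600000 in
theorem inertia_comp_inertiaR (r : ℕ) :
    inertia ∘ₗ inertiaR r = inertiaR (r + 1) + (r : ℚ) • inertiaR r := by
  refine linearMap_ext fun G _ _ => ?_
  classical
  haveI := Fintype.ofFinite G
  haveI := Fintype.ofFinite (CommTuple G r)
  haveI := Fintype.ofFinite (CommTuple G (r + 1))
  simp only [LinearMap.comp_apply, LinearMap.add_apply, LinearMap.smul_apply, inertiaR_cl r, inertiaR_cl (r + 1),
    inertiaROf_eq_average, map_smul, map_sum]
  rw [smul_comm (r : ℚ), ← smul_add]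
  congr 1
  -- `inertia` of each weighted term
  have h1 : ∀ s : CommTuple G r, inertia (term s.1) = ∑ t : Z s.1, term (Fin.cons (t : G) s.1) := by
    intro s
    rw [term, map_smul, inertia_cl_average, smul_smul, mul_inv_cancel₀ (Nat.cast_ne_zero.2 Nat.card_pos.ne'),
      one_smul]
    exact Fintype.sum_congr _ _ fun t => term_sub _ s.1 rfl t
  rw [Fintype.sum_congr _ _ h1]
  have h2 : ∀ (s : CommTuple G r) (i : Fin r), term (Fin.cons (s.1 i) s.1) = term s.1 := by
    intro s i
    have h : Z (Fin.cons (s.1 i) s.1) = Z s.1 := by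
      unfold Z
      congr 1
      ext x
      simp only [Set.mem_range, Fin.exists_fin_succ, Fin.cons_zero, Fin.cons_succ]
      exact ⟨fun h => h.elim (fun h => ⟨i, h⟩) id, Or.inr⟩
    exact weight_congr h
  -- pairs
  let Φ : CommTuple G (r + 1) ⊕ (CommTuple G r × Fin r) → Σ s : CommTuple G r, Z s.1 := Sum.elim
    (fun u => ⟨⟨Fin.tail u.1, fun i j h => Fin.succ_injective _ (u.2.1 h), fun i j => u.2.2 _ _⟩,
      ⟨u.1 0, Subgroup.mem_centralizer_iff.2 (by rintro _ ⟨i, rfl⟩; exact u.2.2 i.succ 0)⟩⟩)
    (fun p => ⟨p.1, ⟨p.1.1 p.2, Subgroup.mem_centralizer_iff.2 (by rintro _ ⟨i, rfl⟩; exact p.1.2.2 i p.2)⟩⟩)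
  have hΦ : Function.Bijective Φ := by
    constructor
    · have key : ∀ (u : CommTuple G (r + 1)) (p : CommTuple G r × Fin r), Φ (.inl u) ≠ Φ (.inr p) := by
        intro u p h
        have h' := congrArg (fun q : (Σ s : CommTuple G r, Z s.1) => ((q.1.1, (q.2 : G)) : (Fin r → G) × G)) h
        simp only [Φ, Sum.elim_inl, Sum.elim_inr, Prod.mk.injEq] at h'
        exact Fin.succ_ne_zero p.2 (u.2.1 ((congrFun h'.1 p.2).trans h'.2.symm))
      rintro (u | p) (u' | p') h
      · have h' := congrArg (fun q : (Σ s : CommTuple G r, Z s.1) => ((q.1.1, (q.2 : G)) : (Fin r → G) × G)) h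
        simp only [Φ, Sum.elim_inl, Prod.mk.injEq] at h'
        congr 1
        exact Subtype.ext (by rw [← Fin.cons_self_tail u.1, ← Fin.cons_self_tail u'.1, h'.1, h'.2])
      · exact absurd h (key _ _)
      · exact absurd h.symm (key _ _)
      · have h' := congrArg (fun q : (Σ s : CommTuple G r, Z s.1) => (q.1, (q.2 : G))) h
        simp only [Φ, Sum.elim_inr, Prod.mk.injEq] at h'
        obtain ⟨s, i⟩ := p
        obtain ⟨s', i'⟩ := p'
        obtain ⟨rfl, hi⟩ := h'
        simp only at hi
        rw [s.2.1 hi]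
    · rintro ⟨s, t, ht⟩
      by_cases h : t ∈ Set.range s.1
      · obtain ⟨i, rfl⟩ := h
        exact ⟨.inr (s, i), rfl⟩
      · have ht' : ∀ i, Commute (s.1 i) t := fun i => (Subgroup.mem_centralizer_iff.1 ht) _ ⟨i, rfl⟩
        refine ⟨.inl ⟨Fin.cons t s.1, Fin.cons_injective_iff.2 ⟨h, s.2.1⟩, fun i j => ?_⟩, rfl⟩
        refine Fin.cases (Fin.cases (Commute.refl t) (fun j => (ht' j).symm) j)
          (fun i => Fin.cases (ht' i) (fun j => s.2.2 i j) j) i
  calc ∑ s : CommTuple G r, ∑ t : Z s.1, term (Fin.cons (t : G) s.1)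
      = ∑ p : (Σ s : CommTuple G r, Z s.1), term (Fin.cons (p.2 : G) p.1.1) := (Fintype.sum_sigma (fun p : (Σ s : CommTuple G r, Z s.1) => term (Fin.cons (p.2 : G) p.1.1))).symm
    _ = ∑ q, term (Fin.cons ((Φ q).2 : G) (Φ q).1.1) :=
        (Fintype.sum_equiv (Equiv.ofBijective Φ hΦ) _ _ fun _ => rfl).symm
    _ = _ := by
      rw [Fintype.sum_sum_type, Fintype.sum_prod_type, Finset.smul_sum]
      congr 1
      · exact Fintype.sum_congr _ _ fun u => congrArg term (Fin.cons_self_tail u.1)
      · refine Fintype.sum_congr _ _ fun s => ?_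
        show ∑ i : Fin r, term (Fin.cons (s.1 i) s.1) = _
        rw [Fintype.sum_congr _ _ (h2 s), Finset.sum_const, Finset.card_univ, Fintype.card_fin,
          Nat.cast_smul_eq_nsmul]

/-- `inertiaR r` is the `r`-th falling factorial of `inertia`. -/
theorem inertiaR_eq_aeval (r : ℕ) : inertiaR r = aeval inertia (descPochhammer ℚ r) := by
  induction r with
  | zero => rw [inertiaR_zero, descPochhammer_zero, map_one]; rfl
  | succ r ih =>
    have h := inertia_comp_inertiaR r
    rw [descPochhammer_succ_right, mul_comm, map_mul, ← ih, map_sub, aeval_X, map_natCast, sub_mul,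
      Module.End.mul_eq_comp, h, ← nsmul_eq_mul, Nat.cast_smul_eq_nsmul, add_sub_cancel_right]

theorem inertiaR_apply_eigen (r : ℕ) {μ : ℚ} {v : K} (hv : v ∈ Module.End.eigenspace inertia μ) :
    inertiaR r v = (descPochhammer ℚ r).eval μ • v := by
  rcases eq_or_ne v 0 with rfl | h0
  · simp
  · rw [inertiaR_eq_aeval]
    exact Module.End.aeval_apply_of_hasEigenvector ⟨hv, h0⟩

theorem eval_descPochhammer_natCast (k r : ℕ) :
    (descPochhammer ℚ r).eval (k : ℚ) = ((Nat.factorial r * Nat.choose k r : ℕ) : ℚ) := by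
  rw [descPochhammer_eval_eq_descFactorial, Nat.descFactorial_eq_factorial_mul_choose]

theorem exists_inertiaR_eq_zero (v : K) : ∃ N, ∀ r, N ≤ r → inertiaR r v = 0 := by
  refine ⟨v.support.sup Idx.card + 1, fun r hr => ?_⟩
  rw [← Finsupp.sum_single v, map_finsuppSum]
  refine Finset.sum_eq_zero fun i hi => ?_
  show inertiaR r (Finsupp.single i (v i)) = 0
  have h0 := inertiaR_eq_zero r i.rep (Nat.lt_of_lt_of_le (Nat.lt_succ_of_le (Finset.le_sup hi (f := Idx.card))) hr)
  rw [cl_rep] at h0
  rw [← mul_one (v i), ← smul_eq_mul, ← Finsupp.smul_single, map_smul, h0, smul_zero]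

theorem ker_inertiaR (r : ℕ) :
    LinearMap.ker (inertiaR r) = ⨆ k ∈ Finset.range r, Module.End.eigenspace inertia (k : ℚ) := by
  induction r with
  | zero => rw [inertiaR_zero]; simp
  | succ r ih =>
    have hco : IsCoprime (descPochhammer ℚ r) (X - C (r : ℚ)) := by
      refine ((Polynomial.irreducible_X_sub_C (r : ℚ)).coprime_iff_not_dvd.2 fun h => ?_).symm
      rw [Polynomial.dvd_iff_isRoot, IsRoot.def, eval_descPochhammer_natCast, Nat.choose_self, mul_one] at h
      exact Nat.cast_ne_zero.2 r.factorial_ne_zero h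
    rw [inertiaR_eq_aeval, descPochhammer_succ_right, ← map_natCast (C : ℚ →+* ℚ[X]),
      ← Polynomial.sup_ker_aeval_eq_ker_aeval_mul_of_coprime inertia hco, ← inertiaR_eq_aeval, ih,
      Finset.range_add_one, Finset.iSup_insert, sup_comm]
    congr 1
    rw [Module.End.eigenspace_def, map_sub, aeval_X, aeval_C]
    congr 1

theorem iSup_eigenspace_eq_top : (⨆ n : ℕ, Module.End.eigenspace inertia (n : ℚ)) = ⊤ := by
  refine eq_top_iff.2 fun v _ => ?_
  obtain ⟨N, hN⟩ := exists_inertiaR_eq_zero v
  have hv : v ∈ LinearMap.ker (inertiaR N) := hN N le_rfl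
  rw [ker_inertiaR] at hv
  exact (iSup₂_le fun k _ => le_iSup (fun n : ℕ => Module.End.eigenspace inertia (n : ℚ)) k) hv

theorem card_le_of_subgroup (S : Subgroup G) : (Idx.of S).card ≤ Nat.card G := by
  rw [card_of]
  exact Nat.card_le_card_of_injective _ S.subtype_injective

theorem inertiaR_mem_Kle (r n : ℕ) (v : K) (hv : v ∈ Kle n) : inertiaR r v ∈ Kle n := by
  rw [← Finsupp.sum_single v, map_finsuppSum]
  refine Submodule.sum_mem _ fun i hi => ?_
  have hi' : i.card ≤ n := hv hi
  show inertiaR r (Finsupp.single i (v i)) ∈ Kle n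
  rw [show Finsupp.single i (v i) = v i • cl i.rep by rw [cl_rep, Finsupp.smul_single, smul_eq_mul, mul_one],
    map_smul, inertiaR_cl]
  refine Submodule.smul_mem _ _ ?_
  classical
  haveI := Fintype.ofFinite (CommTuple i.rep r)
  rw [inertiaROf_eq_average]
  refine Submodule.smul_mem _ _ (Submodule.sum_mem _ fun s _ => Submodule.smul_mem _ _ ?_)
  exact Finsupp.single_mem_supported _ _ ((card_le_of_subgroup _).trans hi')

theorem inertiaR_sub_mem_Kge_cl (r k : ℕ) (G : Type) [Group G] [Finite G] (hk : k ≤ Nat.card (Subgroup.center G)) :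
    inertiaR r (cl G) - ((Nat.factorial r * Nat.choose k r : ℕ) : ℚ) • cl G ∈ Kge (k + 1) := by
  classical
  haveI := Fintype.ofFinite (CommTuple G r)
  haveI : Fintype (Subgroup.center G) := Fintype.ofFinite _
  let Cn : CommTuple G r → Prop := fun s => ∀ i, s.1 i ∈ Subgroup.center G
  have hZ : ∀ (s : CommTuple G r) {x : G}, x ∈ Subgroup.center G → x ∈ Z s.1 := fun s x hx =>
    Subgroup.mem_centralizer_iff.2 fun y _ => Subgroup.mem_center_iff.1 hx y
  have hnc : ∀ s : CommTuple G r, ¬ Cn s → cl (Z s.1) ∈ Kge (k + 1) := by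
    intro s hs
    obtain ⟨i, hi⟩ := not_forall.1 hs
    refine Finsupp.single_mem_supported _ _ ?_
    show k + 1 ≤ (Idx.of (Z s.1)).centerCard
    rw [centerCard_of]
    have hmem : ∀ x : G, x ∈ Subgroup.center G ∨ x = s.1 i → ∃ hx : x ∈ Z s.1, (⟨x, hx⟩ : Z s.1) ∈ Subgroup.center (Z s.1) := by
      rintro x (hx | rfl)
      · exact ⟨hZ s hx, Subgroup.mem_center_iff.2 fun y => Subtype.ext (Subgroup.mem_center_iff.1 hx y.1)⟩
      · exact ⟨Subgroup.mem_centralizer_iff.2 (by rintro _ ⟨j, rfl⟩; exact s.2.2 j i), Subgroup.mem_center_iff.2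
          fun y => Subtype.ext ((Subgroup.mem_centralizer_iff.1 y.2 _ ⟨i, rfl⟩).symm)⟩
    let f : Option (Subgroup.center G) → Subgroup.center (Z s.1) := fun o => o.elim
      ⟨_, (hmem _ (Or.inr rfl)).2⟩ fun x => ⟨_, (hmem _ (Or.inl x.2)).2⟩
    have hf : Function.Injective f := by
      rintro (_ | x) (_ | y) h
      · rfl
      · have e : s.1 i = y := congrArg (fun z : Subgroup.center (Z s.1) => ((z : Z s.1) : G)) h
        exact absurd (by rw [e]; exact y.2) hi
      · have e : (x : G) = s.1 i := congrArg (fun z : Subgroup.center (Z s.1) => ((z : Z s.1) : G)) h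
        exact absurd (by rw [← e]; exact x.2) hi
      · exact congrArg some (Subtype.ext (congrArg (fun z : Subgroup.center (Z s.1) => ((z : Z s.1) : G)) h))
    have := Nat.card_le_card_of_injective f hf
    rw [Finite.card_option] at this
    omega
  have hc : ∀ s : CommTuple G r, Cn s → term s.1 = (Nat.card G : ℚ) • cl G := by
    intro s hs
    have h : Z s.1 = ⊤ := by
      refine eq_top_iff.2 fun x _ => Subgroup.mem_centralizer_iff.2 ?_
      rintro _ ⟨i, rfl⟩
      exact (Subgroup.mem_center_iff.1 (hs i) x).symm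
    exact term_eq_of_top _ h
  have hcard : ((Finset.univ.filter Cn).card) = (Nat.card (Subgroup.center G)).descFactorial r := by
    rw [← Fintype.card_subtype, Nat.card_eq_fintype_card (α := Subgroup.center G)]
    have : Fintype.card {s // Cn s} = Fintype.card (Fin r ↪ Subgroup.center G) := Fintype.card_congr
      { toFun := fun s => ⟨fun i => ⟨s.1.1 i, s.2 i⟩, fun i j h => s.1.2.1 (congrArg Subtype.val h)⟩
        invFun := fun f => ⟨⟨fun i => (f i : G), Subtype.val_injective.comp f.injective, fun i j =>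
          (Subgroup.mem_center_iff.1 (f i).2 _).symm⟩, fun i => (f i).2⟩
        left_inv := fun s => rfl
        right_inv := fun f => rfl }
    rw [this, Fintype.card_embedding_eq, Fintype.card_fin]
  rw [inertiaR_cl, inertiaROf_eq_average, ← Finset.sum_filter_add_sum_filter_not Finset.univ Cn, smul_add,
    Finset.sum_congr rfl fun s hs => hc s (Finset.mem_filter.1 hs).2, Finset.sum_const, hcard,
    ← Nat.cast_smul_eq_nsmul ℚ, smul_smul, smul_smul, add_sub_right_comm]
  refine Submodule.add_mem _ ?_ (Submodule.smul_mem _ _ (Submodule.sum_mem _ fun s hs =>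
    Submodule.smul_mem _ _ (hnc s (Finset.mem_filter.1 hs).2)))
  rw [mul_assoc, mul_comm ((Nat.card (Subgroup.center G)).descFactorial r : ℚ), ← mul_assoc,
    inv_mul_cancel₀ (Nat.cast_ne_zero.2 Nat.card_pos.ne'), one_mul,
    Nat.descFactorial_eq_factorial_mul_choose, ← sub_smul]
  rcases hk.eq_or_lt with h | h
  · rw [h, sub_self, zero_smul]
    exact Submodule.zero_mem _
  · refine Submodule.smul_mem _ _ (Finsupp.single_mem_supported _ _ ?_)
    show k + 1 ≤ (Idx.of G).centerCard
    rw [centerCard_of]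
    exact h

theorem inertiaR_sub_mem_Kge (r k : ℕ) (v : K) (hv : v ∈ Kge k) :
    inertiaR r v - ((Nat.factorial r * Nat.choose k r : ℕ) : ℚ) • v ∈ Kge (k + 1) := by
  have h : ∀ i ∈ v.support, inertiaR r (Finsupp.single i (v i)) -
      ((Nat.factorial r * Nat.choose k r : ℕ) : ℚ) • Finsupp.single i (v i) ∈ Kge (k + 1) := by
    intro i hi
    have hik : k ≤ i.centerCard := hv hi
    rw [show Finsupp.single i (v i) = v i • cl i.rep by rw [cl_rep, Finsupp.smul_single, smul_eq_mul, mul_one],
      map_smul, smul_comm, ← smul_sub]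
    exact Submodule.smul_mem _ _ (inertiaR_sub_mem_Kge_cl r k i.rep hik)
  have := Submodule.sum_mem (Kge (k + 1)) h
  rwa [Finset.sum_sub_distrib, ← map_sum, ← Finset.smul_sum,
    show ∑ i ∈ v.support, Finsupp.single i (v i) = v from Finsupp.sum_single v] at this

theorem eq_zero_of_inertia_eq_zero (v : K) (h : inertia v = 0) : v = 0 := by
  by_contra h0
  obtain ⟨i, hi, hmin⟩ := Finset.exists_min_image v.support Idx.centerCard (Finsupp.support_nonempty_iff.2 h0)
  have := inertiaR_sub_mem_Kge 1 i.centerCard v fun j hj => hmin j hj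
  rw [show inertiaR 1 v = 0 from h, zero_sub, Submodule.neg_mem_iff, Nat.factorial_one, one_mul, Nat.choose_one_right] at this
  have hpos : 0 < i.centerCard := Nat.card_pos
  have h2 : i ∈ (((i.centerCard : ℚ)) • v).support := by
    rw [Finsupp.mem_support_iff, Finsupp.smul_apply, smul_eq_mul]
    exact mul_ne_zero (Nat.cast_ne_zero.2 hpos.ne') (Finsupp.mem_support_iff.1 hi)
  have h3 : i.centerCard + 1 ≤ i.centerCard := this h2
  omega

theorem hasEigenvalue_natCast (n : ℕ) (hn : 0 < n) : Module.End.HasEigenvalue inertia (n : ℚ) := by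
  haveI : NeZero n := ⟨hn.ne'⟩
  let C := Multiplicative (ZMod n)
  classical
  have hterm : ∀ t : C, term (fun _ : Fin 1 => t) = (n : ℚ) • cl C := by
    intro t
    have h : Z (fun _ : Fin 1 => t) = ⊤ := eq_top_iff.2 fun x _ => Subgroup.mem_centralizer_iff.2 fun y _ => mul_comm y x
    rw [term_eq_of_top _ h, show Nat.card C = n by rw [Nat.card_congr Multiplicative.toAdd, Nat.card_zmod]]
  refine Module.End.hasEigenvalue_of_hasEigenvector (x := cl C) ⟨?_, Finsupp.single_ne_zero.2 one_ne_zero⟩
  rw [Module.End.mem_eigenspace_iff, inertia_cl_average, Fintype.sum_congr _ _ hterm, Finset.sum_const,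
    Finset.card_univ, ← Nat.cast_smul_eq_nsmul ℚ, smul_smul, smul_smul, ← Nat.card_eq_fintype_card,
    show Nat.card C = n by rw [Nat.card_congr Multiplicative.toAdd, Nat.card_zmod]]
  congr 1
  field_simp

theorem natCast_of_hasEigenvalue {μ : ℚ} (h : Module.End.HasEigenvalue inertia μ) :
    ∃ n : ℕ, 0 < n ∧ μ = (n : ℚ) := by
  obtain ⟨v, hv⟩ := h.exists_hasEigenvector
  obtain ⟨N, hN⟩ := exists_inertiaR_eq_zero v
  have h1 := hN N le_rfl
  rw [inertiaR_apply_eigen N hv.1, smul_eq_zero, or_iff_left hv.2, descPochhammer_eval_eq_prod_range,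
    Finset.prod_eq_zero_iff] at h1
  obtain ⟨n, -, hn⟩ := h1
  refine ⟨n, Nat.pos_of_ne_zero fun h0 => hv.2 (eq_zero_of_inertia_eq_zero v ?_), sub_eq_zero.1 hn⟩
  rw [hv.apply_eq_smul, sub_eq_zero.1 hn, h0, Nat.cast_zero, zero_smul]

end Groth.Agent.Desc19b.InertiaOps
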