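import Mathlib.AlgebraicGeometry.Morphisms.Flat
import Mathlib.AlgebraicGeometry.Morphisms.Etale
import Mathlib.AlgebraicGeometry.Morphisms.UniversallyOpen
import Mathlib.AlgebraicGeometry.Sites.Fpqc
import Mathlib.AlgebraicGeometry.Sites.Etale

/-! The largest open where a property local for a topology holds. -/

set_option autoImplicit false
set_option backward.isDefEq.respectTransparency.types false

universe u

open CategoryTheory CategoryTheory.Limits AlgebraicGeometry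

namespace Groth.Agent.Desc19b

variable {R : MorphismProperty Scheme.{u}} [R.IsStableUnderBaseChange] [R.IsStableUnderComposition] {P : MorphismProperty Scheme.{u}}

/-- The largest open on which a property local on the source holds commutes with base change along covers. -/
theorem largest_source [P.IsLocalAtSource (Scheme.precoverage R)]
    (hR : ∀ {A B : Scheme.{u}} (j : A ⟶ B), IsOpenImmersion j → R j)
    (hopen : ∀ {A B : Scheme.{u}} (j : A ⟶ B), R j → IsOpenMap j) {X Y : Scheme.{u}} (f : X ⟶ Y) :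
    ∃ W : X.Opens, (P (W.ι ≫ f) ∧ ∀ W' : X.Opens, P (W'.ι ≫ f) → W' ≤ W) ∧
      ∀ (X' : Scheme.{u}) (g : X' ⟶ X), R g → ∀ (V : X'.Opens),
        (P (V.ι ≫ g ≫ f) ∧ ∀ V' : X'.Opens, P (V'.ι ≫ g ≫ f) → V' ≤ V) → V = g ⁻¹ᵁ W := by
  let 𝒮 := {W' : X.Opens // P (W'.ι ≫ f)}
  let W : X.Opens := ⨆ W' : 𝒮, W'.1
  have hW : P (W.ι ≫ f) := by
    refine MorphismProperty.IsLocalAtSource.of_forall_comp (K := Scheme.precoverage R)
      (R := Presieve.ofArrows _ fun W' : 𝒮 => X.homOfLE (le_iSup (fun W'' : 𝒮 => W''.1) W'))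
      ((Scheme.ofArrows_mem_precoverage_iff R).2 ⟨fun x => ?_, fun W' => hR _ inferInstance⟩) ?_
    · obtain ⟨W', hW'⟩ := TopologicalSpace.Opens.mem_iSup.1 x.2
      exact ⟨W', ⟨x.1, hW'⟩, Subtype.ext (Scheme.homOfLE_apply _ _)⟩
    · rintro _ _ ⟨W'⟩
      rw [← Category.assoc, Scheme.homOfLE_ι]
      exact W'.2
  refine ⟨W, ⟨hW, fun W' h => le_iSup (fun W'' : 𝒮 => W''.1) ⟨W', h⟩⟩, fun X' g hg V ⟨hV, hmax⟩ => ?_⟩
  apply le_antisymm
  · let G : X.Opens := ⟨g '' V, hopen g hg _ V.2⟩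
    have hle : V ≤ g ⁻¹ᵁ G := fun v hv => ⟨v, hv, rfl⟩
    have hG : P (G.ι ≫ f) := by
      refine MorphismProperty.IsLocalAtSource.of_forall_comp (K := Scheme.precoverage R)
        (R := Presieve.ofArrows (fun _ : PUnit.{u + 1} => V.toScheme) fun _ => g.resLE G V hle)
        ((Scheme.ofArrows_mem_precoverage_iff R).2 ⟨fun x => ?_, fun _ => ?_⟩) ?_
      · obtain ⟨v, hv, e⟩ := x.2
        refine ⟨⟨⟩, ⟨v, hv⟩, G.ι.isOpenEmbedding.injective ?_⟩
        rw [← Scheme.Hom.comp_apply, Scheme.Hom.resLE_comp_ι]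
        exact e
      · exact R.comp_mem _ _ (hR _ inferInstance) (R.of_isPullback (isPullback_morphismRestrict g G).flip hg)
      · rintro _ _ ⟨_⟩
        rw [← Category.assoc, Scheme.Hom.resLE_comp_ι, Category.assoc]
        exact hV
    exact fun v hv => le_iSup (fun W'' : 𝒮 => W''.1) ⟨G, hG⟩ ⟨v, hv, rfl⟩
  · refine hmax _ ?_
    have hcov : Presieve.ofArrows (fun o : Option PUnit.{u + 1} => o.elim W.toScheme fun _ => (g ⁻¹ᵁ W).toScheme)
        (fun | none => 𝟙 _ | some _ => g ∣_ W) ∈ Scheme.precoverage R W.toScheme := by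
      refine (Scheme.ofArrows_mem_precoverage_iff R).2 ⟨fun x => ⟨none, x, rfl⟩, ?_⟩
      rintro (_ | _)
      · exact hR (𝟙 W.toScheme) inferInstance
      · exact R.of_isPullback (isPullback_morphismRestrict g W).flip hg
    have := MorphismProperty.IsLocalAtSource.comp hcov (g ∣_ W) (Presieve.ofArrows.mk (some ⟨⟩)) hW
    rwa [← Category.assoc, morphismRestrict_ι, Category.assoc] at this

/-- The largest open over which a property local on the target holds. -/
theorem largest_target [P.IsLocalAtTarget (Scheme.precoverage R)]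
    (hR : ∀ {A B : Scheme.{u}} (j : A ⟶ B), IsOpenImmersion j → R j)
    (hopen : ∀ {A B : Scheme.{u}} (j : A ⟶ B), R j → IsOpenMap j) {X Y : Scheme.{u}} (f : X ⟶ Y) :
    ∃ W : Y.Opens, P (f ∣_ W) ∧ (∀ W₀ : Y.Opens, P (f ∣_ W₀) → W₀ ≤ W) ∧
      (∀ (Y' : Scheme.{u}) (g : Y' ⟶ Y), R g → P (pullback.snd f g) → Set.range g.base ⊆ (W : Set Y)) ∧
      (∀ (Y' : Scheme.{u}) (g : Y' ⟶ Y), R g → ∀ W' : Y'.Opens, P (pullback.snd f g ∣_ W') →
        (∀ W₀ : Y'.Opens, P (pullback.snd f g ∣_ W₀) → W₀ ≤ W') → W' = g ⁻¹ᵁ W) := by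
  have res : ∀ {V : Scheme.{u}} (v : V ⟶ Y) (G : Y.Opens) (c : V ⟶ G), c ≫ G.ι = v →
      IsPullback (pullback.fst (f ∣_ G) c ≫ (f ⁻¹ᵁ G).ι) (pullback.snd (f ∣_ G) c) f v :=
    fun {V} v G c hc => hc ▸ (IsPullback.of_hasPullback (f ∣_ G) c).paste_horiz (isPullback_morphismRestrict f G).flip
  let 𝒮 := {W' : Y.Opens // P (f ∣_ W')}
  let W : Y.Opens := ⨆ W' : 𝒮, W'.1
  have hW : P (f ∣_ W) := by
    refine MorphismProperty.IsLocalAtTarget.of_forall_pullbackSnd (K := Scheme.precoverage R)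
      (R := Presieve.ofArrows _ fun W' : 𝒮 => Y.homOfLE (le_iSup (fun W'' : 𝒮 => W''.1) W'))
      ((Scheme.ofArrows_mem_precoverage_iff R).2 ⟨fun x => ?_, fun W' => hR _ inferInstance⟩) ?_
    · obtain ⟨W', hW'⟩ := TopologicalSpace.Opens.mem_iSup.1 x.2
      exact ⟨W', ⟨x.1, hW'⟩, Subtype.ext (Scheme.homOfLE_apply _ _)⟩
    · rintro _ _ _ ⟨W'⟩
      have sq := res W'.1.ι W _ (Scheme.homOfLE_ι _ (le_iSup (fun W'' : 𝒮 => W''.1) W'))
      exact (P.arrow_mk_iso_iff (Arrow.isoMk (sq.isoIsPullback _ _ (isPullback_morphismRestrict f W'.1).flip) (Iso.refl _) (by simp))).2 W'.2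
  have hle : ∀ (W₀ : Y.Opens), P (f ∣_ W₀) → W₀ ≤ W := fun W₀ h => le_iSup (fun W'' : 𝒮 => W''.1) ⟨W₀, h⟩
  have hrange : ∀ (Y' : Scheme.{u}) (g : Y' ⟶ Y), R g → P (pullback.snd f g) → Set.range g.base ⊆ (W : Set Y) := by
    intro Y' g hg h
    let G : Y.Opens := ⟨Set.range g, (hopen g hg).isOpen_range⟩
    have hl : (⊤ : Y'.Opens) ≤ g ⁻¹ᵁ G := fun v _ => ⟨v, rfl⟩
    let c : Y' ⟶ G := Y'.topIso.inv ≫ g.resLE G ⊤ hl
    have hc : c ≫ G.ι = g := by
      rw [Category.assoc, Scheme.Hom.resLE_comp_ι]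
      exact Y'.topIso.inv_hom_id_assoc g
    refine hle G ?_
    refine MorphismProperty.IsLocalAtTarget.of_forall_pullbackSnd (K := Scheme.precoverage R)
      (R := Presieve.ofArrows (fun _ : PUnit.{u + 1} => Y') fun _ => c)
      ((Scheme.ofArrows_mem_precoverage_iff R).2 ⟨fun x => ?_, fun _ => ?_⟩) ?_
    · obtain ⟨v, e⟩ := x.2
      refine ⟨⟨⟩, v, G.ι.isOpenEmbedding.injective ?_⟩
      rw [← Scheme.Hom.comp_apply, hc]
      exact e
    · exact R.comp_mem _ _ (hR _ inferInstance) (R.comp_mem _ _ (hR _ inferInstance) (R.of_isPullback (isPullback_morphismRestrict g G).flip hg))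
    · rintro _ _ _ ⟨_⟩
      have sq := res g G c hc
      exact (P.arrow_mk_iso_iff (Arrow.isoMk (sq.isoIsPullback _ _ (IsPullback.of_hasPullback f g)) (Iso.refl _) (by simp))).2 h
  refine ⟨W, hW, hle, hrange, fun Y' g hg W' h hmax => le_antisymm (fun v hv => ?_) (hmax _ ?_)⟩
  · refine hrange _ (W'.ι ≫ g) (R.comp_mem _ _ (hR _ inferInstance) hg) ?_ ⟨⟨v, hv⟩, rfl⟩
    have sq := (isPullback_morphismRestrict (pullback.snd f g) W').flip.paste_horiz (IsPullback.of_hasPullback f g)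
    exact (P.arrow_mk_iso_iff (Arrow.isoMk (sq.isoIsPullback _ _ (IsPullback.of_hasPullback f (W'.ι ≫ g))) (Iso.refl _) (by exact (IsPullback.isoIsPullback_hom_snd _ _ sq _).trans (Category.comp_id _).symm))).1 h
  · have hcov : Presieve.ofArrows (fun o : Option PUnit.{u + 1} => o.elim W.toScheme fun _ => (g ⁻¹ᵁ W).toScheme)
        (fun | none => 𝟙 _ | some _ => g ∣_ W) ∈ Scheme.precoverage R W.toScheme := by
      refine (Scheme.ofArrows_mem_precoverage_iff R).2 ⟨fun x => ⟨none, x, rfl⟩, ?_⟩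
      rintro (_ | _)
      · exact hR (𝟙 W.toScheme) inferInstance
      · exact R.of_isPullback (isPullback_morphismRestrict g W).flip hg
    have := MorphismProperty.IsLocalAtTarget.pullbackSnd (g := g ∣_ W) hcov (Presieve.ofArrows.mk (some ⟨⟩)) hW
    have sq := res _ W (g ∣_ W) rfl
    have sq' := (isPullback_morphismRestrict (pullback.snd f g) (g ⁻¹ᵁ W)).flip.paste_horiz (IsPullback.of_hasPullback f g)
    rw [← morphismRestrict_ι] at sq'
    exact (P.arrow_mk_iso_iff (Arrow.isoMk (sq.isoIsPullback _ _ sq') (Iso.refl _) (by simp))).1 this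

end Groth.Agent.Desc19b
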