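import Groth.Agent.Desc19b.MVSquare
import Groth.Prelude.Def_CohDer

/-! Compactness is local for Mayer–Vietoris squares. -/

set_option autoImplicit false
set_option linter.style.haveILetI false
set_option linter.unusedSectionVars false
set_option backward.isDefEq.respectTransparency false
set_option backward.isDefEq.respectTransparency.types false

universe v u v₁ u₁ v₂ u₂ v₃ u₃

open CategoryTheory CategoryTheory.Limits CategoryTheory.Pretriangulated

namespace Groth.Agent.Desc19b.MV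

section Sums

variable {C : Type u₁} [Category.{v} C] [HasCoproducts.{v} C]
  {D : Type u₂} [Category.{v} D] [Preadditive D]
  {E : Type u₃} [Category.{v} E] [Preadditive E] {ι : Type v} (X : ι → C)

/-- `⊕ Hom(K, G X i) → Hom(K, G ∐ X)`. -/
noncomputable def cSum (G : C ⥤ D) (K : D) : DirectSum ι (fun i => K ⟶ G.obj (X i)) →+ (K ⟶ G.obj (∐ X)) := by
  classical
  exact DirectSum.toAddMonoid fun i => Preadditive.rightComp K (G.map (Sigma.ι X i))

theorem cSum_of [DecidableEq ι] (G : C ⥤ D) (K : D) (i : ι) (x : K ⟶ G.obj (X i)) :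
    cSum X G K (DirectSum.of _ i x) = x ≫ G.map (Sigma.ι X i) := by
  unfold cSum
  convert (DirectSum.toAddMonoid_of (fun i => Preadditive.rightComp K (G.map (Sigma.ι X i))) i x).trans rfl
  rfl

theorem cSum_map [DecidableEq ι] (G : C ⥤ D) (G' : C ⥤ E) (K : D) (K' : E)
    (m : ∀ i, (K ⟶ G.obj (X i)) →+ (K' ⟶ G'.obj (X i))) (M : (K ⟶ G.obj (∐ X)) →+ (K' ⟶ G'.obj (∐ X)))
    (h : ∀ i x, M (x ≫ G.map (Sigma.ι X i)) = m i x ≫ G'.map (Sigma.ι X i))
    (x : DirectSum ι (fun i => K ⟶ G.obj (X i))) :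
    cSum X G' K' (DirectSum.map m x) = M (cSum X G K x) := by
  induction x using DirectSum.induction_on with
  | zero => simp only [map_zero]
  | of i x => rw [DirectSum.map_of, cSum_of, cSum_of, h]
  | add x y hx hy => simp only [map_add, hx, hy]

theorem bijective_of_equiv (G : C ⥤ D) (G' : C ⥤ E) (K : D) (K' : E)
    (m : ∀ i, (K ⟶ G.obj (X i)) ≃+ (K' ⟶ G'.obj (X i))) (M : (K ⟶ G.obj (∐ X)) ≃+ (K' ⟶ G'.obj (∐ X)))
    (h : ∀ i x, M (x ≫ G.map (Sigma.ι X i)) = m i x ≫ G'.map (Sigma.ι X i))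
    (hb : Function.Bijective (cSum X G K)) : Function.Bijective (cSum X G' K') := by
  classical
  let e := DirectSum.map fun i => (m i).toAddMonoidHom
  have he : Function.Bijective e :=
    ⟨(DirectSum.map_injective _).2 fun i => (m i).injective, (DirectSum.map_surjective _).2 fun i => (m i).surjective⟩
  refine (Function.Bijective.of_comp_iff _ he).1 ?_
  have : cSum X G' K' ∘ e = M ∘ cSum X G K := funext fun x => cSum_map X G G' K K' (fun i => (m i).toAddMonoidHom) M.toAddMonoidHom h x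
  rw [this]
  exact M.bijective.comp hb

theorem bijective_of_iso (G G' : C ⥤ D) (e : G ≅ G') (K : D) (hb : Function.Bijective (cSum X G K)) :
    Function.Bijective (cSum X G' K) :=
  bijective_of_equiv X G G' K K
    (fun i => { (Iso.homCongr (Iso.refl K) (e.app (X i))) with map_add' := fun a b => by simp [Iso.homCongr] })
    { (Iso.homCongr (Iso.refl K) (e.app (∐ X))) with map_add' := fun a b => by simp [Iso.homCongr] }
    (fun i x => by simp [Iso.homCongr]) hb

theorem bijective_of_iso_left (G : C ⥤ D) {K K' : D} (e : K ≅ K') (hb : Function.Bijective (cSum X G K)) :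
    Function.Bijective (cSum X G K') :=
  bijective_of_equiv X G G K K'
    (fun i => { (Iso.homCongr e (Iso.refl _)) with map_add' := fun a b => by simp [Iso.homCongr] })
    { (Iso.homCongr e (Iso.refl _)) with map_add' := fun a b => by simp [Iso.homCongr] }
    (fun i x => by simp [Iso.homCongr]) hb

theorem bijective_adj_iff {L : D ⥤ E} {R : E ⥤ D} [L.Additive] (adj : L ⊣ R) (G : C ⥤ E) (K : D) :
    Function.Bijective (cSum X G (L.obj K)) ↔ Function.Bijective (cSum X (G ⋙ R) K) :=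
  ⟨fun hb => bijective_of_equiv X G (G ⋙ R) (L.obj K) K (fun i => adj.homAddEquiv K (G.obj (X i)))
      (adj.homAddEquiv K (G.obj (∐ X)))
      (fun i x => adj.homEquiv_naturality_right x (G.map (Sigma.ι X i))) hb,
    fun hb => bijective_of_equiv X (G ⋙ R) G K (L.obj K) (fun i => (adj.homAddEquiv K (G.obj (X i))).symm)
      (adj.homAddEquiv K (G.obj (∐ X))).symm
      (fun i x => adj.homEquiv_naturality_right_symm x (G.map (Sigma.ι X i))) hb⟩

theorem bijective_of_compact [HasCoproducts.{v} D] (G : C ⥤ D) [PreservesColimit (Discrete.functor X) G] {K : D}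
    (hK : CohDer.IsCompactObject K) : Function.Bijective (cSum X G K) := by
  classical
  have h := hK ι (fun i => G.obj (X i))
  have e : ⇑(cSum X G K) = (fun y => y ≫ sigmaComparison G X) ∘ CohDer.homSumToHomCoprod K (fun i => G.obj (X i)) := by
    funext x
    induction x using DirectSum.induction_on with
    | zero => simp
    | of i x =>
      have h1 : CohDer.homSumToHomCoprod K (fun i => G.obj (X i)) (DirectSum.of _ i x) = x ≫ Sigma.ι (fun i => G.obj (X i)) i :=
        cSum_of (fun i => G.obj (X i)) (𝟭 D) K i x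
      rw [Function.comp_apply, cSum_of, h1, Category.assoc, ι_comp_sigmaComparison]
    | add x y hx hy =>
      rw [Function.comp_apply] at hx hy ⊢
      rw [map_add, map_add, Preadditive.add_comp, hx, hy]
  rw [e]
  exact (asIso (sigmaComparison G X)).homToEquiv.bijective.comp h

end Sums

theorem isCompactObject_shift {D : Type u} [Category.{v} D] [Preadditive D] [HasShift D ℤ]
    [∀ n : ℤ, (shiftFunctor D n).Additive] [HasCoproducts.{v} D] {K : D} (hK : CohDer.IsCompactObject K) (n : ℤ) :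
    CohDer.IsCompactObject (K⟦n⟧) := by
  intro ι X
  classical
  have h1 := bijective_of_iso X (shiftFunctor D (-n)) (𝟭 D ⋙ shiftFunctor D (-n)) (Functor.leftUnitor _).symm K
    (bijective_of_compact X (shiftFunctor D (-n)) hK)
  haveI : (shiftEquiv D n).functor.Additive := inferInstanceAs (shiftFunctor D n).Additive
  have h2 := (bijective_adj_iff X (shiftEquiv D n).toAdjunction (𝟭 D) K).2 h1
  have e : ⇑(CohDer.homSumToHomCoprod (K⟦n⟧) X) = cSum X (𝟭 D) (K⟦n⟧) := by
    funext x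
    unfold CohDer.homSumToHomCoprod cSum
    rfl
  rw [e]
  exact h2

section Five

variable {C : Type u} [Category.{v} C] [Preadditive C] [HasZeroObject C] [HasShift C ℤ]
  [∀ n : ℤ, (shiftFunctor C n).Additive] [Pretriangulated C] [HasCoproducts.{v} C]

theorem bijective_of_triangles {ι : Type v} (X : ι → C) (Y W : C ⥤ C) (a : 𝟭 C ⟶ Y) (b : Y ⟶ W)
    (d : ∀ Z : C, W.obj Z ⟶ Z⟦(1 : ℤ)⟧) (hd : ∀ {Z Z' : C} (φ : Z ⟶ Z'), d Z ≫ φ⟦(1 : ℤ)⟧' = W.map φ ≫ d Z')
    (hT : ∀ Z : C, Triangle.mk (a.app Z) (b.app Z) (d Z) ∈ distTriang C) (K : C)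
    (hY : Function.Bijective (cSum X Y K)) (hW : Function.Bijective (cSum X W K))
    (hY' : Function.Bijective (cSum X Y (K⟦(1 : ℤ)⟧))) (hW' : Function.Bijective (cSum X W (K⟦(1 : ℤ)⟧))) :
    Function.Bijective (cSum X (𝟭 C) K) := by
  classical
  let ma : ∀ (K' Z : C), (K' ⟶ Z) →+ (K' ⟶ Y.obj Z) := fun K' Z => Preadditive.rightComp K' (a.app Z)
  let mb : ∀ (K' Z : C), (K' ⟶ Y.obj Z) →+ (K' ⟶ W.obj Z) := fun K' Z => Preadditive.rightComp K' (b.app Z)
  let md : ∀ (Z : C), (K⟦(1 : ℤ)⟧ ⟶ W.obj Z) →+ (K ⟶ Z) := fun Z =>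
    AddMonoidHom.mk' (fun w => (shiftFunctor C (1 : ℤ)).preimage (w ≫ d Z))
      fun w w' => (shiftFunctor C (1 : ℤ)).map_injective (by simp)
  have hmd : ∀ (Z : C) (w : K⟦(1 : ℤ)⟧ ⟶ W.obj Z), (md Z w)⟦(1 : ℤ)⟧' = w ≫ d Z := fun Z w => Functor.map_preimage _ _
  have sa : ∀ (K' : C) x, cSum X Y K' (DirectSum.map (fun i => ma K' (X i)) x) = ma K' (∐ X) (cSum X (𝟭 C) K' x) :=
    fun K' x => cSum_map X (𝟭 C) Y K' K' (fun i => ma K' (X i)) (ma K' (∐ X)) (fun i y => by
      show (y ≫ Sigma.ι X i) ≫ a.app (∐ X) = (y ≫ a.app (X i)) ≫ Y.map (Sigma.ι X i)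
      rw [Category.assoc, Category.assoc]; exact congrArg (y ≫ ·) (a.naturality (Sigma.ι X i))) x
  have sb : ∀ (K' : C) x, cSum X W K' (DirectSum.map (fun i => mb K' (X i)) x) = mb K' (∐ X) (cSum X Y K' x) :=
    fun K' x => cSum_map X Y W K' K' (fun i => mb K' (X i)) (mb K' (∐ X)) (fun i y => by
      show (y ≫ Y.map (Sigma.ι X i)) ≫ b.app (∐ X) = (y ≫ b.app (X i)) ≫ W.map (Sigma.ι X i)
      rw [Category.assoc, Category.assoc, b.naturality]) x
  have sd : ∀ x, cSum X (𝟭 C) K (DirectSum.map (fun i => md (X i)) x) = md (∐ X) (cSum X W (K⟦(1 : ℤ)⟧) x) :=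
    fun x => cSum_map X W (𝟭 C) (K⟦(1 : ℤ)⟧) K (fun i => md (X i)) (md (∐ X)) (fun i y => by
      apply (shiftFunctor C (1 : ℤ)).map_injective
      show (md (∐ X) (y ≫ W.map (Sigma.ι X i)))⟦(1 : ℤ)⟧' = ((md (X i) y) ≫ Sigma.ι X i)⟦(1 : ℤ)⟧'
      rw [Functor.map_comp, hmd, hmd, Category.assoc, Category.assoc]
      exact congrArg (y ≫ ·) (hd (Sigma.ι X i)).symm) x
  -- exactness
  have ab : ∀ (K' Z : C) (x : K' ⟶ Z), mb K' Z (ma K' Z x) = 0 := fun K' Z x => by
    show (x ≫ a.app Z) ≫ b.app Z = 0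
    rw [Category.assoc]
    exact (congrArg (x ≫ ·) (comp_distTriang_mor_zero₁₂ _ (hT Z))).trans comp_zero
  have e1 : ∀ (Z : C) (y : K ⟶ Y.obj Z), mb K Z y = 0 → ∃ x, ma K Z x = y := fun Z y hy => by
    obtain ⟨x, hx⟩ := Triangle.coyoneda_exact₂ _ (hT Z) y hy
    exact ⟨x, hx.symm⟩
  have e2 : ∀ (Z : C) (x : K ⟶ Z), ma K Z x = 0 → ∃ w, md Z w = x := fun Z x hx => by
    have hx' : x⟦(1 : ℤ)⟧' ≫ (-(a.app Z)⟦(1 : ℤ)⟧') = 0 := by
      rw [Preadditive.comp_neg, ← Functor.map_comp, show x ≫ a.app Z = 0 from hx, Functor.map_zero, neg_zero]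
    obtain ⟨w, hw⟩ := Triangle.coyoneda_exact₃ _ (rot_of_distTriang _ (hT Z)) (x⟦(1 : ℤ)⟧') hx'
    exact ⟨w, (shiftFunctor C (1 : ℤ)).map_injective ((hmd Z w).trans hw.symm)⟩
  have e3 : ∀ (Z : C) (w : K⟦(1 : ℤ)⟧ ⟶ W.obj Z), md Z w = 0 → ∃ y, mb _ Z y = w := fun Z w hw => by
    have hw' : w ≫ d Z = 0 := by rw [← hmd, hw, Functor.map_zero]
    obtain ⟨y, hy⟩ := Triangle.coyoneda_exact₃ _ (hT Z) w hw'
    exact ⟨y, hy.symm⟩
  have db : ∀ (Z : C) (y : K⟦(1 : ℤ)⟧ ⟶ Y.obj Z), md Z (mb _ Z y) = 0 := fun Z y =>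
    (shiftFunctor C (1 : ℤ)).map_injective (by
      rw [hmd, Functor.map_zero]
      show (y ≫ b.app Z) ≫ d Z = 0
      rw [Category.assoc]
      exact (congrArg (y ≫ ·) (comp_distTriang_mor_zero₂₃ _ (hT Z))).trans comp_zero)
  -- lifting componentwise
  have lift : ∀ {A B : ι → Type v} [∀ i, AddCommGroup (A i)] [∀ i, AddCommGroup (B i)] (m : ∀ i, A i →+ B i)
      (y : DirectSum ι B), (∀ i, ∃ x, m i x = y i) → ∃ x, DirectSum.map m x = y := by
    intro A B _ _ m y hy
    choose x hx using hy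
    refine ⟨∑ i ∈ DFinsupp.support y, DirectSum.of A i (x i), ?_⟩
    rw [map_sum, Finset.sum_congr rfl fun i _ => by rw [DirectSum.map_of, hx]]
    exact DirectSum.sum_support_of y
  refine ⟨(injective_iff_map_eq_zero _).2 fun x hx => ?_, fun x => ?_⟩
  · have h1 : DirectSum.map (fun i => ma K (X i)) x = 0 := hY.1 (by rw [sa, hx, map_zero, map_zero])
    obtain ⟨w, rfl⟩ := lift (fun i => md (X i)) x fun i => e2 _ _ (by
      rw [← DirectSum.map_apply (fun i => ma K (X i)) i x, h1]; rfl)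
    rw [sd] at hx
    obtain ⟨y, hy⟩ := e3 _ _ hx
    obtain ⟨y', rfl⟩ := hY'.2 y
    rw [← sb] at hy
    rw [← hW'.1 hy]
    refine DFinsupp.ext fun i => ?_
    show DirectSum.map (fun i => md (X i)) _ i = 0
    rw [DirectSum.map_apply, DirectSum.map_apply, db]
  · obtain ⟨y, hy⟩ := hY.2 (ma K _ x)
    have h1 : DirectSum.map (fun i => mb K (X i)) y = 0 := hW.1 (by rw [sb, hy, map_zero]; exact ab K _ x)
    obtain ⟨x', rfl⟩ := lift (fun i => ma K (X i)) y fun i => e1 _ _ (by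
      rw [← DirectSum.map_apply (fun i => mb K (X i)) i y, h1]; rfl)
    rw [sa] at hy
    obtain ⟨w, hw⟩ := e2 (∐ X) (x - cSum X (𝟭 C) K x') ((map_sub _ _ _).trans (sub_eq_zero.2 hy.symm))
    obtain ⟨w', rfl⟩ := hW'.2 w
    refine ⟨x' + DirectSum.map (fun i => md (X i)) w', ?_⟩
    rw [map_add, sd]
    erw [hw]
    exact add_sub_cancel _ _

end Five

section Square

variable {S S' R R' : Type u} [Category.{v} S] [Category.{v} S'] [Category.{v} R] [Category.{v} R']
    [Preadditive S] [Preadditive S'] [Preadditive R] [Preadditive R']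
    [HasZeroObject S] [HasZeroObject S'] [HasZeroObject R] [HasZeroObject R']
    [HasShift S ℤ] [HasShift S' ℤ] [HasShift R ℤ] [HasShift R' ℤ]
    [∀ n : ℤ, (shiftFunctor S n).Additive] [∀ n : ℤ, (shiftFunctor S' n).Additive]
    [∀ n : ℤ, (shiftFunctor R n).Additive] [∀ n : ℤ, (shiftFunctor R' n).Additive]
    [Pretriangulated S] [Pretriangulated S'] [Pretriangulated R] [Pretriangulated R']
    [HasCoproducts.{v} S] [HasCoproducts.{v} S'] [HasCoproducts.{v} R] [HasCoproducts.{v} R']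
    {q : W4c3perfectstacks.MVSq S S' R R'}
    [q.jst.CommShift ℤ] [q.fst.CommShift ℤ] [q.jpst.CommShift ℤ] [q.gst.CommShift ℤ]
    [q.jst.IsTriangulated] [q.fst.IsTriangulated] [q.jpst.IsTriangulated] [q.gst.IsTriangulated]

theorem bijective_biprod {ι : Type v} (X : ι → S) (F G : S ⥤ S) (H : S ⥤ S) (e : ∀ Z, H.obj Z ≅ F.obj Z ⊞ G.obj Z)
    (he : ∀ {Z Z' : S} (φ : Z ⟶ Z'), H.map φ ≫ (e Z').hom = (e Z).hom ≫ biprod.map (F.map φ) (G.map φ)) (K : S)
    (hF : Function.Bijective (cSum X F K)) (hG : Function.Bijective (cSum X G K)) :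
    Function.Bijective (cSum X H K) := by
  classical
  let p : ∀ Z, (K ⟶ H.obj Z) →+ (K ⟶ F.obj Z) := fun Z => Preadditive.rightComp K ((e Z).hom ≫ biprod.fst)
  let p' : ∀ Z, (K ⟶ H.obj Z) →+ (K ⟶ G.obj Z) := fun Z => Preadditive.rightComp K ((e Z).hom ≫ biprod.snd)
  have sp : ∀ x, cSum X F K (DirectSum.map (fun i => p (X i)) x) = p (∐ X) (cSum X H K x) := fun x =>
    cSum_map X H F K K (fun i => p (X i)) (p (∐ X)) (fun i y => by
      show (y ≫ H.map _) ≫ (e _).hom ≫ biprod.fst = (y ≫ (e _).hom ≫ biprod.fst) ≫ F.map _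
      simp [reassoc_of% (he (Sigma.ι X i))]) x
  have sp' : ∀ x, cSum X G K (DirectSum.map (fun i => p' (X i)) x) = p' (∐ X) (cSum X H K x) := fun x =>
    cSum_map X H G K K (fun i => p' (X i)) (p' (∐ X)) (fun i y => by
      show (y ≫ H.map _) ≫ (e _).hom ≫ biprod.snd = (y ≫ (e _).hom ≫ biprod.snd) ≫ G.map _
      simp [reassoc_of% (he (Sigma.ι X i))]) x
  let q₁ : ∀ Z, (K ⟶ F.obj Z) →+ (K ⟶ H.obj Z) := fun Z => Preadditive.rightComp K (biprod.inl ≫ (e Z).inv)
  let q₂ : ∀ Z, (K ⟶ G.obj Z) →+ (K ⟶ H.obj Z) := fun Z => Preadditive.rightComp K (biprod.inr ≫ (e Z).inv)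
  have he' : ∀ {Z Z' : S} (φ : Z ⟶ Z'), biprod.map (F.map φ) (G.map φ) ≫ (e Z').inv = (e Z).inv ≫ H.map φ := by
    intro Z Z' φ
    rw [← cancel_epi (e Z).hom, ← Category.assoc, ← he]
    simp
  have sq₁ : ∀ x, cSum X H K (DirectSum.map (fun i => q₁ (X i)) x) = q₁ (∐ X) (cSum X F K x) := fun x =>
    cSum_map X F H K K (fun i => q₁ (X i)) (q₁ (∐ X)) (fun i y => by
      show (y ≫ F.map _) ≫ biprod.inl ≫ (e _).inv = (y ≫ biprod.inl ≫ (e _).inv) ≫ H.map _
      simp [← he' (Sigma.ι X i)]) x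
  have sq₂ : ∀ x, cSum X H K (DirectSum.map (fun i => q₂ (X i)) x) = q₂ (∐ X) (cSum X G K x) := fun x =>
    cSum_map X G H K K (fun i => q₂ (X i)) (q₂ (∐ X)) (fun i y => by
      show (y ≫ G.map _) ≫ biprod.inr ≫ (e _).inv = (y ≫ biprod.inr ≫ (e _).inv) ≫ H.map _
      simp [← he' (Sigma.ι X i)]) x
  have total : ∀ Z (y : K ⟶ H.obj Z), q₁ Z (p Z y) + q₂ Z (p' Z y) = y := fun Z y => by
    show (y ≫ (e Z).hom ≫ biprod.fst) ≫ biprod.inl ≫ (e Z).inv +
      (y ≫ (e Z).hom ≫ biprod.snd) ≫ biprod.inr ≫ (e Z).inv = y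
    simp only [Category.assoc]
    rw [← Preadditive.comp_add, ← Preadditive.comp_add, ← Category.assoc biprod.fst, ← Category.assoc biprod.snd,
      ← Preadditive.add_comp, biprod.total, Category.id_comp, Iso.hom_inv_id, Category.comp_id]
  refine ⟨(injective_iff_map_eq_zero _).2 fun x hx => DFinsupp.ext fun i => ?_, fun y => ?_⟩
  · have h1 : DirectSum.map (fun i => p (X i)) x = 0 := hF.1 (by rw [sp, hx, map_zero, map_zero])
    have h2 : DirectSum.map (fun i => p' (X i)) x = 0 := hG.1 (by rw [sp', hx, map_zero, map_zero])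
    show x i = 0
    rw [← total _ (x i), ← DirectSum.map_apply (fun i => p (X i)) i x, ← DirectSum.map_apply (fun i => p' (X i)) i x,
      h1, h2, DirectSum.zero_apply, DirectSum.zero_apply, map_zero, map_zero, add_zero]
  · obtain ⟨x₁, h₁⟩ := hF.2 (p _ y)
    obtain ⟨x₂, h₂⟩ := hG.2 (p' _ y)
    refine ⟨DirectSum.map (fun i => q₁ (X i)) x₁ + DirectSum.map (fun i => q₂ (X i)) x₂, ?_⟩
    rw [map_add, sq₁, sq₂, h₁, h₂, total]

theorem isCompactObject_of_pullbacks (hq : q.IsMV) (N : S) (hU : CohDer.IsCompactObject (q.jst.obj N))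
    (hX' : CohDer.IsCompactObject (q.fst.obj N)) (hU' : CohDer.IsCompactObject (q.gst.obj (q.jst.obj N))) :
    CohDer.IsCompactObject N := by
  intro ι X
  choose d hd using exists_connecting hq
  let A : S ⥤ S := q.jst ⋙ q.jls
  let B : S ⥤ S := q.fst ⋙ q.fls
  let Y : S ⥤ S :=
    { obj := fun Z => A.obj Z ⊞ B.obj Z
      map := fun φ => biprod.map (A.map φ) (B.map φ) }
  let W : S ⥤ S := (q.jst ⋙ q.jls ⋙ q.fst) ⋙ q.fls
  let a : 𝟭 S ⟶ Y :=
    { app := mvA q
      naturality := fun Z Z' φ => by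
        show φ ≫ mvA q Z' = mvA q Z ≫ biprod.map (A.map φ) (B.map φ)
        apply biprod.hom_ext <;> simp [mvA, A, B] }
  let b : Y ⟶ W :=
    { app := mvB q
      naturality := fun Z Z' φ => by
        show biprod.map (A.map φ) (B.map φ) ≫ mvB q Z' = mvB q Z ≫ W.map φ
        apply biprod.hom_ext' <;> simp [mvB, A, B, W, ← Functor.map_comp] }
  let β : q.jls ⋙ q.fst ≅ q.gst ⋙ q.jpls :=
    haveI := hq.isIso_bc2App
    NatIso.ofComponents (fun P => asIso (q.bc2App P)) fun {P P'} φ => by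
      simp only [Functor.comp_map, asIso_hom, W4c3perfectstacks.MVSq.bc2App, Category.assoc]
      have n1 := q.adjJp.unit_naturality (q.fst.map (q.jls.map φ))
      rw [← reassoc_of% n1]
      congr 1
      simp only [← Functor.map_comp]
      congr 1
      have n2 := q.e.inv.naturality (q.jls.map φ)
      simp only [Functor.comp_map] at n2
      rw [reassoc_of% n2]
      congr 1
      rw [← Functor.map_comp]
      congr 1
      exact q.adjJ.counit_naturality φ
  haveI : PreservesColimit (Discrete.functor X) q.jst := q.adjJ.leftAdjoint_preservesColimits.preservesColimitsOfShape.preservesColimit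
  haveI : PreservesColimit (Discrete.functor X) q.fst := q.adjF.leftAdjoint_preservesColimits.preservesColimitsOfShape.preservesColimit
  haveI : PreservesColimit (Discrete.functor X) (q.jst ⋙ q.gst) :=
    (q.adjJ.comp q.adjG).leftAdjoint_preservesColimits.preservesColimitsOfShape.preservesColimit
  have main : ∀ (K : S), CohDer.IsCompactObject (q.jst.obj K) → CohDer.IsCompactObject (q.fst.obj K) →
      CohDer.IsCompactObject (q.gst.obj (q.jst.obj K)) →
        Function.Bijective (cSum X Y K) ∧ Function.Bijective (cSum X W K) := by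
    intro K h1 h2 h3
    refine ⟨bijective_biprod X A B Y (fun Z => Iso.refl _) (fun φ => (Category.comp_id _).trans (Category.id_comp _).symm) K
      ((bijective_adj_iff X q.adjJ q.jst K).1 (bijective_of_compact X q.jst h1))
      ((bijective_adj_iff X q.adjF q.fst K).1 (bijective_of_compact X q.fst h2)), ?_⟩
    have h4 := (bijective_adj_iff X q.adjJp (q.jst ⋙ q.gst) (q.fst.obj K)).1
      (bijective_of_iso_left X _ (q.e.app K) (bijective_of_compact X (q.jst ⋙ q.gst) h3))
    exact (bijective_adj_iff X q.adjF (q.jst ⋙ q.jls ⋙ q.fst) K).1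
      (bijective_of_iso X _ _ ((Functor.associator _ _ _).trans (Functor.isoWhiskerLeft q.jst β).symm) _ h4)
  have sh : ∀ {D : Type u} [Category.{v} D] [Preadditive D] [HasShift D ℤ] [∀ n : ℤ, (shiftFunctor D n).Additive]
      [HasCoproducts.{v} D] {P P' : D} (_ : P ≅ P'), CohDer.IsCompactObject P → CohDer.IsCompactObject P' := by
    intro D _ _ _ _ _ P P' i h κ Z
    have := bijective_of_iso_left Z (𝟭 D) i (h κ Z)
    exact this
  have h1' := sh ((q.jst.commShiftIso (1 : ℤ)).app N).symm (isCompactObject_shift hU 1)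
  have h2' := sh ((q.fst.commShiftIso (1 : ℤ)).app N).symm (isCompactObject_shift hX' 1)
  have h3' := sh (((q.gst.commShiftIso (1 : ℤ)).app _).symm ≪≫ q.gst.mapIso ((q.jst.commShiftIso (1 : ℤ)).app N).symm)
    (isCompactObject_shift hU' 1)
  exact bijective_of_triangles X Y W a b d (fun {Z Z'} φ => connecting_natural φ (hd Z) (hd Z')) hd N
    (main N hU hX' hU').1 (main N hU hX' hU').2 (main _ h1' h2' h3').1 (main _ h1' h2' h3').2

end Square

end Groth.Agent.Desc19b.MV
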