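import Mathlib
import Groth.Prelude.Def_W4c3perfectstacksMV

/-! Mayer–Vietoris squares of triangulated categories. -/

set_option autoImplicit false
set_option linter.style.haveILetI false
set_option linter.unusedSectionVars false
set_option backward.isDefEq.respectTransparency false
set_option backward.isDefEq.respectTransparency.types false

universe v u v₁ u₁ v₂ u₂

open CategoryTheory CategoryTheory.Limits CategoryTheory.Pretriangulated

namespace Groth.Agent.Desc19b.MV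

section General

variable {C : Type u₁} [Category.{v₁} C] [Preadditive C] [HasZeroObject C] [HasShift C ℤ]
  [∀ n : ℤ, (shiftFunctor C n).Additive] [Pretriangulated C]
  {D : Type u₂} [Category.{v₂} D] [Preadditive D] [HasZeroObject D] [HasShift D ℤ]
  [∀ n : ℤ, (shiftFunctor D n).Additive] [Pretriangulated D]

/-- `Z` receives only zero maps from the objects killed by `L`. -/
def Orth (L : C ⥤ D) (Z : C) : Prop := ∀ ⦃A : C⦄, IsZero (L.obj A) → ∀ φ : A ⟶ Z, φ = 0

theorem Orth.of_iso {L : C ⥤ D} {Z Z' : C} (h : Orth L Z) (e : Z ≅ Z') : Orth L Z' := fun A hA φ => by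
  rw [← cancel_mono e.inv, zero_comp]
  exact h hA _

theorem Orth.shift {L : C ⥤ D} [L.CommShift ℤ] [L.Additive] {Z : C} (h : Orth L Z) (n : ℤ) : Orth L (Z⟦n⟧) := by
  intro A hA φ
  have hA' : IsZero (L.obj (A⟦-n⟧)) := by
    refine IsZero.of_iso ?_ ((L.commShiftIso (-n)).app A)
    exact (shiftFunctor D (-n)).map_isZero hA
  have := h hA' (φ⟦-n⟧' ≫ (shiftShiftNeg Z n).hom)
  rw [Preadditive.IsIso.comp_right_eq_zero] at this
  exact (shiftFunctor C (-n)).map_injective (by rw [this, Functor.map_zero])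

theorem orth_right {L : C ⥤ D} {R : D ⥤ C} [L.Additive] (adj : L ⊣ R) (X : D) : Orth L (R.obj X) := fun A hA φ => by
  apply (adj.homEquiv A X).symm.injective
  exact hA.eq_of_src _ _

theorem isZero_right {L : C ⥤ D} {R : D ⥤ C} [L.Additive] (adj : L ⊣ R) {X : D} (h : IsZero X) :
    IsZero (R.obj X) := by
  rw [IsZero.iff_id_eq_zero]
  apply (adj.homEquiv (R.obj X) X).symm.injective
  exact h.eq_of_tgt _ _

theorem bijective_comp_mor₁ {T : Triangle C} (hT : T ∈ distTriang C) {A : C} (h₀ : ∀ φ : A ⟶ T.obj₃, φ = 0)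
    (h₁ : ∀ φ : A ⟶ T.obj₃⟦(-1 : ℤ)⟧, φ = 0) : Function.Bijective fun g : A ⟶ T.obj₁ => g ≫ T.mor₁ := by
  refine ⟨fun g g' hg => ?_, fun y => ?_⟩
  · rw [← sub_eq_zero]
    obtain ⟨z, hz⟩ := Triangle.coyoneda_exact₂ _ (inv_rot_of_distTriang _ hT) (g - g' : A ⟶ T.invRotate.obj₂)
      (by show (g - g') ≫ T.mor₁ = 0; rw [Preadditive.sub_comp]; exact sub_eq_zero.2 hg)
    exact hz.trans (by rw [h₁ z]; exact zero_comp)
  · obtain ⟨g, hg⟩ := Triangle.coyoneda_exact₂ _ hT y (h₀ _)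
    exact ⟨g, hg.symm⟩

theorem isIso_of_detect (L : C ⥤ D) [L.CommShift ℤ] [L.IsTriangulated] {N N' : C} (t : N ⟶ N') (h₁ : IsIso (L.map t))
    (h₂ : ∀ A, IsZero (L.obj A) → Function.Bijective fun g : A ⟶ N => g ≫ t) : IsIso t := by
  obtain ⟨Z, c, δ, hT⟩ := distinguished_cocone_triangle t
  have hZ : IsZero (L.obj Z) :=
    (Triangle.isZero₃_iff_isIso₁ _ (L.map_distinguished _ hT)).2 h₁
  suffices IsZero Z from (Triangle.isZero₃_iff_isIso₁ _ hT).1 this
  -- `δ` vanishes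
  have hδ : δ = 0 := by
    have hZ' : IsZero (L.obj (Z⟦(-1 : ℤ)⟧)) :=
      IsZero.of_iso ((shiftFunctor D (-1 : ℤ)).map_isZero hZ) ((L.commShiftIso (-1 : ℤ)).app Z)
    let k := δ⟦(-1 : ℤ)⟧' ≫ (shiftShiftNeg N (1 : ℤ)).hom
    have hk : k ≫ t = 0 := by
      have h3 : δ ≫ t⟦(1 : ℤ)⟧' = 0 := comp_distTriang_mor_zero₃₁ _ hT
      show (δ⟦(-1 : ℤ)⟧' ≫ (shiftFunctorCompIsoId C (1 : ℤ) (-1) (by simp)).hom.app N) ≫ t = 0
      rw [Category.assoc]
      erw [← (shiftFunctorCompIsoId C (1 : ℤ) (-1) (by simp)).hom.naturality t]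
      rw [Functor.comp_map, ← Category.assoc, ← Functor.map_comp, h3, Functor.map_zero, zero_comp]
    have := (h₂ _ hZ').1 (hk.trans zero_comp.symm)
    rw [Preadditive.IsIso.comp_right_eq_zero] at this
    exact (shiftFunctor C (-1 : ℤ)).map_injective (by rw [this, Functor.map_zero])
  obtain ⟨s, hs⟩ := Triangle.coyoneda_exact₃ _ hT (𝟙 Z) (by show 𝟙 Z ≫ δ = 0; rw [hδ, comp_zero])
  obtain ⟨s', hs'⟩ := (h₂ Z hZ).2 s
  rw [IsZero.iff_id_eq_zero]
  refine hs.trans ?_
  show s ≫ c = 0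
  rw [← hs', Category.assoc]
  exact (congrArg (s' ≫ ·) (comp_distTriang_mor_zero₁₂ _ hT)).trans comp_zero

theorem isIso_map_fst (F : C ⥤ D) [F.CommShift ℤ] [F.IsTriangulated] {L X Y W : C} {a : L ⟶ X ⊞ Y}
    {u : X ⟶ W} {v : Y ⟶ W} {δ : W ⟶ L⟦(1 : ℤ)⟧} (hT : Triangle.mk a (biprod.desc u v) δ ∈ distTriang C)
    [IsIso (F.map v)] : IsIso (F.map (a ≫ biprod.fst)) := by
  let T' := F.mapTriangle.obj (Triangle.mk a (biprod.desc u v) δ)
  have hT' : T' ∈ distTriang D := F.map_distinguished _ hT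
  have hv : F.map (biprod.inr : Y ⟶ X ⊞ Y) ≫ F.map (biprod.desc u v) = F.map v := by rw [← F.map_comp, biprod.inr_desc]
  have hu : F.map (biprod.inl : X ⟶ X ⊞ Y) ≫ F.map (biprod.desc u v) = F.map u := by rw [← F.map_comp, biprod.inl_desc]
  have hmor₃ : T'.mor₃ = 0 := by
    have h := comp_distTriang_mor_zero₂₃ _ hT'
    have h2 : F.map biprod.inr ≫ T'.mor₂ ≫ T'.mor₃ = 0 := by rw [h, comp_zero]
    rw [← Category.assoc, show F.map biprod.inr ≫ T'.mor₂ = F.map v from hv,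
      Preadditive.IsIso.comp_left_eq_zero] at h2
    exact h2
  haveI : Mono (F.map a) := (Triangle.mono₁ _ hT' hmor₃ : Mono T'.mor₁)
  let s : F.obj X ⟶ F.obj (X ⊞ Y) := F.map biprod.inl - (F.map u ≫ inv (F.map v)) ≫ F.map biprod.inr
  obtain ⟨l, hl⟩ := Triangle.coyoneda_exact₂ _ hT' s (by
    show s ≫ F.map (biprod.desc u v) = 0
    rw [Preadditive.sub_comp, hu, Category.assoc, hv, Category.assoc, IsIso.inv_hom_id, Category.comp_id, sub_self])
  have hl' : s = l ≫ F.map a := hl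
  refine ⟨l, ?_, ?_⟩
  · rw [← cancel_mono (F.map a), Category.assoc, ← hl', Category.id_comp]
    have hz : F.map (a ≫ biprod.fst) ≫ F.map u + F.map (a ≫ biprod.snd) ≫ F.map v = 0 := by
      rw [← F.map_comp, ← F.map_comp, ← F.map_add, Category.assoc, Category.assoc, ← Preadditive.comp_add,
        ← biprod.desc_eq]
      exact (congrArg F.map (comp_distTriang_mor_zero₁₂ _ hT)).trans (F.map_zero _ _)
    have h2 : F.map (a ≫ biprod.snd) = -((F.map (a ≫ biprod.fst) ≫ F.map u) ≫ inv (F.map v)) := by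
      rw [← Preadditive.neg_comp, eq_comm, IsIso.comp_inv_eq]
      exact neg_eq_of_add_eq_zero_right hz
    rw [Preadditive.comp_sub, ← Category.assoc (F.map (a ≫ biprod.fst)), ← Category.assoc (F.map (a ≫ biprod.fst)),
      sub_eq_add_neg, ← Preadditive.neg_comp, ← h2]
    rw [← F.map_comp, ← F.map_comp, ← F.map_add]
    congr 1
    simp only [Category.assoc, ← Preadditive.comp_add, biprod.total, Category.comp_id]
  · rw [F.map_comp, ← Category.assoc, ← hl', Preadditive.sub_comp, Category.assoc, ← F.map_comp, ← F.map_comp,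
      biprod.inl_fst, biprod.inr_fst, F.map_zero, comp_zero, sub_zero, F.map_id]

theorem bijective_comp_snd {L X Y W : C} {a : L ⟶ X ⊞ Y}
    {u : X ⟶ W} {v : Y ⟶ W} {δ : W ⟶ L⟦(1 : ℤ)⟧} (hT : Triangle.mk a (biprod.desc u v) δ ∈ distTriang C)
    {A : C} (hX : ∀ φ : A ⟶ X, φ = 0) (hW : ∀ φ : A ⟶ W, φ = 0) (hW' : ∀ φ : A ⟶ W⟦(-1 : ℤ)⟧, φ = 0) :
    Function.Bijective fun g : A ⟶ L => g ≫ a ≫ biprod.snd := by
  have h := bijective_comp_mor₁ hT (A := A) hW hW'
  refine ⟨fun g g' hg => h.1 ?_, fun y => ?_⟩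
  · show g ≫ a = g' ≫ a
    exact biprod.hom_ext _ _ ((hX _).trans (hX _).symm) (by rw [Category.assoc, Category.assoc]; exact hg)
  · obtain ⟨g, hg⟩ := h.2 (y ≫ biprod.inr)
    refine ⟨g, ?_⟩
    show g ≫ a ≫ biprod.snd = y
    rw [← Category.assoc, show g ≫ a = y ≫ biprod.inr from hg, Category.assoc, biprod.inr_snd, Category.comp_id]

end General

section Square

variable {S S' R R' : Type u} [Category.{v} S] [Category.{v} S'] [Category.{v} R] [Category.{v} R']
    [Preadditive S] [Preadditive S'] [Preadditive R] [Preadditive R']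
    [HasZeroObject S] [HasZeroObject S'] [HasZeroObject R] [HasZeroObject R']
    [HasShift S ℤ] [HasShift S' ℤ] [HasShift R ℤ] [HasShift R' ℤ]
    [∀ n : ℤ, (shiftFunctor S n).Additive] [∀ n : ℤ, (shiftFunctor S' n).Additive]
    [∀ n : ℤ, (shiftFunctor R n).Additive] [∀ n : ℤ, (shiftFunctor R' n).Additive]
    [Pretriangulated S] [Pretriangulated S'] [Pretriangulated R] [Pretriangulated R']
    {q : W4c3perfectstacks.MVSq S S' R R'}
    [q.jst.CommShift ℤ] [q.fst.CommShift ℤ] [q.jpst.CommShift ℤ] [q.gst.CommShift ℤ]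
    [q.jst.IsTriangulated] [q.fst.IsTriangulated] [q.jpst.IsTriangulated] [q.gst.IsTriangulated]

theorem isIso_map_unit {C : Type u₁} [Category.{v₁} C] {D : Type u₂} [Category.{v₂} D] {L : C ⥤ D} {G : D ⥤ C}
    (adj : L ⊣ G) (h : IsIso adj.counit) (N : C) : IsIso (L.map (adj.unit.app N)) := by
  have : L.map (adj.unit.app N) = inv (adj.counit.app (L.obj N)) :=
    IsIso.eq_inv_of_inv_hom_id (adj.left_triangle_components N)
  rw [this]
  infer_instance

theorem isZero_jpst_fst {A : S} (hA : IsZero (q.jst.obj A)) : IsZero (q.jpst.obj (q.fst.obj A)) :=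
  IsZero.of_iso (Functor.map_isZero q.gst hA) (q.e.app A).symm

theorem isZero_jst_fls (hq : q.IsMV) {M : S'} (hM : IsZero (q.jpst.obj M)) : IsZero (q.jst.obj (q.fls.obj M)) :=
  haveI := hq.isIso_bcApp M
  IsZero.of_iso (isZero_right q.adjG hM) (asIso (q.bcApp M))

theorem bijective_map_fst (hq : q.IsMV) {A : S} (hA : IsZero (q.jst.obj A)) (N : S) :
    Function.Bijective fun g : A ⟶ N => q.fst.map g := by
  obtain ⟨K, i, δ, hT⟩ := distinguished_cocone_triangle₁ (q.adjJ.unit.app N)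
  have hK : IsZero (q.jst.obj K) :=
    (Triangle.isZero₁_iff_isIso₂ _ (q.jst.map_distinguished _ hT)).2 (isIso_map_unit q.adjJ hq.isIso_counitJ N)
  haveI := hq.isIso_unitF K hK
  have b1 : Function.Bijective fun g : A ⟶ K => g ≫ i :=
    bijective_comp_mor₁ hT ((orth_right q.adjJ _) hA) (((orth_right q.adjJ _).shift _) hA)
  have hO : Orth q.jpst (q.fst.obj (q.jls.obj (q.jst.obj N))) :=
    haveI := hq.isIso_bc2App (q.jst.obj N)
    (orth_right q.adjJp _).of_iso (asIso (q.bc2App (q.jst.obj N))).symm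
  have b3 : Function.Bijective fun g : q.fst.obj A ⟶ q.fst.obj K => g ≫ q.fst.map i :=
    bijective_comp_mor₁ (q.fst.map_distinguished _ hT) (hO (isZero_jpst_fst hA)) ((hO.shift _) (isZero_jpst_fst hA))
  have b2 : Function.Bijective fun g : A ⟶ K => q.fst.map g := by
    refine ⟨fun g g' h => ?_, fun h => ?_⟩
    · exact (cancel_mono (q.adjF.unit.app K)).1 ((q.adjF.unit_naturality g).symm.trans
        ((congrArg (fun x => q.adjF.unit.app A ≫ q.fls.map x) h).trans (q.adjF.unit_naturality g')))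
    · refine ⟨q.adjF.homEquiv _ _ h ≫ inv (q.adjF.unit.app K), (q.adjF.homEquiv _ _).injective ?_⟩
      rw [Adjunction.homEquiv_unit]
      refine (q.adjF.unit_naturality _).trans ?_
      exact (Category.assoc _ _ _).trans ((congrArg (q.adjF.homEquiv _ _ h ≫ ·) (IsIso.inv_hom_id _)).trans
        (Category.comp_id _))
  have hc : ((fun g : q.fst.obj A ⟶ q.fst.obj K => g ≫ q.fst.map i) ∘ fun g : A ⟶ K => q.fst.map g) =
      (fun g : A ⟶ N => q.fst.map g) ∘ fun g : A ⟶ K => g ≫ i := funext fun g => (q.fst.map_comp g i).symm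
  exact (Function.Bijective.of_comp_iff _ b1).1 (hc ▸ b3.comp b2)

theorem bijective_comp_unitF (hq : q.IsMV) {A : S} (hA : IsZero (q.jst.obj A)) (N : S) :
    Function.Bijective fun g : A ⟶ N => g ≫ q.adjF.unit.app N := by
  have hc : (⇑(q.adjF.homEquiv A (q.fst.obj N)) ∘ fun g : A ⟶ N => q.fst.map g) =
      fun g : A ⟶ N => g ≫ q.adjF.unit.app N :=
    funext fun g => (Adjunction.homEquiv_unit _ A _ _).trans (q.adjF.unit_naturality g)
  exact hc ▸ (q.adjF.homEquiv A (q.fst.obj N)).bijective.comp (bijective_map_fst hq hA N)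

/-- The first map. -/
noncomputable def mvA (q : W4c3perfectstacks.MVSq S S' R R') (N : S) :
    N ⟶ q.jls.obj (q.jst.obj N) ⊞ q.fls.obj (q.fst.obj N) :=
  biprod.lift (q.adjJ.unit.app N) (q.adjF.unit.app N)

/-- The second map. -/
noncomputable def mvB (q : W4c3perfectstacks.MVSq S S' R R') (N : S) :
    q.jls.obj (q.jst.obj N) ⊞ q.fls.obj (q.fst.obj N) ⟶ q.fls.obj (q.fst.obj (q.jls.obj (q.jst.obj N))) :=
  biprod.desc (q.adjF.unit.app (q.jls.obj (q.jst.obj N))) (-(q.fls.map (q.fst.map (q.adjJ.unit.app N))))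

theorem mvA_mvB (N : S) : mvA q N ≫ mvB q N = 0 := by
  simp [mvA, mvB, Preadditive.comp_neg]

theorem isIso_jst_fls_map (hq : q.IsMV) {M M' : S'} (φ : M ⟶ M') (h : IsIso (q.jpst.map φ)) :
    IsIso (q.jst.map (q.fls.map φ)) := by
  haveI := hq.isIso_bcApp M
  haveI := hq.isIso_bcApp M'
  have e : q.jst.map (q.fls.map φ) = q.bcApp M ≫ q.gls.map (q.jpst.map φ) ≫ inv (q.bcApp M') := by
    rw [← Category.assoc, IsIso.eq_comp_inv]
    simp only [W4c3perfectstacks.MVSq.bcApp, Category.assoc]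
    have n1 := q.adjG.unit_naturality (q.jst.map (q.fls.map φ))
    rw [← reassoc_of% n1]
    congr 1
    simp only [← Functor.map_comp]
    congr 1
    have n2 := q.e.hom.naturality (q.fls.map φ)
    simp only [Functor.comp_map] at n2
    rw [reassoc_of% n2]
    congr 1
    rw [← Functor.map_comp]
    congr 1
    exact q.adjF.counit_naturality φ
  rw [e]
  infer_instance

theorem isIso_jpst_fst_map {N N' : S} (φ : N ⟶ N') (h : IsIso (q.jst.map φ)) :
    IsIso (q.jpst.map (q.fst.map φ)) :=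
  (NatIso.isIso_map_iff q.e φ).1 (Functor.map_isIso q.gst (q.jst.map φ))

theorem exists_connecting (hq : q.IsMV) (N : S) :
    ∃ d, Triangle.mk (mvA q N) (mvB q N) d ∈ distTriang S := by
  obtain ⟨L, b, δ, hT⟩ := distinguished_cocone_triangle₁ (mvB q N)
  obtain ⟨t, ht⟩ := Triangle.coyoneda_exact₂ _ hT (mvA q N) (mvA_mvB N)
  have ht' : t ≫ b = mvA q N := ht.symm
  haveI : IsIso (q.jst.map (-(q.fls.map (q.fst.map (q.adjJ.unit.app N))))) := by
    haveI := isIso_jst_fls_map hq _ (isIso_jpst_fst_map _ (isIso_map_unit q.adjJ hq.isIso_counitJ N))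
    rw [Functor.map_neg]
    exact ⟨-inv (q.jst.map (q.fls.map (q.fst.map (q.adjJ.unit.app N)))), by simp, by simp⟩
  haveI := isIso_map_fst q.jst hT
  have h1 : IsIso (q.jst.map t) := by
    haveI := isIso_map_unit q.adjJ hq.isIso_counitJ N
    haveI : IsIso (q.jst.map t ≫ q.jst.map (b ≫ biprod.fst)) := by
      rw [← q.jst.map_comp, ← Category.assoc, ht', mvA, biprod.lift_fst]; infer_instance
    exact IsIso.of_isIso_comp_right _ (q.jst.map (b ≫ biprod.fst))
  haveI : IsIso t := isIso_of_detect q.jst t h1 fun A hA => by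
    have hA' := isZero_jpst_fst hA
    have hW : ∀ φ : A ⟶ q.fls.obj (q.fst.obj (q.jls.obj (q.jst.obj N))), φ = 0 := fun φ => by
      haveI := hq.isIso_bc2App (q.jst.obj N)
      apply (q.adjF.homEquiv _ _).symm.injective
      exact ((orth_right q.adjJp _).of_iso (asIso (q.bc2App (q.jst.obj N))).symm hA' _).trans
        ((orth_right q.adjJp _).of_iso (asIso (q.bc2App (q.jst.obj N))).symm hA' _).symm
    have hW' : ∀ φ : A ⟶ (q.fls.obj (q.fst.obj (q.jls.obj (q.jst.obj N))))⟦(-1 : ℤ)⟧, φ = 0 :=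
      (Orth.shift (L := q.jst) (fun A' hA'' φ => by
        haveI := hq.isIso_bc2App (q.jst.obj N)
        apply (q.adjF.homEquiv _ _).symm.injective
        exact ((orth_right q.adjJp _).of_iso (asIso (q.bc2App (q.jst.obj N))).symm (isZero_jpst_fst hA'') _).trans
          ((orth_right q.adjJp _).of_iso (asIso (q.bc2App (q.jst.obj N))).symm (isZero_jpst_fst hA'') _).symm) _) hA
    refine (Function.Bijective.of_comp_iff' (bijective_comp_snd hT (orth_right q.adjJ _ hA) hW hW') _).1 ?_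
    have hc : ((fun g : A ⟶ L => g ≫ b ≫ biprod.snd) ∘ fun g : A ⟶ N => g ≫ t) =
        fun g : A ⟶ N => g ≫ q.adjF.unit.app N := funext fun g => by
      show (g ≫ t) ≫ b ≫ biprod.snd = _
      rw [Category.assoc, ← Category.assoc t, ht', mvA, biprod.lift_snd]
    exact hc ▸ bijective_comp_unitF hq hA N
  exact ⟨δ ≫ (inv t)⟦(1 : ℤ)⟧', isomorphic_distinguished _ hT _
    (Triangle.isoMk _ _ (asIso t) (Iso.refl _) (Iso.refl _)
      (show mvA q N ≫ 𝟙 _ = t ≫ b by rw [Category.comp_id, ht'])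
      (show mvB q N ≫ 𝟙 _ = 𝟙 _ ≫ mvB q N by rw [Category.comp_id, Category.id_comp])
      (show (δ ≫ (inv t)⟦(1 : ℤ)⟧') ≫ t⟦(1 : ℤ)⟧' = 𝟙 _ ≫ δ from by
        have e : (shiftFunctor S (1 : ℤ)).map (inv t) ≫ t⟦(1 : ℤ)⟧' = 𝟙 _ := by
          rw [← Functor.map_comp, IsIso.inv_hom_id, CategoryTheory.Functor.map_id]
        exact (Category.assoc _ _ _).trans ((congrArg (δ ≫ ·) e).trans ((Category.comp_id _).trans (Category.id_comp _).symm))))⟩

theorem connecting_comp_eq_zero {N : S} {d : q.fls.obj (q.fst.obj (q.jls.obj (q.jst.obj N))) ⟶ N⟦(1 : ℤ)⟧}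
    (hT : Triangle.mk (mvA q N) (mvB q N) d ∈ distTriang S) {X : S'} (h : N⟦(1 : ℤ)⟧ ⟶ q.fls.obj X) : d ≫ h = 0 := by
  letI := q.adjF.rightAdjointCommShift ℤ
  let η : q.fls.obj X ≅ (q.fls.obj (X⟦(-1 : ℤ)⟧))⟦(1 : ℤ)⟧ :=
    q.fls.mapIso (shiftNegShift X (1 : ℤ)).symm ≪≫ (q.fls.commShiftIso (1 : ℤ)).app _
  obtain ⟨k, hk⟩ := (shiftFunctor S (1 : ℤ)).map_surjective (h ≫ η.hom)
  have h0 : (mvA q N ≫ biprod.snd ≫ q.fls.map ((q.adjF.homEquiv N _).symm k)) = k := by
    rw [← Category.assoc, mvA, biprod.lift_snd, ← Adjunction.homEquiv_unit, Equiv.apply_symm_apply]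
  rw [← cancel_mono η.hom, Category.assoc, ← hk, zero_comp, ← h0, Functor.map_comp, ← Category.assoc]
  exact (congrArg (· ≫ _) (comp_distTriang_mor_zero₃₁ _ hT)).trans zero_comp

theorem connecting_natural {N₁ N₂ : S} (φ : N₁ ⟶ N₂)
    {d₁ : q.fls.obj (q.fst.obj (q.jls.obj (q.jst.obj N₁))) ⟶ N₁⟦(1 : ℤ)⟧}
    {d₂ : q.fls.obj (q.fst.obj (q.jls.obj (q.jst.obj N₂))) ⟶ N₂⟦(1 : ℤ)⟧}
    (h₁ : Triangle.mk (mvA q N₁) (mvB q N₁) d₁ ∈ distTriang S)
    (h₂ : Triangle.mk (mvA q N₂) (mvB q N₂) d₂ ∈ distTriang S) :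
    d₁ ≫ φ⟦(1 : ℤ)⟧' = q.fls.map (q.fst.map (q.jls.map (q.jst.map φ))) ≫ d₂ := by
  let m := biprod.map (q.jls.map (q.jst.map φ)) (q.fls.map (q.fst.map φ))
  let χ := q.fls.map (q.fst.map (q.jls.map (q.jst.map φ)))
  have hm : mvA q N₁ ≫ m = φ ≫ mvA q N₂ := by
    apply biprod.hom_ext <;> simp [m, mvA]
  have hχ : mvB q N₁ ≫ χ = m ≫ mvB q N₂ := by
    apply biprod.hom_ext'
    · simp [m, mvB, χ]
    · simp [m, mvB, χ, ← Functor.map_comp]
  obtain ⟨ψ, hψ₁, hψ₂⟩ : ∃ ψ : q.fls.obj (q.fst.obj (q.jls.obj (q.jst.obj N₁))) ⟶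
      q.fls.obj (q.fst.obj (q.jls.obj (q.jst.obj N₂))),
      mvB q N₁ ≫ ψ = m ≫ mvB q N₂ ∧ d₁ ≫ φ⟦(1 : ℤ)⟧' = ψ ≫ d₂ :=
    complete_distinguished_triangle_morphism _ _ h₁ h₂ φ m hm
  obtain ⟨h, hh⟩ := Triangle.yoneda_exact₃ _ h₁ (ψ - χ) (by
    show mvB q N₁ ≫ (ψ - χ) = 0
    rw [Preadditive.comp_sub, hχ]
    exact sub_eq_zero.2 hψ₁)
  have : ψ = χ := sub_eq_zero.1 (hh.trans (connecting_comp_eq_zero h₁ h))
  exact hψ₂.trans (congrArg (· ≫ d₂) this)

theorem glue (hq : q.IsMV) (NU : R) (N' : S') (δ : q.jpst.obj N' ≅ q.gst.obj NU) (N : S)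
    (a : N ⟶ q.jls.obj NU ⊞ q.fls.obj N')
    (d : q.fls.obj (q.jpls.obj (q.gst.obj NU)) ⟶ N⟦(1 : ℤ)⟧)
    (hT : Triangle.mk a
      (biprod.desc (q.adjF.unit.app (q.jls.obj NU) ≫ q.fls.map (q.bc2App NU))
        (-(q.fls.map (q.adjJp.unit.app N' ≫ q.jpls.map δ.hom)))) d ∈ distTriang S) :
    IsIso ((q.adjJ.homEquiv N NU).symm (a ≫ biprod.fst)) ∧
      IsIso ((q.adjF.homEquiv N N').symm (a ≫ biprod.snd)) := by
  haveI := hq.isIso_counitJ
  haveI := hq.isIso_counitJp
  let w := q.adjJp.unit.app N' ≫ q.jpls.map δ.hom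
  haveI : IsIso (q.jpst.map w) := by
    haveI := isIso_map_unit q.adjJp hq.isIso_counitJp N'
    rw [Functor.map_comp]; infer_instance
  haveI : IsIso (q.jst.map (-(q.fls.map w))) := by
    haveI := isIso_jst_fls_map hq w inferInstance
    rw [Functor.map_neg]
    exact ⟨-inv (q.jst.map (q.fls.map w)), by simp, by simp⟩
  haveI := isIso_map_fst q.jst hT
  have hj : IsIso ((q.adjJ.homEquiv N NU).symm (a ≫ biprod.fst)) := by
    rw [Adjunction.homEquiv_counit]; infer_instance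
  refine ⟨hj, ?_⟩
  let fh := (q.adjF.homEquiv N N').symm (a ≫ biprod.snd)
  -- compatibility of the two components
  have key : q.jpst.map fh ≫ δ.hom = q.e.inv.app N ≫ q.gst.map ((q.adjJ.homEquiv N NU).symm (a ≫ biprod.fst)) := by
    have h0 : (a ≫ biprod.fst) ≫ q.adjF.unit.app (q.jls.obj NU) ≫ q.fls.map (q.bc2App NU) =
        (a ≫ biprod.snd) ≫ q.fls.map w := by
      have h := comp_distTriang_mor_zero₁₂ _ hT
      replace h : a ≫ biprod.desc (q.adjF.unit.app (q.jls.obj NU) ≫ q.fls.map (q.bc2App NU))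
        (-(q.fls.map w)) = 0 := h
      rw [biprod.desc_eq, Preadditive.comp_add, Preadditive.comp_neg, Preadditive.comp_neg, ← sub_eq_add_neg,
        sub_eq_zero] at h
      simpa only [Category.assoc] using h
    have h1 : q.fst.map (a ≫ biprod.fst) ≫ q.bc2App NU = fh ≫ w := by
      apply (q.adjF.homEquiv N _).injective
      rw [Adjunction.homEquiv_naturality_right, Adjunction.homEquiv_naturality_right, Equiv.apply_symm_apply,
        Adjunction.homEquiv_unit, q.adjF.unit_naturality, Category.assoc]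
      exact h0
    have h2 := congrArg (fun z => (q.adjJp.homEquiv _ _).symm z) h1
    simp only [w, W4c3perfectstacks.MVSq.bc2App, Adjunction.homEquiv_naturality_left_symm,
      Adjunction.homEquiv_naturality_right_symm, ← Functor.map_comp] at h2
    rw [Adjunction.homEquiv_counit, Adjunction.homEquiv_counit] at h2
    simp only [Adjunction.left_triangle_components, Adjunction.left_triangle_components_assoc, Functor.map_comp,
      Category.assoc, Adjunction.counit_naturality, Adjunction.counit_naturality_assoc] at h2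
    rw [Adjunction.homEquiv_counit, Functor.map_comp, ← h2]
    have n := q.e.inv.naturality (a ≫ biprod.fst)
    simp only [Functor.comp_map, Functor.map_comp] at n
    simp only [Functor.map_comp, Category.assoc] at n ⊢
    rw [reassoc_of% n]
  have hjp : IsIso (q.jpst.map fh) := by
    haveI : IsIso (q.jpst.map fh ≫ δ.hom) := by rw [key]; infer_instance
    exact IsIso.of_isIso_comp_right _ δ.hom
  refine isIso_of_detect q.jpst fh hjp fun A hA => ?_
  haveI := hq.isIso_counitF A hA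
  have hA' := isZero_jst_fls hq hA
  have hW : Orth q.jst (q.fls.obj (q.jpls.obj (q.gst.obj NU))) := fun A' hA'' φ => by
    apply (q.adjF.homEquiv _ _).symm.injective
    exact (orth_right q.adjJp _ (isZero_jpst_fst hA'') _).trans (orth_right q.adjJp _ (isZero_jpst_fst hA'') _).symm
  have B1 : Function.Bijective fun g : q.fls.obj A ⟶ N => q.fst.map g := bijective_map_fst hq hA' N
  have B2 : Function.Bijective fun g : q.fls.obj A ⟶ N => g ≫ a ≫ biprod.snd :=
    bijective_comp_snd hT (orth_right q.adjJ _ hA') (hW hA') ((hW.shift _) hA')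
  have B3 : Function.Bijective fun g : q.fst.obj (q.fls.obj A) ⟶ q.fst.obj N => g ≫ fh := by
    refine (Function.Bijective.of_comp_iff _ B1).1 ?_
    have hc : (⇑(q.adjF.homEquiv (q.fls.obj A) N').symm ∘ fun g : q.fls.obj A ⟶ N => g ≫ a ≫ biprod.snd) =
        ((fun g : q.fst.obj (q.fls.obj A) ⟶ q.fst.obj N => g ≫ fh) ∘ fun g : q.fls.obj A ⟶ N => q.fst.map g) :=
      funext fun g => Adjunction.homEquiv_naturality_left_symm q.adjF g (a ≫ biprod.snd)
    exact hc ▸ (q.adjF.homEquiv _ _).symm.bijective.comp B2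
  refine ⟨fun x y h => (cancel_epi (q.adjF.counit.app A)).1 (B3.1 ?_), fun y => ?_⟩
  · show (_ ≫ x) ≫ fh = (_ ≫ y) ≫ fh
    rw [Category.assoc, Category.assoc]
    exact congrArg (_ ≫ ·) h
  · obtain ⟨x, hx⟩ := B3.2 (q.adjF.counit.app A ≫ y)
    refine ⟨inv (q.adjF.counit.app A) ≫ x, ?_⟩
    show (inv (q.adjF.counit.app A) ≫ x) ≫ fh = y
    rw [Category.assoc, show x ≫ fh = _ from hx, IsIso.inv_hom_id_assoc]

end Square

end Groth.Agent.Desc19b.MV
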