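import Mathlib

/-! Effectivity of module descent along faithfully flat ring maps (flatness suffices, given a cocycle and a bijective `φ`). -/

set_option autoImplicit false
set_option backward.isDefEq.respectTransparency.types false
set_option backward.isDefEq.respectTransparency false

universe u

open TensorProduct

namespace Groth.Agent.Desc19b

theorem descent_bijective (A A' : Type u) [CommRing A] [CommRing A']
    [Algebra A A'] [Module.Flat A A'] (M' : Type u) [AddCommGroup M'] [Module A M']
    [Module A' M'] [IsScalarTower A A' M']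
    (φ : M' ⊗[A] A' →ₗ[A] A' ⊗[A] M') (hφ : Function.Bijective φ)
    (h1 : ∀ (x : A') (u : M') (z : A'),
      φ ((x • u) ⊗ₜ[A] z) = LinearMap.rTensor M' (LinearMap.mulLeft A x) (φ (u ⊗ₜ[A] z)))
    (h2 : ∀ (y : A') (u : M') (z : A'),
      φ (u ⊗ₜ[A] (y * z)) = LinearMap.lTensor A' (Algebra.lsmul A A M' y) (φ (u ⊗ₜ[A] z)))
    (hcoc : ∀ (u : M') (a b : A'),
      LinearMap.lTensor A' φ (TensorProduct.assoc A A' M' A' (LinearMap.rTensor A' φ ((u ⊗ₜ[A] a) ⊗ₜ[A] b))) =
        LinearMap.lTensor A' (TensorProduct.mk A A' M' a) (φ (u ⊗ₜ[A] b)))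
    (M : Submodule A M') (hM : ∀ u : M', u ∈ M ↔ φ (u ⊗ₜ[A] (1 : A')) = (1 : A') ⊗ₜ[A] u) :
    Function.Bijective
      ((TensorProduct.lift (Algebra.lsmul A A M').toLinearMap) ∘ₗ (LinearMap.lTensor A' M.subtype)) := by
  let ψ : M' →ₗ[A] A' ⊗[A] M' := φ ∘ₗ (TensorProduct.mk A M' A').flip 1
  let m : A' ⊗[A] M' →ₗ[A] M' := TensorProduct.lift (Algebra.lsmul A A M').toLinearMap
  let δ : M' →ₗ[A] A' ⊗[A] M' := ψ - TensorProduct.mk A A' M' 1
  have hδ : Function.Exact M.subtype δ := by
    intro u
    simp [δ, ψ, hM, sub_eq_zero]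
  have coc1 : ∀ u, ψ.lTensor A' (ψ u) = LinearMap.lTensor A' (TensorProduct.mk A A' M' 1) (ψ u) := by
    intro u
    have key : ∀ t : A' ⊗[A] M', LinearMap.lTensor A' φ (TensorProduct.assoc A A' M' A' (t ⊗ₜ[A] (1 : A'))) =
        ψ.lTensor A' t := by
      intro t
      induction t using TensorProduct.induction_on with
      | zero => simp
      | tmul a x => simp [ψ]
      | add x y hx hy => simp only [TensorProduct.add_tmul, map_add, hx, hy]
    have := hcoc u 1 1
    rw [LinearMap.rTensor_tmul, key] at this
    exact this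
  have hm2 : ∀ (z : A') (t : A' ⊗[A] M'), m (LinearMap.lTensor A' (Algebra.lsmul A A M' z) t) = z • m t := by
    intro z t
    induction t using TensorProduct.induction_on with
    | zero => simp
    | tmul a x => simp [m, smul_smul, mul_comm]
    | add x y hx hy => simp only [map_add, hx, hy, smul_add]
  have hm1 : ∀ (z : A') (t : A' ⊗[A] M'), m (LinearMap.rTensor M' (LinearMap.mulLeft A z) t) = z • m t := by
    intro z t
    induction t using TensorProduct.induction_on with
    | zero => simp
    | tmul a x => simp [m, smul_smul]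
    | add x y hx hy => simp only [map_add, hx, hy, smul_add]
  let e : M' →ₗ[A] M' := m ∘ₗ ψ
  have he1 : ∀ (x : A') (u : M'), e (x • u) = x • e u := fun x u => by
    simp [e, ψ, h1, hm1]
  have hphi : ∀ (u : M') (z : A'), m (φ (u ⊗ₜ[A] z)) = e (z • u) := fun u z => by
    rw [← mul_one z, h2, hm2, mul_one, he1]
    rfl
  have hidem : ∀ u, e (e u) = e u := by
    intro u
    have hcomm : ∀ t : A' ⊗[A] M', m (e.lTensor A' t) = e (m t) := by
      intro t
      induction t using TensorProduct.induction_on with
      | zero => simp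
      | tmul a x => simp [m, he1]
      | add x y hx hy => simp only [map_add, hx, hy]
    have := congrArg (fun t => m (m.lTensor A' t)) (coc1 u)
    have e1 : m ∘ₗ TensorProduct.mk A A' M' 1 = LinearMap.id := by ext x; simp [m]
    simp only [← LinearMap.lTensor_comp_apply, e1, LinearMap.lTensor_id, LinearMap.id_apply] at this
    exact (hcomm (ψ u)).symm.trans this
  have hid : ∀ u, e u = u := by
    intro u
    obtain ⟨t, rfl⟩ : ∃ t, e t = u := by
      obtain ⟨t, ht⟩ := hφ.2 ((1 : A') ⊗ₜ[A] u)
      have hu : m (φ t) = u := by rw [ht]; simp [m]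
      have : ∀ t, ∃ v, e v = m (φ t) := by
        intro t
        induction t using TensorProduct.induction_on with
        | zero => exact ⟨0, by simp⟩
        | tmul x z => exact ⟨z • x, (hphi x z).symm⟩
        | add x y hx hy =>
          obtain ⟨a, ha⟩ := hx
          obtain ⟨b, hb⟩ := hy
          exact ⟨a + b, by simp only [map_add, ha, hb]⟩
      exact hu ▸ this t
    exact hidem t
  have hinj : Function.Injective (M.subtype.lTensor A') :=
    Module.Flat.lTensor_preserves_injective_linearMap _ Subtype.val_injective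
  refine ⟨fun s t hst => hinj ?_, fun u => ?_⟩
  · have key : ∀ t : A' ⊗[A] M, ψ ((m ∘ₗ M.subtype.lTensor A') t) = M.subtype.lTensor A' t := by
      intro t
      induction t using TensorProduct.induction_on with
      | zero => simp
      | tmul a x => simp [m, ψ, h1, (hM x).1 x.2]
      | add x y hx hy => simp only [map_add, hx, hy]
    rw [← key, ← key]
    exact congrArg ψ hst
  · obtain ⟨t, ht⟩ := (Module.Flat.lTensor_exact A' hδ (ψ u)).1
      (by rw [LinearMap.lTensor_sub, LinearMap.sub_apply, coc1, sub_self])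
    exact ⟨t, (congrArg m ht).trans (hid u)⟩

end Groth.Agent.Desc19b
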