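import Groth.Agent.DCat.FlatPull
import Groth.Agent.DCat.ClosedPush
import Groth.Agent.Coherent.QcohOps
import Groth.Agent.Coherent.QcohLocal
import Groth.Agent.AmpleLib.Local
import Groth.Agent.EGA43.InjFibre.Scheme

/-!
# Quasi-coherence descends along faithfully flat quasi-compact morphisms
-/

set_option autoImplicit false
set_option backward.isDefEq.respectTransparency false

universe v u v' u'

open CategoryTheory CategoryTheory.Limits AlgebraicGeometry
open Groth.Agent.ModStalk

namespace Groth.Agent.Desc19b.QFpqc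

/-- The unit of an adjunction, typed on objects. -/
abbrev un {A : Type u} [Category.{v} A] {B : Type u'} [Category.{v'} B]
    {L : A ⥤ B} {R : B ⥤ A} (adj : L ⊣ R) (N : A) : N ⟶ R.obj (L.obj N) := adj.unit.app N

/-- For a left adjoint which is exact and reflects isomorphisms, every object is the kernel of the
two maps between its first two monadic resolvents. -/
theorem isIso_lift {A : Type u} [Category.{v} A] [Abelian A] {B : Type u'} [Category.{v'} B] [Abelian B]
    {L : A ⥤ B} {R : B ⥤ A} (adj : L ⊣ R) [L.Additive] [PreservesFiniteLimits L] (M : A)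
    (hL : ∀ {P Q : A} (φ : P ⟶ Q) [IsIso (L.map φ)], IsIso φ)
    (w : un adj M ≫ (un adj (R.obj (L.obj M)) - R.map (L.map (un adj M))) = 0) :
    IsIso (kernel.lift _ (un adj M) w) := by
  let η := un adj M
  let a := un adj (R.obj (L.obj M))
  let b := R.map (L.map η)
  let ι := kernel.ι (a - b)
  let k := kernel.lift (a - b) η w
  have hk : k ≫ ι = η := kernel.lift_ι _ _ _
  have hι : L.map ι ≫ L.map a = L.map ι ≫ L.map b := by
    have := congrArg L.map (kernel.condition (a - b))
    rw [Preadditive.comp_sub, L.map_sub, L.map_zero, sub_eq_zero, L.map_comp, L.map_comp] at this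
    exact this
  have : Mono (L.map ι) := inferInstance
  have : IsIso (L.map k) := by
    refine ⟨L.map ι ≫ adj.counit.app (L.obj M), ?_, ?_⟩
    · rw [← Category.assoc, ← L.map_comp, hk]
      exact adj.left_triangle_components M
    · rw [← cancel_mono (L.map ι), Category.id_comp, Category.assoc, ← L.map_comp, hk, Category.assoc]
      have hn : L.map b ≫ adj.counit.app (L.obj (R.obj (L.obj M))) =
          adj.counit.app (L.obj M) ≫ L.map η := adj.counit.naturality (L.map η)
      rw [← hn, ← Category.assoc, ← hι, Category.assoc, adj.left_triangle_components (R.obj (L.obj M)),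
        Category.comp_id]
  exact hL k

variable {X Y : Scheme.{u}} (f : X ⟶ Y) [Flat f] [Surjective f]

/-- Pullback along a faithfully flat morphism reflects isomorphisms of modules. -/
theorem isIso_of_isIso_pullback {A B : Y.Modules} (φ : A ⟶ B) [IsIso ((Scheme.Modules.pullback f).map φ)] :
    IsIso φ := by
  refine isIso_of_stalks _ fun y => (ConcreteCategory.isIso_iff_bijective _).2 ?_
  obtain ⟨x, rfl⟩ := f.surjective y
  let g := f.stalkMap x
  let S := DerSch.stalkFunctor Y (f.base x)
  haveI : IsIso ((Scheme.Modules.pullback f ⋙ DerSch.stalkFunctor X x).map φ) :=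
    Functor.map_isIso (DerSch.stalkFunctor X x) _
  haveI : IsIso ((ModuleCat.extendScalars g.hom).map (S.map φ)) :=
    (NatIso.isIso_map_iff (pullbackStalkIso f x) φ).1 ‹_›
  have hext := ConcreteCategory.bijective_of_isIso ((ModuleCat.extendScalars g.hom).map (S.map φ))
  letI := g.hom.toAlgebra
  haveI : Module.Flat (Y.presheaf.stalk (f.base x)) (X.presheaf.stalk x) := Flat.stalkMap f x
  haveI : IsLocalHom (algebraMap (Y.presheaf.stalk (f.base x)) (X.presheaf.stalk x)) :=
    inferInstanceAs (IsLocalHom g.hom)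
  haveI := Module.FaithfullyFlat.of_flat_of_isLocalHom
    (A := Y.presheaf.stalk (f.base x)) (B := X.presheaf.stalk x)
  exact ⟨(Module.FaithfullyFlat.lTensor_injective_iff_injective _ _ _).1 hext.1,
    (Module.FaithfullyFlat.lTensor_surjective_iff_surjective _ _ _).1 hext.2⟩

/-- Quasi-coherence descends along a faithfully flat affine morphism. -/
theorem isQCoh_of_affine [IsAffineHom f] (M : Y.Modules)
    [Coh.IsQCoh ((Scheme.Modules.pullback f).obj M)] : Coh.IsQCoh M := by
  let adj := Scheme.Modules.pullbackPushforwardAdjunction f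
  have := adj.left_adjoint_additive
  let Q := (Scheme.Modules.pushforward f).obj ((Scheme.Modules.pullback f).obj M)
  have hQ : Coh.IsQCoh Q := Coherent.isQCoh_push f _
  have : Coh.IsQCoh ((Scheme.Modules.pullback f).obj Q) := EGA43.InjFibre.isQCoh_pullback f _
  have hQ2 : Coh.IsQCoh ((Scheme.Modules.pushforward f).obj ((Scheme.Modules.pullback f).obj Q)) :=
    Coherent.isQCoh_push f _
  have w : un adj M ≫ (un adj Q - (Scheme.Modules.pushforward f).map
      ((Scheme.Modules.pullback f).map (un adj M))) = 0 := by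
    rw [Preadditive.comp_sub, sub_eq_zero]
    exact adj.unit.naturality (adj.unit.app M)
  have := isIso_lift adj M (fun φ _ => isIso_of_isIso_pullback f φ) w
  have : Coh.IsQCoh (kernel (un adj Q - (Scheme.Modules.pushforward f).map
      ((Scheme.Modules.pullback f).map (un adj M)))) := Coherent.isQCoh_kernel _
  exact Coherent.isQCoh_of_iso (asIso (kernel.lift _ _ w)).symm

omit [Flat f] [Surjective f] in
/-- Quasi-coherence descends along a quasi-compact faithfully flat morphism. -/
theorem isQCoh_of_pullback [Flat f] [Surjective f] [QuasiCompact f] (M : Y.Modules)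
    [Coh.IsQCoh ((Scheme.Modules.pullback f).obj M)] : Coh.IsQCoh M := by
  refine Coherent.isQCoh_of_openImmersion_cover M (ι := Y.affineOpens) (fun V => V.1.ι) (fun y => ?_) fun V => ?_
  · obtain ⟨V, hV, hyV, -⟩ := exists_isAffineOpen_mem_and_subset (x := y) (U := ⊤) trivial
    exact ⟨⟨V, hV⟩, by rwa [Scheme.Opens.opensRange_ι]⟩
  obtain ⟨s, hs, hsV⟩ := isCompact_iff_finite_and_eq_biUnion_affineOpens.1 (f.isCompact_preimage V.2.isCompact)
  have := hs.to_subtype
  have hle : ∀ k : s, (k.1.1 : X.Opens) ≤ f ⁻¹ᵁ V.1 := fun k =>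
    (le_iSup₂_of_le k.1 k.2 le_rfl).trans hsV.ge
  have : ∀ k : s, IsAffine (k.1.1 : Scheme.{u}) := fun k => k.1.2
  have : IsAffine (V.1 : Scheme.{u}) := V.2
  let τ : (∐ fun k : s => (k.1.1 : Scheme.{u})) ⟶ X := Sigma.desc fun k => k.1.1.ι
  let t : (∐ fun k : s => (k.1.1 : Scheme.{u})) ⟶ V.1 := Sigma.desc fun k => f.resLE V.1 k.1.1 (hle k)
  have ht : t ≫ V.1.ι = τ ≫ f := Sigma.hom_ext _ _ fun k => by simp [t, τ]
  have : Flat t := IsZariskiLocalAtSource.sigmaDesc fun k => inferInstance
  have : Surjective t := ⟨fun y => by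
    obtain ⟨x, hx⟩ := f.surjective (V.1.ι y)
    have hxV : x ∈ f ⁻¹ᵁ V.1 := show f x ∈ V.1 from hx ▸ y.2
    rw [hsV] at hxV
    simp only [TopologicalSpace.Opens.mem_iSup] at hxV
    obtain ⟨W, hW, hxW⟩ := hxV
    refine ⟨Sigma.ι (fun k : s => (k.1.1 : Scheme.{u})) ⟨W, hW⟩ ⟨x, hxW⟩, V.1.ι.isOpenEmbedding.injective ?_⟩
    rw [← Scheme.Hom.comp_apply, ← Scheme.Hom.comp_apply, ht, Sigma.ι_desc_assoc, ← hx]
    rfl⟩
  let M' := (Scheme.Modules.pullback V.1.ι).obj M
  have : Coh.IsQCoh ((Scheme.Modules.pullback τ).obj ((Scheme.Modules.pullback f).obj M)) :=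
    EGA43.InjFibre.isQCoh_pullback τ _
  have : Coh.IsQCoh ((Scheme.Modules.pullback f ⋙ Scheme.Modules.pullback τ).obj M) :=
    EGA43.InjFibre.isQCoh_pullback τ ((Scheme.Modules.pullback f).obj M)
  have : Coh.IsQCoh ((Scheme.Modules.pullback t).obj M') :=
    Coherent.isQCoh_of_iso ((Scheme.Modules.pullbackComp τ f).app M ≪≫
      (Scheme.Modules.pullbackCongr ht.symm).app M ≪≫ ((Scheme.Modules.pullbackComp t V.1.ι).app M).symm)
  have : Coh.IsQCoh M' := isQCoh_of_affine t M'
  exact Coherent.isQCoh_of_iso (AmpleLib.restrictIsoPullback V.1.ι M).symm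

end Groth.Agent.Desc19b.QFpqc
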