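import Groth.Agent.Desc19b.ToDDFamFF
import Groth.Agent.Desc19b.PullRefine
import Mathlib.AlgebraicGeometry.RelativeGluing

/-! Quotients of descent data for schemes over opens of the base, and their gluing: effectivity is local. -/

set_option autoImplicit false
set_option linter.style.haveILetI false
set_option backward.isDefEq.respectTransparency false
set_option backward.isDefEq.respectTransparency.types false

universe u

open CategoryTheory CategoryTheory.Limits AlgebraicGeometry Desc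

namespace Groth.Agent.Desc19b

variable {S : Scheme.{u}}

/-- A morphism to the base lands in the open `W`. -/
def InW (W : S.Opens) {T : Scheme.{u}} (s : T ⟶ S) : Prop := ∀ t, s t ∈ W

theorem InW.comp {W : S.Opens} {T T' : Scheme.{u}} {s : T ⟶ S} (h : InW W s) (k : T' ⟶ T) : InW W (k ≫ s) :=
  fun t => by rw [Scheme.Hom.comp_apply]; exact h _

theorem InW.mono {W W' : S.Opens} {T : Scheme.{u}} {s : T ⟶ S} (h : InW W s) (hW : W ≤ W') : InW W' s :=
  fun t => hW (h t)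

theorem inW_top {T : Scheme.{u}} (s : T ⟶ S) : InW ⊤ s := fun _ => trivial

theorem inW_ι (W : S.Opens) : InW W W.ι := fun t => t.2

variable {ι : Type u} {X : ι → Scheme.{u}} {f : ∀ i, X i ⟶ S}

theorem InW.congr_base {W : S.Opens} {T T' : Scheme.{u}} {i : ι} {x : T ⟶ X i} {y : T' ⟶ X i} {k : T' ⟶ T}
    (h : InW W (x ≫ f i)) (hy : k ≫ x = y) : InW W (y ≫ f i) := by
  rw [← hy, Category.assoc]; exact h.comp k

/-- A scheme representing a descent datum over an open of the base. -/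
structure Quot (D : SchDDFam f) (W : S.Opens) where
  /-- the scheme -/
  U : Scheme.{u}
  /-- its structure map -/
  π : U ⟶ S
  mem : InW W π
  /-- the points -/
  e : ∀ {T : Scheme.{u}} {i : ι} (x : T ⟶ X i), InW W (x ≫ f i) →
    (Lifts (D.obj i) x ≃ {τ : T ⟶ U // τ ≫ π = x ≫ f i})
  nat : ∀ {T T' : Scheme.{u}} (k : T' ⟶ T) {i : ι} {x : T ⟶ X i} (hx : InW W (x ≫ f i)) {y : T' ⟶ X i}
    (hy : InW W (y ≫ f i)) (_ : k ≫ x = y) (t : Lifts (D.obj i) x) (t' : Lifts (D.obj i) y),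
    t'.1 = k ≫ t.1 → (e y hy t').1 = k ≫ (e x hx t).1
  inv : ∀ {T : Scheme.{u}} {i j : ι} {x : T ⟶ X i} {y : T ⟶ X j} (h : x ≫ f i = y ≫ f j) (hx : InW W (x ≫ f i))
    (hy : InW W (y ≫ f j)) (t : Lifts (D.obj i) x), (e y hy (D.φ x y h t)).1 = (e x hx t).1

namespace Quot

variable {D : SchDDFam f}

/-- Restriction of a point of a lift along a map. -/
abbrev rest {T T' : Scheme.{u}} (k : T' ⟶ T) {i : ι} {x : T ⟶ X i} (t : Lifts (D.obj i) x) :
    Lifts (D.obj i) (k ≫ x) := ⟨k ≫ t.1, by rw [Category.assoc, t.2]⟩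

theorem nat_symm {W : S.Opens} (Q : Quot D W) {T T' : Scheme.{u}} (k : T' ⟶ T) {i : ι} {x : T ⟶ X i}
    (hx : InW W (x ≫ f i)) {y : T' ⟶ X i} (hy : InW W (y ≫ f i)) (hk : k ≫ x = y)
    (τ : {τ : T ⟶ Q.U // τ ≫ Q.π = x ≫ f i}) (τ' : {τ : T' ⟶ Q.U // τ ≫ Q.π = y ≫ f i}) (hτ : τ'.1 = k ≫ τ.1) :
    ((Q.e y hy).symm τ').1 = k ≫ ((Q.e x hx).symm τ).1 := by
  subst hk
  have h := Q.nat k hx hy rfl ((Q.e x hx).symm τ) (rest k ((Q.e x hx).symm τ)) rfl
  rw [Equiv.apply_symm_apply, ← hτ] at h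
  rw [← Subtype.ext h, Equiv.symm_apply_apply]

theorem pullback_inW {W : S.Opens} (Q : Quot D W) (i : ι) :
    InW W (pullback.fst (f i) Q.π ≫ f i) := by
  rw [pullback.condition]; exact Q.mem.comp _

variable (hf : Presieve.ofArrows X f ∈ Scheme.fpqcPrecoverage S)

include hf in
/-- Maps out of a quotient are invariant families of maps on points. -/
theorem existsUnique_desc {W : S.Opens} (Q : Quot D W) {Z : Scheme.{u}}
    (F : ∀ {T : Scheme.{u}} {i : ι} (x : T ⟶ X i), InW W (x ≫ f i) → Lifts (D.obj i) x → (T ⟶ Z))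
    (hnat : ∀ {T T' : Scheme.{u}} (k : T' ⟶ T) {i : ι} {x : T ⟶ X i} (hx : InW W (x ≫ f i)) {y : T' ⟶ X i}
      (hy : InW W (y ≫ f i)) (_ : k ≫ x = y) (t : Lifts (D.obj i) x) (t' : Lifts (D.obj i) y),
      t'.1 = k ≫ t.1 → F y hy t' = k ≫ F x hx t)
    (hinv : ∀ {T : Scheme.{u}} {i j : ι} {x : T ⟶ X i} {y : T ⟶ X j} (h : x ≫ f i = y ≫ f j) (hx : InW W (x ≫ f i))
      (hy : InW W (y ≫ f j)) (t : Lifts (D.obj i) x), F y hy (D.φ x y h t) = F x hx t) :
    ∃! m : Q.U ⟶ Z, ∀ {T : Scheme.{u}} {i : ι} (x : T ⟶ X i) (hx : InW W (x ≫ f i)) (t : Lifts (D.obj i) x),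
      (Q.e x hx t).1 ≫ m = F x hx t := by
  let V : Over S := Over.mk Q.π
  let pt : ∀ i, Lifts (D.obj i) (pullback.fst (f i) V.hom) := fun i =>
    (Q.e (pullback.fst (f i) Q.π) (Q.pullback_inW i)).symm ⟨pullback.snd (f i) Q.π, pullback.condition.symm⟩
  have key : ∀ {T : Scheme.{u}} {i : ι} (g : T ⟶ pullback (f i) Q.π) (hx : InW W ((g ≫ pullback.fst (f i) Q.π) ≫ f i)),
      g ≫ F (pullback.fst (f i) Q.π) (Q.pullback_inW i) (pt i) =
        F (g ≫ pullback.fst (f i) Q.π) hx ((Q.e _ hx).symm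
          ⟨g ≫ pullback.snd (f i) Q.π, by rw [Category.assoc, Category.assoc, pullback.condition]⟩) := by
    intro T i g hx
    exact (hnat g _ hx rfl (pt i) _ (Q.nat_symm g (Q.pullback_inW i) hx rfl
      ⟨pullback.snd (f i) Q.π, pullback.condition.symm⟩ _ rfl)).symm
  obtain ⟨m, hm, huniq⟩ := existsUnique_glue hf V Z (fun i => F (pullback.fst (f i) Q.π) (Q.pullback_inW i) (pt i))
    fun i j T g₁ g₂ e => by
      have hx₁ : InW W ((g₁ ≫ pullback.fst (f i) Q.π) ≫ f i) := by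
        rw [Category.assoc, pullback.condition, ← Category.assoc]; exact Q.mem.comp _
      have hx₂ : InW W ((g₂ ≫ pullback.fst (f j) Q.π) ≫ f j) := by
        rw [Category.assoc, pullback.condition, ← Category.assoc]; exact Q.mem.comp _
      show g₁ ≫ F _ _ _ = g₂ ≫ F _ _ _
      rw [key g₁ hx₁, key g₂ hx₂]
      have h : (g₁ ≫ pullback.fst (f i) Q.π) ≫ f i = (g₂ ≫ pullback.fst (f j) Q.π) ≫ f j := by
        rw [Category.assoc, Category.assoc, pullback.condition, pullback.condition]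
        exact (reassoc_of% (show g₁ ≫ pullback.snd (f i) Q.π = g₂ ≫ pullback.snd (f j) Q.π from e)) Q.π
      refine (hinv h hx₁ hx₂ _).symm.trans (congrArg (F _ hx₂) ((Equiv.eq_symm_apply _).2 (Subtype.ext ?_)))
      rw [Q.inv h hx₁ hx₂, Equiv.apply_symm_apply]
      exact e
  refine ⟨m, fun {T i} x hx t => ?_, fun m' hm' => huniq m' fun i => ?_⟩
  · let g : T ⟶ pullback (f i) Q.π := pullback.lift x (Q.e x hx t).1 (Q.e x hx t).2.symm
    have hg : g ≫ pullback.fst (f i) Q.π = x := pullback.lift_fst _ _ _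
    have hg' : g ≫ pullback.snd (f i) Q.π = (Q.e x hx t).1 := pullback.lift_snd _ _ _
    rw [← hg', Category.assoc]
    erw [hm i]
    refine (hnat g (Q.pullback_inW i) hx hg (pt i) t ?_).symm
    rw [← Q.nat_symm g (Q.pullback_inW i) hx hg ⟨pullback.snd (f i) Q.π, pullback.condition.symm⟩ (Q.e x hx t) hg'.symm,
      Equiv.symm_apply_apply]
  · rw [← hm' _ (Q.pullback_inW i) (pt i), Equiv.apply_symm_apply]
    rfl

include hf in
theorem hom_ext {W : S.Opens} (Q : Quot D W) {Z : Scheme.{u}} (m m' : Q.U ⟶ Z)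
    (h : ∀ {T : Scheme.{u}} {i : ι} (x : T ⟶ X i) (hx : InW W (x ≫ f i)) (t : Lifts (D.obj i) x),
      (Q.e x hx t).1 ≫ m = (Q.e x hx t).1 ≫ m') : m = m' := by
  obtain ⟨n, -, hn⟩ := existsUnique_desc hf Q (fun {T i} x hx t => (Q.e x hx t).1 ≫ m)
    (fun {T T'} k {i x} hx {y} hy hk t t' ht => by rw [Q.nat k hx hy hk t t' ht, Category.assoc])
    (fun {T i j x y} hxy hx hy t => by rw [Q.inv hxy hx hy t])
  exact (hn m fun x hx t => rfl).trans (hn m' fun x hx t => (h x hx t).symm).symm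

include hf in
theorem existsUnique_compare {W W' : S.Opens} (hW : W ≤ W') (Q : Quot D W) (Q' : Quot D W') :
    ∃! m : Q.U ⟶ Q'.U, ∀ {T : Scheme.{u}} {i : ι} (x : T ⟶ X i) (hx : InW W (x ≫ f i)) (t : Lifts (D.obj i) x),
      (Q.e x hx t).1 ≫ m = (Q'.e x (hx.mono hW) t).1 :=
  existsUnique_desc hf Q (fun {T i} x hx t => (Q'.e x (hx.mono hW) t).1)
    (fun {T T'} k {i x} hx {y} hy hk t t' ht => Q'.nat k _ _ hk t t' ht) (fun h hx hy t => Q'.inv h _ _ t)

/-- The comparison map between quotients. -/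
noncomputable def cmp {W W' : S.Opens} (hW : W ≤ W') (Q : Quot D W) (Q' : Quot D W') : Q.U ⟶ Q'.U :=
  (existsUnique_compare hf hW Q Q').choose

theorem cmp_spec {W W' : S.Opens} (hW : W ≤ W') (Q : Quot D W) (Q' : Quot D W') {T : Scheme.{u}} {i : ι}
    (x : T ⟶ X i) (hx : InW W (x ≫ f i)) (t : Lifts (D.obj i) x) :
    (Q.e x hx t).1 ≫ cmp hf hW Q Q' = (Q'.e x (hx.mono hW) t).1 :=
  (existsUnique_compare hf hW Q Q').choose_spec.1 x hx t

theorem cmp_π {W W' : S.Opens} (hW : W ≤ W') (Q : Quot D W) (Q' : Quot D W') : cmp hf hW Q Q' ≫ Q'.π = Q.π :=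
  hom_ext hf Q _ _ fun x hx t => by
    rw [← Category.assoc, cmp_spec, (Q.e x hx t).2]
    exact (Q'.e x (hx.mono hW) t).2

theorem cmp_self {W : S.Opens} (Q : Quot D W) : cmp hf le_rfl Q Q = 𝟙 _ :=
  hom_ext hf Q _ _ fun x hx t => by rw [cmp_spec, Category.comp_id]

theorem cmp_comp {W W' W'' : S.Opens} (h : W ≤ W') (h' : W' ≤ W'') (Q : Quot D W) (Q' : Quot D W')
    (Q'' : Quot D W'') : cmp hf h Q Q' ≫ cmp hf h' Q' Q'' = cmp hf (h.trans h') Q Q'' :=
  hom_ext hf Q _ _ fun x hx t => by rw [← Category.assoc, cmp_spec, cmp_spec, cmp_spec]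

/-- The restriction of a quotient to a smaller open. -/
noncomputable def restrict {W W' : S.Opens} (hW : W ≤ W') (Q' : Quot D W') : Quot D W where
  U := (Q'.π ⁻¹ᵁ W).toScheme
  π := (Q'.π ⁻¹ᵁ W).ι ≫ Q'.π
  mem t := by rw [Scheme.Hom.comp_apply]; exact t.2
  e {T i} x hx := (Q'.e x (hx.mono hW)).trans
    { toFun := fun τ => ⟨IsOpenImmersion.lift (Q'.π ⁻¹ᵁ W).ι τ.1 (by
          rw [Scheme.Opens.range_ι]
          rintro _ ⟨t, rfl⟩
          show Q'.π (τ.1 t) ∈ W
          rw [← Scheme.Hom.comp_apply, τ.2]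
          exact hx t), by rw [← Category.assoc, IsOpenImmersion.lift_fac, τ.2]⟩
      invFun := fun τ => ⟨τ.1 ≫ (Q'.π ⁻¹ᵁ W).ι, by rw [Category.assoc, τ.2]⟩
      left_inv := fun τ => Subtype.ext (IsOpenImmersion.lift_fac _ _ _)
      right_inv := fun τ => Subtype.ext (by rw [← cancel_mono (Q'.π ⁻¹ᵁ W).ι, IsOpenImmersion.lift_fac]) }
  nat k _i _x hx _y hy hk t t' ht := by
    simp only [Equiv.trans_apply, Equiv.coe_fn_mk]
    rw [← cancel_mono (Q'.π ⁻¹ᵁ W).ι, Category.assoc, IsOpenImmersion.lift_fac, IsOpenImmersion.lift_fac]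
    exact Q'.nat k _ _ hk t t' ht
  inv h hx hy t := by
    simp only [Equiv.trans_apply, Equiv.coe_fn_mk]
    rw [← cancel_mono (Q'.π ⁻¹ᵁ W).ι, IsOpenImmersion.lift_fac, IsOpenImmersion.lift_fac]
    exact Q'.inv h _ _ t

theorem isPullback_cmp {W W' : S.Opens} (hW : W ≤ W') (Q : Quot D W) (Q' : Quot D W') {a : Q.U ⟶ W.toScheme}
    (ha : a ≫ W.ι = Q.π) : IsPullback (cmp hf hW Q Q') a Q'.π W.ι := by
  let R := restrict hW Q'
  let iso : Q.U ≅ R.U :=
    ⟨cmp hf le_rfl Q R, cmp hf le_rfl R Q, by rw [cmp_comp, cmp_self], by rw [cmp_comp, cmp_self]⟩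
  have e1 : iso.hom ≫ (Q'.π ⁻¹ᵁ W).ι = cmp hf hW Q Q' := hom_ext hf Q _ _ fun x hx t => by
    rw [cmp_spec, ← Category.assoc]
    show ((Q.e x hx t).1 ≫ cmp hf le_rfl Q R) ≫ _ = _
    rw [cmp_spec]
    exact IsOpenImmersion.lift_fac _ _ _
  refine (isPullback_morphismRestrict Q'.π W).flip.of_iso iso.symm (Iso.refl _) (Iso.refl _) (Iso.refl _) ?_ ?_
    (by simp) (by simp)
  · simp only [Iso.refl_hom, Category.comp_id, Iso.symm_hom]
    haveI : Epi iso.hom := ⟨fun a b h => by simpa using congrArg (iso.inv ≫ ·) h⟩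
    rw [← cancel_epi iso.hom, Iso.hom_inv_id_assoc]
    exact e1
  · simp only [Iso.refl_hom, Category.comp_id, Iso.symm_hom]
    rw [← cancel_mono W.ι, Category.assoc, ha, morphismRestrict_ι]
    exact (cmp_π hf le_rfl R Q).symm

/-- A quotient over the whole base gives effectivity. -/
theorem isEffective (Q : Quot D ⊤) : D.IsEffective := by
  let V : Over S := Over.mk Q.π
  let c : ∀ {T : Scheme.{u}} {i : ι} (x : T ⟶ X i),
      {τ : T ⟶ Q.U // τ ≫ Q.π = x ≫ f i} ≃ Lifts (Over.mk (pullback.fst (f i) V.hom)) x := fun {T i} x =>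
    { toFun := fun τ => ⟨pullback.lift x τ.1 τ.2.symm, pullback.lift_fst _ _ _⟩
      invFun := fun v => ⟨v.1 ≫ pullback.snd (f i) V.hom, by
        have h1 := liftsFam_fst f V v
        show (v.1 ≫ pullback.snd (f i) V.hom) ≫ V.hom = x ≫ f i
        rw [Category.assoc, ← pullback.condition, ← Category.assoc, h1]⟩
      left_inv := fun τ => Subtype.ext (pullback.lift_snd _ _ _)
      right_inv := fun v => Subtype.ext (pullback.hom_ext ((pullback.lift_fst _ _ _).trans (liftsFam_fst f V v).symm)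
        (pullback.lift_snd _ _ _)) }
  obtain ⟨a, -⟩ := PullRefine.nonempty_iso_of_lifts (D₁ := D) (D₂ := canonicalDDFam f V)
    (fun T i x => (Q.e x (inW_top _)).trans (c x))
    (fun T T' k i x y hk t t' ht => by
      apply pullback.hom_ext
      · simp only [Equiv.trans_apply, c, Equiv.coe_fn_mk, Category.assoc]
        erw [pullback.lift_fst, pullback.lift_fst]
        exact hk.symm
      · simp only [Equiv.trans_apply, c, Equiv.coe_fn_mk, Category.assoc]
        erw [pullback.lift_snd, pullback.lift_snd]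
        exact Q.nat k _ _ hk t t' ht)
    (fun T i j x y h t => Subtype.ext (pullback.hom_ext (by simp [c, canonicalDDFam]) (by
      simp only [Equiv.trans_apply, c, canonicalDDFam, Equiv.coe_fn_mk, canMapFam_val]
      erw [pullback.lift_snd, pullback.lift_snd, pullback.lift_snd]
      exact Q.inv h (inW_top _) (inW_top _) t)))
  exact ⟨V, ⟨a.symm⟩⟩

end Quot

end Groth.Agent.Desc19b
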