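import Groth.Agent.DimLib.BaseChange
import Groth.Agent.DimLib.Maximal
import Groth.Prelude.Def_Cyc

/-! Equidimensionality descends along field extensions. -/

set_option autoImplicit false
set_option linter.style.haveILetI false
set_option backward.isDefEq.respectTransparency false
set_option backward.isDefEq.respectTransparency.types false

universe u

open CategoryTheory CategoryTheory.Limits AlgebraicGeometry

namespace Groth.Agent.Desc19b

open DimLib

theorem components_equidim_of_bc {k : Type u} [Field k] {X : Scheme.{u}} (f : X ⟶ Spec (.of k))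
    [LocallyOfFiniteType f] (K : Type u) [Field K] [Algebra k K] (P : WithBot ℕ∞ → Prop)
    (h : ∀ Z ∈ irreducibleComponents ↥(pullback f (Spec.map (CommRingCat.ofHom (algebraMap k K)))),
      P (topologicalKrullDim Z)) :
    ∀ Z ∈ irreducibleComponents X, P (topologicalKrullDim Z) := by
  rw [forall_components_iff (bcStr f K) P] at h
  rw [forall_components_iff f P]
  intro η hη
  obtain ⟨z, hz, e⟩ := exists_bc_point f K η
  have hmax : ∀ w, w ⤳ z → z = w := by
    intro w hw
    have h2 : bcFst f K w = η :=
      (hη _ (hz ▸ hw.map (bcFst f K).continuous)).symm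
    refine (eq_of_specializes_of_ptDim_le (bcStr f K) hw ?_).symm
    rw [e, ← h2]
    exact ptDim_bc_le f K w
  rw [← e]
  exact h z hmax

theorem components_equidim_of_homeo {α β : Type u} [TopologicalSpace α] [TopologicalSpace β] (e : α ≃ₜ β)
    (P : WithBot ℕ∞ → Prop) (h : ∀ Z ∈ irreducibleComponents α, P (topologicalKrullDim Z)) :
    ∀ Z ∈ irreducibleComponents β, P (topologicalKrullDim Z) := by
  intro Z hZ
  have hZ' : e.symm '' Z ∈ irreducibleComponents α := by
    refine ⟨hZ.1.image _ e.symm.continuous.continuousOn, fun t ht hle => ?_⟩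
    intro x hx
    exact ⟨e x, hZ.2 (ht.image e e.continuous.continuousOn)
      (fun y hy => ⟨e.symm y, hle ⟨y, hy, rfl⟩, by simp⟩) ⟨x, hx, rfl⟩, by simp⟩
  have h' := h _ hZ'
  rwa [← (e.symm.image Z).isHomeomorph.topologicalKrullDim_eq] at h'

/-- The relative dimension descends along surjective base changes. -/
theorem hasRelDim_of_baseChange {X Y X' Y' : Scheme.{u}} (f : X ⟶ Y) [LocallyOfFiniteType f] (g : Y' ⟶ Y)
    [Surjective g] (g' : X' ⟶ X) (f' : X' ⟶ Y') (hsq : IsPullback g' f' f g) (d : ℕ)
    (h : Cyc.HasRelDim f' d) : Cyc.HasRelDim f d := by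
  intro y
  obtain ⟨y', rfl⟩ := g.surjective y
  let k := Y.residueField (g y')
  let K := Y'.residueField y'
  letI : Algebra k K := (g.residueFieldMap y').hom.toAlgebra
  haveI : LocallyOfFiniteType (f.fiberToSpecResidueField (g y')) :=
    inferInstanceAs (LocallyOfFiniteType (pullback.snd f (Y.fromSpecResidueField (g y'))))
  have sq := isPullback_fiberToSpecResidueField_of_isPullback hsq y'
  refine components_equidim_of_bc (k := k) (f.fiberToSpecResidueField (g y')) K (· = (d : WithBot ℕ∞)) ?_
  exact components_equidim_of_homeo (Scheme.homeoOfIso sq.isoPullback) (· = (d : WithBot ℕ∞)) (h y')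

end Groth.Agent.Desc19b
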