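import Groth.Prelude.Def_AlgSt
import Groth.Prelude.Def_W4c2modmodulilectNerve
import Mathlib.CategoryTheory.Category.ULift
import Mathlib.CategoryTheory.Comma.StructuredArrow.Basic
import Mathlib.CategoryTheory.Discrete.Basic
import Mathlib.CategoryTheory.Groupoid.Discrete
import Mathlib.CategoryTheory.FiberedCategory.Fiber

/-!
# Sections of a category fibred in groupoids over a diagram with contractible fibres
-/

set_option autoImplicit false
set_option backward.isDefEq.respectTransparency false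
set_option backward.isDefEq.respectTransparency.types false

universe w v₁ v₂ v₃ v₄ u₁ u₂ u₃ u₄

open CategoryTheory W4c2modmodulilect

namespace Groth.Agent.Desc19b.RestrC

section Nerve

variable {J : Type u₁} [Category.{v₁} J] {K : Type u₂} [Category.{v₂} K]

theorem contractible_of_retraction (L : J ⥤ K) (R : K ⥤ J) (ε : R ⋙ L ⟶ 𝟭 K)
    (h : HasContractibleNerve.{w, w} J) : HasContractibleNerve.{w, w} K := by
  obtain ⟨⟨j₀⟩, h⟩ := h
  refine ⟨⟨L.obj j₀⟩, fun G _ => ?_⟩
  haveI := h G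
  have key : ∀ {F F' : K ⥤ G} (α : F ⟶ F') (k : K),
      α.app k = inv (F.map (ε.app k)) ≫ α.app (L.obj (R.obj k)) ≫ F'.map (ε.app k) := fun α k => by
    rw [IsIso.eq_inv_comp]; exact α.naturality (ε.app k)
  refine { faithful := ⟨fun {a b} f g e => ?_⟩, full := ⟨fun {a b} α => ?_⟩, essSurj := ⟨fun F => ?_⟩ }
  · exact congrArg (fun α : (Functor.const K).obj a ⟶ (Functor.const K).obj b => α.app (L.obj j₀)) e
  · obtain ⟨g, hg⟩ := (Functor.const J).map_surjective
      (Functor.whiskerLeft L α : (Functor.const J).obj a ⟶ (Functor.const J).obj b)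
    refine ⟨g, ?_⟩
    ext k
    rw [key α k, ← show ((Functor.const J).map g).app (R.obj k) = α.app (L.obj (R.obj k)) from
      congrArg (fun β : (Functor.const J).obj a ⟶ (Functor.const J).obj b => β.app (R.obj k)) hg]
    simp
  · obtain ⟨c, ⟨e⟩⟩ : ∃ c, Nonempty ((Functor.const J).obj c ≅ L ⋙ F) :=
      ⟨_, ⟨(Functor.const J).objObjPreimageIso (L ⋙ F)⟩⟩
    refine ⟨c, ⟨NatIso.ofComponents (fun k => e.app (R.obj k) ≪≫ asIso (F.map (ε.app k)))
      fun {k k'} f => ?_⟩⟩
    have h1 := e.hom.naturality (R.map f)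
    have h2 := congrArg F.map (ε.naturality f)
    simp only [Functor.comp_map, Functor.map_comp, Functor.id_map] at h2
    simp only [Functor.const_obj_map, Category.id_comp, Iso.trans_hom, Iso.app_hom, asIso_hom,
      Category.assoc]
    rw [← h2, ← Category.assoc (f := e.hom.app (R.obj k)), ← Functor.comp_map L F, ← h1]
    simp

/-- Functions on a category with contractible nerve which are invariant along morphisms are constant. -/
theorem const_of_contractible (h : HasContractibleNerve.{w, w} J) {T : Type u₃} [Small.{w} T]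
    (m : J → T) (hm : ∀ {i j : J}, (i ⟶ j) → m i = m j) (i j : J) : m i = m j := by
  haveI := h.2 (Discrete (Shrink.{w} T))
  let F : J ⥤ Discrete (Shrink.{w} T) :=
    { obj := fun k => ⟨equivShrink T (m k)⟩
      map := fun f => Discrete.eqToHom (congrArg (equivShrink T) (hm f))
      map_id := fun _ => Subsingleton.elim _ _
      map_comp := fun _ _ => Subsingleton.elim _ _ }
  obtain ⟨e⟩ : Nonempty ((Functor.const J).obj ((Functor.const J).objPreimage F) ≅ F) :=
    ⟨(Functor.const J).objObjPreimageIso F⟩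
  exact (equivShrink T).injective
    ((Discrete.eq_of_hom (e.hom.app i)).symm.trans (Discrete.eq_of_hom (e.hom.app j)))

end Nerve

section Fibred

variable {C : Type u₁} [Category.{v₁} C] {D : Type u₂} [Category.{v₂} D] (f : C ⥤ D) [f.IsFibered]

theorem contractible_structuredArrow (Y : D)
    (h : HasContractibleNerve.{w, w} (f.Fiber Y)) :
    HasContractibleNerve.{w, w} (StructuredArrow Y f) := by
  have hex : ∀ j : StructuredArrow Y f, ∃ (a : f.Fiber Y) (k : a.1 ⟶ j.right),
      f.IsStronglyCartesian j.hom k := fun j => by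
    obtain ⟨b, k, hk⟩ := Functor.IsPreFibered.exists_isCartesian' (p := f) j.hom
    exact ⟨⟨b, IsHomLift.domain_eq f j.hom k⟩, k, inferInstance⟩
  choose a k hk using hex
  have hex' : ∀ {i j : StructuredArrow Y f} (g : i ⟶ j), ∃ m : (a i).1 ⟶ (a j).1,
      f.IsHomLift (𝟙 Y) m ∧ m ≫ k j = k i ≫ g.right := by
    intro i j g
    haveI := hk i
    haveI := hk j
    haveI : f.IsHomLift (i.hom ≫ f.map g.right) (k i ≫ g.right) := inferInstance
    exact ⟨Functor.IsStronglyCartesian.map f j.hom (k j) (g := 𝟙 Y)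
      (f' := i.hom ≫ f.map g.right) (by rw [Category.id_comp]; exact StructuredArrow.w g)
      (k i ≫ g.right), inferInstance, Functor.IsStronglyCartesian.fac _ _ _ _ _⟩
  choose m hm hm' using @hex'
  let R : StructuredArrow Y f ⥤ f.Fiber Y :=
    { obj := a
      map := fun g => ⟨m g, hm g⟩
      map_id := fun i => by
        apply Subtype.ext
        haveI := hk i
        haveI := hm (𝟙 i)
        haveI : f.IsHomLift (𝟙 Y) (𝟙 (a i).1) := IsHomLift.id (a i).2
        show m (𝟙 i) = 𝟙 (a i).1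
        refine Functor.IsStronglyCartesian.ext f i.hom (k i) (𝟙 Y) ?_
        simp [hm']
      map_comp := fun {i j l} g g' => by
        apply Subtype.ext
        haveI := hk l
        haveI := hm g
        haveI := hm g'
        haveI := hm (g ≫ g')
        show m (g ≫ g') = m g ≫ m g'
        haveI : f.IsHomLift (𝟙 Y) (m g ≫ m g') := inferInstance
        refine Functor.IsStronglyCartesian.ext f l.hom (k l) (𝟙 Y) ?_
        rw [hm', Category.assoc, hm', ← Category.assoc, hm', Category.assoc,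
          StructuredArrow.comp_right] }
  let L : f.Fiber Y ⥤ StructuredArrow Y f :=
    { obj := fun x => StructuredArrow.mk (eqToHom x.2.symm : Y ⟶ f.obj x.1)
      map := fun {x y} g => StructuredArrow.homMk g.1 (by
        haveI := g.2
        show eqToHom x.2.symm ≫ f.map g.1 = eqToHom y.2.symm
        rw [IsHomLift.fac' f (𝟙 Y) g.1]
        simp) }
  let ε : R ⋙ L ⟶ 𝟭 _ :=
    { app := fun j => StructuredArrow.homMk (k j) (by
        haveI := hk j
        show eqToHom (a j).2.symm ≫ f.map (k j) = j.hom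
        rw [IsHomLift.fac' f j.hom (k j)]
        simp)
      naturality := fun i j g => StructuredArrow.ext _ _ (hm' g) }
  exact contractible_of_retraction L R ε h

end Fibred

variable {C : Type u₁} [Category.{v₁} C] {D : Type u₂} [Category.{v₂} D]
  {F : Type u₃} [Category.{v₃} F] (φ : C ⥤ D) (p : F ⥤ D)

/-- Sections over the diagram `φ`. -/
abbrev Sec := BasedCategory.ofFunctor φ ⥤ᵇ BasedCategory.ofFunctor p

variable {φ p}

/-- A cone over a section `s` with vertex over `Y`. -/
structure Cone (s : Sec φ p) (Y : D) where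
  pt : F
  ℓ : ∀ (X : C), (Y ⟶ φ.obj X) → (pt ⟶ s.toFunctor.obj X)
  lift : ∀ X a, p.IsHomLift a (ℓ X a)
  nat : ∀ {X X'} (a : Y ⟶ φ.obj X) (h : X ⟶ X'), ℓ X' (a ≫ φ.map h) = ℓ X a ≫ s.toFunctor.map h

instance (s : Sec φ p) {X X' : C} (h : X ⟶ X') : p.IsHomLift (φ.map h) (s.toFunctor.map h) :=
  haveI : (BasedCategory.ofFunctor φ).p.IsHomLift (φ.map h) h := IsHomLift.map φ h
  BasedFunctor.preserves_isHomLift s (φ.map h) h

omit [Category.{v₁} C] in
theorem sec_lift (G : FibCat.selfOver D ⥤ᵇ BasedCategory.ofFunctor p) {Y Y' : D} (g : Y ⟶ Y') :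
    p.IsHomLift g (G.toFunctor.map g) :=
  haveI : (FibCat.selfOver D).p.IsHomLift g g := IsHomLift.map (𝟭 D) g
  BasedFunctor.preserves_isHomLift G g g

variable [hp : FibCat.IsFibGrpd p]

theorem sc {R S : D} (f : R ⟶ S) {a b : F} (g : a ⟶ b) [p.IsHomLift f g] :
    p.IsStronglyCartesian f g := by
  subst_hom_lift p f g
  exact hp.isStronglyCartesian g

theorem lift_unique {R S T : D} {f : S ⟶ T} {a b c : F} {g : b ⟶ c} [p.IsHomLift f g]
    {e : R ⟶ S} {m m' : a ⟶ b} (h : p.IsHomLift e m) (h' : p.IsHomLift e m')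
    (eq : m ≫ g = m' ≫ g) : m = m' := by
  haveI := sc (p := p) f g
  exact Functor.IsStronglyCartesian.ext p f g e eq

variable (hφ : ∀ Y : D, HasContractibleNerve.{max u₁ u₂ u₃ v₁ v₂ v₃, max u₁ u₂ u₃ v₁ v₂ v₃}
  (StructuredArrow Y φ))

include hφ

theorem cone_hom {s : Sec φ p} {Y Y' : D} (c : Cone s Y) (c' : Cone s Y') (g : Y' ⟶ Y) :
    ∃! m : c'.pt ⟶ c.pt, p.IsHomLift g m ∧
      ∀ X (a : Y ⟶ φ.obj X), m ≫ c.ℓ X a = c'.ℓ X (g ≫ a) := by
  have hex : ∀ j : StructuredArrow Y φ, ∃ m : c'.pt ⟶ c.pt,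
      p.IsHomLift g m ∧ m ≫ c.ℓ j.right j.hom = c'.ℓ j.right (g ≫ j.hom) := by
    intro j
    haveI := c.lift j.right j.hom
    haveI := sc (p := p) j.hom (c.ℓ j.right j.hom)
    haveI := c'.lift j.right (g ≫ j.hom)
    exact ⟨Functor.IsStronglyCartesian.map p j.hom (c.ℓ j.right j.hom) (g := g)
      (f' := g ≫ j.hom) rfl (c'.ℓ j.right (g ≫ j.hom)),
      inferInstance, Functor.IsStronglyCartesian.fac _ _ _ _ _⟩
  choose m hm hm' using hex
  have hconst := const_of_contractible (hφ Y) (T := c'.pt ⟶ c.pt) m (fun {i j} f => by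
    haveI := c.lift i.right i.hom
    haveI := c.lift j.right j.hom
    refine lift_unique (f := j.hom) (g := c.ℓ j.right j.hom) (hm i) (hm j) ?_
    rw [hm' j, ← StructuredArrow.w f, c.nat, ← Category.assoc (f := g), c'.nat,
      ← Category.assoc, hm' i])
  obtain ⟨j₀⟩ := (hφ Y).1
  refine ⟨m j₀, ⟨hm j₀, fun X a => ?_⟩, ?_⟩
  · rw [hconst j₀ (StructuredArrow.mk a)]
    exact hm' (StructuredArrow.mk a)
  · rintro m' ⟨hm'l, hm'e⟩
    haveI := c.lift j₀.right j₀.hom
    exact lift_unique (f := j₀.hom) (g := c.ℓ j₀.right j₀.hom) hm'l (hm j₀)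
      ((hm'e _ _).trans (hm' j₀).symm)

omit hφ in
theorem exists_pullback {Y : D} (s : Sec φ p) (j : StructuredArrow Y φ) :
    ∃ (a : Functor.Fiber p Y) (k : a.1 ⟶ s.toFunctor.obj j.right), p.IsHomLift j.hom k := by
  have hb : p.obj (s.toFunctor.obj j.right) = φ.obj j.right := s.w_obj j.right
  obtain ⟨y, k, hk⟩ := hp.exists_lift (j.hom ≫ eqToHom hb.symm)
  refine ⟨⟨y, IsHomLift.domain_eq p (j.hom ≫ eqToHom hb.symm) k⟩, k, ?_⟩
  refine IsHomLift.of_fac p _ _ (IsHomLift.domain_eq p (j.hom ≫ eqToHom hb.symm) k) hb ?_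
  have h := IsHomLift.fac p (j.hom ≫ eqToHom hb.symm) k
  rw [eq_comm]
  have h2 := congrArg (· ≫ eqToHom hb) h
  simpa using h2.symm

theorem exists_cone (s : Sec φ p) (Y : D) : Nonempty (Cone s Y) := by
  choose a k hk using exists_pullback (p := p) (Y := Y) s
  have hex : ∀ {i j : StructuredArrow Y φ} (f : i ⟶ j), ∃ m : (a i).1 ⟶ (a j).1,
      p.IsHomLift (𝟙 Y) m ∧ m ≫ k j = k i ≫ s.toFunctor.map f.right := by
    intro i j f
    haveI := hk i
    haveI := hk j
    haveI := sc (p := p) j.hom (k j)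
    haveI : p.IsHomLift (i.hom ≫ φ.map f.right) (k i ≫ s.toFunctor.map f.right) := inferInstance
    exact ⟨Functor.IsStronglyCartesian.map p j.hom (k j) (g := 𝟙 Y)
      (f' := i.hom ≫ φ.map f.right) (by rw [Category.id_comp]; exact StructuredArrow.w f)
      (k i ≫ s.toFunctor.map f.right), inferInstance, Functor.IsStronglyCartesian.fac _ _ _ _ _⟩
  choose m hm hm' using @hex
  let Φ : StructuredArrow Y φ ⥤ Functor.Fiber p Y :=
    { obj := a
      map := fun f => ⟨m f, hm f⟩
      map_id := fun i => by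
        apply Subtype.ext
        haveI := hk i
        refine lift_unique (f := i.hom) (g := k i) (hm (𝟙 i)) (IsHomLift.id (a i).2) ?_
        rw [hm']
        simp only [StructuredArrow.id_right, CategoryTheory.Functor.map_id, Category.comp_id]
        exact (Category.id_comp _).symm
      map_comp := fun {i j l} f f' => by
        apply Subtype.ext
        haveI := hk l
        haveI := hm f
        haveI := hm f'
        show m (f ≫ f') = m f ≫ m f'
        refine lift_unique (f := l.hom) (g := k l) (hm _)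
          (inferInstanceAs (p.IsHomLift (𝟙 Y) (m f ≫ m f'))) ?_
        rw [hm', Category.assoc, hm', ← Category.assoc, hm', Category.assoc, StructuredArrow.comp_right,
          Functor.map_comp] }
  haveI hI : ∀ {x y : Functor.Fiber p Y} (f : x ⟶ y), IsIso f := fun {x y} f => by
    haveI := f.2
    haveI := sc (p := p) (𝟙 Y) f.1
    haveI : IsIso f.1 := Functor.IsStronglyCartesian.isIso_of_base_isIso p (𝟙 Y) f.1
    refine ⟨⟨inv f.1, inferInstance⟩, Subtype.ext (IsIso.hom_inv_id f.1),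
      Subtype.ext (IsIso.inv_hom_id f.1)⟩
  let G := AsSmall.{max u₁ u₂ u₃ v₁ v₂ v₃} (Functor.Fiber p Y)
  letI : Groupoid.{max u₁ u₂ u₃ v₁ v₂ v₃} G :=
    Groupoid.ofIsIso fun {x y} f =>
      haveI := hI (AsSmall.down.{v₃, u₃, max u₁ u₂ u₃ v₁ v₂ v₃}.map f)
      show IsIso (AsSmall.up.{v₃, u₃, max u₁ u₂ u₃ v₁ v₂ v₃}.map (AsSmall.down.{v₃, u₃, max u₁ u₂ u₃ v₁ v₂ v₃}.map f)) from
        Functor.map_isIso _ _
  haveI := (hφ Y).2 G
  let Φ' : StructuredArrow Y φ ⥤ G := Φ ⋙ AsSmall.up.{v₃, u₃, max u₁ u₂ u₃ v₁ v₂ v₃}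
  obtain ⟨c, ⟨e⟩⟩ : ∃ c, Nonempty ((Functor.const _).obj c ≅ Φ') :=
    ⟨_, ⟨(Functor.const _).objObjPreimageIso Φ'⟩⟩
  let η : (Functor.const (StructuredArrow Y φ)).obj (AsSmall.down.{v₃, u₃, max u₁ u₂ u₃ v₁ v₂ v₃}.obj c) ⟶ Φ :=
    { app := fun j => AsSmall.down.{v₃, u₃, max u₁ u₂ u₃ v₁ v₂ v₃}.map (e.hom.app j)
      naturality := fun i j f => by
        have := congrArg AsSmall.down.{v₃, u₃, max u₁ u₂ u₃ v₁ v₂ v₃}.map (e.hom.naturality f)
        simp only [Functor.map_comp, Functor.const_obj_map, Functor.map_id] at this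
        exact this }
  refine ⟨⟨(AsSmall.down.{v₃, u₃, max u₁ u₂ u₃ v₁ v₂ v₃}.obj c).1,
    fun X b => (η.app (StructuredArrow.mk b)).1 ≫ k (StructuredArrow.mk b), fun X b => ?_,
    fun {X X'} b h => ?_⟩⟩
  · haveI := hk (StructuredArrow.mk b)
    haveI := (η.app (StructuredArrow.mk b)).2
    exact @IsHomLift.comp_lift_id_left _ _ _ _ p _ (Φ.obj (StructuredArrow.mk b)).1 _ Y (φ.obj X) b
      (k (StructuredArrow.mk b)) (hk (StructuredArrow.mk b)) (η.app (StructuredArrow.mk b)).1 (η.app (StructuredArrow.mk b)).2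
  · let f : StructuredArrow.mk b ⟶ StructuredArrow.mk (b ≫ φ.map h) :=
      StructuredArrow.homMk h rfl
    have h1 := congrArg Subtype.val (η.naturality f)
    have h2 : (η.app (StructuredArrow.mk (b ≫ φ.map h))).1
        = (η.app (StructuredArrow.mk b)).1 ≫ m f := by
      refine Eq.trans ?_ h1
      exact (Category.id_comp _).symm
    show (η.app (StructuredArrow.mk (b ≫ φ.map h))).1 ≫ k _ = _
    rw [h2, Category.assoc, hm', ← Category.assoc]
    rfl

theorem isEquivalence_restr :
    (Stk.restr (FibCat.toSelf (BasedCategory.ofFunctor φ)) (BasedCategory.ofFunctor p)).IsEquivalence := by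
  let ofG : ∀ (G : FibCat.selfOver D ⥤ᵇ BasedCategory.ofFunctor p) (Y : D),
      Cone (BasedFunctor.comp (FibCat.toSelf (BasedCategory.ofFunctor φ)) G) Y := fun G Y =>
    ⟨G.toFunctor.obj Y, fun X a => G.toFunctor.map a,
      fun X a => sec_lift G a,
      fun a h => G.toFunctor.map_comp _ _⟩
  refine { faithful := ⟨fun {G H} α β e => ?_⟩, full := ⟨fun {G H} α => ?_⟩, essSurj := ⟨fun s => ?_⟩ }
  · apply BasedNatTrans.homCategory.ext
    refine NatTrans.ext (funext fun Y => ?_)
    obtain ⟨⟨j⟩, -⟩ := hφ Y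
    have he : α.toNatTrans.app (φ.obj j.right) = β.toNatTrans.app (φ.obj j.right) :=
      congrArg (fun γ => γ.toNatTrans.app j.right) e
    haveI : p.IsHomLift j.hom (H.toFunctor.map j.hom) := (ofG H Y).lift j.right j.hom
    refine lift_unique (p := p) (f := j.hom) (g := H.toFunctor.map j.hom) (α.isHomLift' Y) (β.isHomLift' Y) ?_
    rw [← α.naturality, ← β.naturality]
    exact congrArg (G.toFunctor.map j.hom ≫ ·) he
  · have hc : ∀ Y, ∃ c' : Cone (BasedFunctor.comp (FibCat.toSelf (BasedCategory.ofFunctor φ)) H) Y,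
        ∃ e : c'.pt = G.toFunctor.obj Y, ∀ X a, c'.ℓ X a
          = eqToHom e ≫ G.toFunctor.map a ≫ α.toNatTrans.app X := by
      intro Y
      refine ⟨⟨G.toFunctor.obj Y, fun X a => G.toFunctor.map a ≫ α.toNatTrans.app X,
        fun X a => ?_, fun {X X'} a h => ?_⟩, rfl, fun X a => by simp⟩
      · haveI : p.IsHomLift a (G.toFunctor.map a) := (ofG G Y).lift X a
        haveI : p.IsHomLift (𝟙 (φ.obj X)) (α.toNatTrans.app X) := α.isHomLift' X
        exact inferInstanceAs (p.IsHomLift a (G.toFunctor.map a ≫ α.toNatTrans.app X))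
      · rw [Functor.map_comp, Category.assoc, Category.assoc]
        exact congrArg (G.toFunctor.map a ≫ ·) (α.toNatTrans.naturality h)
    choose c' e he using hc
    have hβ := fun Y => cone_hom hφ (ofG H Y) (c' Y) (𝟙 Y)
    choose β hβ hβu using hβ
    let β' : ∀ Y, G.toFunctor.obj Y ⟶ H.toFunctor.obj Y := fun Y => eqToHom (e Y).symm ≫ β Y
    have hβl : ∀ Y, p.IsHomLift (𝟙 Y) (β' Y) := fun Y => by
      haveI := (hβ Y).1
      exact inferInstanceAs (p.IsHomLift (𝟙 Y) (eqToHom _ ≫ β Y))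
    have hβe : ∀ Y X (a : Y ⟶ φ.obj X), β' Y ≫ H.toFunctor.map a
        = G.toFunctor.map a ≫ α.toNatTrans.app X := fun Y X a => by
      simp only [β', Category.assoc]
      erw [(hβ Y).2 X a, he]
      simp
    refine ⟨⟨⟨β', fun Y' Y g => ?_⟩, hβl⟩, ?_⟩
    · obtain ⟨⟨j⟩, -⟩ := hφ Y
      haveI : p.IsHomLift j.hom (H.toFunctor.map j.hom) := (ofG H Y).lift j.right j.hom
      haveI := hβl Y
      haveI := hβl Y'
      haveI : p.IsHomLift g (G.toFunctor.map g) :=
        sec_lift G g
      haveI : p.IsHomLift g (H.toFunctor.map g) :=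
        sec_lift H g
      refine lift_unique (f := j.hom) (g := H.toFunctor.map j.hom)
        (show p.IsHomLift g (G.toFunctor.map g ≫ β' Y) from inferInstance)
        (show p.IsHomLift g (β' Y' ≫ H.toFunctor.map g) from inferInstance) ?_
      rw [Category.assoc, hβe, Category.assoc, ← Functor.map_comp, hβe, Functor.map_comp,
        Category.assoc]
    · apply BasedNatTrans.homCategory.ext
      refine NatTrans.ext (funext fun X => ?_)
      show β' (φ.obj X) = _
      have := hβe (φ.obj X) X (𝟙 _)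
      simpa using this
  · have c := fun Y => (exists_cone hφ s Y).some
    have hm := fun {Y' Y : D} (g : Y' ⟶ Y) => cone_hom hφ (c Y) (c Y') g
    choose m hm hmu using @hm
    have hpt : ∀ Y, p.obj (c Y).pt = Y := fun Y => by
      obtain ⟨⟨j⟩, -⟩ := hφ Y
      haveI := (c Y).lift j.right j.hom
      exact IsHomLift.domain_eq p j.hom ((c Y).ℓ j.right j.hom)
    let G₀ : D ⥤ F :=
      { obj := fun Y => (c Y).pt
        map := fun g => m g
        map_id := fun Y => (hmu (𝟙 Y) _ ⟨IsHomLift.id (hpt Y), by simp⟩).symm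
        map_comp := fun {X Y Z} g h => by
          haveI := (hm g).1
          haveI := (hm h).1
          refine (hmu (g ≫ h) _ ⟨inferInstance, fun W a => ?_⟩).symm
          rw [Category.assoc, (hm h).2, (hm g).2, Category.assoc] }
    let G : FibCat.selfOver D ⥤ᵇ BasedCategory.ofFunctor p :=
      { toFunctor := G₀
        w := CategoryTheory.Functor.ext hpt fun Y Y' g => by
          haveI := (hm g).1
          exact IsHomLift.fac' p g (m g) }
    have hiso : ∀ X : C, IsIso ((c (φ.obj X)).ℓ X (𝟙 _)) := fun X => by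
      haveI := (c (φ.obj X)).lift X (𝟙 _)
      haveI := sc (p := p) (𝟙 (φ.obj X)) ((c (φ.obj X)).ℓ X (𝟙 _))
      exact Functor.IsStronglyCartesian.isIso_of_base_isIso p (𝟙 (φ.obj X)) _
    refine ⟨G, ⟨BasedNatIso.mkNatIso (NatIso.ofComponents
      (fun X => @asIso _ _ _ _ ((c (φ.obj X)).ℓ X (𝟙 _)) (hiso X)) fun {X X'} h => ?_)
      fun X => (c (φ.obj X)).lift X (𝟙 _)⟩⟩
    show m (φ.map h) ≫ (c (φ.obj X')).ℓ X' (𝟙 _) = (c (φ.obj X)).ℓ X (𝟙 _) ≫ s.toFunctor.map h
    rw [(hm (φ.map h)).2, Category.comp_id, ← (c (φ.obj X)).nat, Category.id_comp]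

end Groth.Agent.Desc19b.RestrC
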