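import Groth.Agent.Desc19b.RingDescentData

/-! The coaction `θ : N → S ⊗[R] N` of a descent datum: counit, coassociativity, and the formula for `φ`. -/

set_option autoImplicit false
set_option backward.isDefEq.respectTransparency.types false
set_option backward.isDefEq.respectTransparency false

universe u

open CategoryTheory Opposite
open scoped ChangeOfRings TensorProduct

namespace Groth.Agent.Desc19b.RingPF

variable {R S : Type u} [CommRing R] [CommRing S] [Algebra R S] (D : DD R S)

variable (R S) in
/-- `s ↦ s ⊗ 1` -/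
noncomputable abbrev i₁ : S →+* S ⊗[R] S := Algebra.TensorProduct.includeLeftRingHom

variable (R S) in
/-- `s ↦ 1 ⊗ s` -/
noncomputable abbrev i₂ : S →+* S ⊗[R] S := (Algebra.TensorProduct.includeRight : S →ₐ[R] S ⊗[R] S).toRingHom

theorem i₁_comp_eq : (i₁ R S).comp (algebraMap R S) = (i₂ R S).comp (algebraMap R S) :=
  RingHom.ext fun r => ((Algebra.TensorProduct.includeRight : S →ₐ[R] S ⊗[R] S).commutes r).symm

/-- `s ↦ s • n` -/
noncomputable def sp (n : obj D) : S →ₗ[R] obj D := (LinearMap.toSpanSingleton S _ n).restrictScalars R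

theorem sp_apply (n : obj D) (s : S) : sp D n s = s • n := rfl

theorem sp_smul (n : obj D) (s : S) : sp D (s • n) = sp D n ∘ₗ LinearMap.mulLeft R s :=
  LinearMap.ext fun t => by
    show t • (s • n) = (s * t) • n
    rw [← mul_smul, mul_comm]

theorem sp_add (n n' : obj D) : sp D (n + n') = sp D n + sp D n' :=
  LinearMap.ext fun t => smul_add t n n'

theorem incR_mul {W : Type u} [CommRing W] [Algebra R W] (x : W) (w : S ⊗[R] W) :
    (Algebra.TensorProduct.includeRight : W →ₐ[R] S ⊗[R] W) x * w = (LinearMap.mulLeft R x).lTensor S w := by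
  induction w using TensorProduct.induction_on with
  | zero => simp
  | tmul a b => simp [Algebra.TensorProduct.tmul_mul_tmul]
  | add a b ha hb => simp only [mul_add, map_add, ha, hb]

theorem exists_toS : ∃ φ : (ModuleCat.extendScalars.{u,u,u} (i₂ R S)).obj (obj D) →+ S ⊗[R] obj D,
    ∀ (w : S ⊗[R] S) (n : obj D), φ (w • eta (i₂ R S) n) = (sp D n).lTensor S w :=
  exists_desc (i₂ R S)
    (AddMonoidHom.mk' (fun w => AddMonoidHom.mk' (fun n => (sp D n).lTensor S w) fun n n' => by
      rw [sp_add, LinearMap.lTensor_add]; rfl) fun w w' => by ext n; exact map_add ((sp D n).lTensor S) w w')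
    fun s w n => by
      show (sp D n).lTensor S (i₂ R S s * w) = (sp D (s • n)).lTensor S w
      rw [sp_smul, LinearMap.lTensor_comp]
      exact congrArg _ (incR_mul s w)

/-- `(a ⊗ b) ⊗ n ↦ a ⊗ b • n` -/
noncomputable def toS : (ModuleCat.extendScalars.{u,u,u} (i₂ R S)).obj (obj D) →+ S ⊗[R] obj D :=
  Classical.choose (exists_toS D)

theorem toS_smul_eta (w : S ⊗[R] S) (n : obj D) : toS D (w • eta (i₂ R S) n) = (sp D n).lTensor S w :=
  Classical.choose_spec (exists_toS D) w n

theorem toS_eta (n : obj D) : toS D (eta (i₂ R S) n) = (1 : S) ⊗ₜ[R] n := by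
  have := toS_smul_eta D 1 n
  rw [one_smul] at this
  rw [this]
  show (1 : S) ⊗ₜ[R] ((1 : S) • n) = _
  rw [one_smul]

theorem toS_i₁_smul (s : S) (y : (ModuleCat.extendScalars.{u,u,u} (i₂ R S)).obj (obj D)) :
    toS D (i₁ R S s • y) = s • toS D y := by
  induction y using ext_induction (i₂ R S) with
  | h0 => simp only [smul_zero, map_zero]
  | hs w n =>
    rw [← mul_smul, toS_smul_eta, toS_smul_eta]
    induction w using TensorProduct.induction_on with
    | zero => simp
    | tmul a b => simp [Algebra.TensorProduct.tmul_mul_tmul, TensorProduct.smul_tmul']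
    | add x y hx hy => simp only [mul_add, map_add, smul_add, hx, hy]
  | hadd x y hx hy => simp only [smul_add, map_add, hx, hy]

/-- The coaction of a descent datum. -/
noncomputable def theta : obj D →ₗ[R] S ⊗[R] obj D where
  toFun n := toS D ((phi D (i₁ R S) (i₂ R S) i₁_comp_eq).hom (eta (i₁ R S) n))
  map_add' n n' := by rw [eta_add, map_add, map_add]
  map_smul' r n := by
    show toS D ((phi D _ _ _).hom (eta (i₁ R S) (algebraMap R S r • n))) = _
    rw [eta_smul, map_smul, toS_i₁_smul, algebraMap_smul]
    rfl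

theorem theta_apply (n : obj D) :
    theta D n = toS D ((phi D (i₁ R S) (i₂ R S) i₁_comp_eq).hom (eta (i₁ R S) n)) := rfl

theorem theta_smul (s : S) (n : obj D) : theta D (s • n) = s • theta D n := by
  show toS D _ = s • toS D _
  rw [eta_smul, map_smul, toS_i₁_smul]

section lam

variable {T : Type u} [CommRing T] (a b : S →+* T) (h : a.comp (algebraMap R S) = b.comp (algebraMap R S))

/-- `s ⊗ n ↦ a s • (1 ⊗ n)` -/
noncomputable def lam : S ⊗[R] obj D →+ (ModuleCat.extendScalars.{u,u,u} b).obj (obj D) :=
  TensorProduct.liftAddHom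
    (AddMonoidHom.mk' (fun s => AddMonoidHom.mk' (fun n : obj D => a s • eta b n) fun n n' => by
      rw [eta_add, smul_add]) fun s s' => by
      ext n
      show a (s + s') • eta b n = a s • eta b n + a s' • eta b n
      rw [map_add, add_smul])
    fun r s n => by
      show a (r • s) • eta b n = a s • eta b (algebraMap R S r • n)
      rw [eta_smul, ← mul_smul, Algebra.smul_def, map_mul, ← RingHom.comp_apply, h, mul_comm]
      rfl

theorem lam_tmul (s : S) (n : obj D) : lam D a b h (s ⊗ₜ[R] n) = a s • eta (M := obj D) b n :=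
  TensorProduct.liftAddHom_tmul _ _ s n

theorem lam_smul (x : S) (z : S ⊗[R] obj D) : lam D a b h (x • z) = a x • lam D a b h z := by
  induction z using TensorProduct.induction_on with
  | zero => simp only [smul_zero, map_zero]
  | tmul s n => rw [TensorProduct.smul_tmul', lam_tmul, lam_tmul, smul_eq_mul, map_mul, mul_smul]
  | add z z' hz hz' => simp only [smul_add, map_add, hz, hz']

theorem phi_eta (n : obj D) : (phi D a b h).hom (eta a n) = lam D a b h (theta D n) := by
  letI : Algebra R T := (a.comp (algebraMap R S)).toAlgebra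
  let aA : S →ₐ[R] T := { a with commutes' := fun _ => rfl }
  let bA : S →ₐ[R] T := { b with commutes' := fun r => (RingHom.congr_fun h r).symm }
  let g : S ⊗[R] S →ₐ[R] T := Algebra.TensorProduct.lift aA bA fun _ _ => Commute.all _ _
  have ha : g.toRingHom.comp (i₁ R S) = a := RingHom.ext fun s => by
    show g (s ⊗ₜ[R] (1 : S)) = a s
    rw [Algebra.TensorProduct.lift_tmul, map_one, mul_one]
    rfl
  have hb : g.toRingHom.comp (i₂ R S) = b := RingHom.ext fun s => by
    show g ((1 : S) ⊗ₜ[R] s) = b s
    rw [Algebra.TensorProduct.lift_tmul, map_one, one_mul]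
    rfl
  rw [phi_push_eta D _ _ i₁_comp_eq g.toRingHom a b ha hb h n, theta_apply]
  generalize (phi D (i₁ R S) (i₂ R S) i₁_comp_eq).hom (eta (i₁ R S) n) = y
  induction y using ext_induction (i₂ R S) with
  | h0 => simp only [eta_zero, map_zero]
  | hs w m =>
    rw [mcInv_eta, toS_smul_eta]
    induction w using TensorProduct.induction_on with
    | zero => simp only [map_zero, zero_smul]
    | tmul s t =>
      rw [LinearMap.lTensor_tmul, lam_tmul, sp_apply, eta_smul, ← mul_smul]
      congr 1
    | add x x' hx hx' => simp only [map_add, add_smul, hx, hx']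
  | hadd x x' hx hx' => simp only [eta_add, map_add, hx, hx']

end lam

/-- `s ⊗ n ↦ s • n` -/
noncomputable def mu : S ⊗[R] obj D →ₗ[R] obj D :=
  TensorProduct.lift (Algebra.lsmul R R (obj D)).toLinearMap

theorem mu_tmul (s : S) (n : obj D) : mu D (s ⊗ₜ n) = s • n := rfl

theorem mu_theta (n : obj D) : mu D (theta D n) = n := by
  apply eta_id_injective (obj D)
  have h := phi_eta D (RingHom.id S) (RingHom.id S) rfl n
  rw [phi_self] at h
  refine Eq.trans ?_ h.symm
  generalize theta D n = z
  induction z using TensorProduct.induction_on with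
  | zero => simp only [map_zero, eta_zero]
  | tmul s m => rw [lam_tmul, mu_tmul, eta_smul]
  | add z z' hz hz' => simp only [map_add, eta_add, hz, hz']

variable (R S) in
/-- The first inclusion into the triple tensor product. -/
noncomputable abbrev j₁ : S →+* S ⊗[R] (S ⊗[R] S) := Algebra.TensorProduct.includeLeftRingHom

variable (R S) in
/-- The second inclusion into the triple tensor product. -/
noncomputable abbrev j₂ : S →+* S ⊗[R] (S ⊗[R] S) :=
  (Algebra.TensorProduct.includeRight : S ⊗[R] S →ₐ[R] S ⊗[R] (S ⊗[R] S)).toRingHom.comp (i₁ R S)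

variable (R S) in
/-- The third inclusion into the triple tensor product. -/
noncomputable abbrev j₃ : S →+* S ⊗[R] (S ⊗[R] S) :=
  (Algebra.TensorProduct.includeRight : S ⊗[R] S →ₐ[R] S ⊗[R] (S ⊗[R] S)).toRingHom.comp (i₂ R S)

theorem coassoc : (theta D).lTensor S ∘ₗ theta D = (TensorProduct.mk R S (obj D) 1).lTensor S ∘ₗ theta D := by
  have h12 : (j₁ R S).comp (algebraMap R S) = (j₂ R S).comp (algebraMap R S) :=
    RingHom.ext fun r => ((Algebra.TensorProduct.includeRight : S ⊗[R] S →ₐ[R] S ⊗[R] (S ⊗[R] S)).commutes r).symm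
  have h23 : (j₂ R S).comp (algebraMap R S) = (j₃ R S).comp (algebraMap R S) := by
    rw [RingHom.comp_assoc, i₁_comp_eq, ← RingHom.comp_assoc]
  obtain ⟨K, hK⟩ : ∃ φ : (ModuleCat.extendScalars.{u,u,u} (j₃ R S)).obj (obj D) →+ S ⊗[R] (S ⊗[R] obj D),
      ∀ (w : S ⊗[R] (S ⊗[R] S)) (n : obj D), φ (w • eta (j₃ R S) n) = ((sp D n).lTensor S).lTensor S w :=
    exists_desc (j₃ R S)
      (AddMonoidHom.mk' (fun w => AddMonoidHom.mk' (fun n => ((sp D n).lTensor S).lTensor S w) fun n n' => by
        rw [sp_add, LinearMap.lTensor_add, LinearMap.lTensor_add]; rfl)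
        fun w w' => by ext n; exact map_add (((sp D n).lTensor S).lTensor S) w w')
      fun s w n => by
        show ((sp D n).lTensor S).lTensor S (j₃ R S s * w) = ((sp D (s • n)).lTensor S).lTensor S w
        rw [sp_smul, LinearMap.lTensor_comp, LinearMap.lTensor_comp]
        refine congrArg _ ((incR_mul (i₂ R S s) w).trans ?_)
        exact LinearMap.congr_fun (congrArg (LinearMap.lTensor S) (LinearMap.ext fun z => incR_mul s z)) w
  refine LinearMap.ext fun n => ?_
  have h := LinearMap.congr_fun (congrArg ModuleCat.Hom.hom (phi_comp D _ _ _ h12 h23)) (eta (j₁ R S) n)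
  have h' := congrArg K h
  rw [phi_eta D _ _ (h12.trans h23) n] at h'
  change K ((phi D _ _ h23).hom ((phi D _ _ h12).hom (eta _ n))) = _ at h'
  rw [phi_eta D _ _ h12 n] at h'
  refine Eq.trans ?_ (h'.trans ?_)
  · show (theta D).lTensor S (theta D n) = _
    generalize theta D n = z
    induction z using TensorProduct.induction_on with
    | zero => simp only [map_zero]
    | add z z' hz hz' => simp only [map_add, hz, hz']
    | tmul s m =>
      rw [lam_tmul, map_smul, phi_eta, LinearMap.lTensor_tmul]
      generalize theta D m = y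
      induction y using TensorProduct.induction_on with
      | zero => simp only [map_zero, smul_zero, TensorProduct.tmul_zero]
      | add y y' hy hy' => simp only [map_add, smul_add, TensorProduct.tmul_add, hy, hy']
      | tmul t p =>
        rw [lam_tmul, ← mul_smul, hK]
        have e : j₁ R S s * j₂ R S t = s ⊗ₜ[R] (t ⊗ₜ[R] (1 : S)) := by
          show (s ⊗ₜ[R] (1 : S ⊗[R] S)) * ((1 : S) ⊗ₜ[R] (t ⊗ₜ[R] (1 : S))) = _
          rw [Algebra.TensorProduct.tmul_mul_tmul, mul_one, one_mul]
        rw [e, LinearMap.lTensor_tmul, LinearMap.lTensor_tmul, sp_apply, one_smul]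
  · show _ = (TensorProduct.mk R S (obj D) 1).lTensor S (theta D n)
    generalize theta D n = z
    induction z using TensorProduct.induction_on with
    | zero => simp only [map_zero]
    | add z z' hz hz' => simp only [map_add, hz, hz']
    | tmul s m =>
      rw [lam_tmul, hK]
      show ((sp D m).lTensor S).lTensor S (s ⊗ₜ[R] ((1 : S) ⊗ₜ[R] (1 : S))) = _
      rw [LinearMap.lTensor_tmul, LinearMap.lTensor_tmul, sp_apply, one_smul, LinearMap.lTensor_tmul]
      rfl

end Groth.Agent.Desc19b.RingPF
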