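import Groth.Agent.Desc19b.RingPF

/-! Descent data for modules along `R → S`, at element level: the coaction `θ : N → S ⊗[R] N`. -/

set_option autoImplicit false
set_option backward.isDefEq.respectTransparency.types false
set_option backward.isDefEq.respectTransparency false

universe u

open CategoryTheory Opposite
open scoped ChangeOfRings TensorProduct

namespace Groth.Agent.Desc19b.RingPF

variable (R S : Type u) [CommRing R] [CommRing S] [Algebra R S]

/-- Descent data for modules relative to `R → S`. -/
abbrev DD := Desc.ringModPF.{u}.DescentData (fun _ : PUnit.{u + 1} => (CommRingCat.ofHom (algebraMap R S)).op)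

variable {R S} (D : DD R S) {T T' : Type u} [CommRing T] [CommRing T']

/-- The `S`-module of a descent datum. -/
noncomputable def obj : ModuleCat.{u} S := D.obj PUnit.unit

noncomputable instance instModR : Module R (obj D) := Module.compHom _ (algebraMap R S)

instance instTower : IsScalarTower R S (obj D) := IsScalarTower.of_algebraMap_smul fun _ _ => rfl

/-- The transition isomorphism of a descent datum along two ring maps out of `S`. -/
noncomputable def phi (a b : S →+* T) (h : a.comp (algebraMap R S) = b.comp (algebraMap R S)) :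
    (ModuleCat.extendScalars.{u,u,u} a).obj (obj D) ⟶ (ModuleCat.extendScalars.{u,u,u} b).obj (obj D) :=
  D.hom (CommRingCat.ofHom (a.comp (algebraMap R S))).op (i₁ := PUnit.unit) (i₂ := PUnit.unit)
    (CommRingCat.ofHom a).op (CommRingCat.ofHom b).op rfl (by rw [h]; rfl)

theorem phi_eq_hom {Y : CommRingCat.{u}} (q : op Y ⟶ op (CommRingCat.of R)) (f₁ f₂ : op Y ⟶ op (CommRingCat.of S))
    (h₁ : f₁ ≫ (CommRingCat.ofHom (algebraMap R S)).op = q) (h₂ : f₂ ≫ (CommRingCat.ofHom (algebraMap R S)).op = q)
    (h : f₁.unop.hom.comp (algebraMap R S) = f₂.unop.hom.comp (algebraMap R S)) :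
    D.hom q (i₁ := PUnit.unit) (i₂ := PUnit.unit) f₁ f₂ h₁ h₂ = phi D f₁.unop.hom f₂.unop.hom h := by
  subst h₁
  rfl

theorem phi_self (a : S →+* T) : phi D a a rfl = 𝟙 _ :=
  D.hom_self (CommRingCat.ofHom (a.comp (algebraMap R S))).op (i := PUnit.unit) (CommRingCat.ofHom a).op rfl

theorem phi_comp (a b c : S →+* T) (h : a.comp (algebraMap R S) = b.comp (algebraMap R S))
    (h' : b.comp (algebraMap R S) = c.comp (algebraMap R S)) :
    phi D a b h ≫ phi D b c h' = phi D a c (h.trans h') := by
  have e₁ : (CommRingCat.ofHom b).op ≫ (CommRingCat.ofHom (algebraMap R S)).op =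
      (CommRingCat.ofHom (a.comp (algebraMap R S))).op := by rw [h]; rfl
  have e₂ : (CommRingCat.ofHom c).op ≫ (CommRingCat.ofHom (algebraMap R S)).op =
      (CommRingCat.ofHom (a.comp (algebraMap R S))).op := by rw [h.trans h']; rfl
  have := D.hom_comp (CommRingCat.ofHom (a.comp (algebraMap R S))).op (i₁ := PUnit.unit) (i₂ := PUnit.unit)
    (i₃ := PUnit.unit) (CommRingCat.ofHom a).op (CommRingCat.ofHom b).op (CommRingCat.ofHom c).op rfl e₁ e₂
  rw [phi_eq_hom D _ (CommRingCat.ofHom b).op (CommRingCat.ofHom c).op e₁ e₂ h'] at this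
  exact this

theorem phi_push (a b : S →+* T) (h : a.comp (algebraMap R S) = b.comp (algebraMap R S)) (g : T →+* T')
    (a' b' : S →+* T') (ha : g.comp a = a') (hb : g.comp b = b')
    (h' : a'.comp (algebraMap R S) = b'.comp (algebraMap R S)) :
    phi D a' b' h' =
      mcHom a g a' ha (obj D) ≫ (ModuleCat.extendScalars.{u,u,u} g).map (phi D a b h) ≫
        mcInv b g b' hb (obj D) := by
  subst ha hb
  exact (D.pullHom_hom (CommRingCat.ofHom g).op (CommRingCat.ofHom (a.comp (algebraMap R S))).op
    (CommRingCat.ofHom ((g.comp a).comp (algebraMap R S))).op rfl (i₁ := PUnit.unit) (i₂ := PUnit.unit)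
    (CommRingCat.ofHom a).op (CommRingCat.ofHom b).op rfl (by rw [h]; rfl)
    (CommRingCat.ofHom (g.comp a)).op (CommRingCat.ofHom (g.comp b)).op rfl rfl).symm

theorem phi_push_eta (a b : S →+* T) (h : a.comp (algebraMap R S) = b.comp (algebraMap R S)) (g : T →+* T')
    (a' b' : S →+* T') (ha : g.comp a = a') (hb : g.comp b = b')
    (h' : a'.comp (algebraMap R S) = b'.comp (algebraMap R S)) (n : obj D) :
    (phi D a' b' h').hom (eta a' n) = (mcInv b g b' hb (obj D)).hom (eta g ((phi D a b h).hom (eta a n))) := by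
  rw [phi_push D a b h g a' b' ha hb h', ← map_eta g (phi D a b h), ← mcHom_eta a g a' ha (obj D) n]
  rfl

end Groth.Agent.Desc19b.RingPF
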