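import Groth.Agent.Desc19b.RingCoaction
import Groth.Agent.Desc19b.ForkExact

/-! Effectivity and full faithfulness of module descent along a universally injective ring map. -/

set_option autoImplicit false
set_option backward.isDefEq.respectTransparency.types false
set_option backward.isDefEq.respectTransparency false

universe u

open CategoryTheory Opposite
open scoped ChangeOfRings TensorProduct

namespace Groth.Agent.Desc19b.RingPF

variable {R S : Type u} [CommRing R] [CommRing S] [Algebra R S]

theorem mk_one_injective (hS : Pi1.UnivInjective R S) (P : Type u) [AddCommGroup P] [Module R P] :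
    Function.Injective (TensorProduct.mk R S P 1) := by
  intro x y h
  have e : ∀ z : P, TensorProduct.comm R P S ((Algebra.linearMap R S).lTensor P ((TensorProduct.rid R P).symm z)) =
      TensorProduct.mk R S P 1 z := fun z => by
    simp
  rw [← e, ← e] at h
  exact (TensorProduct.rid R P).symm.injective (hS P ((TensorProduct.comm R P S).injective h))

theorem mem_range_of_one_tmul_mem' (hS : Pi1.UnivInjective R S) {M N : Type u} [AddCommGroup M] [AddCommGroup N]
    [Module R M] [Module R N] (d : M →ₗ[R] N) {x : N} (h : (1 : S) ⊗ₜ[R] x ∈ LinearMap.range (d.lTensor S)) :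
    x ∈ LinearMap.range d := by
  rw [← Submodule.Quotient.mk_eq_zero]
  apply mk_one_injective hS (N ⧸ LinearMap.range d)
  obtain ⟨t, ht⟩ := h
  have : (Submodule.mkQ (LinearMap.range d)).lTensor S ((1 : S) ⊗ₜ[R] x) = 0 := by
    rw [← ht, ← LinearMap.comp_apply, ← LinearMap.lTensor_comp, LinearMap.range_mkQ_comp]
    simp
  rw [map_zero]
  exact this

theorem exists_dual_section (hS : Pi1.UnivInjective R S) :
    ∃ σ : CharacterModule R →ₗ[R] CharacterModule S,
      (CharacterModule.dual (Algebra.linearMap R S)).comp σ = LinearMap.id :=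
  (lTensor_injective_forall_iff (Algebra.linearMap R S)).1 fun P _ _ => hS P

section compare

variable (M : ModuleCat.{u} R)

theorem exists_toTensor : ∃ φ : (ModuleCat.extendScalars.{u,u,u} (algebraMap R S)).obj M →+ S ⊗[R] M,
    ∀ (s : S) (m : M), φ (s • eta (algebraMap R S) m) = s ⊗ₜ[R] m :=
  exists_desc (algebraMap R S)
    (AddMonoidHom.mk' (fun s => AddMonoidHom.mk' (fun m : M => s ⊗ₜ[R] m) (TensorProduct.tmul_add s))
      fun s s' => by ext m; exact TensorProduct.add_tmul s s' m)
    fun r s m => by
      show (algebraMap R S r * s) ⊗ₜ[R] m = s ⊗ₜ[R] (r • m)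
      rw [← Algebra.smul_def, TensorProduct.smul_tmul]

/-- Comparison of the two tensor products. -/
noncomputable def toTensor : (ModuleCat.extendScalars.{u,u,u} (algebraMap R S)).obj M →+ S ⊗[R] M :=
  Classical.choose (exists_toTensor M)

theorem toTensor_smul_eta (s : S) (m : M) : toTensor M (s • eta (algebraMap R S) m) = s ⊗ₜ[R] m :=
  Classical.choose_spec (exists_toTensor M) s m

/-- Comparison of the two tensor products, backwards. -/
noncomputable def ofTensor : S ⊗[R] M →+ (ModuleCat.extendScalars.{u,u,u} (algebraMap R S)).obj M :=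
  TensorProduct.liftAddHom
    (AddMonoidHom.mk' (fun s => AddMonoidHom.mk' (fun m : M => s • eta (algebraMap R S) m) fun m m' => by
      rw [eta_add, smul_add]) fun s s' => by
        ext m
        show (s + s') • eta (algebraMap R S) m = s • eta (algebraMap R S) m + s' • eta (algebraMap R S) m
        rw [add_smul])
    fun r s m => by
      show (r • s) • eta (algebraMap R S) m = s • eta (algebraMap R S) (r • m)
      rw [eta_smul, ← mul_smul, Algebra.smul_def, mul_comm]

theorem ofTensor_toTensor (z : (ModuleCat.extendScalars.{u,u,u} (algebraMap R S)).obj M) :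
    ofTensor M (toTensor M z) = z := by
  induction z using ext_induction (algebraMap R S) with
  | h0 => simp only [map_zero]
  | hs s m => rw [toTensor_smul_eta]; exact TensorProduct.liftAddHom_tmul _ _ s m
  | hadd x y hx hy => simp only [map_add, hx, hy]

theorem eta_injective (hS : Pi1.UnivInjective R S) : Function.Injective (eta (algebraMap R S) (M := M)) := by
  intro x y h
  apply mk_one_injective hS M
  show (1 : S) ⊗ₜ[R] x = (1 : S) ⊗ₜ[R] y
  rw [← toTensor_smul_eta, ← toTensor_smul_eta, h]

end compare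

variable (D : DD R S)

/-- The invariants of a descent datum. -/
noncomputable abbrev inv : Submodule R (obj D) := LinearMap.ker (ForkExact.dd (theta D))

theorem mem_inv_iff (n : obj D) : n ∈ inv D ↔ theta D n = (1 : S) ⊗ₜ[R] n := by
  rw [LinearMap.mem_ker, LinearMap.sub_apply, sub_eq_zero]
  rfl

theorem theta_mu (t : S ⊗[R] inv D) :
    theta D (mu D ((inv D).subtype.lTensor S t)) = (inv D).subtype.lTensor S t := by
  induction t using TensorProduct.induction_on with
  | zero => simp only [map_zero]
  | add a b ha hb => simp only [map_add, ha, hb]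
  | tmul s m =>
    rw [LinearMap.lTensor_tmul, mu_tmul, theta_smul]
    show s • theta D m.1 = s ⊗ₜ[R] m.1
    rw [(mem_inv_iff D _).1 m.2, TensorProduct.smul_tmul', smul_eq_mul, mul_one]

/-- The canonical descent datum of a module. -/
noncomputable abbrev can (M : ModuleCat.{u} R) : DD R S :=
  (Desc.ringModPF.{u}.toDescentData (fun _ : PUnit.{u + 1} => (CommRingCat.ofHom (algebraMap R S)).op)).obj M

theorem app_comp {R' R'' : Type u} [CommRing R'] [CommRing R''] {a : R →+* R'} {b₁ b₂ : R' →+* R''} {c : R →+* R''}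
    (j₁ : @CategoryTheory.Iso _ (Bicategory.homCategory _ _) (Desc.ringModPF.{u}.map (CommRingCat.ofHom c).op.op.toLoc)
      (Desc.ringModPF.{u}.map (CommRingCat.ofHom a).op.op.toLoc ≫ Desc.ringModPF.{u}.map (CommRingCat.ofHom b₁).op.op.toLoc))
    (j₂ : @CategoryTheory.Iso _ (Bicategory.homCategory _ _) (Desc.ringModPF.{u}.map (CommRingCat.ofHom c).op.op.toLoc)
      (Desc.ringModPF.{u}.map (CommRingCat.ofHom a).op.op.toLoc ≫ Desc.ringModPF.{u}.map (CommRingCat.ofHom b₂).op.op.toLoc))
    (M : ModuleCat.{u} R) :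
    j₁.inv.toNatTrans.app M ≫ j₂.hom.toNatTrans.app M = appI j₁ M ≫ appH j₂ M :=
  rfl

theorem can_hom (M : ModuleCat.{u} R) {T : CommRingCat.{u}} (q : op T ⟶ op (CommRingCat.of R))
    (f₁ f₂ : op T ⟶ op (CommRingCat.of S))
    (hf₁ : f₁ ≫ (CommRingCat.ofHom (algebraMap R S)).op = q) (hf₂ : f₂ ≫ (CommRingCat.ofHom (algebraMap R S)).op = q)
    (h₁ : f₁.unop.hom.comp (algebraMap R S) = q.unop.hom) (h₂ : f₂.unop.hom.comp (algebraMap R S) = q.unop.hom) :
    (can (S := S) M).hom q (i₁ := PUnit.unit) (i₂ := PUnit.unit) f₁ f₂ hf₁ hf₂ =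
      mcInv (algebraMap R S) f₁.unop.hom q.unop.hom h₁ M ≫ mcHom (algebraMap R S) f₂.unop.hom q.unop.hom h₂ M :=
  app_comp _ _ M

theorem phi_can_eta (M : ModuleCat.{u} R) {T : Type u} [CommRing T] (a b : S →+* T)
    (h : a.comp (algebraMap R S) = b.comp (algebraMap R S)) (m : M) :
    (phi (can (S := S) M) a b h).hom (eta a (eta (algebraMap R S) m)) = eta b (eta (algebraMap R S) m) := by
  have e := can_hom (S := S) M (CommRingCat.ofHom (a.comp (algebraMap R S))).op (CommRingCat.ofHom a).op
    (CommRingCat.ofHom b).op rfl (by rw [h]; rfl) rfl h.symm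
  refine (LinearMap.congr_fun (congrArg ModuleCat.Hom.hom e) (eta a (eta (algebraMap R S) m))).trans ?_
  show (mcHom (algebraMap R S) b (a.comp (algebraMap R S)) h.symm M).hom
      ((mcInv (algebraMap R S) a (a.comp (algebraMap R S)) rfl M).hom (eta a (eta (algebraMap R S) m))) = _
  rw [mcInv_eta', mcHom_eta]

theorem comm_of_mem (M : ModuleCat.{u} R)
    (E : (ModuleCat.extendScalars.{u,u,u} (algebraMap R S)).obj M →ₗ[S] obj D)
    (hE : ∀ m, E (eta (algebraMap R S) m) ∈ inv D) {T : Type u} [CommRing T] (a b : S →+* T) (c : R →+* T)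
    (h₁ : a.comp (algebraMap R S) = c) (h₂ : b.comp (algebraMap R S) = c)
    (h : a.comp (algebraMap R S) = b.comp (algebraMap R S)) :
    (ModuleCat.extendScalars.{u,u,u} a).map (ModuleCat.ofHom E) ≫ phi D a b h =
      (mcInv (algebraMap R S) a c h₁ M ≫ mcHom (algebraMap R S) b c h₂ M) ≫
        (ModuleCat.extendScalars.{u,u,u} b).map (ModuleCat.ofHom E) := by
  refine ModuleCat.ExtendScalars.hom_ext fun x => ?_
  show (phi D a b h).hom (eta a (E x)) =
    ((ModuleCat.extendScalars.{u,u,u} b).map (ModuleCat.ofHom E)).hom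
      ((mcHom (algebraMap R S) b c h₂ M).hom ((mcInv (algebraMap R S) a c h₁ M).hom (eta a x)))
  induction x using ext_induction (algebraMap R S) with
  | h0 => simp only [map_zero, eta_zero]
  | hadd z z' hz hz' => simp only [map_add, eta_add, hz, hz']
  | hs s m =>
    rw [mcInv_eta]
    simp only [map_smul, eta_smul, mcHom_eta, map_eta]
    rw [phi_eta, (mem_inv_iff D _).1 (hE m), lam_tmul, map_one, one_smul]
    rfl

theorem exists_iso (hS : Pi1.UnivInjective R S) :
    ∃ M : ModuleCat.{u} R,
      Nonempty ((Desc.ringModPF.{u}.toDescentData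
        (fun _ : PUnit.{u + 1} => (CommRingCat.ofHom (algebraMap R S)).op)).obj M ≅ D) := by
  obtain ⟨σ, hσ⟩ := exists_dual_section hS
  let M : ModuleCat.{u} R := ModuleCat.of R (inv D)
  obtain ⟨φ, hφ⟩ : ∃ φ : (ModuleCat.extendScalars.{u,u,u} (algebraMap R S)).obj M →+ obj D,
      ∀ (s : S) (m : inv D), φ (s • eta (algebraMap R S) (M := M) m) = s • m.1 :=
    exists_desc (algebraMap R S) (M := M) (AddMonoidHom.mk' (fun s => AddMonoidHom.mk' (fun m : inv D => s • m.1)
      fun m m' => smul_add s m.1 m'.1) fun s s' => by ext m; exact add_smul s s' m.1)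
      fun r s m => by
        show (algebraMap R S r * s) • m.1 = s • (r • m.1)
        rw [← algebraMap_smul S r m.1, ← mul_smul, mul_comm]
  let E : (ModuleCat.extendScalars.{u,u,u} (algebraMap R S)).obj M →ₗ[S] obj D :=
    { toFun := φ
      map_add' := φ.map_add
      map_smul' := fun x z => by
        induction z using ext_induction (algebraMap R S) with
        | h0 => simp only [smul_zero, map_zero]
        | hs s m => rw [← mul_smul, hφ, hφ, RingHom.id_apply, mul_smul]
        | hadd z z' hz hz' => simp only [smul_add, map_add, hz, hz'] }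
  have hE : ∀ z, E z = mu D ((inv D).subtype.lTensor S (toTensor M z)) := fun z => by
    induction z using ext_induction (algebraMap R S) with
    | h0 => simp only [map_zero]
    | hs s m =>
      rw [toTensor_smul_eta]
      exact hφ s m
    | hadd z z' hz hz' => simp only [map_add, hz, hz']
  have hbij : Function.Bijective E := by
    refine ⟨(injective_iff_map_eq_zero E).2 fun z hz => ?_, fun n => ?_⟩
    · rw [hE] at hz
      have h0 := theta_mu D (toTensor M z)
      rw [hz, map_zero] at h0
      have h1 : toTensor M z = 0 :=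
        ForkExact.lTensor_subtype_injective σ hσ (theta D) (coassoc D) S (h0.symm.trans (map_zero _).symm)
      rw [← ofTensor_toTensor M z, h1, map_zero]
    · have h0 : (ForkExact.dd (theta D)).lTensor S (theta D n) = 0 := by
        rw [LinearMap.lTensor_sub, LinearMap.sub_apply, sub_eq_zero]
        exact LinearMap.congr_fun (coassoc D) n
      obtain ⟨t, ht⟩ := ForkExact.mem_range_of_eq_zero σ hσ (theta D) (coassoc D) h0
      have hn : mu D ((inv D).subtype.lTensor S t) = n := by
        rw [ht, mu_theta]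
      refine ⟨ofTensor M t, ?_⟩
      rw [← hn]
      clear ht hn h0
      induction t using TensorProduct.induction_on with
      | zero => simp only [map_zero]
      | add a b ha hb => simp only [map_add, ha, hb]
      | tmul s m => exact (congrArg E (TensorProduct.liftAddHom_tmul _ _ s m)).trans (hφ s m)
  refine ⟨M, ⟨Pseudofunctor.DescentData.isoMk (fun _ => (LinearEquiv.ofBijective E hbij).toModuleIso) ?_⟩⟩
  rintro ⟨T⟩ q ⟨⟩ ⟨⟩ f₁ f₂ hf₁ hf₂
  have h₁ : f₁.unop.hom.comp (algebraMap R S) = q.unop.hom := by rw [← hf₁]; rfl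
  have h₂ : f₂.unop.hom.comp (algebraMap R S) = q.unop.hom := by rw [← hf₂]; rfl
  refine (congrArg (fun z => _ ≫ z) (phi_eq_hom D q f₁ f₂ hf₁ hf₂ (h₁.trans h₂.symm))).trans
    (Eq.trans ?_ (congrArg (fun z => z ≫ _) (can_hom M q f₁ f₂ hf₁ hf₂ h₁ h₂)).symm)
  refine comm_of_mem D M E ?_ _ _ q.unop.hom h₁ h₂ (h₁.trans h₂.symm)
  intro m
  have := hφ 1 m
  rw [one_smul, one_smul] at this
  show E _ ∈ inv D
  rw [show E (eta (algebraMap R S) (M := M) m) = (m : inv D).1 from this]
  exact (m : inv D).2

/-- The underlying linear map of a morphism of descent data. -/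
noncomputable def homMap {D D' : DD R S} (h : D ⟶ D') : obj D ⟶ obj D' := h.hom PUnit.unit

theorem theta_natural {D D' : DD R S} (h : D ⟶ D') (n : obj D) :
    theta D' ((homMap h).hom n) = ((homMap h).hom.restrictScalars R).lTensor S (theta D n) := by
  have e₂ : (CommRingCat.ofHom (i₂ R S)).op ≫ (CommRingCat.ofHom (algebraMap R S)).op =
      (CommRingCat.ofHom ((i₁ R S).comp (algebraMap R S))).op := by rw [i₁_comp_eq]; rfl
  have hc := h.comm (CommRingCat.ofHom ((i₁ R S).comp (algebraMap R S))).op (i₁ := PUnit.unit) (i₂ := PUnit.unit)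
    (CommRingCat.ofHom (i₁ R S)).op (CommRingCat.ofHom (i₂ R S)).op rfl e₂
  have hc' : (phi D' (i₁ R S) (i₂ R S) i₁_comp_eq).hom (eta (i₁ R S) ((homMap h).hom n)) =
      ((ModuleCat.extendScalars.{u,u,u} (i₂ R S)).map (homMap h)).hom
        ((phi D (i₁ R S) (i₂ R S) i₁_comp_eq).hom (eta (i₁ R S) n)) :=
    LinearMap.congr_fun (congrArg ModuleCat.Hom.hom hc) (eta (i₁ R S) n)
  rw [theta_apply, hc', theta_apply]
  generalize (phi D (i₁ R S) (i₂ R S) i₁_comp_eq).hom (eta (i₁ R S) n) = y
  induction y using ext_induction (i₂ R S) with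
  | h0 => simp only [map_zero]
  | hadd y y' hy hy' => simp only [map_add, hy, hy']
  | hs w m =>
    rw [map_smul, map_eta, toS_smul_eta, toS_smul_eta, ← LinearMap.comp_apply, ← LinearMap.lTensor_comp]
    congr 2
    exact LinearMap.ext fun t => ((homMap h).hom.map_smul t m).symm

section ofObj

variable (M : ModuleCat.{u} R)

theorem eta_mem_inv (m : M) : (eta (algebraMap R S) m : obj (can (S := S) M)) ∈ inv (can (S := S) M) := by
  rw [mem_inv_iff, theta_apply]
  exact (congrArg (toS (can (S := S) M)) (phi_can_eta M (i₁ R S) (i₂ R S) i₁_comp_eq m)).trans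
    (toS_eta (can (S := S) M) _)

theorem exists_eq_eta_of_mem_inv (hS : Pi1.UnivInjective R S) (y : obj (can (S := S) M))
    (hy : y ∈ inv (can (S := S) M)) : ∃ m, eta (algebraMap R S) m = y := by
  obtain ⟨σ, hσ⟩ := exists_dual_section hS
  let e : M →ₗ[R] inv (can (S := S) M) :=
    { toFun := fun m => ⟨eta (algebraMap R S) m, eta_mem_inv M m⟩
      map_add' := fun m m' => Subtype.ext (eta_add _ m m')
      map_smul' := fun r m => Subtype.ext (eta_smul _ r m) }
  have hgen : ∀ z : obj (can (S := S) M),
      mu (can (S := S) M) ((inv (can (S := S) M)).subtype.lTensor S (e.lTensor S (toTensor M z))) = z := by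
    intro z
    induction z using ext_induction (algebraMap R S) with
    | h0 => simp only [map_zero]
    | hadd a b ha hb =>
      exact (congrArg (fun q => mu (can (S := S) M) ((inv (can (S := S) M)).subtype.lTensor S (e.lTensor S q)))
        (map_add (toTensor M) a b)).trans (by simp only [map_add]; rw [ha, hb])
    | hs s m => rw [toTensor_smul_eta]; rfl
  have h1 : (1 : S) ⊗ₜ[R] (⟨y, hy⟩ : inv (can (S := S) M)) = e.lTensor S (toTensor M y) := by
    apply ForkExact.lTensor_subtype_injective σ hσ (theta (can (S := S) M)) (coassoc _) S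
    rw [← theta_mu (can (S := S) M) (e.lTensor S (toTensor M y)), hgen]
    exact ((mem_inv_iff _ _).1 hy).symm
  obtain ⟨m, hm⟩ := mem_range_of_one_tmul_mem' hS e ⟨_, h1.symm⟩
  exact ⟨m, congrArg Subtype.val hm⟩

end ofObj

theorem homMap_map {X Y : ModuleCat.{u} R} (φ : X ⟶ Y) :
    homMap (D := can (S := S) X) (D' := can (S := S) Y) ((Desc.ringModPF.{u}.toDescentData
      (fun _ : PUnit.{u + 1} => (CommRingCat.ofHom (algebraMap R S)).op)).map φ) =
      (ModuleCat.extendScalars.{u,u,u} (algebraMap R S)).map φ :=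
  rfl

theorem map_injective (hS : Pi1.UnivInjective R S) {X Y : ModuleCat.{u} R} {φ ψ : X ⟶ Y}
    (h : (ModuleCat.extendScalars.{u,u,u} (algebraMap R S)).map φ =
      (ModuleCat.extendScalars.{u,u,u} (algebraMap R S)).map ψ) : φ = ψ := by
  refine ModuleCat.hom_ext (LinearMap.ext fun m => eta_injective (S := S) Y hS ?_)
  exact LinearMap.congr_fun (congrArg ModuleCat.Hom.hom h) (eta (algebraMap R S) m)

theorem exists_preimage (hS : Pi1.UnivInjective R S) (X Y : ModuleCat.{u} R)
    (h : can (S := S) X ⟶ can (S := S) Y) :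
    ∃ φ : X ⟶ Y, ∀ m, eta (algebraMap R S) (φ.hom m) = (homMap h).hom (eta (algebraMap R S) m) := by
  have key : ∀ m : X, ∃ y : Y, eta (algebraMap R S) y = (homMap h).hom (eta (algebraMap R S) m) := fun m => by
    refine exists_eq_eta_of_mem_inv Y hS _ ?_
    rw [mem_inv_iff]
    refine (theta_natural h (eta (algebraMap R S) m)).trans ?_
    exact congrArg (((homMap h).hom.restrictScalars R).lTensor S) ((mem_inv_iff _ _).1 (eta_mem_inv X m))
  choose ψ hψ using key
  let φ : X →ₗ[R] Y :=
    { toFun := ψ
      map_add' := fun x y => eta_injective (S := S) Y hS (by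
        rw [hψ, eta_add, eta_add, hψ, hψ]; exact (homMap h).hom.map_add _ _)
      map_smul' := fun r x => eta_injective (S := S) Y hS (by
        rw [hψ, eta_smul, RingHom.id_apply, eta_smul, hψ]; exact (homMap h).hom.map_smul _ _) }
  exact ⟨ModuleCat.ofHom φ, hψ⟩

theorem map_bijective (hS : Pi1.UnivInjective R S) (X Y : ModuleCat.{u} R) :
    Function.Bijective (fun φ : X ⟶ Y => ((Desc.ringModPF.{u}.toDescentData
      (fun _ : PUnit.{u + 1} => (CommRingCat.ofHom (algebraMap R S)).op)).map φ : can (S := S) X ⟶ can (S := S) Y)) := by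
  refine ⟨fun φ ψ h => ?_, fun h => ?_⟩
  · have h' := congrArg (fun z : can (S := S) X ⟶ can (S := S) Y => homMap z) h
    exact map_injective hS ((homMap_map φ).symm.trans (h'.trans (homMap_map ψ)))
  · obtain ⟨φ, hφ⟩ := exists_preimage hS X Y h
    refine ⟨φ, Pseudofunctor.DescentData.hom_ext fun _ => ?_⟩
    exact (homMap_map φ).trans (ModuleCat.ExtendScalars.hom_ext hφ)

theorem isEquivalence (hS : Pi1.UnivInjective R S) :
    (Desc.ringModPF.{u}.toDescentData
      (fun _ : PUnit.{u + 1} => (CommRingCat.ofHom (algebraMap R S)).op)).IsEquivalence where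
  faithful := ⟨fun {X Y} {_ _} h => (map_bijective hS X Y).1 h⟩
  full := ⟨fun {X Y} h => (map_bijective hS X Y).2 h⟩
  essSurj := ⟨fun D => exists_iso D hS⟩

theorem univInjective_of_faithful
    [(Desc.ringModPF.{u}.toDescentData
      (fun _ : PUnit.{u + 1} => (CommRingCat.ofHom (algebraMap R S)).op)).Faithful] :
    Pi1.UnivInjective R S := by
  have key : ∀ (P : ModuleCat.{u} R) (x : P), eta (algebraMap R S) x = 0 → x = 0 := by
    intro P x hx
    let g : ModuleCat.of R R ⟶ P := ModuleCat.ofHom (LinearMap.toSpanSingleton R P x)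
    have : g = 0 := by
      apply (Desc.ringModPF.{u}.toDescentData
        (fun _ : PUnit.{u + 1} => (CommRingCat.ofHom (algebraMap R S)).op)).map_injective
      refine Pseudofunctor.DescentData.hom_ext fun _ => ModuleCat.ExtendScalars.hom_ext fun r => ?_
      show eta (algebraMap R S) (M := P) (r • x) = eta (algebraMap R S) (M := P) 0
      rw [eta_smul, hx, smul_zero, eta_zero]
    have := LinearMap.congr_fun (congrArg ModuleCat.Hom.hom this) (1 : R)
    exact (one_smul R x).symm.trans this
  intro P _ _
  refine (injective_iff_map_eq_zero _).2 fun z hz => ?_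
  obtain ⟨x, rfl⟩ := (TensorProduct.rid R P).symm.surjective z
  rw [TensorProduct.rid_symm_apply, LinearMap.lTensor_tmul, Algebra.linearMap_apply, map_one] at hz
  rw [key (ModuleCat.of R P) x ?_, map_zero]
  have h2 := congrArg (ofTensor (ModuleCat.of R P) (S := S)) (congrArg (TensorProduct.comm R P S) hz)
  rw [map_zero, map_zero] at h2
  rw [← h2]
  exact ((TensorProduct.liftAddHom_tmul _ _ _ _).trans (one_smul S _)).symm

end Groth.Agent.Desc19b.RingPF
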