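import Mathlib
import Groth.Prelude

/-! Element-level description of the coherence isomorphisms of `Desc.ringModPF`. -/

set_option autoImplicit false
set_option backward.isDefEq.respectTransparency.types false
set_option backward.isDefEq.respectTransparency false

universe u

open CategoryTheory Opposite
open scoped ChangeOfRings TensorProduct

namespace Groth.Agent.Desc19b.RingPF

/-- `m ↦ 1 ⊗ m` -/
noncomputable def eta {A B : Type u} [CommRing A] [CommRing B] (f : A →+* B) {M : ModuleCat.{u} A} (m : M) :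
    (ModuleCat.extendScalars.{u,u,u} f).obj M := (1 : B) ⊗ₜ[A, f] m

theorem eta_smul {A B : Type u} [CommRing A] [CommRing B] (f : A →+* B) {M : ModuleCat.{u} A} (r : A) (m : M) :
    eta f (r • m) = f r • eta f m := by
  letI := f.toAlgebra
  show (1 : B) ⊗ₜ[A] (r • m) = (f r * 1) ⊗ₜ[A] m
  rw [← TensorProduct.smul_tmul]
  rfl

theorem smul_eta {A B : Type u} [CommRing A] [CommRing B] (f : A →+* B) {M : ModuleCat.{u} A} (b : B) (m : M) :
    b • eta f m = (b ⊗ₜ[A, f] m : (ModuleCat.extendScalars.{u,u,u} f).obj M) :=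
  (ModuleCat.ExtendScalars.smul_tmul (f := f) b 1 m).trans (by rw [mul_one])

theorem eta_add {A B : Type u} [CommRing A] [CommRing B] (f : A →+* B) {M : ModuleCat.{u} A} (m m' : M) :
    eta f (m + m') = eta f m + eta f m' := by
  letI := f.toAlgebra
  exact TensorProduct.tmul_add (1 : B) m m'

theorem eta_zero {A B : Type u} [CommRing A] [CommRing B] (f : A →+* B) {M : ModuleCat.{u} A} :
    eta f (0 : M) = 0 := by
  letI := f.toAlgebra
  exact TensorProduct.tmul_zero M (1 : B)

theorem map_eta {A B : Type u} [CommRing A] [CommRing B] (f : A →+* B) {M N : ModuleCat.{u} A} (k : M ⟶ N)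
    (m : M) : ((ModuleCat.extendScalars.{u,u,u} f).map k).hom (eta f m) = eta f (k.hom m) := rfl

/-- Induction on an extension of scalars. -/
@[elab_as_elim]
theorem ext_induction {A B : Type u} [CommRing A] [CommRing B] (f : A →+* B) {M : ModuleCat.{u} A}
    {P : (ModuleCat.extendScalars.{u,u,u} f).obj M → Prop} (z : (ModuleCat.extendScalars.{u,u,u} f).obj M)
    (h0 : P 0) (hs : ∀ (b : B) (m : M), P (b • eta f m)) (hadd : ∀ x y, P x → P y → P (x + y)) : P z := by
  letI := f.toAlgebra
  induction z using TensorProduct.induction_on with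
  | zero => exact h0
  | tmul b m => exact (smul_eta f b m) ▸ hs b m
  | add x y hx hy => exact hadd x y hx hy

/-- An additive map out of an extension of scalars. -/
theorem exists_desc {A B : Type u} [CommRing A] [CommRing B] (f : A →+* B) {M : ModuleCat.{u} A}
    {P : Type u} [AddCommGroup P] (G : B →+ M →+ P) (hG : ∀ (a : A) (b : B) (m : M), G (f a * b) m = G b (a • m)) :
    ∃ φ : (ModuleCat.extendScalars.{u,u,u} f).obj M →+ P, ∀ (b : B) (m : M), φ (b • eta f m) = G b m := by
  letI := f.toAlgebra
  refine ⟨TensorProduct.liftAddHom G hG, fun b m => ?_⟩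
  rw [smul_eta]
  exact TensorProduct.liftAddHom_tmul G hG b m

theorem eta_id_injective {A : Type u} [CommRing A] (M : ModuleCat.{u} A) :
    Function.Injective (eta (RingHom.id A) (M := M)) := by
  obtain ⟨φ, hφ⟩ := exists_desc (RingHom.id A) (M := M) (P := M)
    (AddMonoidHom.mk' (fun b => AddMonoidHom.mk' (fun m => b • m) fun x y => smul_add b x y)
      fun x y => by ext m; exact add_smul x y m)
    fun a b m => (mul_smul a b m).trans (smul_comm a b m)
  intro x y h
  have : φ ((1 : A) • eta _ x) = φ ((1 : A) • eta _ y) := by rw [h]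
  rw [hφ, hφ] at this
  simpa using this

theorem es_map₂_eta {A B : CommRingCat.{u}} {f f' : LocallyDiscrete.mk A ⟶ LocallyDiscrete.mk B} (η : f ⟶ f')
    (M : ModuleCat.{u} A) (m : M) :
    ((CommRingCat.moduleCatExtendScalarsPseudofunctor.map₂ η).toNatTrans.app M).hom (eta f.as.hom m) =
      eta f'.as.hom m := by
  obtain rfl := LocallyDiscrete.eq_of_hom η
  obtain rfl : η = 𝟙 f := Subsingleton.elim _ _
  rw [PrelaxFunctor.map₂_id]
  rfl

section
variable {R R' R'' : Type u} [CommRing R] [CommRing R'] [CommRing R'']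

theorem mc_eta (a : R →+* R') (b : R' →+* R'') (M : ModuleCat.{u} R) (m : M) :
    ((Desc.ringModPF.{u}.mapComp' (CommRingCat.ofHom a).op.op.toLoc (CommRingCat.ofHom b).op.op.toLoc
      (CommRingCat.ofHom (b.comp a)).op.op.toLoc rfl).hom.toNatTrans.app M).hom (eta (b.comp a) m) =
      (eta b (eta (M := M) a m) :
        (ModuleCat.extendScalars b).obj ((ModuleCat.extendScalars a).obj M)) := by
  erw [Pseudofunctor.mapComp'_eq_mapComp]
  show (((CommRingCat.moduleCatExtendScalarsPseudofunctor.map₂Iso
    ((unopUnop CommRingCat.{u}).toPseudofunctor.mapComp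
       (CommRingCat.ofHom a).op.op.toLoc (CommRingCat.ofHom b).op.op.toLoc) ≪≫
    CommRingCat.moduleCatExtendScalarsPseudofunctor.mapComp _ _).hom).toNatTrans.app M).hom _ = _
  let η := ((unopUnop CommRingCat.{u}).toPseudofunctor.mapComp
       (CommRingCat.ofHom a).op.op.toLoc (CommRingCat.ofHom b).op.op.toLoc).hom
  exact (congrArg (fun z => ((CommRingCat.moduleCatExtendScalarsPseudofunctor.mapComp
      ((unopUnop CommRingCat.{u}).toPseudofunctor.map (CommRingCat.ofHom a).op.op.toLoc)
      ((unopUnop CommRingCat.{u}).toPseudofunctor.map (CommRingCat.ofHom b).op.op.toLoc)).hom.toNatTrans.app M).hom z)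
        (es_map₂_eta η M m)).trans
    (ModuleCat.extendScalarsComp_hom_app_one_tmul _ _ M m)

/-- The component of the inverse of such an isomorphism, with its concrete type. -/
noncomputable def appI {a : R →+* R'} {b : R' →+* R''} {c : R →+* R''}
    (j : @CategoryTheory.Iso _ (Bicategory.homCategory _ _) (Desc.ringModPF.{u}.map (CommRingCat.ofHom c).op.op.toLoc)
      (Desc.ringModPF.{u}.map (CommRingCat.ofHom a).op.op.toLoc ≫ Desc.ringModPF.{u}.map (CommRingCat.ofHom b).op.op.toLoc))
    (M : ModuleCat.{u} R) :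
    (ModuleCat.extendScalars.{u,u,u} b).obj ((ModuleCat.extendScalars.{u,u,u} a).obj M) ⟶
      (ModuleCat.extendScalars.{u,u,u} c).obj M :=
  j.inv.toNatTrans.app M

/-- The component of such an isomorphism, with its concrete type. -/
noncomputable def appH {a : R →+* R'} {b : R' →+* R''} {c : R →+* R''}
    (j : @CategoryTheory.Iso _ (Bicategory.homCategory _ _) (Desc.ringModPF.{u}.map (CommRingCat.ofHom c).op.op.toLoc)
      (Desc.ringModPF.{u}.map (CommRingCat.ofHom a).op.op.toLoc ≫ Desc.ringModPF.{u}.map (CommRingCat.ofHom b).op.op.toLoc))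
    (M : ModuleCat.{u} R) :
    (ModuleCat.extendScalars.{u,u,u} c).obj M ⟶
      (ModuleCat.extendScalars.{u,u,u} b).obj ((ModuleCat.extendScalars.{u,u,u} a).obj M) :=
  j.hom.toNatTrans.app M

/-- The inverse of the composition isomorphism, with its concrete type. -/
noncomputable abbrev mcInv (a : R →+* R') (b : R' →+* R'') (c : R →+* R'') (h : b.comp a = c)
    (M : ModuleCat.{u} R) :=
  appI (Desc.ringModPF.{u}.mapComp' (CommRingCat.ofHom a).op.op.toLoc (CommRingCat.ofHom b).op.op.toLoc
      (CommRingCat.ofHom c).op.op.toLoc (by subst h; rfl)) M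

/-- The composition isomorphism, with its concrete type. -/
noncomputable abbrev mcHom (a : R →+* R') (b : R' →+* R'') (c : R →+* R'') (h : b.comp a = c)
    (M : ModuleCat.{u} R) :=
  appH (Desc.ringModPF.{u}.mapComp' (CommRingCat.ofHom a).op.op.toLoc (CommRingCat.ofHom b).op.op.toLoc
      (CommRingCat.ofHom c).op.op.toLoc (by subst h; rfl)) M

theorem mcHom_eta (a : R →+* R') (b : R' →+* R'') (c : R →+* R'') (h : b.comp a = c)
    (M : ModuleCat.{u} R) (m : M) :
    (mcHom a b c h M).hom (eta c m) = eta b (eta a m) := by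
  subst h; exact mc_eta a b M m

theorem iso_app {C D : Cat} {F G : C ⟶ D} (i : F ≅ G) (X : C) :
    i.hom.toNatTrans.app X ≫ i.inv.toNatTrans.app X = 𝟙 _ :=
  NatTrans.congr_app (congrArg Cat.Hom₂.toNatTrans i.hom_inv_id) X

theorem mcHom_mcInv (a : R →+* R') (b : R' →+* R'') (c : R →+* R'') (h : b.comp a = c)
    (M : ModuleCat.{u} R) : mcHom a b c h M ≫ mcInv a b c h M = 𝟙 _ := by
  subst h
  exact iso_app (Desc.ringModPF.{u}.mapComp' (CommRingCat.ofHom a).op.op.toLoc (CommRingCat.ofHom b).op.op.toLoc
      (CommRingCat.ofHom (b.comp a)).op.op.toLoc rfl) M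

theorem mcInv_eta (a : R →+* R') (b : R' →+* R'') (c : R →+* R'') (h : b.comp a = c)
    (M : ModuleCat.{u} R) (w : R') (m : M) :
    (mcInv a b c h M).hom (eta b (w • eta a m)) = b w • eta c m := by
  subst h
  rw [eta_smul, map_smul, ← mcHom_eta a b _ rfl M m]
  exact congrArg _ (LinearMap.congr_fun (congrArg ModuleCat.Hom.hom (mcHom_mcInv a b _ rfl M)) _)

theorem mcInv_eta' (a : R →+* R') (b : R' →+* R'') (c : R →+* R'') (h : b.comp a = c)
    (M : ModuleCat.{u} R) (m : M) : (mcInv a b c h M).hom (eta b (eta a m)) = eta c m := by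
  simpa only [one_smul, map_one] using mcInv_eta a b c h M 1 m

end

end Groth.Agent.Desc19b.RingPF
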