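import Groth.Agent.Synt15.Bridge
import Groth.Agent.S9142
import Groth.Agent.CommAlg6.FieldTensor
import Groth.Agent.CommAlg6.CMFibresComplete
import Groth.Agent.CAlgH3.CMRing
import Groth.Agent.AlgSpLib.NoethSource

/-!
# Serre conditions along syntomic morphisms
-/

set_option autoImplicit false
set_option backward.isDefEq.respectTransparency false

universe u

open CategoryTheory CategoryTheory.Limits AlgebraicGeometry IsLocalRing

namespace Groth.Agent.Desc19b.SyntSerre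

variable {X S : Scheme.{u}}

theorem hasSk_stalk_iff (f : X ⟶ S) (hf : Synt.IsSyntomicMor f) [IsLocallyNoetherian S]
    [IsLocallyNoetherian X] (x : X) (n : ℕ) :
    LocCoh.HasSk n (S.presheaf.stalk (f x)) (S.presheaf.stalk (f x)) ↔
      LocCoh.HasSk n (X.presheaf.stalk x) (X.presheaf.stalk x) := by
  obtain ⟨_, ⟨V, hV, rfl⟩, hxV, -⟩ :=
    S.isBasis_affineOpens.exists_subset_of_mem_open (Set.mem_univ (f x)) isOpen_univ
  obtain ⟨_, ⟨U, hU, rfl⟩, hxU, hle⟩ :=
    X.isBasis_affineOpens.exists_subset_of_mem_open hxV (f ⁻¹ᵁ V).2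
  have e : U ≤ f ⁻¹ᵁ V := hle
  let _ := (f.appLE V U e).hom.toAlgebra
  have hsyn : Synt.IsSyntomic Γ(S, V) Γ(X, U) :=
    Synt15.isSyntomic_appLE f ((Synt15.isSyntomicMor_iff f).1 hf) ⟨U, hU⟩ ⟨V, hV⟩ e
  have := hsyn.1
  have : IsNoetherianRing Γ(S, V) := IsLocallyNoetherian.component_noetherian ⟨V, hV⟩
  have : IsNoetherianRing Γ(X, U) := IsLocallyNoetherian.component_noetherian ⟨U, hU⟩
  let q := (hU.primeIdealOf ⟨x, hxU⟩).asIdeal
  have hq : q.comap (algebraMap Γ(S, V) Γ(X, U)) = (hV.primeIdealOf ⟨f x, e hxU⟩).asIdeal :=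
    congrArg PrimeSpectrum.asIdeal (IsAffineOpen.comap_primeIdealOf_appLE V hV U hU e hxU)
  have key := CommAlg6.hasSkAt_iff_of_cm_fibres (A := Γ(S, V)) (B := Γ(X, U))
    (fun p _ => Groth.Agent.S9142.result _ _ (hsyn.2.2 ⟨p, inferInstance⟩)) n q
  let _ := X.presheaf.algebra_section_stalk ⟨x, hxU⟩
  have := hU.isLocalization_stalk ⟨x, hxU⟩
  let _ := S.presheaf.algebra_section_stalk ⟨f x, e hxU⟩
  have := hV.isLocalization_stalk ⟨f x, e hxU⟩
  have : IsLocalization.AtPrime (S.presheaf.stalk (f x)) (q.comap (algebraMap Γ(S, V) Γ(X, U))) := by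
    convert (hV.isLocalization_stalk ⟨f x, e hxU⟩) using 2
  let eX : Localization.AtPrime q ≃+* X.presheaf.stalk x :=
    (IsLocalization.algEquiv q.primeCompl _ _).toRingEquiv
  let eS : Localization.AtPrime (q.comap (algebraMap Γ(S, V) Γ(X, U))) ≃+* S.presheaf.stalk (f x) :=
    (IsLocalization.algEquiv (q.comap (algebraMap Γ(S, V) Γ(X, U))).primeCompl _ _).toRingEquiv
  exact ⟨fun h => CommAlg6.hasSk_of_ringEquiv eX (key.1 (CommAlg6.hasSk_of_ringEquiv eS.symm h)),
    fun h => CommAlg6.hasSk_of_ringEquiv eS (key.2 (CommAlg6.hasSk_of_ringEquiv eX.symm h))⟩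

theorem isCM_iff_forall_hasSk (R : Type u) [CommRing R] [IsLocalRing R] [IsNoetherianRing R] :
    LocCoh.IsCohenMacaulayLocalRing R ↔ ∀ n, LocCoh.HasSk n R R := by
  rw [← CommAlg6.isCMRing_iff_forall_hasSk]
  exact ⟨fun _ => CAlgH3.isCohenMacaulayRing_of_local R, fun h =>
    CommAlg6.isCohenMacaulayLocalRing_of_isCMRing h⟩

theorem isLocallyNoetherian_iff {ι : Type u} {S : Scheme.{u}} {X : ι → Scheme.{u}} (f : ∀ i, X i ⟶ S)
    (hsurj : ∀ s : S, ∃ i, s ∈ Set.range (f i).base) (hsyn : ∀ i, Synt.IsSyntomicMor (f i)) :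
    IsLocallyNoetherian S ↔ ∀ i, IsLocallyNoetherian (X i) := by
  have h : ∀ i, Flat (f i) ∧ LocallyOfFinitePresentation (f i) := fun i =>
    ⟨((Synt15.isSyntomicMor_iff _).1 (hsyn i)).1, ((Synt15.isSyntomicMor_iff _).1 (hsyn i)).2.1⟩
  constructor
  · intro _ i
    have := (h i).2
    exact LocallyOfFiniteType.isLocallyNoetherian (f i)
  · intro _
    have : IsLocallyNoetherian (∐ X) :=
      (isLocallyNoetherian_iff_openCover (sigmaOpenCover X)).2 fun i => inferInstanceAs (IsLocallyNoetherian (X i))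
    have : Flat (Sigma.desc f) := IsZariskiLocalAtSource.sigmaDesc fun i => (h i).1
    have : LocallyOfFinitePresentation (Sigma.desc f) := IsZariskiLocalAtSource.sigmaDesc fun i => (h i).2
    have : Surjective (Sigma.desc f) := ⟨fun s => by
      obtain ⟨i, x, rfl⟩ := hsurj s
      refine ⟨Sigma.ι X i x, ?_⟩
      rw [← Scheme.Hom.comp_apply, Sigma.ι_desc]
      ⟩
    exact AlgSpLib.isLocallyNoetherian_of_surjective (Sigma.desc f)

end Groth.Agent.Desc19b.SyntSerre
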