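import Groth.Agent.CAlgH.CIMorphism
import Groth.Agent.AlgSpLib.FppfSource
import Groth.Agent.FlatLocal.Descent

/-! # Cancellation of CI morphisms along faithfully flat lfp sources -/
universe u
set_option autoImplicit false
set_option backward.isDefEq.respectTransparency false
open CategoryTheory CategoryTheory.Limits AlgebraicGeometry IsLocalRing TensorProduct

namespace Groth.Agent.Desc19b.SyntSource

open Groth.Agent.CAlgH

variable {X Y S : Scheme.{u}}

/-- The composition step at the level of local rings. -/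
theorem ci_cancel_local {A B C F₁ F₂ F : Type u} [CommRing A] [CommRing B] [CommRing C] [CommRing F₁] [CommRing F₂]
    [CommRing F] [IsLocalRing A] [IsLocalRing B] [IsLocalRing C] [IsLocalRing F₁] [IsLocalRing F₂]
    [IsLocalRing F] [Algebra A B] [Algebra B C] [Algebra A C] [IsScalarTower A B C]
    [IsLocalHom (algebraMap A B)] [IsLocalHom (algebraMap B C)] [Module.Flat B C]
    [IsNoetherianRing F₁] [IsNoetherianRing F₂] [IsNoetherianRing F]
    (e₁ : (B ⧸ (maximalIdeal A).map (algebraMap A B)) ≃+* F₁)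
    (e₂ : (C ⧸ (maximalIdeal B).map (algebraMap B C)) ≃+* F₂)
    (e : (C ⧸ (maximalIdeal A).map (algebraMap A C)) ≃+* F)
    (h : Pi1.IsCompleteIntersection F) :
    Pi1.IsCompleteIntersection F₁ ∧ Pi1.IsCompleteIntersection F₂ := by
  let I : Ideal B := (maximalIdeal A).map (algebraMap A B)
  have hI : I ≤ maximalIdeal B := IsLocalRing.map_maximalIdeal_le _
  have hJ : I.map (algebraMap B C) = (maximalIdeal A).map (algebraMap A C) := by
    rw [Ideal.map_map, ← IsScalarTower.algebraMap_eq]
  let e' : (C ⧸ I.map (algebraMap B C)) ≃+* F := (Ideal.quotEquivOfEq hJ).trans e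
  have : IsNoetherianRing (B ⧸ I) := isNoetherianRing_of_ringEquiv _ e₁.symm
  have : IsLocalRing (B ⧸ I) := e₁.symm.isLocalRing
  have : IsNoetherianRing (C ⧸ I.map (algebraMap B C)) := isNoetherianRing_of_ringEquiv _ e'.symm
  have : IsLocalRing (C ⧸ I.map (algebraMap B C)) := e'.symm.isLocalRing
  have : Module.Flat (B ⧸ I) (C ⧸ I.map (algebraMap B C)) := RelativeCI.flat_quotient
  have : IsLocalHom (algebraMap (B ⧸ I) (C ⧸ I.map (algebraMap B C))) := by
    constructor
    intro x hx
    obtain ⟨b, rfl⟩ := Ideal.Quotient.mk_surjective x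
    rw [show algebraMap (B ⧸ I) (C ⧸ I.map (algebraMap B C)) (Ideal.Quotient.mk I b) =
      Ideal.Quotient.mk _ (algebraMap B C b) from rfl] at hx
    have := IsLocalHom.of_surjective (Ideal.Quotient.mk (I.map (algebraMap B C))) Ideal.Quotient.mk_surjective
    exact ((IsUnit.of_map _ _ (IsUnit.of_map _ _ hx)).map _)
  have hm : (maximalIdeal (B ⧸ I)).map (algebraMap (B ⧸ I) (C ⧸ I.map (algebraMap B C))) =
      ((maximalIdeal B).map (algebraMap B C)).map (Ideal.Quotient.mk _) := by
    rw [← IsLocalRing.map_maximalIdeal_of_surjective (Ideal.Quotient.mk I) Ideal.Quotient.mk_surjective]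
    have hc : (algebraMap (B ⧸ I) (C ⧸ I.map (algebraMap B C))).comp (Ideal.Quotient.mk I) =
        (Ideal.Quotient.mk (I.map (algebraMap B C))).comp (algebraMap B C) := rfl
    exact (Ideal.map_map _ _).trans ((congrArg (fun φ => Ideal.map φ (maximalIdeal B)) hc).trans
      (Ideal.map_map (I := maximalIdeal B) _ _).symm)
  have hh := (CIFibre.avramov_of_equiv ((Ideal.quotEquivOfEq hm).trans ((DoubleQuot.quotQuotEquivQuotSup _ _).trans
      ((Ideal.quotEquivOfEq (sup_eq_right.2 (Ideal.map_mono hI))).trans e₂)))).1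
        ((AvramovCI.isCompleteIntersection_iff_of_equiv e').2 h)
  exact ⟨(AvramovCI.isCompleteIntersection_iff_of_equiv e₁).1 hh.1, hh.2⟩

theorem isCIMorphism_cancel (f : X ⟶ Y) (g : Y ⟶ S) [Surjective f] [Flat f] [LocallyOfFinitePresentation f]
    (h : CInt.IsCIMorphism (f ≫ g)) : CInt.IsCIMorphism g ∧ CInt.IsCIMorphism f := by
  obtain ⟨hfl, hlfp, h3⟩ := h
  have hgflat : Flat g := by have := hfl; exact Groth.Agent.FlatLocal.flat_of_comp f g
  have hglfp : LocallyOfFinitePresentation g := Groth.Agent.AlgSpLib.lfp_of_comp_fppf f g hlfp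
  have key : ∀ x, Pi1.IsCompleteIntersection (CInt.fiberStalk g (f x)) ∧
      Pi1.IsCompleteIntersection (CInt.fiberStalk f x) := fun x => by
    letI : Algebra (S.presheaf.stalk (g (f x))) (Y.presheaf.stalk (f x)) := (g.stalkMap (f x)).hom.toAlgebra
    letI : Algebra (Y.presheaf.stalk (f x)) (X.presheaf.stalk x) := (f.stalkMap x).hom.toAlgebra
    letI : Algebra (S.presheaf.stalk (g (f x))) (X.presheaf.stalk x) := ((f ≫ g).stalkMap x).hom.toAlgebra
    have : IsScalarTower (S.presheaf.stalk (g (f x))) (Y.presheaf.stalk (f x)) (X.presheaf.stalk x) :=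
      IsScalarTower.of_algebraMap_eq' (congrArg CommRingCat.Hom.hom (Scheme.Hom.stalkMap_comp f g x))
    have : IsLocalHom (algebraMap (S.presheaf.stalk (g (f x))) (Y.presheaf.stalk (f x))) :=
      inferInstanceAs (IsLocalHom (g.stalkMap (f x)).hom)
    have : IsLocalHom (algebraMap (Y.presheaf.stalk (f x)) (X.presheaf.stalk x)) :=
      inferInstanceAs (IsLocalHom (f.stalkMap x).hom)
    have : Module.Flat (Y.presheaf.stalk (f x)) (X.presheaf.stalk x) := Flat.stalkMap f x
    have := CIScheme.isNoetherianRing_fiberStalk f x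
    have := CIScheme.isNoetherianRing_fiberStalk g (f x)
    have := CIScheme.isNoetherianRing_fiberStalk (f ≫ g) x
    obtain ⟨e₁⟩ := CIScheme.fiberStalk_equiv g (f x)
    obtain ⟨e₂⟩ := CIScheme.fiberStalk_equiv f x
    obtain ⟨e⟩ := CIScheme.fiberStalk_equiv (f ≫ g) x
    exact ci_cancel_local (A := S.presheaf.stalk (g (f x))) e₁ e₂ e (h3 x)
  refine ⟨⟨hgflat, hglfp, fun y => ?_⟩, ⟨inferInstance, inferInstance, fun x => (key x).2⟩⟩
  obtain ⟨x, rfl⟩ := f.surjective y
  exact (key x).1

end Groth.Agent.Desc19b.SyntSource
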