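import Groth.Agent.FlatMorPush.Instances

/-! The union of two closed subschemes is the pushout along their intersection. -/

set_option autoImplicit false
set_option backward.isDefEq.respectTransparency false
set_option backward.isDefEq.respectTransparency.types false

universe u

open AlgebraicGeometry CategoryTheory Limits
open Groth.Agent.KerEval Groth.Agent.FlatMorPush

namespace Groth.Agent.Desc19b

theorem appLE_subschemeι_eq_zero_iff {S : Scheme.{u}} (K : S.IdealSheafData) (V : S.affineOpens) (t : Γ(S, V.1)) :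
    K.subschemeι.appLE V.1 (K.subschemeι ⁻¹ᵁ V.1) le_rfl t = 0 ↔ t ∈ K.ideal V := by
  have h := K.subschemeι.ker_apply V
  rw [Scheme.IdealSheafData.ker_subschemeι] at h
  rw [h, RingHom.mem_ker, ← Scheme.Hom.app_eq_appLE]

theorem appLE_comp_apply {A B C : Scheme.{u}} (f : A ⟶ B) (g : B ⟶ C) (h : A ⟶ C) (hh : f ≫ g = h)
    (U : C.Opens) (V : B.Opens) (W : A.Opens) (e₁ : V ≤ g ⁻¹ᵁ U) (e₂ : W ≤ f ⁻¹ᵁ V) (e₃ : W ≤ h ⁻¹ᵁ U) (t : Γ(C, U)) :
    f.appLE V W e₂ (g.appLE U V e₁ t) = h.appLE U W e₃ t := by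
  subst hh
  exact ConcreteCategory.congr_hom (Scheme.Hom.appLE_comp_appLE f g U V W e₁ e₂) t

theorem isPushout_inf_sup (S : Scheme.{u}) (I J : S.IdealSheafData) :
    IsPushout (Scheme.IdealSheafData.inclusion (le_sup_left : I ≤ I ⊔ J))
      (Scheme.IdealSheafData.inclusion (le_sup_right : J ≤ I ⊔ J))
      (Scheme.IdealSheafData.inclusion (inf_le_left : I ⊓ J ≤ I))
      (Scheme.IdealSheafData.inclusion (inf_le_right : I ⊓ J ≤ J)) := by
  let i := Scheme.IdealSheafData.inclusion (le_sup_left : I ≤ I ⊔ J)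
  let j := Scheme.IdealSheafData.inclusion (le_sup_right : J ≤ I ⊔ J)
  let a := Scheme.IdealSheafData.inclusion (inf_le_left : I ⊓ J ≤ I)
  let b := Scheme.IdealSheafData.inclusion (inf_le_right : I ⊓ J ≤ J)
  have hiι : i ≫ I.subschemeι = (I ⊔ J).subschemeι := Scheme.IdealSheafData.inclusion_subschemeι _
  have hjι : j ≫ J.subschemeι = (I ⊔ J).subschemeι := Scheme.IdealSheafData.inclusion_subschemeι _
  have haι : a ≫ (I ⊓ J).subschemeι = I.subschemeι := Scheme.IdealSheafData.inclusion_subschemeι _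
  have hbι : b ≫ (I ⊓ J).subschemeι = J.subschemeι := Scheme.IdealSheafData.inclusion_subschemeι _
  haveI : IsClosedImmersion i := by
    have : IsClosedImmersion (i ≫ I.subschemeι) := by rw [hiι]; infer_instance
    exact IsClosedImmersion.of_comp i I.subschemeι
  haveI : IsClosedImmersion j := by
    have : IsClosedImmersion (j ≫ J.subschemeι) := by rw [hjι]; infer_instance
    exact IsClosedImmersion.of_comp j J.subschemeι
  haveI : HasPairs i j := hasPairs_of_isClosedImmersion i j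
  obtain ⟨m, hma, hmb⟩ := FlatMorPush.exists_desc (i := i) (j := j) a b
    (by rw [← cancel_mono (I ⊓ J).subschemeι, Category.assoc, Category.assoc, haι, hbι, hiι, hjι])
  suffices IsIso m by
    exact (FlatMorPush.isPushout i j).of_iso (Iso.refl _) (Iso.refl _) (Iso.refl _) (asIso m)
      (by simp; rfl) (by simp; rfl) (by simp [hma]; rfl) (by simp [hmb]; rfl)
  let O : S.affineOpens → ((I ⊓ J).subscheme).Opens := fun V => (I ⊓ J).subschemeι ⁻¹ᵁ V.1
  have hcov : TopologicalSpace.IsOpenCover O := by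
    rw [TopologicalSpace.IsOpenCover, eq_top_iff]
    intro w _
    obtain ⟨V, hV, hwV, -⟩ := exists_isAffineOpen_mem_and_subset (X := S) (x := (I ⊓ J).subschemeι w) (U := ⊤) trivial
    exact TopologicalSpace.Opens.mem_iSup.2 ⟨⟨V, hV⟩, hwV⟩
  refine (IsZariskiLocalAtTarget.iff_of_iSup_eq_top (P := MorphismProperty.isomorphisms Scheme.{u}) O hcov).2 fun V => ?_
  have hO : IsAffineOpen (O V) := V.2.preimage (I ⊓ J).subschemeι
  let k : Pair i j :=
    { U := I.subschemeι ⁻¹ᵁ V.1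
      V := J.subschemeι ⁻¹ᵁ V.1
      hU := V.2.preimage _
      hV := V.2.preimage _
      eq := by rw [← Scheme.Hom.comp_preimage, ← Scheme.Hom.comp_preimage, hiι, hjι] }
  have hka : k.U = a ⁻¹ᵁ O V := by
    show I.subschemeι ⁻¹ᵁ V.1 = a ⁻¹ᵁ ((I ⊓ J).subschemeι ⁻¹ᵁ V.1)
    rw [← Scheme.Hom.comp_preimage, haι]
  have hkb : k.V = b ⁻¹ᵁ O V := by
    show J.subschemeι ⁻¹ᵁ V.1 = b ⁻¹ᵁ ((I ⊓ J).subschemeι ⁻¹ᵁ V.1)
    rw [← Scheme.Hom.comp_preimage, hbι]
  let ψY := (b.appLE (O V) k.V hkb.le).hom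
  let ψX := (a.appLE (O V) k.U hka.le).hom
  have hlift : ∀ w : Γ((I ⊓ J).subscheme, O V), ∃ t, (I ⊓ J).subschemeι.appLE V.1 (O V) le_rfl t = w := fun w => by
    obtain ⟨t, ht⟩ := (I ⊓ J).subschemeι.app_surjective V.1 V.2 w
    exact ⟨t, by rw [← Scheme.Hom.app_eq_appLE]; exact ht⟩
  have hY : ∀ t, ψY ((I ⊓ J).subschemeι.appLE V.1 (O V) le_rfl t) = J.subschemeι.appLE V.1 k.V le_rfl t :=
    fun t => appLE_comp_apply b _ _ hbι _ _ _ le_rfl hkb.le le_rfl t
  have hX : ∀ t, ψX ((I ⊓ J).subschemeι.appLE V.1 (O V) le_rfl t) = I.subschemeι.appLE V.1 k.U le_rfl t :=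
    fun t => appLE_comp_apply a _ _ haι _ _ _ le_rfl hka.le le_rfl t
  have hWle : j ⁻¹ᵁ k.V ≤ (I ⊔ J).subschemeι ⁻¹ᵁ V.1 := by rw [← hjι]; exact le_rfl
  have hq : ∀ t, k.q (J.subschemeι.appLE V.1 k.V le_rfl t) = (I ⊔ J).subschemeι.appLE V.1 _ hWle t := fun t => by
    show j.app k.V _ = _
    rw [Scheme.Hom.app_eq_appLE]
    exact appLE_comp_apply j _ _ hjι _ _ _ le_rfl le_rfl hWle t
  have hp : ∀ t, k.p (I.subschemeι.appLE V.1 k.U le_rfl t) = (I ⊔ J).subschemeι.appLE V.1 _ hWle t := fun t =>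
    appLE_comp_apply i _ _ hiι _ _ _ le_rfl k.eq.ge hWle t
  have hC : ∀ w, (RingHom.prod ψY ψX) w ∈ k.C := fun w => by
    obtain ⟨t, rfl⟩ := hlift w
    show k.q (ψY _) = k.p (ψX _)
    rw [hY, hX, hq, hp]
  let ψ : Γ((I ⊓ J).subscheme, O V) →+* k.C := (RingHom.prod ψY ψX).codRestrict _ hC
  have hinj : Function.Injective ψ := by
    rw [injective_iff_map_eq_zero]
    intro w hw
    obtain ⟨t, rfl⟩ := hlift w
    have h1 := congrArg (fun c : k.C => c.1.1) hw
    have h2 := congrArg (fun c : k.C => c.1.2) hw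
    change ψY _ = 0 at h1
    change ψX _ = 0 at h2
    rw [hY] at h1; rw [hX] at h2
    refine (appLE_subschemeι_eq_zero_iff (I ⊓ J) V t).2 ?_
    rw [Scheme.IdealSheafData.ideal_inf]
    exact ⟨(appLE_subschemeι_eq_zero_iff I V t).1 h2, (appLE_subschemeι_eq_zero_iff J V t).1 h1⟩
  have hsurj : Function.Surjective ψ := by
    rintro ⟨⟨y, x⟩, hc⟩
    obtain ⟨t₂, ht₂⟩ := J.subschemeι.app_surjective V.1 V.2 y
    obtain ⟨t₁, ht₁⟩ := I.subschemeι.app_surjective V.1 V.2 x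
    rw [Scheme.Hom.app_eq_appLE] at ht₁ ht₂
    have hc' : k.q y = k.p x := hc
    subst ht₁ ht₂
    rw [hq, hp] at hc'
    have hmem : t₂ - t₁ ∈ (I ⊔ J).ideal V := by
      refine (appLE_subschemeι_eq_zero_iff (I ⊔ J) V _).1 ?_
      have h0 := congrArg ((I ⊔ J).subscheme.presheaf.map (homOfLE
        (show (I ⊔ J).subschemeι ⁻¹ᵁ V.1 ≤ j ⁻¹ᵁ k.V by rw [← hjι]; exact le_rfl)).op) hc'
      rw [← CommRingCat.comp_apply, ← CommRingCat.comp_apply, Scheme.Hom.appLE_map] at h0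
      rw [map_sub, sub_eq_zero]
      exact h0
    rw [Scheme.IdealSheafData.ideal_sup, Pi.sup_apply, Submodule.mem_sup] at hmem
    obtain ⟨p, hp', q, hq', hpq⟩ := hmem
    refine ⟨(I ⊓ J).subschemeι.appLE V.1 (O V) le_rfl (t₁ + p), Subtype.ext (Prod.ext ?_ ?_)⟩
    · show ψY _ = _
      rw [hY, show t₁ + p = t₂ - q by rw [eq_sub_iff_add_eq, add_assoc, hpq]; abel, map_sub,
        (appLE_subschemeι_eq_zero_iff J V q).2 hq', sub_zero]
    · show ψX _ = _
      rw [hX, map_add, (appLE_subschemeι_eq_zero_iff I V p).2 hp', add_zero]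
  have hψ : ι k ≫ m = sp ψ ≫ hO.fromSpec := by
    refine k.sq.hom_ext _ _ ?_ ?_
    · rw [← Category.assoc, ← fromSpec_inr, Category.assoc, hmb, ← Category.assoc, ← sp_comp]
      exact (hO.SpecMap_appLE_fromSpec b k.hV hkb.le).symm
    · rw [← Category.assoc, ← fromSpec_inl, Category.assoc, hma, ← Category.assoc, ← sp_comp]
      exact (hO.SpecMap_appLE_fromSpec a k.hU hka.le).symm
  have hrange : (ι k).opensRange = m ⁻¹ᵁ O V := by
    refine TopologicalSpace.Opens.ext (Set.ext fun w => ?_)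
    obtain ⟨l, w', rfl⟩ := exists_mem_range w
    rcases l.sq.exists_point w' with ⟨y, rfl⟩ | ⟨-, -, -, x, rfl⟩
    · change (sp l.sq.f ≫ ι l) y ∈ (ι k).opensRange ↔ m ((sp l.sq.f ≫ ι l) y) ∈ O V
      rw [← fromSpec_inr, Scheme.Hom.comp_apply, inr_mem_range_ι, ← Scheme.Hom.comp_apply (inr i j) m, hmb, hkb]
      rfl
    · change (sp l.sq.g ≫ ι l) x ∈ (ι k).opensRange ↔ m ((sp l.sq.g ≫ ι l) x) ∈ O V
      rw [← fromSpec_inl, Scheme.Hom.comp_apply, inl_mem_range_ι, ← Scheme.Hom.comp_apply (inl i j) m, hma, hka]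
      rfl
  haveI : IsIso (sp ψ) := by
    have : IsIso (CommRingCat.ofHom ψ) := (ConcreteCategory.isIso_iff_bijective _).2 ⟨hinj, hsurj⟩
    infer_instance
  show IsIso (m ∣_ O V)
  have hP : IsPullback (ι k) (sp ψ ≫ hO.isoSpec.inv) m (O V).ι :=
    (IsOpenImmersion.isPullback _ _ _ _
      (show ι k ≫ m = (sp ψ ≫ hO.isoSpec.inv) ≫ (O V).ι by
        rw [Category.assoc, hO.isoSpec_inv_ι, hψ]) (by rw [hrange, Scheme.Opens.opensRange_ι])).flip
  have h2 : IsIso (pullback.snd m (O V).ι) := by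
    rw [← hP.isoPullback_inv_snd]
    infer_instance
  rw [morphismRestrict]
  infer_instance

end Groth.Agent.Desc19b
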