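import Groth.Prelude.Def_W4stkalgstUpp
import Groth.Prelude.Def_FibCat2
import Mathlib.CategoryTheory.FiberedCategory.Fibered
import Mathlib.CategoryTheory.Localization.CalculusOfFractions
import Mathlib.CategoryTheory.Limits.Shapes.Equalizers
import Mathlib.CategoryTheory.Limits.Shapes.Pullback.IsPullback.Basic
import Mathlib.CategoryTheory.Limits.Preserves.Shapes.Pullbacks
import Mathlib.CategoryTheory.Limits.Preserves.Shapes.Equalizers

/-!
# The category `u_pp 𝒮`: right calculus of fractions, and fibredness of its localisation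
-/

set_option backward.isDefEq.respectTransparency false
set_option backward.isDefEq.respectTransparency.types false

universe v₃ u₃ v₂ u₂ v u

open CategoryTheory CategoryTheory.Limits

namespace Groth.Agent.Desc19b.Upp

variable {C : Type u} [Category.{v} C] {D : Type u₂} [Category.{v₂} D] (u : C ⥤ D)
  (𝒮 : BasedCategory.{v₃, u₃} C)

open Stk

lemma exists_lift [𝒮.p.IsFibered] {U : C} (x : 𝒮.obj) (f : U ⟶ 𝒮.p.obj x) :
    ∃ (b : 𝒮.obj) (φ : b ⟶ x) (e : 𝒮.p.obj b = U),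
      𝒮.p.IsStronglyCartesian (𝒮.p.map φ) φ ∧ 𝒮.p.map φ = eqToHom e ≫ f := by
  obtain ⟨b, φ, hφ⟩ := Functor.IsPreFibered.exists_isCartesian' (p := 𝒮.p) f
  have e : 𝒮.p.obj b = U := IsHomLift.domain_eq 𝒮.p f φ
  subst e
  have hf : f = 𝒮.p.map φ := IsHomLift.eq_of_isHomLift 𝒮.p f φ
  subst hf
  exact ⟨b, φ, rfl, inferInstance, by simp⟩

instance uppR_multiplicative : (uppR u 𝒮).IsMultiplicative where
  id_mem a := ⟨by
    rw [UppObj.id_top]
    exact Functor.IsStronglyCartesian.of_isIso 𝒮.p _ _, by rw [UppObj.id_bot]; infer_instance⟩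
  comp_mem f g hf hg := ⟨by
    haveI := hf.1; haveI := hg.1
    rw [UppObj.comp_top, Functor.map_comp]
    infer_instance, by
    haveI := hf.2; haveI := hg.2
    rw [UppObj.comp_bot]; infer_instance⟩

theorem hasRightCalculus [𝒮.p.IsFibered]
    [HasLimitsOfShape WalkingCospan C] [HasLimitsOfShape WalkingParallelPair C]
    [PreservesLimitsOfShape WalkingCospan u] [PreservesLimitsOfShape WalkingParallelPair u] :
    (uppR u 𝒮).HasRightCalculusOfFractions where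
  exists_rightFraction := by
    intro c a φ
    obtain ⟨b, f, s, hs⟩ : ∃ (b : UppObj u 𝒮) (f : c ⟶ b) (s : a ⟶ b) (hs : uppR u 𝒮 s),
        φ = MorphismProperty.LeftFraction.mk f s hs := ⟨φ.Y', φ.f, φ.s, φ.hs, rfl⟩
    obtain ⟨hsR, rfl⟩ := hs
    haveI := hsR.1; haveI := hsR.2
    have hp := Functor.map_isPullback u (IsPullback.of_hasPullback (𝒮.p.map s.top) (𝒮.p.map f.top))
    obtain ⟨y, l, e, hl, hlf⟩ := exists_lift 𝒮 c.x
      (pullback.snd (𝒮.p.map s.top) (𝒮.p.map f.top))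
    have hw : (eqToHom e ≫ pullback.fst (𝒮.p.map s.top) (𝒮.p.map f.top)) ≫ 𝒮.p.map s.top
        = 𝒮.p.map (l ≫ f.top) := by
      rw [Functor.map_comp, hlf, Category.assoc, Category.assoc, pullback.condition]
    let m := Functor.IsStronglyCartesian.map 𝒮.p (𝒮.p.map s.top) s.top
      (f' := 𝒮.p.map (l ≫ f.top)) hw.symm (l ≫ f.top)
    have hm : 𝒮.p.map m = eqToHom e ≫ pullback.fst (𝒮.p.map s.top) (𝒮.p.map f.top) :=
      (IsHomLift.eq_of_isHomLift 𝒮.p _ m).symm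
    have hm' : m ≫ s.top = l ≫ f.top := Functor.IsStronglyCartesian.fac _ _ _ _ _
    have hc : ((f.bot ≫ inv s.bot) ≫ a.φ) ≫ u.map (𝒮.p.map s.top)
        = c.φ ≫ u.map (𝒮.p.map f.top) := by
      rw [Category.assoc, Category.assoc, s.w, IsIso.inv_hom_id_assoc, f.w]
    let ψ : c.V ⟶ u.obj (𝒮.p.obj y) :=
      hp.lift ((f.bot ≫ inv s.bot) ≫ a.φ) c.φ hc ≫ u.map (eqToHom e.symm)
    let d : UppObj u 𝒮 := ⟨y, c.V, ψ⟩
    let s' : d ⟶ c := ⟨l, 𝟙 _, by
      show ψ ≫ u.map (𝒮.p.map l) = 𝟙 _ ≫ c.φ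
      rw [Category.id_comp, hlf]
      dsimp [ψ]
      simp [← Functor.map_comp, hp.lift_snd]⟩
    let f' : d ⟶ a := ⟨m, f.bot ≫ inv s.bot, by
      show ψ ≫ u.map (𝒮.p.map m) = (f.bot ≫ inv s.bot) ≫ a.φ
      rw [hm]
      dsimp [ψ]
      simp [← Functor.map_comp, hp.lift_fst]⟩
    refine ⟨MorphismProperty.RightFraction.mk s' ⟨hl, inferInstanceAs (IsIso (𝟙 c.V))⟩ f', ?_⟩
    refine UppObj.hom_ext ?_ ?_
    · exact hm'.symm
    · show 𝟙 c.V ≫ f.bot = (f.bot ≫ inv s.bot) ≫ s.bot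
      simp
  ext := by
    intro a b b' f g s hs h
    haveI := hs.1; haveI := hs.2
    have hbot : f.bot = g.bot := by
      rw [← cancel_mono s.bot, ← UppObj.comp_bot, h, UppObj.comp_bot]
    have htop : f.top ≫ s.top = g.top ≫ s.top := by
      rw [← UppObj.comp_top, h, UppObj.comp_top]
    have hk : a.φ ≫ u.map (𝒮.p.map f.top) = a.φ ≫ u.map (𝒮.p.map g.top) := by
      rw [f.w, g.w, hbot]
    have hE := isLimitForkMapOfIsLimit u _
      (equalizerIsEqualizer (𝒮.p.map f.top) (𝒮.p.map g.top))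
    obtain ⟨y, l, e, hl, hlf⟩ := exists_lift 𝒮 a.x
      (equalizer.ι (𝒮.p.map f.top) (𝒮.p.map g.top))
    let ψ : a.V ⟶ u.obj (𝒮.p.obj y) :=
      Fork.IsLimit.lift hE a.φ hk ≫ u.map (eqToHom e.symm)
    let d : UppObj u 𝒮 := ⟨y, a.V, ψ⟩
    let t : d ⟶ a := ⟨l, 𝟙 _, by
      show ψ ≫ u.map (𝒮.p.map l) = 𝟙 _ ≫ a.φ
      rw [Category.id_comp, hlf]
      dsimp [ψ]
      simp only [Category.assoc, ← Functor.map_comp, eqToHom_trans_assoc, eqToHom_refl,
        Category.id_comp]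
      exact Fork.IsLimit.lift_ι' hE a.φ hk⟩
    refine ⟨d, t, ⟨hl, inferInstanceAs (IsIso (𝟙 a.V))⟩, UppObj.hom_ext ?_ ?_⟩
    · haveI : 𝒮.p.IsHomLift (𝒮.p.map (l ≫ f.top)) (l ≫ g.top) := by
        have : 𝒮.p.map (l ≫ f.top) = 𝒮.p.map (l ≫ g.top) := by
          rw [Functor.map_comp, Functor.map_comp, hlf, Category.assoc, Category.assoc,
            equalizer.condition]
        rw [this]; infer_instance
      show l ≫ f.top = l ≫ g.top
      exact Functor.IsStronglyCartesian.ext 𝒮.p (𝒮.p.map s.top) s.top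
        (𝒮.p.map (l ≫ f.top)) (by rw [Category.assoc, Category.assoc, htop])
    · show 𝟙 a.V ≫ f.bot = 𝟙 a.V ≫ g.bot
      rw [hbot]

/-- The localisation functor, as a functor to the category over `D`. -/
noncomputable abbrev Qp : UppObj u 𝒮 ⥤ (uppR u 𝒮).Localization := (uppR u 𝒮).Q

lemma p_map_Q {a b : UppObj u 𝒮} (f : a ⟶ b) : (up u 𝒮).p.map ((Qp u 𝒮).map f) = f.bot := by
  have := Functor.congr_hom
    (Localization.Construction.fac (UppObj.forget u 𝒮) (uppR_isInvertedBy u 𝒮)) f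
  simp at this
  exact this

lemma p_map_fraction {a b : UppObj u 𝒮} (z : (uppR u 𝒮).RightFraction a b) :
    z.s.bot ≫ (up u 𝒮).p.map (z.map (Qp u 𝒮) (Localization.inverts _ _)) = z.f.bot := by
  have h := congrArg (fun x => (up u 𝒮).p.map x)
    (z.map_s_comp_map (Qp u 𝒮) (Localization.inverts _ _))
  rw [p_map_Q] at h
  refine Eq.trans ?_ h
  rw [← p_map_Q u 𝒮 z.s]
  exact ((up u 𝒮).p.map_comp _ _).symm

/-- The lift `(x, V', ψ ≫ φ) ⟶ (x, V, φ)` of `ψ`. -/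
def liftSrc (a : UppObj u 𝒮) {V' : D} (ψ : V' ⟶ a.V) : UppObj u 𝒮 := ⟨a.x, V', ψ ≫ a.φ⟩

/-- The lift `(x, V', ψ ≫ φ) ⟶ (x, V, φ)` of `ψ`. -/
def liftHom (a : UppObj u 𝒮) {V' : D} (ψ : V' ⟶ a.V) : liftSrc u 𝒮 a ψ ⟶ a :=
  ⟨𝟙 _, ψ, by simp [liftSrc]⟩

@[simp] lemma liftHom_top (a : UppObj u 𝒮) {V' : D} (ψ : V' ⟶ a.V) :
    (liftHom u 𝒮 a ψ).top = 𝟙 _ := rfl
@[simp] lemma liftHom_bot (a : UppObj u 𝒮) {V' : D} (ψ : V' ⟶ a.V) :
    (liftHom u 𝒮 a ψ).bot = ψ := rfl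

theorem isStronglyCartesian_liftHom [(uppR u 𝒮).HasRightCalculusOfFractions]
    (a : UppObj u 𝒮) {V' : D} (ψ : V' ⟶ a.V) :
    (up u 𝒮).p.IsStronglyCartesian ψ ((Qp u 𝒮).map (liftHom u 𝒮 a ψ)) := by
  haveI : (up u 𝒮).p.IsHomLift ψ ((Qp u 𝒮).map (liftHom u 𝒮 a ψ)) := by
    have h : (up u 𝒮).p.map ((Qp u 𝒮).map (liftHom u 𝒮 a ψ)) = ψ := p_map_Q u 𝒮 _
    have : (up u 𝒮).p.IsHomLift ((up u 𝒮).p.map ((Qp u 𝒮).map (liftHom u 𝒮 a ψ)))
        ((Qp u 𝒮).map (liftHom u 𝒮 a ψ)) := inferInstance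
    rwa [h] at this
  constructor
  intro X χ φ' hφ'
  obtain ⟨c, rfl⟩ := (Localization.Construction.objEquiv (uppR u 𝒮)).surjective X
  obtain ⟨z, hz⟩ := Localization.exists_rightFraction (Qp u 𝒮) (W := uppR u 𝒮)
    (X := c) (Y := a) φ'
  subst hz
  haveI := z.hs.2
  have hb : z.f.bot = z.s.bot ≫ χ ≫ ψ := by
    have h := IsHomLift.eq_of_isHomLift (up u 𝒮).p (b := (Qp u 𝒮).obj a) (χ ≫ ψ)
      (z.map (Qp u 𝒮) (Localization.inverts _ _))
    conv_rhs => rw [h]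
    exact (p_map_fraction u 𝒮 z).symm
  let f' : z.X' ⟶ liftSrc u 𝒮 a ψ := ⟨z.f.top, z.s.bot ≫ χ, by
    have := z.f.w
    rw [hb] at this
    simpa [liftSrc] using this⟩
  have hf' : f' ≫ liftHom u 𝒮 a ψ = z.f :=
    UppObj.hom_ext (Category.comp_id _) (by simp [f', hb])
  let z' := MorphismProperty.RightFraction.mk z.s z.hs f'
  refine ⟨z'.map (Qp u 𝒮) (Localization.inverts _ _), ⟨?_, ?_⟩, ?_⟩
  · have h : (up u 𝒮).p.map (z'.map (Qp u 𝒮) (Localization.inverts _ _)) = χ := by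
      have h := p_map_fraction u 𝒮 z'
      haveI : IsIso z'.s.bot := z.hs.2
      exact (cancel_epi z'.s.bot).1 h
    have : (up u 𝒮).p.IsHomLift
        ((up u 𝒮).p.map (z'.map (Qp u 𝒮) (Localization.inverts _ _)))
        (z'.map (Qp u 𝒮) (Localization.inverts _ _)) := inferInstance
    rwa [h] at this
  · haveI := Localization.inverts (Qp u 𝒮) (uppR u 𝒮) z.s z.hs
    refine (cancel_epi ((Qp u 𝒮).map z.s)).1 ?_
    rw [z.map_s_comp_map, ← Category.assoc]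
    erw [z'.map_s_comp_map]
    rw [← hf', Functor.map_comp]
  · intro g hg
    obtain ⟨hg1, hg2⟩ := hg
    haveI := Localization.inverts (Qp u 𝒮) (uppR u 𝒮) z.s z.hs
    refine (cancel_epi ((Qp u 𝒮).map z.s)).1 ?_
    erw [z'.map_s_comp_map]
    obtain ⟨w, hw⟩ := Localization.exists_rightFraction (Qp u 𝒮) (W := uppR u 𝒮)
      (X := z.X') (Y := liftSrc u 𝒮 a ψ) ((Qp u 𝒮).map z.s ≫ g)
    have hwb : w.f.bot = w.s.bot ≫ f'.bot := by
      rw [← p_map_fraction u 𝒮 w, ← hw]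
      congr 1
      refine ((up u 𝒮).p.map_comp _ _).trans ?_
      rw [show (up u 𝒮).p.map g = χ from (IsHomLift.eq_of_isHomLift (up u 𝒮).p χ g).symm]
      exact congrArg (· ≫ χ) (p_map_Q u 𝒮 z.s)
    have hcomp : (Qp u 𝒮).map (w.f ≫ liftHom u 𝒮 a ψ)
        = (Qp u 𝒮).map ((w.s ≫ f') ≫ liftHom u 𝒮 a ψ) := by
      rw [Category.assoc, hf', Functor.map_comp, Functor.map_comp,
        ← z.map_s_comp_map (Qp u 𝒮) (Localization.inverts _ _), ← hg2,
        ← w.map_s_comp_map (Qp u 𝒮) (Localization.inverts _ _), ← hw]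
      simp only [Category.assoc]
    obtain ⟨T, t, ht, heq⟩ := (MorphismProperty.map_eq_iff_precomp (Qp u 𝒮) (uppR u 𝒮) _ _).1 hcomp
    have heq' : t ≫ w.f = t ≫ w.s ≫ f' := by
      refine UppObj.hom_ext ?_ ?_
      · have := congrArg (fun x => UppObj.Hom.top x) heq
        simpa using this
      · simp only [UppObj.comp_bot]
        rw [hwb]
    rw [hw]
    haveI := Localization.inverts (Qp u 𝒮) (uppR u 𝒮) (t ≫ w.s)
      ((uppR u 𝒮).comp_mem _ _ ht w.hs)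
    refine (cancel_epi ((Qp u 𝒮).map (t ≫ w.s))).1 ?_
    rw [← Functor.map_comp, Category.assoc, ← heq', Functor.map_comp, Functor.map_comp,
      Category.assoc, w.map_s_comp_map]

theorem isFibered_up [(uppR u 𝒮).HasRightCalculusOfFractions] : (up u 𝒮).p.IsFibered := by
  apply Functor.IsFibered.of_exists_isStronglyCartesian
  intro X V' ψ
  obtain ⟨a, rfl⟩ := (Localization.Construction.objEquiv (uppR u 𝒮)).surjective X
  exact ⟨_, _, isStronglyCartesian_liftHom u 𝒮 a ψ⟩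

theorem isFibGrpd_up [(uppR u 𝒮).HasRightCalculusOfFractions]
    (h𝒮 : ∀ {y x : 𝒮.obj} (φ : y ⟶ x), 𝒮.p.IsStronglyCartesian (𝒮.p.map φ) φ) :
    FibCat.IsFibGrpd (up u 𝒮).p where
  exists_lift := by
    intro X V' ψ
    obtain ⟨a, rfl⟩ := (Localization.Construction.objEquiv (uppR u 𝒮)).surjective X
    haveI := isStronglyCartesian_liftHom u 𝒮 a ψ
    exact ⟨_, (Qp u 𝒮).map (liftHom u 𝒮 a ψ), inferInstance⟩
  isStronglyCartesian := by
    intro Y X φ
    obtain ⟨b, rfl⟩ := (Localization.Construction.objEquiv (uppR u 𝒮)).surjective X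
    obtain ⟨a, rfl⟩ := (Localization.Construction.objEquiv (uppR u 𝒮)).surjective Y
    obtain ⟨z, hz⟩ := Localization.exists_rightFraction (Qp u 𝒮) (W := uppR u 𝒮)
      (X := a) (Y := b) φ
    subst hz
    let f1 : z.X' ⟶ liftSrc u 𝒮 b z.f.bot := ⟨z.f.top, 𝟙 _, by
      simpa [liftSrc] using z.f.w⟩
    have hf1 : f1 ≫ liftHom u 𝒮 b z.f.bot = z.f :=
      UppObj.hom_ext (Category.comp_id _) (Category.id_comp _)
    haveI := Localization.inverts (Qp u 𝒮) (uppR u 𝒮) z.s z.hs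
    haveI := Localization.inverts (Qp u 𝒮) (uppR u 𝒮) f1
      ⟨h𝒮 _, inferInstanceAs (IsIso (𝟙 z.X'.V))⟩
    let i := inv ((Qp u 𝒮).map z.s) ≫ (Qp u 𝒮).map f1
    have hi : z.map (Qp u 𝒮) (Localization.inverts _ _)
        = i ≫ (Qp u 𝒮).map (liftHom u 𝒮 b z.f.bot) := by
      refine (cancel_epi ((Qp u 𝒮).map z.s)).1 ?_
      rw [z.map_s_comp_map]
      simp only [i, Category.assoc, IsIso.hom_inv_id_assoc, ← Functor.map_comp, hf1]
    haveI hI : IsIso i := inferInstanceAs (IsIso (inv ((Qp u 𝒮).map z.s) ≫ (Qp u 𝒮).map f1))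
    haveI : (up u 𝒮).p.IsStronglyCartesian ((up u 𝒮).p.map i) i :=
      Functor.IsStronglyCartesian.of_isIso _ _ _
    haveI hl := isStronglyCartesian_liftHom u 𝒮 b z.f.bot
    have hm : (up u 𝒮).p.map ((Qp u 𝒮).map (liftHom u 𝒮 b z.f.bot)) = z.f.bot :=
      p_map_Q u 𝒮 _
    haveI : (up u 𝒮).p.IsStronglyCartesian
        ((up u 𝒮).p.map ((Qp u 𝒮).map (liftHom u 𝒮 b z.f.bot)))
        ((Qp u 𝒮).map (liftHom u 𝒮 b z.f.bot)) := hm.symm ▸ hl
    show (up u 𝒮).p.IsStronglyCartesian ((up u 𝒮).p.map (z.map (Qp u 𝒮) _))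
      (z.map (Qp u 𝒮) _)
    rw [hi, Functor.map_comp]
    exact Functor.IsStronglyCartesian.comp (p := (up u 𝒮).p)

end Groth.Agent.Desc19b.Upp
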