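import Groth.Agent.Desc19b.SubQuot

/-! Zariski descent for schemes is effective. -/

set_option autoImplicit false
set_option linter.style.haveILetI false
set_option backward.isDefEq.respectTransparency false
set_option backward.isDefEq.respectTransparency.types false

universe u

open CategoryTheory CategoryTheory.Limits AlgebraicGeometry Desc

namespace Groth.Agent.Desc19b

variable {S : Scheme.{u}} {ι : Type u} {X : ι → Scheme.{u}} {f : ∀ i, X i ⟶ S}

/-- Descent data relative to a Zariski covering are effective. -/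
theorem isEffective_of_zariski (hf : Presieve.ofArrows X f ∈ Scheme.zariskiPrecoverage S) (D : SchDDFam f) :
    D.IsEffective := by
  obtain ⟨hs, hopen⟩ := (Scheme.presieve₀_mem_precoverage_iff (PreZeroHypercover.mk ι X f)).1 hf
  haveI : ∀ i, IsOpenImmersion (f i) := hopen
  have hf' := Scheme.zariskiPrecoverage_le_fpqcPrecoverage _ hf
  let O : ι → ∀ i, (D.obj i).left.Opens := fun k i => ((D.obj i).hom ≫ f i) ⁻¹ᵁ (f k).opensRange
  have hO : ∀ {T : Scheme.{u}} {i : ι} {x : T ⟶ X i} (k : ι) (t : Lifts (D.obj i) x),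
      InW (O k i) t.1 ↔ InW (f k).opensRange (x ≫ f i) := fun {T i x} k t => by
    refine forall_congr' fun z => ?_
    show ((D.obj i).hom ≫ f i) (t.1 z) ∈ (f k).opensRange ↔ _
    rw [← Scheme.Hom.comp_apply, reassoc_of% t.2]
  have hstab : ∀ k, Stable D (O k) := fun k {T i j} x y h t ht => by
    rw [hO] at ht ⊢
    rwa [← h]
  refine SubQuotGlue.isEffective hf' fun i v => ?_
  obtain ⟨k, z, hz⟩ := hs (f i ((D.obj i).hom v))
  refine ⟨⟨O k, hstab k, ?_⟩, ⟨z, hz.trans (Scheme.Hom.comp_apply _ _ _).symm⟩⟩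
  have hin : ∀ i, InW (f k).opensRange (((O k i).ι ≫ (D.obj i).hom) ≫ f i) := fun i w => by
    rw [Category.assoc, Scheme.Hom.comp_apply]; exact w.2
  let y : ∀ i, (O k i).toScheme ⟶ X k := fun i => IsOpenImmersion.lift (f k) (((O k i).ι ≫ (D.obj i).hom) ≫ f i)
    (by rintro _ ⟨w, rfl⟩; exact hin i w)
  have hy : ∀ i, y i ≫ f k = ((O k i).ι ≫ (D.obj i).hom) ≫ f i := fun i => IsOpenImmersion.lift_fac _ _ _
  let p : ∀ i, Lifts (D.obj k) (y i) := fun i => D.φ _ _ (hy i).symm ⟨(O k i).ι, rfl⟩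
  have key : ∀ {T : Scheme.{u}} {i : ι} (g : T ⟶ (O k i).toScheme) {x : T ⟶ X i} {x' : T ⟶ X k}
      (hx : g ≫ (O k i).ι ≫ (D.obj i).hom = x) (h : x ≫ f i = x' ≫ f k) (t : Lifts (D.obj i) x),
      t.1 = g ≫ (O k i).ι → (D.φ x x' h t).1 = g ≫ (p i).1 := by
    intro T i g x x' hx h t ht
    refine D.φ_natural g _ _ (hy i).symm x x' hx ?_ h _ t ht
    rw [← cancel_mono (f k), Category.assoc, hy, ← h, ← hx]
    simp
  refine ⟨⟨(D.obj k).left, (D.obj k).hom ≫ f k, fun i => (p i).1, fun i => ?_, ?_⟩⟩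
  · have w : (p i).1 ≫ (D.obj k).hom ≫ f k = ((O k i).ι ≫ (D.obj i).hom) ≫ f i := by
      rw [reassoc_of% (p i).2, hy]
    refine ⟨⟨w⟩, ⟨PullbackCone.IsLimit.mk _ ?_ ?_ ?_ ?_⟩⟩
    · exact fun c => IsOpenImmersion.lift (O k i).ι (D.φ (c.fst ≫ (D.obj k).hom) c.snd
        ((Category.assoc _ _ _).trans c.condition) ⟨c.fst, rfl⟩).1 (by
          rw [Scheme.Opens.range_ι]
          rintro _ ⟨z, rfl⟩
          refine (hO k (D.φ _ _ ((Category.assoc _ _ _).trans c.condition) ⟨c.fst, rfl⟩)).2 ?_ z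
          intro z
          rw [← c.condition, Scheme.Hom.comp_apply, Scheme.Hom.comp_apply]
          exact ⟨_, rfl⟩)
    · intro c
      have h0 : (c.fst ≫ (D.obj k).hom) ≫ f k = c.snd ≫ f i := (Category.assoc _ _ _).trans c.condition
      have hl := D.φ_comp _ _ _ h0 h0.symm ⟨c.fst, rfl⟩
      rw [D.φ_self] at hl
      have hr : Set.range (D.φ _ _ h0 ⟨c.fst, rfl⟩).1 ⊆ Set.range (O k i).ι := by
        rw [Scheme.Opens.range_ι]
        rintro _ ⟨z, rfl⟩
        refine (hO k (D.φ _ _ h0 ⟨c.fst, rfl⟩)).2 ?_ z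
        intro z
        rw [← c.condition, Scheme.Hom.comp_apply, Scheme.Hom.comp_apply]
        exact ⟨_, rfl⟩
      have h := key (IsOpenImmersion.lift (O k i).ι (D.φ _ _ h0 ⟨c.fst, rfl⟩).1 hr)
        (by rw [IsOpenImmersion.lift_fac_assoc]; exact (D.φ _ _ h0 ⟨c.fst, rfl⟩).2) h0.symm (D.φ _ _ h0 ⟨c.fst, rfl⟩)
        (IsOpenImmersion.lift_fac _ _ _).symm
      exact h.symm.trans (congrArg Subtype.val hl)
    · intro c
      rw [IsOpenImmersion.lift_fac_assoc]
      exact (D.φ _ _ ((Category.assoc _ _ _).trans c.condition) ⟨c.fst, rfl⟩).2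
    · intro c m h1 h2
      rw [← cancel_mono (O k i).ι, IsOpenImmersion.lift_fac]
      have h0 : (c.fst ≫ (D.obj k).hom) ≫ f k = c.snd ≫ f i := (Category.assoc _ _ _).trans c.condition
      let t : Lifts (D.obj i) c.snd := ⟨m ≫ (O k i).ι, by rw [Category.assoc]; exact h2⟩
      have h3 : D.φ c.snd (c.fst ≫ (D.obj k).hom) h0.symm t = ⟨c.fst, rfl⟩ :=
        Subtype.ext ((key m h2 h0.symm t rfl).trans h1)
      rw [← h3, D.φ_comp, D.φ_self]
  · intro T i j x y' h t τ τ' hτ hτ'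
    have hx' : τ ≫ (O k i).ι ≫ (D.obj i).hom = x := by rw [reassoc_of% hτ, t.2]
    let x' := τ ≫ y i
    have h' : x ≫ f i = x' ≫ f k := by rw [← hx', Category.assoc τ (y i), hy]; simp
    have e1 := key τ hx' h' t hτ.symm
    have e2 := key τ' (by rw [reassoc_of% hτ']; exact (D.φ x y' h t).2) (h.symm.trans h') (D.φ x y' h t) hτ'.symm
    rw [← e1, ← e2, D.φ_comp]

end Groth.Agent.Desc19b
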